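import Mathlib

/-!
Witt's extension theorem for alternating bilinear forms, hermitian forms and quadratic forms
(any field, any characteristic; the form is non-degenerate, the subspace is arbitrary).
-/

set_option autoImplicit false

namespace Cfsg.Agent.Forms.Witt

open Module

variable {F V : Type*} [Field F] [AddCommGroup V] [Module F V]

/-- `g` preserves `Φ`. -/
def Preserves {α : Type*} (Φ : V → V → α) (g : V ≃ₗ[F] V) : Prop :=
  ∀ u v, Φ (g u) (g v) = Φ u v

/-- The one-step extension property from which Witt's theorem follows by induction. -/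
def StepProp {α : Type*} (F : Type*) [Field F] [Module F V] (Φ : V → V → α) : Prop :=
  ∀ (H : Submodule F V) (x y : V), x ∉ H → y ∉ H →
    (∀ h ∈ H, ∀ h' ∈ H, ∀ c c' : F, Φ (h + c • x) (h' + c' • x) = Φ (h + c • y) (h' + c' • y)) →
    ∃ g : V ≃ₗ[F] V, Preserves Φ g ∧ (∀ h ∈ H, g h = h) ∧ g x = y

/-- An isometry of a subspace extends as soon as the one-step property holds. -/
theorem extend_of_step [FiniteDimensional F V] {α : Type*} (Φ : V → V → α)
    (hstep : StepProp F Φ) (X : Submodule F V) (f : X →ₗ[F] V) (hf : Function.Injective f)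
    (hΦ : ∀ x x' : X, Φ (f x) (f x') = Φ (x : V) (x' : V)) :
    ∃ g : V ≃ₗ[F] V, Preserves Φ g ∧ ∀ x : X, g (x : V) = f x := by
  induction hn : finrank F X using Nat.strong_induction_on generalizing X with
  | _ n ih =>
    by_cases hX : X = ⊥
    · subst hX
      refine ⟨LinearEquiv.refl F V, fun u v => rfl, fun x => ?_⟩
      have : x = 0 := Subsingleton.elim _ _
      subst this
      simp
    obtain ⟨x, hxX, hx0⟩ := Submodule.exists_mem_ne_zero_of_ne_bot hX
    obtain ⟨e, he⟩ : ∃ e : Module.Dual F V, e x = 1 := by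
      obtain ⟨e, he, -⟩ := Submodule.exists_le_ker_of_notMem (p := (⊥ : Submodule F V))
        (v := x) (by simpa using hx0)
      exact ⟨(e x)⁻¹ • e, by simp [he]⟩
    set H : Submodule F V := X ⊓ LinearMap.ker e with hH
    have hHX : H ≤ X := inf_le_left
    have hxH : x ∉ H := fun h => by
      have := (Submodule.mem_inf.mp h).2
      simp [he] at this
    have hlt : finrank F H < n := by
      rw [← hn]
      exact Submodule.finrank_lt_finrank_of_lt (lt_of_le_of_ne hHX fun h => hxH (h ▸ hxX))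
    obtain ⟨g₀, hg₀, hg₀H⟩ := ih _ hlt H (f ∘ₗ Submodule.inclusion hHX)
      (hf.comp (Submodule.inclusion_injective hHX)) (fun a b => hΦ _ _) rfl
    set y := g₀.symm (f ⟨x, hxX⟩) with hy
    have hgy : g₀ y = f ⟨x, hxX⟩ := g₀.apply_symm_apply _
    have hyH : y ∉ H := by
      intro h
      have h1 : f ⟨y, hHX h⟩ = f ⟨x, hxX⟩ := (hg₀H ⟨y, h⟩).symm.trans hgy
      have h2 : y = x := congrArg Subtype.val (hf h1)
      exact hxH (h2 ▸ h)
    have key : ∀ (h : V) (hh : h ∈ H) (c : F),
        g₀ (h + c • y) = f (⟨h, hHX hh⟩ + c • ⟨x, hxX⟩) := by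
      intro h hh c
      rw [map_add, map_smul, map_add, map_smul, hgy]
      exact congrArg (· + _) (hg₀H ⟨h, hh⟩)
    have hcond : ∀ h ∈ H, ∀ h' ∈ H, ∀ c c' : F,
        Φ (h + c • x) (h' + c' • x) = Φ (h + c • y) (h' + c' • y) := by
      intro h hh h' hh' c c'
      rw [← hg₀ (h + c • y) (h' + c' • y), key h hh c, key h' hh' c', hΦ]
      rfl
    obtain ⟨g₁, hg₁, hg₁H, hg₁x⟩ := hstep H x y hxH hyH hcond
    refine ⟨g₁.trans g₀, fun u v => ?_, fun z => ?_⟩
    · simp only [LinearEquiv.trans_apply]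
      rw [hg₀, hg₁]
    · have hzH : (z : V) - e z • x ∈ H := by
        refine Submodule.mem_inf.mpr ⟨X.sub_mem z.2 (X.smul_mem _ hxX), ?_⟩
        simp [he]
      calc (g₁.trans g₀) (z : V)
          = g₀ (g₁ (((z : V) - e z • x) + e z • x)) := by simp
        _ = g₀ (((z : V) - e z • x) + e z • y) := by
            rw [map_add g₁, map_smul g₁, hg₁H _ hzH, hg₁x]
        _ = f (⟨(z : V) - e z • x, hHX hzH⟩ + e z • ⟨x, hxX⟩) := key _ hzH _
        _ = f z := congrArg f (Subtype.ext (by simp))

/-! ### Representing functionals -/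

/-- A set of functionals separating points is everything (finite dimension). -/
theorem eq_top_of_separating [FiniteDimensional F V] (S : Submodule F (Module.Dual F V))
    (h : ∀ v, (∀ f ∈ S, f v = 0) → v = 0) : S = ⊤ := by
  have h0 : S.dualCoannihilator = ⊥ := by
    rw [eq_bot_iff]
    intro v hv
    exact (Submodule.mem_bot F).2 (h v ((Submodule.mem_dualCoannihilator v).1 hv))
  rw [← Subspace.dualCoannihilator_dualAnnihilator_eq (W := S), h0,
    Submodule.dualAnnihilator_bot]

/-- Every functional is `B w` for a form non-degenerate on the right. -/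
theorem exists_repr [FiniteDimensional F V] {σ : F →+* F} (hσ : Function.Surjective σ)
    (B : V →ₛₗ[σ] V →ₗ[F] F) (hB : B.SeparatingRight) (f : Module.Dual F V) :
    ∃ w, B w = f := by
  let S : Submodule F (Module.Dual F V) :=
    { carrier := {f | ∃ w, B w = f}
      add_mem' := by rintro _ _ ⟨u, rfl⟩ ⟨v, rfl⟩; exact ⟨u + v, map_add _ _ _⟩
      zero_mem' := ⟨0, map_zero _⟩
      smul_mem' := by
        rintro c _ ⟨u, rfl⟩
        obtain ⟨d, rfl⟩ := hσ c
        exact ⟨d • u, B.map_smulₛₗ d u⟩ }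
  have : S = ⊤ := eq_top_of_separating S fun v hv => hB v fun w => hv _ ⟨w, rfl⟩
  exact (this.symm ▸ Submodule.mem_top : f ∈ S)

/-- A vector orthogonal to `W` pairing to one with a vector outside `W`. -/
theorem exists_sep [FiniteDimensional F V] {σ : F →+* F} (hσ : Function.Surjective σ)
    (B : V →ₛₗ[σ] V →ₗ[F] F) (hB : B.SeparatingRight) {W : Submodule F V} {x : V}
    (hx : x ∉ W) : ∃ w, (∀ h ∈ W, B w h = 0) ∧ B w x = 1 := by
  obtain ⟨f, hfx, hf⟩ := Submodule.exists_le_ker_of_notMem hx
  obtain ⟨w, hw⟩ := exists_repr hσ B hB ((f x)⁻¹ • f)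
  refine ⟨w, fun h hh => ?_, ?_⟩
  · have : f h = 0 := LinearMap.mem_ker.1 (hf hh)
    simp [hw, this]
  · simp [hw, hfx]

/-- A linear map preserving a form that separates points is an equivalence. -/
theorem exists_equiv [FiniteDimensional F V] {σ : F →+* F} (B : V →ₛₗ[σ] V →ₗ[F] F)
    (hB : B.SeparatingLeft) (g : V →ₗ[F] V) (hg : ∀ u v, B (g u) (g v) = B u v) :
    ∃ e : V ≃ₗ[F] V, ∀ v, e v = g v := by
  have hinj : Function.Injective g := by
    rw [injective_iff_map_eq_zero]
    intro v hv
    exact hB v fun w => by rw [← hg, hv]; simp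
  exact ⟨LinearEquiv.ofInjectiveEndo g hinj, fun v => rfl⟩

/-! ### Alternating forms -/

/-- The one-step property for a non-degenerate alternating form. -/
theorem step_alt [FiniteDimensional F V] (B : LinearMap.BilinForm F V) (hB : B.Nondegenerate)
    (hA : B.IsAlt) : StepProp F (fun u v => B u v) := by
  intro H x y hxH hyH hc
  have hs : ∀ u v, B v u = - B u v := fun u v => (LinearMap.IsAlt.neg hA u v).symm
  have hxh : ∀ h ∈ H, B x h = B y h := fun h hh => by simpa using hc 0 H.zero_mem h hh 1 0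
  have hid : Function.Surjective (RingHom.id F) := fun t => ⟨t, rfl⟩
  set a := y - x with ha
  have hay : x + a = y := by rw [ha]; abel
  have haH : ∀ h ∈ H, B a h = 0 := fun h hh => by simp [ha, hxh h hh]
  have mk : ∀ g : V →ₗ[F] V, (∀ u v, B (g u) (g v) = B u v) → (∀ h ∈ H, g h = h) → g x = y →
      ∃ g : V ≃ₗ[F] V, Preserves (fun u v => B u v) g ∧ (∀ h ∈ H, g h = h) ∧ g x = y := by
    intro g h1 h2 h3
    obtain ⟨e, he⟩ := exists_equiv B hB.1 g h1
    exact ⟨e, fun u v => by simpa [he] using h1 u v, fun h hh => by rw [he, h2 h hh],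
      by rw [he, h3]⟩
  by_cases hax : B a x ≠ 0
  · refine mk (LinearMap.id + ((B a x)⁻¹ • B a).smulRight a) (fun u v => ?_) (fun h hh => ?_) ?_
    · have := hA a
      simp [this, hs a u]
      ring
    · simp [haH h hh]
    · simp only [LinearMap.add_apply, LinearMap.id_coe, id_eq, LinearMap.smulRight_apply,
        LinearMap.smul_apply, smul_eq_mul, inv_mul_cancel₀ hax, one_smul, hay]
  push Not at hax
  have haa : B a a = 0 := hA a
  by_cases hxW : x ∈ H ⊔ Submodule.span F {a}
  · obtain ⟨h₀, hh₀, z, hz, hxz⟩ := Submodule.mem_sup.1 hxW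
    obtain ⟨c, rfl⟩ := Submodule.mem_span_singleton.1 hz
    have hc0 : c ≠ 0 := fun h => hxH (by rw [← hxz, h]; simpa using hh₀)
    have hyeq : y = h₀ + (c + 1) • a := by
      rw [add_smul, one_smul, ← add_assoc, hxz, ha]; abel
    have hc1 : c + 1 ≠ 0 := fun h => hyH (by rw [hyeq, h]; simpa using hh₀)
    have haH' : a ∉ H := fun h => hxH (hxz ▸ H.add_mem hh₀ (H.smul_mem _ h))
    obtain ⟨b, hbH, hba⟩ := exists_sep hid B hB.2 haH'
    refine mk (LinearMap.id + (((c + 1) / c - 1) • B b).smulRight a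
      + ((1 - c / (c + 1)) • B a).smulRight b) (fun u v => ?_) (fun h hh => ?_) ?_
    · have hbb : B b b = 0 := hA b
      have hab : B a b = -1 := by rw [hs b a, hba]
      simp [haa, hbb, hab, hba, hs a u, hs b u]
      field_simp
      ring
    · simp [haH h hh, hbH h hh]
    · rw [hyeq, ← hxz]
      simp [haa, hba, haH h₀ hh₀, hbH h₀ hh₀, add_smul]
      rw [← sub_eq_zero]
      match_scalars <;> field_simp <;> ring
  · obtain ⟨w, hwW, hwx⟩ := exists_sep hid B hB.2 hxW
    have hwa : B w a = 0 := hwW a (Submodule.mem_sup_right (Submodule.mem_span_singleton_self a))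
    refine mk (LinearMap.id + (B a).smulRight w + (B w).smulRight a) (fun u v => ?_)
      (fun h hh => ?_) ?_
    · have hww : B w w = 0 := hA w
      have haw : B a w = 0 := by rw [hs w a, hwa, neg_zero]
      simp [haa, hww, hwa, haw, hs a u, hs w u]
      ring
    · simp [haH h hh, hwW h (Submodule.mem_sup_left hh)]
    · simp only [LinearMap.add_apply, LinearMap.sub_apply, LinearMap.id_coe, id_eq,
        LinearMap.smulRight_apply, LinearMap.smul_apply, smul_eq_mul, hwx, hax, mul_zero,
        zero_smul, zero_sub, neg_neg, add_zero, one_smul, hay]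

/-- **Witt's theorem** for a non-degenerate alternating form. -/
theorem witt_alt [FiniteDimensional F V] (B : LinearMap.BilinForm F V) (hB : B.Nondegenerate)
    (hA : B.IsAlt) (X : Submodule F V) (f : X →ₗ[F] V) (hf : Function.Injective f)
    (hiso : ∀ x x' : X, B (f x) (f x') = B (x : V) (x' : V)) :
    ∃ g : V ≃ₗ[F] V, (∀ u v, B (g u) (g v) = B u v) ∧ ∀ x : X, g (x : V) = f x :=
  extend_of_step _ (step_alt B hB hA) X f hf hiso

/-! ### Hermitian forms -/

/-- For a non-trivial involutory automorphism some `t` has non-zero trace. -/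
theorem exists_trace_ne_zero (σ : F →+* F) (hσ : σ ≠ RingHom.id F) :
    ∃ t : F, t + σ t ≠ 0 := by
  by_contra h
  push Not at h
  have h1 : (1 : F) + 1 = 0 := by simpa using h 1
  refine hσ (RingHom.ext fun t => ?_)
  show σ t = t
  linear_combination h t - t * h1

/-- The one-step property for a non-degenerate hermitian form. -/
theorem step_herm [FiniteDimensional F V] (σ : F →+* F) (hσne : σ ≠ RingHom.id F)
    (hσ2 : ∀ a : F, σ (σ a) = a) (B : V →ₛₗ[σ] V →ₗ[F] F) (hS : B.IsSymm) (hB : B.Nondegenerate) :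
    StepProp F (fun u v => B u v) := by
  intro H x y hxH hyH hc
  have hs : ∀ u v, σ (B u v) = B v u := fun u v => hS.eq u v
  have hsurj : Function.Surjective σ := fun t => ⟨σ t, hσ2 t⟩
  have hxx : B x x = B y y := by simpa using hc 0 H.zero_mem 0 H.zero_mem 1 1
  have hxh : ∀ h ∈ H, B x h = B y h := fun h hh => by simpa using hc 0 H.zero_mem h hh 1 0
  obtain ⟨t, ht⟩ := exists_trace_ne_zero σ hσne
  have hσt : σ (t + σ t) = t + σ t := by rw [map_add, hσ2]; ring
  set a := y - x with ha
  have hay : x + a = y := by rw [ha]; abel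
  have haH : ∀ h ∈ H, B a h = 0 := fun h hh => by simp [ha, hxh h hh]
  have haa' : B a a = -(B a x + B x a) := by
    simp [ha]; linear_combination (-1 : F) * hxx
  have mk : ∀ g : V →ₗ[F] V, (∀ u v, B (g u) (g v) = B u v) → (∀ h ∈ H, g h = h) → g x = y →
      ∃ g : V ≃ₗ[F] V, Preserves (fun u v => B u v) g ∧ (∀ h ∈ H, g h = h) ∧ g x = y := by
    intro g h1 h2 h3
    obtain ⟨e, he⟩ := exists_equiv B hB.1 g h1
    exact ⟨e, fun u v => by simpa [he] using h1 u v, fun h hh => by rw [he, h2 h hh],
      by rw [he, h3]⟩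
  by_cases hax : B a x ≠ 0
  · refine mk (LinearMap.id + ((B a x)⁻¹ • B a).smulRight a) (fun u v => ?_) (fun h hh => ?_) ?_
    · have hxa : B x a ≠ 0 := fun h => hax (by rw [← hs x a, h, map_zero])
      simp [hs, haa']
      field_simp
      ring
    · simp [haH h hh]
    · simp only [LinearMap.add_apply, LinearMap.id_coe, id_eq, LinearMap.smulRight_apply,
        LinearMap.smul_apply, smul_eq_mul, inv_mul_cancel₀ hax, one_smul, hay]
  push Not at hax
  have haa : B a a = 0 := by rw [haa', ← hs a x, hax]; simp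
  by_cases hxW : x ∈ H ⊔ Submodule.span F {a}
  · obtain ⟨h₀, hh₀, z, hz, hxz⟩ := Submodule.mem_sup.1 hxW
    obtain ⟨c, rfl⟩ := Submodule.mem_span_singleton.1 hz
    have hc0 : c ≠ 0 := fun h => hxH (by rw [← hxz, h]; simpa using hh₀)
    have hyeq : y = h₀ + (c + 1) • a := by
      rw [add_smul, one_smul, ← add_assoc, hxz, ha]; abel
    have hc1 : c + 1 ≠ 0 := fun h => hyH (by rw [hyeq, h]; simpa using hh₀)
    have haH' : a ∉ H := fun h => hxH (hxz ▸ H.add_mem hh₀ (H.smul_mem _ h))
    obtain ⟨b₀, hb₀H, hb₀a⟩ := exists_sep hsurj B hB.2 haH'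
    have hab₀ : B a b₀ = 1 := by rw [← hs b₀ a, hb₀a, map_one]
    obtain ⟨b, hbH, hba, hbb⟩ : ∃ b, (∀ h ∈ H, B b h = 0) ∧ B b a = 1 ∧ B b b = 0 := by
      refine ⟨b₀ + (-(B b₀ b₀ * t) / (t + σ t)) • a, fun h hh => ?_, ?_, ?_⟩
      · simp [haH h hh, hb₀H h hh]
      · simp [haa, hb₀a]
      · simp [hσt, hs b₀ b₀, haa, hb₀a, hab₀]
        have : σ t + t ≠ 0 := by rwa [add_comm]
        field_simp
        ring
    have hab : B a b = 1 := by rw [← hs b a, hba, map_one]
    have hσc : σ c + 1 ≠ 0 := fun h => hc1 (by simpa [hσ2] using congrArg σ h)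
    have hσc0 : σ c ≠ 0 := fun h => hc0 (by simpa [hσ2] using congrArg σ h)
    refine mk (LinearMap.id + (((c + 1) / c - 1) • B b).smulRight a
      + ((σ c / (σ c + 1) - 1) • B a).smulRight b) (fun u v => ?_) (fun h hh => ?_) ?_
    · simp [hs, hσ2, haa, hbb, hab, hba]
      field_simp
      ring
    · simp [haH h hh, hbH h hh]
    · rw [hyeq, ← hxz]
      simp [haa, hba, haH h₀ hh₀, hbH h₀ hh₀, add_smul]
      rw [← sub_eq_zero]
      match_scalars <;> field_simp <;> ring
  · obtain ⟨w₀, hw₀W, hw₀x⟩ := exists_sep hsurj B hB.2 hxW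
    obtain ⟨w, hwW, hwx⟩ : ∃ w, (∀ h ∈ H ⊔ Submodule.span F {a}, B w h = 0) ∧ B w x = -1 :=
      ⟨-w₀, fun h hh => by simp [hw₀W h hh], by simp [hw₀x]⟩
    have hwa : B w a = 0 := hwW a (Submodule.mem_sup_right (Submodule.mem_span_singleton_self a))
    have haw : B a w = 0 := by rw [← hs w a, hwa, map_zero]
    refine mk (LinearMap.id + (B a).smulRight w
      + ((-(B w w * t) / (t + σ t)) • B a - B w).smulRight a) (fun u v => ?_)
      (fun h hh => ?_) ?_
    · simp [hs, hσt, haa, hwa, haw]
      have : σ t + t ≠ 0 := by rwa [add_comm]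
      field_simp
      ring
    · simp [haH h hh, hwW h (Submodule.mem_sup_left hh)]
    · simp only [LinearMap.add_apply, LinearMap.sub_apply, LinearMap.id_coe, id_eq,
        LinearMap.smulRight_apply, LinearMap.smul_apply, smul_eq_mul, hwx, hax, mul_zero,
        zero_smul, zero_sub, neg_neg, add_zero, one_smul, hay]

/-- **Witt's theorem** for a non-degenerate hermitian form. -/
theorem witt_herm [FiniteDimensional F V] (σ : F →+* F) (hσne : σ ≠ RingHom.id F)
    (hσ2 : ∀ a : F, σ (σ a) = a) (B : V →ₛₗ[σ] V →ₗ[F] F) (hS : B.IsSymm) (hB : B.Nondegenerate)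
    (X : Submodule F V) (f : X →ₗ[F] V) (hf : Function.Injective f)
    (hiso : ∀ x x' : X, B (f x) (f x') = B (x : V) (x' : V)) :
    ∃ g : V ≃ₗ[F] V, (∀ u v, B (g u) (g v) = B u v) ∧ ∀ x : X, g (x : V) = f x :=
  extend_of_step _ (step_herm σ hσne hσ2 B hS hB) X f hf hiso

/-! ### Quadratic forms -/

theorem quad_map_add (Q : QuadraticForm F V) (u v : V) :
    Q (u + v) = Q u + Q v + QuadraticMap.polarBilin Q u v := by
  simp [QuadraticMap.polar]

/-- The one-step property for a quadratic form with non-degenerate polar form. -/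
theorem step_quad [FiniteDimensional F V] (Q : QuadraticForm F V)
    (hQ : (QuadraticMap.polarBilin Q).Nondegenerate) : StepProp F (fun u _ : V => Q u) := by
  intro H x y hxH hyH hc
  set B := QuadraticMap.polarBilin Q with hBdef
  have hs : ∀ u v, B v u = B u v := fun u v => QuadraticMap.polar_comm _ _ _
  have hself : ∀ u, B u u = 2 * Q u := fun u => by simp [hBdef]
  have hadd : ∀ u v, Q (u + v) = Q u + Q v + B u v := quad_map_add Q
  have hsmul : ∀ (s : F) u, Q (s • u) = s * s * Q u := fun s u => by simp [QuadraticMap.map_smul]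
  have hid : Function.Surjective (RingHom.id F) := fun t => ⟨t, rfl⟩
  have hQxy : Q x = Q y := by simpa using hc 0 H.zero_mem 0 H.zero_mem 1 1
  have hxh : ∀ h ∈ H, B x h = B y h := fun h hh => by
    have h1 := hc h hh h hh 1 1
    simp only [one_smul] at h1
    rw [hadd, hadd] at h1
    linear_combination hs h x - hs h y + h1 - hQxy
  set a := y - x with ha
  have hay : x + a = y := by rw [ha]; abel
  have haH : ∀ h ∈ H, B a h = 0 := fun h hh => by
    rw [ha, map_sub, LinearMap.sub_apply, hxh h hh, sub_self]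
  have hQa : Q a = - B a x := by
    have h1 := hadd x a
    rw [hay, ← hQxy, hs a x] at h1
    linear_combination -h1
  have mk : ∀ g : V →ₗ[F] V, (∀ u, Q (g u) = Q u) → (∀ h ∈ H, g h = h) → g x = y →
      ∃ g : V ≃ₗ[F] V, Preserves (fun u _ : V => Q u) g ∧ (∀ h ∈ H, g h = h) ∧ g x = y := by
    intro g h1 h2 h3
    have hB' : ∀ u v, B (g u) (g v) = B u v := fun u v => by
      have h4 := hadd (g u) (g v)
      rw [← map_add, h1, h1, h1, hadd] at h4
      linear_combination -h4
    obtain ⟨e, he⟩ := exists_equiv B hQ.1 g hB'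
    exact ⟨e, fun u v => by simpa [he] using h1 u, fun h hh => by rw [he, h2 h hh],
      by rw [he, h3]⟩
  by_cases hax : B a x ≠ 0
  · refine mk (LinearMap.id + ((B a x)⁻¹ • B a).smulRight a) (fun u => ?_) (fun h hh => ?_) ?_
    · simp only [LinearMap.add_apply, LinearMap.id_coe, id_eq, LinearMap.smulRight_apply,
        LinearMap.smul_apply, smul_eq_mul, hadd, hsmul, map_smul, hQa, hs a u]
      field_simp
      ring
    · simp [haH h hh]
    · simp only [LinearMap.add_apply, LinearMap.id_coe, id_eq, LinearMap.smulRight_apply,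
        LinearMap.smul_apply, smul_eq_mul, inv_mul_cancel₀ hax, one_smul, hay]
  push Not at hax
  rw [hax, neg_zero] at hQa
  have haa : B a a = 0 := by rw [hself, hQa, mul_zero]
  by_cases hxW : x ∈ H ⊔ Submodule.span F {a}
  · obtain ⟨h₀, hh₀, z, hz, hxz⟩ := Submodule.mem_sup.1 hxW
    obtain ⟨c, rfl⟩ := Submodule.mem_span_singleton.1 hz
    have hc0 : c ≠ 0 := fun h => hxH (by rw [← hxz, h]; simpa using hh₀)
    have hyeq : y = h₀ + (c + 1) • a := by
      rw [add_smul, one_smul, ← add_assoc, hxz, hay]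
    have hc1 : c + 1 ≠ 0 := fun h => hyH (by rw [hyeq, h]; simpa using hh₀)
    have haH' : a ∉ H := fun h => hxH (hxz ▸ H.add_mem hh₀ (H.smul_mem _ h))
    obtain ⟨b₀, hb₀H, hb₀a⟩ := exists_sep hid B hQ.2 haH'
    obtain ⟨b, hbH, hba, hQb⟩ : ∃ b, (∀ h ∈ H, B b h = 0) ∧ B b a = 1 ∧ Q b = 0 := by
      refine ⟨b₀ + (-Q b₀) • a, fun h hh => ?_, ?_, ?_⟩
      · simp only [map_add, map_smul, LinearMap.add_apply, LinearMap.smul_apply, haH h hh,
          hb₀H h hh, smul_zero, add_zero]
      · simp only [map_add, map_smul, LinearMap.add_apply, LinearMap.smul_apply, haa, hb₀a,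
          smul_zero, add_zero]
      · simp only [hadd, hsmul, map_smul, hQa, hb₀a, smul_eq_mul]
        ring
    refine mk (LinearMap.id + (((c + 1) / c - 1) • B b).smulRight a
      + ((c / (c + 1) - 1) • B a).smulRight b) (fun u => ?_) (fun h hh => ?_) ?_
    · simp only [LinearMap.add_apply, LinearMap.id_coe, id_eq, LinearMap.smulRight_apply,
        LinearMap.smul_apply, smul_eq_mul, hadd, hsmul, map_add, map_smul, hQa, hQb,
        hs a u, hs b u, hs b a, hba]
      field_simp
      ring
    · simp [haH h hh, hbH h hh]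
    · rw [hyeq, ← hxz]
      simp only [map_add, map_smul, LinearMap.add_apply, LinearMap.id_coe, id_eq,
        LinearMap.smulRight_apply, LinearMap.smul_apply, smul_eq_mul, haa, hba, haH h₀ hh₀,
        hbH h₀ hh₀]
      rw [← sub_eq_zero]
      match_scalars <;> field_simp <;> ring
  · obtain ⟨w, hwW, hwx⟩ := exists_sep hid B hQ.2 hxW
    have hwa : B w a = 0 := hwW a (Submodule.mem_sup_right (Submodule.mem_span_singleton_self a))
    refine mk (LinearMap.id + ((-1 : F) • B a).smulRight w + (B w + (-Q w) • B a).smulRight a)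
      (fun u => ?_)
      (fun h hh => ?_) ?_
    · simp only [LinearMap.add_apply, LinearMap.sub_apply, LinearMap.id_coe, id_eq,
        LinearMap.smulRight_apply, LinearMap.smul_apply, smul_eq_mul,
        hadd, hsmul, map_add, map_smul, hQa, hs a u, hs w u, hwa]
      ring
    · simp [haH h hh, hwW h (Submodule.mem_sup_left hh)]
    · simp only [LinearMap.add_apply, LinearMap.sub_apply, LinearMap.id_coe, id_eq,
        LinearMap.smulRight_apply, LinearMap.smul_apply, smul_eq_mul, hax, hwx, mul_zero,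
        zero_smul, add_zero, one_smul, hay]

/-- **Witt's theorem** for a quadratic form with non-degenerate polar form. -/
theorem witt_quad [FiniteDimensional F V] (Q : QuadraticForm F V)
    (hQ : (QuadraticMap.polarBilin Q).Nondegenerate) (X : Submodule F V) (f : X →ₗ[F] V)
    (hf : Function.Injective f) (hiso : ∀ x : X, Q (f x) = Q (x : V)) :
    ∃ g : V ≃ₗ[F] V, (∀ v, Q (g v) = Q v) ∧ ∀ x : X, g (x : V) = f x := by
  obtain ⟨g, hg, hgx⟩ := extend_of_step (fun u _ : V => Q u) (step_quad Q hQ) X f hf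
    (fun x _ => hiso x)
  exact ⟨g, fun v => hg v v, hgx⟩

end Cfsg.Agent.Forms.Witt
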