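import Mathlib
import Cfsg.Agent.Lib.Forms.Witt

/-!
Bases adapted to forms: symplectic bases, orthonormal bases of hermitian forms over finite fields,
diagonal normal form of symmetric forms over finite fields of odd characteristic.
-/

set_option autoImplicit false

namespace Cfsg.Agent.Forms.Bases

open Module

variable {F V : Type*} [Field F] [AddCommGroup V] [Module F V]

/-- The restriction of `B` to `W` is non-degenerate on the left. -/
def NondegOn {σ : F →+* F} (B : V →ₛₗ[σ] V →ₗ[F] F) (W : Submodule F V) : Prop :=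
  ∀ u ∈ W, (∀ v ∈ W, B u v = 0) → u = 0

theorem nondegOn_top {σ : F →+* F} {B : V →ₛₗ[σ] V →ₗ[F] F} (hB : B.SeparatingLeft) :
    NondegOn B ⊤ :=
  fun u _ h => hB u fun v => h v Submodule.mem_top

/-! ### Symplectic families -/

/-- A symplectic family spanning a subspace. -/
structure IsSympFamily (B : LinearMap.BilinForm F V) (W : Submodule F V) {ι : Type*}
    [DecidableEq ι] (e f : ι → V) : Prop where
  e_mem : ∀ i, e i ∈ W
  f_mem : ∀ i, f i ∈ W
  ef : ∀ i j, B (e i) (f j) = if i = j then 1 else 0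
  ee : ∀ i j, B (e i) (e j) = 0
  ff : ∀ i j, B (f i) (f j) = 0
  span : W ≤ Submodule.span F (Set.range (Sum.elim e f))

theorem exists_sympFamily [FiniteDimensional F V] (B : LinearMap.BilinForm F V) (hA : B.IsAlt)
    (W : Submodule F V) (hW : NondegOn B W) :
    ∃ (m : ℕ) (e f : Fin m → V), IsSympFamily B W e f := by
  induction hn : finrank F W using Nat.strong_induction_on generalizing W with
  | _ n ih =>
    by_cases hbot : W = ⊥
    · subst hbot
      exact ⟨0, Fin.elim0, Fin.elim0, ⟨fun i => i.elim0, fun i => i.elim0, fun i => i.elim0,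
        fun i => i.elim0, fun i => i.elim0, bot_le⟩⟩
    have hs : ∀ u v, B v u = - B u v := fun u v => (LinearMap.IsAlt.neg hA u v).symm
    obtain ⟨u, hu, hu0⟩ := Submodule.exists_mem_ne_zero_of_ne_bot hbot
    obtain ⟨v₀, hv₀, huv₀⟩ : ∃ v ∈ W, B u v ≠ 0 := by
      by_contra h
      push Not at h
      exact hu0 (hW u hu h)
    obtain ⟨v, hv, huv⟩ : ∃ v ∈ W, B u v = 1 :=
      ⟨(B u v₀)⁻¹ • v₀, W.smul_mem _ hv₀, by simp [huv₀]⟩
    have hvu : B v u = -1 := by rw [hs, huv]
    have huu : B u u = 0 := hA u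
    have hvv : B v v = 0 := hA v
    set W' : Submodule F V := W ⊓ (LinearMap.ker (B u) ⊓ LinearMap.ker (B v)) with hW'
    have hle : W' ≤ W := inf_le_left
    have hproj : ∀ z ∈ W, z - B u z • v + B v z • u ∈ W' := by
      intro z hz
      refine Submodule.mem_inf.2 ⟨W.add_mem (W.sub_mem hz (W.smul_mem _ hv)) (W.smul_mem _ hu), ?_⟩
      refine Submodule.mem_inf.2 ⟨?_, ?_⟩
      · simp [huv, huu]
      · simp [hvu, hvv]
    have horth : ∀ w ∈ W', B u w = 0 ∧ B v w = 0 := fun w hw =>
      ⟨(Submodule.mem_inf.1 (Submodule.mem_inf.1 hw).2).1,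
        (Submodule.mem_inf.1 (Submodule.mem_inf.1 hw).2).2⟩
    have hW'n : NondegOn B W' := by
      intro w hw h
      refine hW w (hle hw) fun z hz => ?_
      have h1 := h _ (hproj z hz)
      have h2 : B w u = 0 := by rw [hs, (horth w hw).1, neg_zero]
      have h3 : B w v = 0 := by rw [hs, (horth w hw).2, neg_zero]
      simpa [h2, h3] using h1
    have hlt : finrank F W' < n := by
      rw [← hn]
      refine Submodule.finrank_lt_finrank_of_lt (lt_of_le_of_ne hle fun h => ?_)
      have := (horth u (h ▸ hu)).2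
      rw [hvu] at this
      simp at this
    obtain ⟨m, e, f, hef⟩ := ih _ hlt W' hW'n rfl
    refine ⟨m + 1, Fin.cons u e, Fin.cons v f, ⟨?_, ?_, ?_, ?_, ?_, ?_⟩⟩
    · exact Fin.forall_fin_succ.2 ⟨hu, fun i => hle (hef.e_mem i)⟩
    · exact Fin.forall_fin_succ.2 ⟨hv, fun i => hle (hef.f_mem i)⟩
    · refine Fin.forall_fin_succ.2 ⟨Fin.forall_fin_succ.2 ⟨by simp [huv], fun j => ?_⟩,
        fun i => Fin.forall_fin_succ.2 ⟨?_, fun j => ?_⟩⟩
      · simp [(horth _ (hef.f_mem j)).1, Fin.succ_ne_zero, (Fin.succ_ne_zero j).symm]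
      · rw [Fin.cons_succ, Fin.cons_zero, hs, (horth _ (hef.e_mem i)).2]
        simp [Fin.succ_ne_zero]
      · simp [hef.ef]
    · refine Fin.forall_fin_succ.2 ⟨Fin.forall_fin_succ.2 ⟨by simp [huu], fun j => ?_⟩,
        fun i => Fin.forall_fin_succ.2 ⟨?_, fun j => ?_⟩⟩
      · simp [(horth _ (hef.e_mem j)).1]
      · rw [Fin.cons_succ, Fin.cons_zero, hs, (horth _ (hef.e_mem i)).1, neg_zero]
      · simp [hef.ee]
    · refine Fin.forall_fin_succ.2 ⟨Fin.forall_fin_succ.2 ⟨by simp [hvv], fun j => ?_⟩,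
        fun i => Fin.forall_fin_succ.2 ⟨?_, fun j => ?_⟩⟩
      · simp [(horth _ (hef.f_mem j)).2]
      · rw [Fin.cons_succ, Fin.cons_zero, hs, (horth _ (hef.f_mem i)).2, neg_zero]
      · simp [hef.ff]
    · intro z hz
      set S := Submodule.span F (Set.range (Sum.elim (Fin.cons u e) (Fin.cons v f))) with hS
      have huS : u ∈ S := Submodule.subset_span ⟨Sum.inl 0, rfl⟩
      have hvS : v ∈ S := Submodule.subset_span ⟨Sum.inr 0, rfl⟩
      have hsub : Submodule.span F (Set.range (Sum.elim e f)) ≤ S := by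
        refine Submodule.span_le.2 ?_
        rintro _ ⟨i | i, rfl⟩
        · exact Submodule.subset_span ⟨Sum.inl i.succ, by simp⟩
        · exact Submodule.subset_span ⟨Sum.inr i.succ, by simp⟩
      have h1 : z - B u z • v + B v z • u ∈ S := hsub (hef.span (hproj z hz))
      have h2 : z = (z - B u z • v + B v z • u) + (B u z • v - B v z • u) := by abel
      rw [h2]
      exact S.add_mem h1 (S.sub_mem (S.smul_mem _ hvS) (S.smul_mem _ huS))

theorem IsSympFamily.linearIndependent {B : LinearMap.BilinForm F V} {W : Submodule F V}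
    {ι : Type*} [DecidableEq ι] {e f : ι → V} (h : IsSympFamily B W e f) :
    LinearIndependent F (Sum.elim e f) := by
  rw [linearIndependent_iff']
  intro s g hg i hi
  rcases i with i | i
  · have h1 : B (∑ x ∈ s, g x • Sum.elim e f x) (f i) = 0 := by rw [hg]; simp
    rw [map_sum, LinearMap.sum_apply, Finset.sum_eq_single (Sum.inl i)] at h1
    · simpa [h.ef] using h1
    · rintro (j | j) _ hne
      · have hji : j ≠ i := fun hh => hne (congrArg Sum.inl hh)
        simp [h.ef, hji]
      · simp [h.ff]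
    · exact fun hh => absurd hi hh
  · have h1 : B (e i) (∑ x ∈ s, g x • Sum.elim e f x) = 0 := by rw [hg]; simp
    rw [map_sum, Finset.sum_eq_single (Sum.inr i)] at h1
    · simpa [h.ef] using h1
    · rintro (j | j) _ hne
      · simp [h.ee]
      · have hij : i ≠ j := fun hh => hne (congrArg Sum.inr hh.symm)
        simp [h.ef, hij]
    · exact fun hh => absurd hi hh

theorem IsSympFamily.finrank_eq {B : LinearMap.BilinForm F V} {W : Submodule F V}
    {m : ℕ} {e f : Fin m → V} (h : IsSympFamily B W e f) : finrank F W = 2 * m := by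
  have hspan : Submodule.span F (Set.range (Sum.elim e f)) = W := by
    refine le_antisymm (Submodule.span_le.2 ?_) h.span
    rintro _ ⟨i | i, rfl⟩
    · exact h.e_mem i
    · exact h.f_mem i
  rw [← hspan, finrank_span_eq_card h.linearIndependent]
  simp; ring

/-- A symplectic basis of a non-degenerate alternating space. -/
theorem exists_sympBasis [FiniteDimensional F V] (B : LinearMap.BilinForm F V) (hA : B.IsAlt)
    (hB : B.Nondegenerate) {m : ℕ} (hm : finrank F V = 2 * m) :
    ∃ b : Basis (Fin m ⊕ Fin m) F V,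
      (∀ i j, B (b (.inl i)) (b (.inr j)) = if i = j then 1 else 0) ∧
      (∀ i j, B (b (.inl i)) (b (.inl j)) = 0) ∧ (∀ i j, B (b (.inr i)) (b (.inr j)) = 0) := by
  obtain ⟨k, e, f, h⟩ := exists_sympFamily B hA ⊤ (nondegOn_top hB.1)
  obtain rfl : k = m := by
    have := h.finrank_eq
    rw [finrank_top] at this
    omega
  refine ⟨Basis.mk h.linearIndependent h.span, ?_, ?_, ?_⟩
  · intro i j; simp [h.ef]
  · intro i j; simp [h.ee]
  · intro i j; simp [h.ff]

/-- A non-degenerate alternating space has even dimension. -/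
theorem even_finrank_of_alt [FiniteDimensional F V] (B : LinearMap.BilinForm F V) (hA : B.IsAlt)
    (hB : B.Nondegenerate) : ∃ m, finrank F V = 2 * m := by
  obtain ⟨k, e, f, h⟩ := exists_sympFamily B hA ⊤ (nondegOn_top hB.1)
  exact ⟨k, by rw [← h.finrank_eq, finrank_top]⟩

/-! ### Splitting off an anisotropic vector -/

theorem split_anisotropic [FiniteDimensional F V] {σ : F →+* F} (B : V →ₛₗ[σ] V →ₗ[F] F)
    (hrefl : ∀ u v, B u v = 0 → B v u = 0) {W : Submodule F V} (hW : NondegOn B W) {v : V}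
    (hv : v ∈ W) (hvv : B v v ≠ 0) :
    NondegOn B (W ⊓ LinearMap.ker (B v)) ∧
      (∀ z ∈ W, z - (B v z / B v v) • v ∈ W ⊓ LinearMap.ker (B v)) ∧
      finrank F ↥(W ⊓ LinearMap.ker (B v)) + 1 = finrank F W := by
  have hproj : ∀ z ∈ W, z - (B v z / B v v) • v ∈ W ⊓ LinearMap.ker (B v) := fun z hz =>
    Submodule.mem_inf.2 ⟨W.sub_mem hz (W.smul_mem _ hv), by simp [hvv]⟩
  refine ⟨fun w hw h => hW w (Submodule.mem_inf.1 hw).1 fun z hz => ?_, hproj, ?_⟩
  · have h1 := h _ (hproj z hz)
    have h2 : B w v = 0 := hrefl _ _ (Submodule.mem_inf.1 hw).2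
    simpa [h2] using h1
  · set f : ↥W →ₗ[F] F := (B v).domRestrict W with hf
    have hsurj : LinearMap.range f = ⊤ := by
      rw [LinearMap.range_eq_top]
      intro c
      exact ⟨⟨(c / B v v) • v, W.smul_mem _ hv⟩, by simp [hf, hvv]⟩
    have h1 := LinearMap.finrank_range_add_finrank_ker f
    rw [hsurj, finrank_top, finrank_self] at h1
    have h2 : finrank F ↥(LinearMap.ker f) = finrank F ↥(W ⊓ LinearMap.ker (B v)) := by
      refine LinearEquiv.finrank_eq
        { toFun := fun x => ⟨((x : W) : V), Submodule.mem_inf.2 ⟨(x : W).2, x.2⟩⟩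
          invFun := fun x => ⟨⟨x.1, (Submodule.mem_inf.1 x.2).1⟩, (Submodule.mem_inf.1 x.2).2⟩
          map_add' := fun _ _ => rfl
          map_smul' := fun _ _ => rfl
          left_inv := fun _ => rfl
          right_inv := fun _ => rfl }
    omega

theorem linearIndependent_of_orth {σ : F →+* F} {B : V →ₛₗ[σ] V →ₗ[F] F} {ι : Type*}
    {v : ι → V} (h : ∀ i j, i ≠ j → B (v i) (v j) = 0) (hne : ∀ i, B (v i) (v i) ≠ 0) :
    LinearIndependent F v := by
  rw [linearIndependent_iff']
  intro s g hg i hi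
  have h1 : B (v i) (∑ x ∈ s, g x • v x) = 0 := by rw [hg]; simp
  rw [map_sum, Finset.sum_eq_single i] at h1
  · simpa [hne] using h1
  · intro j _ hne'
    simp [h i j hne'.symm]
  · exact fun hh => absurd hi hh

/-! ### Hermitian forms over finite fields -/

/-- Norms of an involutory automorphism of a finite field fill the fixed field. -/
theorem exists_norm_eq [Finite F] (σ : F →+* F) (hσne : σ ≠ RingHom.id F)
    (hσ2 : ∀ a : F, σ (σ a) = a) (d : F) (hd : σ d = d) : ∃ c, σ c * c = d := by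
  classical
  cases nonempty_fintype F
  by_cases h2 : ringChar F = 2
  · obtain ⟨s, hs⟩ := FiniteField.isSquare_of_char_two h2 d
    have : CharP F 2 := h2 ▸ ringChar.charP F
    refine ⟨s, ?_⟩
    have h1 : σ s * σ s = s * s := by rw [← map_mul, ← hs, hd]
    have h3 : (σ s - s) * (σ s - s) = 0 := by
      linear_combination h1 + (-(σ s * s) + s * s) * (CharTwo.two_eq_zero : (2 : F) = 0)
    rw [sub_eq_zero.1 (mul_self_eq_zero.1 h3), hs]
  · have h2' : (2 : F) ≠ 0 := Ring.two_ne_zero h2
    let K : Subfield F :=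
      { carrier := {x | σ x = x}
        mul_mem' := fun {a b} ha hb => by simp_all
        one_mem' := map_one σ
        add_mem' := fun {a b} ha hb => by simp_all
        zero_mem' := map_zero σ
        neg_mem' := fun {a} ha => by simp_all
        inv_mem' := fun a ha => by simp_all }
    obtain ⟨t, ht⟩ : ∃ t, σ t ≠ t := by
      by_contra h
      push Not at h
      exact hσne (RingHom.ext h)
    set θ := t - σ t with hθ
    have hθ0 : θ ≠ 0 := sub_ne_zero.2 ht.symm
    have hσθ : σ θ = -θ := by simp [hθ, hσ2]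
    have hθK : θ * θ ∈ K := show σ (θ * θ) = θ * θ by simp [hσθ]
    have hodd : Fintype.card K % 2 = 1 := by
      refine FiniteField.odd_card_of_char_ne_two fun h => h2' ?_
      have : CharP K 2 := h ▸ ringChar.charP K
      simpa only [map_ofNat, map_zero] using congrArg K.subtype (CharTwo.two_eq_zero : (2 : K) = 0)
    set dK : K := ⟨d, hd⟩ with hdK
    set tK : K := ⟨θ * θ, hθK⟩ with htK
    have htK0 : -tK ≠ 0 := by
      simp only [ne_eq, neg_eq_zero]
      exact fun h => hθ0 (mul_self_eq_zero.1 (congrArg Subtype.val h))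
    obtain ⟨a, b, hab⟩ := FiniteField.exists_root_sum_quadratic
      (f := Polynomial.X ^ 2 - Polynomial.C dK) (g := Polynomial.C (-tK) * Polynomial.X ^ 2)
      (Polynomial.degree_X_pow_sub_C (by norm_num) _)
      (Polynomial.degree_C_mul_X_pow 2 htK0) hodd
    have hab' := congrArg Subtype.val hab
    simp [hdK, htK] at hab'
    refine ⟨(a : F) + (b : F) * θ, ?_⟩
    have ha : σ (a : F) = a := a.2
    have hb : σ (b : F) = b := b.2
    simp [ha, hb, hσθ]
    linear_combination hab'

/-- An orthonormal family spanning a non-degenerate subspace of a finite hermitian space. -/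
theorem exists_orthonormal [FiniteDimensional F V] [Finite F] (σ : F →+* F)
    (hσne : σ ≠ RingHom.id F) (hσ2 : ∀ a : F, σ (σ a) = a) (B : V →ₛₗ[σ] V →ₗ[F] F)
    (hS : B.IsSymm) (W : Submodule F V) (hW : NondegOn B W) :
    ∃ v : Fin (finrank F W) → V, (∀ i, v i ∈ W) ∧
      ∀ i j, B (v i) (v j) = if i = j then 1 else 0 := by
  suffices h : ∀ (n : ℕ) (W : Submodule F V), NondegOn B W → finrank F W = n →
      ∃ v : Fin n → V, (∀ i, v i ∈ W) ∧ ∀ i j, B (v i) (v j) = if i = j then 1 else 0 from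
    h _ W hW rfl
  intro n
  induction n with
  | zero => exact fun W _ _ => ⟨Fin.elim0, fun i => i.elim0, fun i => i.elim0⟩
  | succ n ih =>
    intro W hW hn
    have hrefl : ∀ u v, B u v = 0 → B v u = 0 := fun u v h => by rw [← hS.eq u v, h, map_zero]
    obtain ⟨u₀, hu₀, hu₀0⟩ : ∃ u ∈ W, B u u ≠ 0 := by
      by_contra hall
      push Not at hall
      have hne : W ≠ ⊥ := fun h => by rw [h, finrank_bot] at hn; omega
      obtain ⟨u, hu, hu0⟩ := Submodule.exists_mem_ne_zero_of_ne_bot hne
      obtain ⟨c, hc⟩ : ∃ c, σ c ≠ c := by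
        by_contra h
        push Not at h
        exact hσne (RingHom.ext h)
      refine hu0 (hW u hu fun v hv => ?_)
      have key : ∀ v ∈ W, B u v + σ (B u v) = 0 := fun v hv => by
        have h1 := hall (u + v) (W.add_mem hu hv)
        simp only [map_add, LinearMap.add_apply, hall u hu, hall v hv] at h1
        rw [← hS.eq u v] at h1
        linear_combination h1
      have h2 := key (c • v) (W.smul_mem _ hv)
      simp only [map_smul, smul_eq_mul, map_mul] at h2
      have h3 : (σ c - c) * B u v = 0 := by linear_combination σ c * key v hv - h2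
      simpa [sub_ne_zero.2 hc] using h3
    obtain ⟨s, hs⟩ := exists_norm_eq σ hσne hσ2 (B u₀ u₀)⁻¹ (by rw [map_inv₀, hS.eq])
    set u := s • u₀ with hu
    have huu : B u u = 1 := by
      simp [hu, ← mul_assoc, mul_comm (s : F) (σ s), hs, hu₀0]
    have huW : u ∈ W := W.smul_mem _ hu₀
    obtain ⟨hW', -, hfin⟩ := split_anisotropic B hrefl hW huW (by simp [huu])
    obtain ⟨v, hv, hvv⟩ := ih _ hW' (by omega)
    have horth : ∀ i, B u (v i) = 0 := fun i => (Submodule.mem_inf.1 (hv i)).2
    refine ⟨Fin.cons u v, Fin.forall_fin_succ.2 ⟨huW, fun i => (Submodule.mem_inf.1 (hv i)).1⟩,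
      Fin.forall_fin_succ.2 ⟨Fin.forall_fin_succ.2 ⟨by simp [huu], fun j => ?_⟩,
        fun i => Fin.forall_fin_succ.2 ⟨?_, fun j => ?_⟩⟩⟩
    · simp [horth, (Fin.succ_ne_zero j).symm]
    · rw [Fin.cons_succ, Fin.cons_zero, hrefl _ _ (horth i)]
      simp [Fin.succ_ne_zero]
    · simp [hvv]

/-- An orthonormal basis of a finite hermitian space. -/
theorem exists_orthonormal_basis [FiniteDimensional F V] [Finite F] (σ : F →+* F)
    (hσne : σ ≠ RingHom.id F) (hσ2 : ∀ a : F, σ (σ a) = a) (B : V →ₛₗ[σ] V →ₗ[F] F)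
    (hS : B.IsSymm) (hB : B.SeparatingLeft) :
    ∃ b : Basis (Fin (finrank F V)) F V, ∀ i j, B (b i) (b j) = if i = j then 1 else 0 := by
  obtain ⟨v, -, hv⟩ := exists_orthonormal σ hσne hσ2 B hS ⊤ (nondegOn_top hB)
  have hli : LinearIndependent F v :=
    linearIndependent_of_orth (B := B) (fun i j h => by simp [hv, h]) (fun i => by simp [hv])
  let b := basisOfLinearIndependentOfCardEqFinrank' v hli (by simp)
  refine ⟨b.reindex (finCongr (finrank_top F V)), fun i j => ?_⟩
  simp [b, hv]

/-! ### Symmetric forms over finite fields of odd characteristic -/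

theorem exists_sq_add_sq [Finite F] (h2 : (2 : F) ≠ 0) {a b : F} (ha : a ≠ 0) (hb : b ≠ 0)
    (c : F) : ∃ x y, a * x ^ 2 + b * y ^ 2 = c := by
  cases nonempty_fintype F
  have hodd : Fintype.card F % 2 = 1 :=
    FiniteField.odd_card_of_char_ne_two fun h => h2 (by
      have : CharP F 2 := h ▸ ringChar.charP F
      exact CharTwo.two_eq_zero)
  obtain ⟨x, y, h⟩ := FiniteField.exists_root_sum_quadratic
    (f := Polynomial.C a * Polynomial.X ^ 2 + Polynomial.C (-c))
    (g := Polynomial.C b * Polynomial.X ^ 2)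
    (by rw [Polynomial.degree_add_C (by rw [Polynomial.degree_C_mul_X_pow 2 ha]; norm_num),
      Polynomial.degree_C_mul_X_pow 2 ha]; norm_num)
    (Polynomial.degree_C_mul_X_pow 2 hb) hodd
  exact ⟨x, y, by simp at h; linear_combination h⟩

theorem isSquare_mul_of_not [Finite F] {a b : F} (ha : ¬ IsSquare a) (hb : ¬ IsSquare b) :
    IsSquare (a * b) := by
  classical
  cases nonempty_fintype F
  have ha0 : a ≠ 0 := fun h => ha (h ▸ ⟨0, by simp⟩)
  have hb0 : b ≠ 0 := fun h => hb (h ▸ ⟨0, by simp⟩)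
  rw [← quadraticChar_one_iff_isSquare (mul_ne_zero ha0 hb0), map_mul,
    quadraticChar_neg_one_iff_not_isSquare.2 ha, quadraticChar_neg_one_iff_not_isSquare.2 hb]
  norm_num

theorem exists_symm_unit [FiniteDimensional F V] [Finite F] (h2 : (2 : F) ≠ 0)
    (B : LinearMap.BilinForm F V) (hS : B.IsSymm) (W : Submodule F V) (hW : NondegOn B W)
    (hn : 2 ≤ finrank F W) (c : F) (hc : c ≠ 0) : ∃ u ∈ W, B u u = c ∧ u ≠ 0 := by
  have hrefl : ∀ u v, B u v = 0 → B v u = 0 := fun u v h => by rw [hS.eq, h]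
  have hany : ∀ W : Submodule F V, NondegOn B W → 0 < finrank F W → ∃ u ∈ W, B u u ≠ 0 := by
    intro W hW hpos
    by_contra hall
    push Not at hall
    have hne : W ≠ ⊥ := fun h => by rw [h, finrank_bot] at hpos; omega
    obtain ⟨u, hu, hu0⟩ := Submodule.exists_mem_ne_zero_of_ne_bot hne
    refine hu0 (hW u hu fun v hv => ?_)
    have h1 := hall (u + v) (W.add_mem hu hv)
    simp only [map_add, LinearMap.add_apply, hall u hu, hall v hv] at h1
    rw [hS.eq v u] at h1
    have : (2 : F) * B u v = 0 := by linear_combination h1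
    simpa [h2] using this
  obtain ⟨u, hu, huu⟩ := hany W hW (by omega)
  obtain ⟨hW', -, hfin⟩ := split_anisotropic B hrefl hW hu huu
  obtain ⟨w, hw, hww⟩ := hany _ hW' (by omega)
  have huw : B u w = 0 := (Submodule.mem_inf.1 hw).2
  have hwu : B w u = 0 := hrefl _ _ huw
  have hwW : w ∈ W := (Submodule.mem_inf.1 hw).1
  have hval : ∀ x y : F, B (x • u + y • w) (x • u + y • w) = B u u * x ^ 2 + B w w * y ^ 2 := by
    intro x y; simp [huw, hwu]; ring
  obtain ⟨x, y, hxy⟩ := exists_sq_add_sq h2 huu hww c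
  refine ⟨x • u + y • w, W.add_mem (W.smul_mem _ hu) (W.smul_mem _ hwW), by rw [hval, hxy],
    fun h => hc ?_⟩
  rw [← hxy, ← hval, h]; simp

/-- Diagonal normal form `(1, …, 1, c)` with `c` equal to `1` or to a fixed non-square. -/
theorem exists_symm_normal [FiniteDimensional F V] [Finite F] (h2 : (2 : F) ≠ 0)
    (B : LinearMap.BilinForm F V) (hS : B.IsSymm) (α : F) (hα : ¬ IsSquare α) {n : ℕ}
    (W : Submodule F V) (hW : NondegOn B W) (hn : finrank F W = n + 1) :
    ∃ v : Fin (n + 1) → V, (∀ i, v i ∈ W) ∧ (∀ i j, i ≠ j → B (v i) (v j) = 0) ∧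
      (∀ i, i ≠ Fin.last n → B (v i) (v i) = 1) ∧
      (B (v (Fin.last n)) (v (Fin.last n)) = 1 ∨ B (v (Fin.last n)) (v (Fin.last n)) = α) := by
  have hrefl : ∀ u v, B u v = 0 → B v u = 0 := fun u v h => by rw [hS.eq, h]
  induction n generalizing W with
  | zero =>
    obtain ⟨u, hu, hu0⟩ : ∃ u ∈ W, u ≠ 0 := Submodule.exists_mem_ne_zero_of_ne_bot
      fun h => by rw [h, finrank_bot] at hn; omega
    have hspan : W = Submodule.span F {u} := by
      refine (Submodule.eq_of_le_of_finrank_eq ((Submodule.span_singleton_le_iff_mem _ _).2 hu)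
        ?_).symm
      rw [finrank_span_singleton hu0, hn]
    have huu : B u u ≠ 0 := fun h => hu0 (hW u hu fun z hz => by
      rw [hspan] at hz
      obtain ⟨c, rfl⟩ := Submodule.mem_span_singleton.1 hz
      simp [h])
    have hα0 : α ≠ 0 := fun h => hα (h ▸ ⟨0, by simp⟩)
    obtain ⟨c, hc⟩ : ∃ c : F, c * c * B u u = 1 ∨ c * c * B u u = α := by
      by_cases hsq : IsSquare (B u u)
      · obtain ⟨s, hs⟩ := hsq
        refine ⟨s⁻¹, Or.inl ?_⟩
        have : s ≠ 0 := fun h => huu (by rw [hs, h, mul_zero])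
        rw [hs]; field_simp
      · obtain ⟨s, hs⟩ := isSquare_mul_of_not hsq hα
        refine ⟨s / B u u, Or.inr ?_⟩
        field_simp
        linear_combination -hs
    refine ⟨fun _ => c • u, fun _ => W.smul_mem _ hu, fun i j hij => absurd (Fin.ext (by omega)) hij,
      fun i hi => absurd (Fin.ext (by simp)) hi, ?_⟩
    simpa [← mul_assoc] using hc
  | succ n ih =>
    obtain ⟨u, hu, huu, -⟩ := exists_symm_unit h2 B hS W hW (by omega) 1 one_ne_zero
    obtain ⟨hW', -, hfin⟩ := split_anisotropic B hrefl hW hu (by simp [huu])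
    obtain ⟨v, hv, hvo, hv1, hvl⟩ := ih _ hW' (by omega)
    have horth : ∀ i, B u (v i) = 0 := fun i => (Submodule.mem_inf.1 (hv i)).2
    refine ⟨Fin.cons u v, Fin.forall_fin_succ.2 ⟨hu, fun i => (Submodule.mem_inf.1 (hv i)).1⟩,
      Fin.forall_fin_succ.2 ⟨Fin.forall_fin_succ.2 ⟨fun h => absurd rfl h, fun j _ => ?_⟩,
        fun i => Fin.forall_fin_succ.2 ⟨fun _ => ?_, fun j hij => ?_⟩⟩,
      Fin.forall_fin_succ.2 ⟨fun _ => ?_, fun i hi => ?_⟩, ?_⟩
    · simp [horth]
    · rw [Fin.cons_succ, Fin.cons_zero, hrefl _ _ (horth i)]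
    · simpa using hvo i j (fun h => hij (congrArg Fin.succ h))
    · simpa using huu
    · simpa using hv1 i (fun h => hi (by rw [h, Fin.succ_last]))
    · simpa [← Fin.succ_last] using hvl

end Cfsg.Agent.Forms.Bases
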