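import Mathlib
import Cfsg.Prelude.Def_ClassicalGeometry
import Cfsg.Agent.Lib.Forms.Witt

/-!
`Cfsg.isometryGroup` of a quadratic form on `F^ι`: membership, elements from linear equivalences,
reflections, Siegel transformations.
-/

set_option autoImplicit false

namespace Cfsg.Agent.Forms.QuadStd

open Matrix

variable {F : Type*} [Field F] {ι : Type} [Fintype ι] [DecidableEq ι]

theorem mem_isometry_iff (Q : (ι → F) → F) (g : Matrix.GeneralLinearGroup ι F) :
    g ∈ Cfsg.isometryGroup F Q ↔ ∀ v, Q ((g : Matrix ι ι F) *ᵥ v) = Q v :=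
  ⟨fun h v => h v v, fun h u _ => h u⟩

/-- A linear equivalence as an invertible matrix. -/
noncomputable def glOfEquiv (g : (ι → F) ≃ₗ[F] (ι → F)) : Matrix.GeneralLinearGroup ι F :=
  ⟨LinearMap.toMatrix' g.toLinearMap, LinearMap.toMatrix' g.symm.toLinearMap,
    by rw [← LinearMap.toMatrix'_comp]; simp, by rw [← LinearMap.toMatrix'_comp]; simp⟩

theorem glOfEquiv_mulVec (g : (ι → F) ≃ₗ[F] (ι → F)) (v : ι → F) :
    (glOfEquiv g : Matrix ι ι F) *ᵥ v = g v := by
  simp [glOfEquiv, ← Matrix.toLin'_apply]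

/-- An isometric linear equivalence as an element of `isometryGroup`. -/
noncomputable def isoOfEquiv (Q : (ι → F) → F) (g : (ι → F) ≃ₗ[F] (ι → F))
    (hg : ∀ v, Q (g v) = Q v) : Cfsg.isometryGroup F Q :=
  ⟨glOfEquiv g, (mem_isometry_iff Q _).2 fun v => by rw [glOfEquiv_mulVec, hg]⟩

theorem isoOfEquiv_mulVec (Q : (ι → F) → F) (g : (ι → F) ≃ₗ[F] (ι → F))
    (hg : ∀ v, Q (g v) = Q v) (v : ι → F) :
    ((isoOfEquiv Q g hg : Matrix.GeneralLinearGroup ι F) : Matrix ι ι F) *ᵥ v = g v :=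
  glOfEquiv_mulVec g v

theorem iso_ext {Q : (ι → F) → F} {g h : Cfsg.isometryGroup F Q}
    (hgh : ∀ v, ((g : Matrix.GeneralLinearGroup ι F) : Matrix ι ι F) *ᵥ v =
      ((h : Matrix.GeneralLinearGroup ι F) : Matrix ι ι F) *ᵥ v) : g = h :=
  Subtype.ext (Units.ext (Matrix.ext_iff_mulVec.2 hgh))

theorem iso_mulVec {Q : (ι → F) → F} (g : Cfsg.isometryGroup F Q) (v : ι → F) :
    Q (((g : Matrix.GeneralLinearGroup ι F) : Matrix ι ι F) *ᵥ v) = Q v :=
  (mem_isometry_iff Q g.1).1 g.2 v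

theorem mul_mulVec_iso {Q : (ι → F) → F} (g h : Cfsg.isometryGroup F Q) (v : ι → F) :
    (((g * h : Cfsg.isometryGroup F Q) : Matrix.GeneralLinearGroup ι F) : Matrix ι ι F) *ᵥ v =
      ((g : Matrix.GeneralLinearGroup ι F) : Matrix ι ι F) *ᵥ
        (((h : Matrix.GeneralLinearGroup ι F) : Matrix ι ι F) *ᵥ v) :=
  (mulVec_mulVec _ _ _).symm

variable (Q : QuadraticForm F (ι → F))

theorem iso_polar (g : Cfsg.isometryGroup F ⇑Q) (u v : ι → F) :
    QuadraticMap.polar Q (((g : Matrix.GeneralLinearGroup ι F) : Matrix ι ι F) *ᵥ u)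
      (((g : Matrix.GeneralLinearGroup ι F) : Matrix ι ι F) *ᵥ v) = QuadraticMap.polar Q u v := by
  simp only [QuadraticMap.polar, ← mulVec_add, iso_mulVec]

theorem polarVec_dotProduct (v x : ι → F) :
    Cfsg.polarVec ⇑Q v ⬝ᵥ x = QuadraticMap.polar Q v x := by
  have h : QuadraticMap.polar Q v x =
      ∑ j, x j * QuadraticMap.polar Q v (Pi.single j 1) := by
    conv_lhs => rw [pi_eq_sum_univ' x]
    rw [← QuadraticMap.polarBilin_apply_apply, map_sum]
    simp
  rw [h]
  simp [Cfsg.polarVec, dotProduct, mul_comm]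

theorem reflection_mulVec (v x : ι → F) :
    Cfsg.reflectionMatrix ⇑Q v *ᵥ x = x - ((Q v)⁻¹ * QuadraticMap.polar Q v x) • v := by
  rw [Cfsg.reflectionMatrix, sub_mulVec, one_mulVec, smul_mulVec, vecMulVec_mulVec,
    op_smul_eq_smul, smul_smul, polarVec_dotProduct]

theorem reflection_map (v x : ι → F) :
    Q (Cfsg.reflectionMatrix ⇑Q v *ᵥ x) = Q x := by
  by_cases hv : Q v = 0
  · simp [reflection_mulVec, hv]
  rw [reflection_mulVec, sub_eq_add_neg, ← neg_smul, QuadraticMap.map_add Q,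
    QuadraticMap.map_smul, QuadraticMap.polar_smul_right, QuadraticMap.polar_comm _ x v]
  simp only [smul_eq_mul]
  field_simp
  ring

theorem reflection_self {v : ι → F} (hv : Q v ≠ 0) :
    Cfsg.reflectionMatrix ⇑Q v *ᵥ v = -v := by
  rw [reflection_mulVec, QuadraticMap.polar_self, nsmul_eq_mul]
  rw [show (Q v)⁻¹ * ((2 : ℕ) * Q v) = (2 : F) by field_simp; norm_num]
  module

theorem reflection_fix {v x : ι → F} (h : QuadraticMap.polar Q v x = 0) :
    Cfsg.reflectionMatrix ⇑Q v *ᵥ x = x := by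
  rw [reflection_mulVec, h]; simp

theorem reflection_det {v : ι → F} (hv : Q v ≠ 0) : (Cfsg.reflectionMatrix ⇑Q v).det = -1 := by
  have h : Cfsg.reflectionMatrix ⇑Q v = 1 + replicateCol Unit (-(Q v)⁻¹ • v) *
      replicateRow Unit (Cfsg.polarVec ⇑Q v) := by
    ext i j
    simp [Cfsg.reflectionMatrix, vecMulVec_apply, Matrix.mul_apply, sub_eq_add_neg, mul_assoc]
  rw [h, det_one_add_replicateCol_mul_replicateRow, dotProduct_smul, polarVec_dotProduct,
    QuadraticMap.polar_self, nsmul_eq_mul, smul_eq_mul]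
  field_simp
  norm_num

theorem reflection_mul_self (v : ι → F) :
    Cfsg.reflectionMatrix ⇑Q v * Cfsg.reflectionMatrix ⇑Q v = 1 := by
  refine Matrix.ext_iff_mulVec.2 fun x => ?_
  rw [← mulVec_mulVec, one_mulVec]
  by_cases hv : Q v = 0
  · simp [reflection_mulVec, hv]
  simp only [reflection_mulVec, ← QuadraticMap.polarBilin_apply_apply, map_sub, map_smul]
  simp only [QuadraticMap.polarBilin_apply_apply, QuadraticMap.polar_self, nsmul_eq_mul,
    smul_eq_mul]
  match_scalars <;> field_simp <;> norm_num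

/-- A reflection as an element of the isometry group. -/
def reflect (v : ι → F) : Cfsg.isometryGroup F ⇑Q :=
  ⟨⟨Cfsg.reflectionMatrix ⇑Q v, Cfsg.reflectionMatrix ⇑Q v, reflection_mul_self Q v,
    reflection_mul_self Q v⟩, (mem_isometry_iff _ _).2 (reflection_map Q v)⟩

theorem det_iso_sq (hQ : (QuadraticMap.polarBilin Q).Nondegenerate) (g : Cfsg.isometryGroup F ⇑Q) :
    ((g : Matrix.GeneralLinearGroup ι F) : Matrix ι ι F).det = 1 ∨
      ((g : Matrix.GeneralLinearGroup ι F) : Matrix ι ι F).det = -1 := by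
  set M := ((g : Matrix.GeneralLinearGroup ι F) : Matrix ι ι F) with hM
  let B : LinearMap.BilinForm F (ι → F) := QuadraticMap.polarBilin Q
  have hG : (LinearMap.BilinForm.toMatrix (Pi.basisFun F ι) B).det ≠ 0 :=
    (LinearMap.BilinForm.nondegenerate_iff_det_ne_zero _).1 hQ
  have hB : B = B.compl₁₂ (Matrix.toLin' M) (Matrix.toLin' M) :=
    LinearMap.ext₂ fun u v => by
      simp [B, Matrix.toLin'_apply, hM, iso_polar]
  have h : LinearMap.BilinForm.toMatrix (Pi.basisFun F ι) B =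
      Mᵀ * LinearMap.BilinForm.toMatrix (Pi.basisFun F ι) B * M := by
    conv_lhs => rw [hB]
    rw [show B.compl₁₂ (Matrix.toLin' M) (Matrix.toLin' M) =
      LinearMap.BilinForm.comp B (Matrix.toLin' M) (Matrix.toLin' M) from rfl,
      LinearMap.BilinForm.toMatrix_comp (Pi.basisFun F ι) (Pi.basisFun F ι)]
    simp [LinearMap.toMatrix_eq_toMatrix']
  have h2 := congrArg Matrix.det h
  rw [det_mul, det_mul, det_transpose] at h2
  refine sq_eq_one_iff.1 (mul_right_cancel₀ hG ?_)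
  linear_combination -h2

theorem siegel_mulVec (u v x : ι → F) (c : F) :
    Cfsg.siegelMatrix ⇑Q u v c *ᵥ x =
      x + (c * QuadraticMap.polar Q u x) • v - (c * QuadraticMap.polar Q v x) • u := by
  rw [Cfsg.siegelMatrix, add_mulVec, one_mulVec, smul_mulVec, sub_mulVec, vecMulVec_mulVec,
    vecMulVec_mulVec, op_smul_eq_smul, op_smul_eq_smul, polarVec_dotProduct, polarVec_dotProduct]
  module

theorem siegel_map {u v : ι → F} (hu : Q u = 0) (hv : Q v = 0)
    (huv : QuadraticMap.polar Q u v = 0) (c : F) (x : ι → F) :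
    Q (Cfsg.siegelMatrix ⇑Q u v c *ᵥ x) = Q x := by
  rw [siegel_mulVec, sub_eq_add_neg, ← neg_smul]
  simp only [QuadraticMap.map_add Q, QuadraticMap.map_smul, QuadraticMap.polar_add_left,
    QuadraticMap.polar_smul_left, QuadraticMap.polar_smul_right, smul_eq_mul, hu, hv,
    QuadraticMap.polar_comm _ x u, QuadraticMap.polar_comm _ x v, QuadraticMap.polar_comm _ v u,
    huv]
  ring

end Cfsg.Agent.Forms.QuadStd
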