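import Mathlib
import Cfsg.Agent.Lib.Forms.QuadStd
import Cfsg.Agent.Lib.Forms.Bases

/-!
Generation of the isometry group of a non-degenerate quadratic form over a finite field by reflections
(any characteristic; the exception is dimension four over the field with two elements), and the parity
of `rank (g - 1)` as a homomorphism.
-/

set_option autoImplicit false

namespace Cfsg.Agent.Forms.Reflections

open Matrix Cfsg.Agent.Forms.QuadStd Cfsg.Agent.Forms.Bases

variable {F : Type*} [Field F] {ι : Type} [Fintype ι] [DecidableEq ι]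
variable {Q : QuadraticForm F (ι → F)}

/-- The linear map of an isometry. -/
noncomputable def act (g : Cfsg.isometryGroup F ⇑Q) : (ι → F) →ₗ[F] (ι → F) :=
  Matrix.toLin' ((g : Matrix.GeneralLinearGroup ι F) : Matrix ι ι F)

theorem act_apply (g : Cfsg.isometryGroup F ⇑Q) (x : ι → F) :
    act g x = ((g : Matrix.GeneralLinearGroup ι F) : Matrix ι ι F) *ᵥ x :=
  Matrix.toLin'_apply _ _

theorem act_mul (g h : Cfsg.isometryGroup F ⇑Q) (x : ι → F) : act (g * h) x = act g (act h x) := by
  simp only [act_apply, mul_mulVec_iso]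

theorem act_one (x : ι → F) : act (1 : Cfsg.isometryGroup F ⇑Q) x = x := by
  simp [act_apply]

theorem act_map (g : Cfsg.isometryGroup F ⇑Q) (x : ι → F) : Q (act g x) = Q x := by
  rw [act_apply]; exact iso_mulVec g x

theorem act_polar (g : Cfsg.isometryGroup F ⇑Q) (x y : ι → F) :
    QuadraticMap.polar Q (act g x) (act g y) = QuadraticMap.polar Q x y := by
  simp only [act_apply, iso_polar]

theorem act_reflect (v x : ι → F) :
    act (reflect Q v) x = x - ((Q v)⁻¹ * QuadraticMap.polar Q v x) • v := by
  rw [act_apply]; exact reflection_mulVec Q v x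

theorem reflect_sq (v : ι → F) : reflect Q v * reflect Q v = 1 :=
  Subtype.ext (Units.ext (reflection_mul_self Q v))

/-- The fixed space of an isometry. -/
noncomputable def fixSp (g : Cfsg.isometryGroup F ⇑Q) : Submodule F (ι → F) :=
  LinearMap.ker (act g - LinearMap.id)

/-- The image of `g - 1`. -/
noncomputable def imSp (g : Cfsg.isometryGroup F ⇑Q) : Submodule F (ι → F) :=
  LinearMap.range (act g - LinearMap.id)

theorem mem_fixSp {g : Cfsg.isometryGroup F ⇑Q} {x : ι → F} : x ∈ fixSp g ↔ act g x = x := by
  simp [fixSp, LinearMap.mem_ker, sub_eq_zero]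

/-- The polar form as a bilinear form. -/
noncomputable def polB (Q : QuadraticForm F (ι → F)) : LinearMap.BilinForm F (ι → F) :=
  QuadraticMap.polarBilin Q

theorem polB_apply (x y : ι → F) : polB Q x y = QuadraticMap.polar Q x y := rfl

theorem polB_refl : (polB Q).IsRefl := fun x y h => by
  rw [polB_apply, QuadraticMap.polar_comm]; exact h

theorem mem_orth {W : Submodule F (ι → F)} {x : ι → F} :
    x ∈ (polB Q).orthogonal W ↔ ∀ w ∈ W, QuadraticMap.polar Q w x = 0 := Iff.rfl

variable (hQ : (QuadraticMap.polarBilin Q).Nondegenerate)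
include hQ

theorem finrank_orth (W : Submodule F (ι → F)) :
    Module.finrank F ↥((polB Q).orthogonal W) = Fintype.card ι - Module.finrank F W := by
  rw [LinearMap.BilinForm.finrank_orthogonal (B := polB Q) hQ, Module.finrank_pi]

theorem imSp_eq (g : Cfsg.isometryGroup F ⇑Q) : imSp g = (polB Q).orthogonal (fixSp g) := by
  refine Submodule.eq_of_le_of_finrank_eq ?_ ?_
  · rintro _ ⟨x, rfl⟩
    refine mem_orth.2 fun f hf => ?_
    rw [LinearMap.sub_apply, LinearMap.id_apply, QuadraticMap.polar_sub_right,
      sub_eq_zero]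
    conv_lhs => rw [← mem_fixSp.1 hf]
    exact act_polar g f x
  · have := LinearMap.finrank_range_add_finrank_ker (act g - LinearMap.id)
    rw [Module.finrank_pi] at this
    rw [finrank_orth hQ]
    change Module.finrank F ↥(imSp g) + Module.finrank F ↥(fixSp g) = _ at this
    omega

theorem imSp_orth (g : Cfsg.isometryGroup F ⇑Q) : (polB Q).orthogonal (imSp g) = fixSp g := by
  rw [imSp_eq hQ, LinearMap.BilinForm.orthogonal_orthogonal (B := polB Q) hQ polB_refl]

theorem finrank_imSp (g : Cfsg.isometryGroup F ⇑Q) :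
    Module.finrank F ↥(imSp g) + Module.finrank F ↥(fixSp g) = Fintype.card ι := by
  have := LinearMap.finrank_range_add_finrank_ker (act g - LinearMap.id)
  rwa [Module.finrank_pi] at this

/-- If `v` is an anisotropic vector of the form `g x - x`, then `x` is fixed by `reflect v * g`. -/
theorem fixed_of_image {g : Cfsg.isometryGroup F ⇑Q} {v x : ι → F} (hv : Q v ≠ 0)
    (hx : act g x - x = v) : act (reflect Q v * g) x = x := by
  have hgx : act g x = x + v := by rw [← hx]; abel
  have hB : QuadraticMap.polar Q v x = - Q v := by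
    have h := act_map g x
    rw [hgx, QuadraticMap.map_add Q, QuadraticMap.polar_comm] at h
    linear_combination h
  have hBv : QuadraticMap.polar Q v (x + v) = Q v := by
    rw [QuadraticMap.polar_add_right, hB, QuadraticMap.polar_self, nsmul_eq_mul]
    norm_num
    ring
  rw [act_mul, hgx, act_reflect, hBv, inv_mul_cancel₀ hv, one_smul, add_sub_cancel_right]

theorem fix_inf_le (g : Cfsg.isometryGroup F ⇑Q) (v : ι → F) :
    fixSp g ⊓ LinearMap.ker (polB Q v) ≤ fixSp (reflect Q v * g) := by
  intro x hx
  obtain ⟨hx1, hx2⟩ := Submodule.mem_inf.1 hx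
  rw [LinearMap.mem_ker, polB_apply] at hx2
  rw [mem_fixSp, act_mul, mem_fixSp.1 hx1, act_reflect, hx2]
  simp

theorem finrank_inf_ker_ge (W : Submodule F (ι → F)) (v : ι → F) :
    Module.finrank F W ≤ Module.finrank F ↥(W ⊓ LinearMap.ker (polB Q v)) + 1 := by
  have h := Submodule.finrank_sup_add_finrank_inf_eq W (LinearMap.ker (polB Q v))
  have h1 : Module.finrank F ↥(W ⊔ LinearMap.ker (polB Q v)) ≤ Fintype.card ι :=
    (Submodule.finrank_le _).trans (Module.finrank_pi F).le
  have h2 := LinearMap.finrank_range_add_finrank_ker (polB Q v)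
  rw [Module.finrank_pi] at h2
  have h3 : Module.finrank F ↥(LinearMap.range (polB Q v)) ≤ 1 :=
    (Submodule.finrank_le _).trans (Module.finrank_self F).le
  omega

theorem fix_reflect_of_mem {g : Cfsg.isometryGroup F ⇑Q} {v : ι → F} (hv : Q v ≠ 0)
    (hm : v ∈ imSp g) :
    fixSp g ≤ fixSp (reflect Q v * g) ∧
      Module.finrank F ↥(fixSp (reflect Q v * g)) = Module.finrank F ↥(fixSp g) + 1 := by
  have hker : fixSp g ≤ LinearMap.ker (polB Q v) := fun x hx => by
    rw [LinearMap.mem_ker, polB_apply, QuadraticMap.polar_comm]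
    exact mem_orth.1 ((imSp_eq hQ g) ▸ hm) x hx
  have hle : fixSp g ≤ fixSp (reflect Q v * g) :=
    le_trans (le_inf le_rfl hker) (fix_inf_le hQ g v)
  obtain ⟨x, hx⟩ := hm
  rw [LinearMap.sub_apply, LinearMap.id_apply] at hx
  have hlt : fixSp g < fixSp (reflect Q v * g) := by
    refine lt_of_le_of_ne hle fun h => ?_
    have h1 : x ∈ fixSp g := h ▸ mem_fixSp.2 (fixed_of_image hQ hv hx)
    rw [mem_fixSp.1 h1, sub_self] at hx
    exact hv (by rw [← hx, QuadraticMap.map_zero])
  refine ⟨hle, le_antisymm ?_ (Submodule.finrank_lt_finrank_of_lt hlt)⟩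
  have h1 := fix_inf_le hQ (reflect Q v * g) v
  rw [← mul_assoc, reflect_sq, one_mul] at h1
  have h2 := Submodule.finrank_mono h1
  have h3 := finrank_inf_ker_ge hQ (fixSp (reflect Q v * g)) v
  omega

theorem fix_reflect_of_not_mem {g : Cfsg.isometryGroup F ⇑Q} {v : ι → F} (hv : Q v ≠ 0)
    (hm : v ∉ imSp g) :
    fixSp (reflect Q v * g) = fixSp g ⊓ LinearMap.ker (polB Q v) ∧
      Module.finrank F ↥(fixSp (reflect Q v * g)) + 1 = Module.finrank F ↥(fixSp g) := by
  have heq : fixSp (reflect Q v * g) = fixSp g ⊓ LinearMap.ker (polB Q v) := by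
    refine le_antisymm (fun x hx => ?_) (fix_inf_le hQ g v)
    rw [mem_fixSp, act_mul, act_reflect, sub_eq_iff_eq_add] at hx
    set c := (Q v)⁻¹ * QuadraticMap.polar Q v (act g x) with hc
    have hxe : act g x - x = c • v := by rw [hx]; abel
    have hc0 : c = 0 := by
      by_contra hne
      refine hm ?_
      have h1 : act g x - x ∈ imSp g := ⟨x, by simp⟩
      rw [hxe] at h1
      simpa [hne] using (imSp g).smul_mem c⁻¹ h1
    have hgx : act g x = x := by rw [hx, hc0]; simp
    refine Submodule.mem_inf.2 ⟨mem_fixSp.2 hgx, ?_⟩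
    rw [hc, hgx] at hc0
    rw [LinearMap.mem_ker, polB_apply]
    simpa [hv] using hc0
  refine ⟨heq, ?_⟩
  have h3 := finrank_inf_ker_ge hQ (fixSp g) v
  have h4 : fixSp g ⊓ LinearMap.ker (polB Q v) < fixSp g := by
    refine lt_of_le_of_ne inf_le_left fun h => hm ?_
    rw [imSp_eq hQ]
    refine mem_orth.2 fun f hf => ?_
    have : f ∈ LinearMap.ker (polB Q v) := (h.symm ▸ hf : f ∈ fixSp g ⊓ LinearMap.ker (polB Q v)).2
    rw [QuadraticMap.polar_comm]
    exact LinearMap.mem_ker.1 this
  have h5 := Submodule.finrank_lt_finrank_of_lt h4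
  rw [heq]
  omega

/-- The parity of the codimension of the fixed space. -/
noncomputable def par (g : Cfsg.isometryGroup F ⇑Q) : ℤˣ :=
  (-1) ^ (Module.finrank F ↥(fixSp g) + Fintype.card ι)

omit hQ in
theorem fixSp_one : fixSp (1 : Cfsg.isometryGroup F ⇑Q) = ⊤ :=
  eq_top_iff.2 fun x _ => mem_fixSp.2 (act_one x)

omit hQ in
theorem par_one : par (1 : Cfsg.isometryGroup F ⇑Q) = 1 := by
  rw [par, fixSp_one, finrank_top, Module.finrank_pi]
  exact Even.neg_one_pow ⟨_, rfl⟩

theorem par_reflect_mul {v : ι → F} (hv : Q v ≠ 0) (g : Cfsg.isometryGroup F ⇑Q) :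
    par (reflect Q v * g) = - par g := by
  unfold par
  by_cases hm : v ∈ imSp g
  · rw [(fix_reflect_of_mem hQ hv hm).2, add_right_comm, pow_succ]
    simp
  · rw [← (fix_reflect_of_not_mem hQ hv hm).2, add_right_comm _ 1, pow_succ]
    simp

/-- The subgroup generated by the reflections. -/
noncomputable def refGroup (Q : QuadraticForm F (ι → F)) : Subgroup (Cfsg.isometryGroup F ⇑Q) :=
  Subgroup.closure {g | ∃ v, Q v ≠ 0 ∧ g = reflect Q v}

theorem par_mul {g : Cfsg.isometryGroup F ⇑Q} (hg : g ∈ refGroup Q)
    (h : Cfsg.isometryGroup F ⇑Q) : par (g * h) = par g * par h := by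
  induction hg using Subgroup.closure_induction generalizing h with
  | mem x hx =>
    obtain ⟨v, hv, rfl⟩ := hx
    have := par_reflect_mul hQ hv (1 : Cfsg.isometryGroup F ⇑Q)
    rw [mul_one, par_one] at this
    rw [par_reflect_mul hQ hv, this]
    simp
  | one => rw [one_mul, par_one, one_mul]
  | mul x y _ _ hx hy => rw [mul_assoc, hx, hy, hx, mul_assoc]
  | inv x _ hx =>
    have key : ∀ h, par (x⁻¹ * h) = par x * par h := fun h => by
      have := hx (x⁻¹ * h)
      rw [mul_inv_cancel_left] at this
      rw [this, ← mul_assoc, Int.units_mul_self, one_mul]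
    have h1 := key 1
    rw [mul_one, par_one, mul_one] at h1
    rw [key, h1]

/-- When `g - 1` has totally singular image, that image has even dimension. -/
theorem even_of_singular {g : Cfsg.isometryGroup F ⇑Q} (hs : ∀ x ∈ imSp g, Q x = 0) :
    Even (Fintype.card ι - Module.finrank F ↥(fixSp g)) := by
  obtain ⟨C, hC⟩ := exists_isCompl (fixSp g)
  let w : LinearMap.BilinForm F C :=
    LinearMap.compl₁₂ (polB Q) ((act g - LinearMap.id) ∘ₗ C.subtype) C.subtype
  have hw : ∀ a b : C, w a b = QuadraticMap.polar Q (act g (a : ι → F) - a) b := fun a b => rfl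
  have halt : w.IsAlt := fun a => by
    rw [hw]
    have h1 := hs (act g (a : ι → F) - a) ⟨a, rfl⟩
    have h2 := act_map g (a : ι → F)
    rw [show act g (a : ι → F) = (act g (a : ι → F) - a) + a by abel, QuadraticMap.map_add Q,
      h1, zero_add] at h2
    linear_combination h2
  have hnd : w.Nondegenerate := by
    have hsep : w.SeparatingRight := fun b hb => by
      have hbf : (b : ι → F) ∈ fixSp g := by
        rw [← imSp_orth hQ g]
        refine mem_orth.2 ?_
        rintro _ ⟨x, rfl⟩
        obtain ⟨f, hf, a, ha, rfl⟩ := Submodule.mem_sup.1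
          (show x ∈ fixSp g ⊔ C by rw [hC.sup_eq_top]; trivial)
        have := hb ⟨a, ha⟩
        rw [hw] at this
        rw [LinearMap.sub_apply, LinearMap.id_apply, map_add, mem_fixSp.1 hf,
          add_sub_add_left_eq_sub]
        exact this
      exact Subtype.ext (Submodule.disjoint_def.1 hC.disjoint _ hbf b.2)
    refine ⟨fun a ha => hsep a fun b => ?_, hsep⟩
    rw [← LinearMap.IsAlt.neg (show w.IsAlt from halt) a b, ha b, neg_zero]
  obtain ⟨k, hk⟩ := even_finrank_of_alt w halt hnd
  have := Submodule.finrank_add_eq_of_isCompl hC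
  rw [Module.finrank_pi] at this
  exact ⟨k, by omega⟩

/-- **Cartan–Dieudonné.** The isometry group is generated by the reflections, except for
dimension four over the field with two elements. -/
theorem refGroup_eq_top [Fintype F] (h : Fintype.card F ≠ 2 ∨ Fintype.card ι ≠ 4) :
    refGroup Q = ⊤ := by
  classical
  rw [eq_top_iff]
  intro g _
  induction hn : Fintype.card ι - Module.finrank F ↥(fixSp g) using Nat.strong_induction_on
    generalizing g with
  | _ n ih =>
    have hfl : ∀ g : Cfsg.isometryGroup F ⇑Q, Module.finrank F ↥(fixSp g) ≤ Fintype.card ι :=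
      fun g => (Submodule.finrank_le _).trans (Module.finrank_pi F).le
    have hrmem : ∀ {v : ι → F}, Q v ≠ 0 → reflect Q v ∈ refGroup Q := fun {v} hv =>
      Subgroup.subset_closure ⟨v, hv, rfl⟩
    have step : ∀ g' : Cfsg.isometryGroup F ⇑Q,
        Module.finrank F ↥(fixSp g) < Module.finrank F ↥(fixSp g') → g' ∈ refGroup Q := fun g' hlt =>
      ih (Fintype.card ι - Module.finrank F ↥(fixSp g')) (by have := hfl g'; omega)
        (Subgroup.mem_top g') rfl
    have back : ∀ {v : ι → F} {g : Cfsg.isometryGroup F ⇑Q}, Q v ≠ 0 →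
        reflect Q v * g ∈ refGroup Q → g ∈ refGroup Q := fun {v g} hv hg => by
      have := mul_mem (hrmem hv) hg
      rwa [← mul_assoc, reflect_sq, one_mul] at this
    by_cases h0 : n = 0
    · have h1 : fixSp g = ⊤ := Submodule.eq_top_of_finrank_eq (by
        rw [Module.finrank_pi]; have := hfl g; omega)
      have : g = 1 := iso_ext fun x => by
        rw [← act_apply, ← act_apply, act_one]
        exact mem_fixSp.1 (h1 ▸ Submodule.mem_top)
      rw [this]; exact one_mem _
    by_cases hani : ∃ v ∈ imSp g, Q v ≠ 0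
    · obtain ⟨v, hvm, hv⟩ := hani
      have h2 := (fix_reflect_of_mem hQ hv hvm).2
      have := hfl (reflect Q v * g)
      exact back hv (step _ (by omega))
    push Not at hani
    -- `S = imSp g` is totally singular
    set S := imSp g with hS
    obtain ⟨k, hk⟩ := even_of_singular hQ hani
    have hSk : Module.finrank F S = n := by
      have := finrank_imSp hQ g
      rw [← hS] at this
      omega
    have hSS : S ≤ (polB Q).orthogonal S := fun x hx => mem_orth.2 fun w hw => by
      simp [QuadraticMap.polar, hani _ (S.add_mem hw hx), hani _ hx, hani _ hw]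
    obtain ⟨v, hv, hW0⟩ : ∃ v, Q v ≠ 0 ∧
        3 ≤ Nat.card ↥(S ⊓ LinearMap.ker (polB Q v)) := by
      have hcard : ∀ W : Submodule F (ι → F),
          Nat.card W = Fintype.card F ^ Module.finrank F W := fun W => by
        rw [Module.natCard_eq_pow_finrank (K := F), Nat.card_eq_fintype_card]
      have hq2 : 2 ≤ Fintype.card F := Fintype.one_lt_card
      by_cases hsmall : Fintype.card F = 2 ∧ n = 2
      · obtain ⟨hq, hn2⟩ := hsmall
        obtain ⟨v, hvS, hv⟩ : ∃ v ∈ (polB Q).orthogonal S, Q v ≠ 0 := by
          by_contra hall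
          push Not at hall
          have hle : (polB Q).orthogonal S ≤ S := by
            calc (polB Q).orthogonal S
                ≤ (polB Q).orthogonal ((polB Q).orthogonal S) := fun x hx => mem_orth.2 fun w hw => by
                  simp [QuadraticMap.polar, hall _ (((polB Q).orthogonal S).add_mem hw hx),
                    hall _ hx, hall _ hw]
              _ = S := LinearMap.BilinForm.orthogonal_orthogonal (B := polB Q) hQ polB_refl S
          have h1 := Submodule.finrank_mono hle
          have h2 := Submodule.finrank_mono hSS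
          rw [finrank_orth hQ] at h1 h2
          rcases h with h | h
          · exact h hq
          · omega
        refine ⟨v, hv, ?_⟩
        have : S ⊓ LinearMap.ker (polB Q v) = S := inf_eq_left.2 fun x hx => by
          rw [LinearMap.mem_ker, polB_apply, QuadraticMap.polar_comm]
          exact mem_orth.1 hvS x hx
        rw [this, hcard, hSk, hn2, hq]
        norm_num
      · obtain ⟨v, hv⟩ : ∃ v, Q v ≠ 0 := by
          by_contra hall
          push Not at hall
          have h2 : fixSp g = ⊤ := eq_top_iff.2 fun x _ => by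
            have : x = 0 := hQ.1 x fun y => by
              simp [QuadraticMap.polar, hall]
            rw [this]; exact zero_mem _
          rw [h2, finrank_top, Module.finrank_pi] at hn
          omega
        refine ⟨v, hv, ?_⟩
        rw [hcard]
        have h3 := finrank_inf_ker_ge hQ S v
        set d := Module.finrank F ↥(S ⊓ LinearMap.ker (polB Q v))
        rcases Nat.lt_or_ge 2 (Fintype.card F) with hq | hq
        · exact le_trans hq (Nat.le_self_pow (by omega) _)
        · have hq' : Fintype.card F = 2 := by omega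
          have : n ≠ 2 := fun hh => hsmall ⟨hq', hh⟩
          rw [hq']
          calc (3 : ℕ) ≤ 2 ^ 2 := by norm_num
            _ ≤ 2 ^ d := Nat.pow_le_pow_right (by norm_num) (by omega)
    have hvm : v ∉ S := fun hm => hv (hani v hm)
    obtain ⟨hfeq, hfk⟩ := fix_reflect_of_not_mem hQ hv hvm
    set g' := reflect Q v * g with hg'
    have hSle : S ≤ imSp g' := by
      rw [hS, imSp_eq hQ, imSp_eq hQ]
      exact LinearMap.BilinForm.orthogonal_le (hfeq ▸ inf_le_left)
    have hvle : v ∈ imSp g' := by
      rw [imSp_eq hQ]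
      refine mem_orth.2 fun f hf => ?_
      rw [hfeq] at hf
      rw [QuadraticMap.polar_comm]
      exact LinearMap.mem_ker.1 (Submodule.mem_inf.1 hf).2
    have hv0 : v ≠ 0 := fun hh => hv (by rw [hh, QuadraticMap.map_zero])
    have hIm' : imSp g' = S ⊔ Submodule.span F {v} := by
      refine (Submodule.eq_of_le_of_finrank_eq
        (sup_le hSle ((Submodule.span_singleton_le_iff_mem _ _).2 hvle)) ?_).symm
      have h1 := Submodule.finrank_sup_add_finrank_inf_eq S (Submodule.span F {v})
      rw [disjoint_iff.1 ((Submodule.disjoint_span_singleton' hv0).2 hvm), finrank_bot,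
        finrank_span_singleton hv0] at h1
      have := finrank_imSp hQ g'
      have := hfl g
      omega
    -- the second totally singular candidate
    obtain ⟨τ, hτv, hτS⟩ : ∃ τ : Module.Dual F (ι → F), τ v = 1 ∧ ∀ u ∈ S, τ u = 0 := by
      obtain ⟨τ, hτ, hτS⟩ := Submodule.exists_le_ker_of_notMem hvm
      exact ⟨(τ v)⁻¹ • τ, by simp [hτ],
        fun u hu => by simp [LinearMap.mem_ker.1 (hτS hu)]⟩
    set S2 := (S ⊔ Submodule.span F {v}) ⊓ LinearMap.ker (polB Q v - Q v • τ) with hS2
    have hS2k : Module.finrank F S2 ≤ n := by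
      have hlt : S2 < S ⊔ Submodule.span F {v} := by
        refine lt_of_le_of_ne inf_le_left fun hh => hv ?_
        have hmem : v ∈ S2 := hh.symm ▸ Submodule.mem_sup_right (Submodule.mem_span_singleton_self v)
        have := LinearMap.mem_ker.1 (Submodule.mem_inf.1 hmem).2
        simpa [polB_apply, hτv, two_mul] using this
      have h1 := Submodule.finrank_lt_finrank_of_lt hlt
      rw [← hIm'] at h1
      have := finrank_imSp hQ g'
      omega
    have hsing : ∀ T : Submodule F (ι → F), T ≤ S ⊔ Submodule.span F {v} → (∀ x ∈ T, Q x = 0) →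
        T ≤ S ∨ T ≤ S2 := by
      intro T hT hTs
      have hor : ∀ z ∈ T, z ∈ S ∨ z ∈ S2 := fun z hz => by
        obtain ⟨u, hu, b, hb, hz'⟩ := Submodule.mem_sup.1 (hT hz)
        obtain ⟨t, rfl⟩ := Submodule.mem_span_singleton.1 hb
        rcases eq_or_ne t 0 with ht | ht
        · left; rw [← hz', ht]; simpa using hu
        · right
          refine Submodule.mem_inf.2 ⟨hT hz, ?_⟩
          have h1 := hTs z hz
          rw [← hz', QuadraticMap.map_add Q, hani u hu, QuadraticMap.map_smul,
            QuadraticMap.polar_smul_right, smul_eq_mul, smul_eq_mul, zero_add] at h1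
          rw [LinearMap.mem_ker, ← hz']
          simp [polB_apply, hτS u hu, hτv]
          have h2 : t * (t * Q v + QuadraticMap.polar Q u v) = 0 := by linear_combination h1
          rw [QuadraticMap.polar_comm _ v u]
          linear_combination (mul_eq_zero.1 h2).resolve_left ht
      by_contra hcon
      push Not at hcon
      obtain ⟨⟨a, ha, ha'⟩, ⟨b, hb, hb'⟩⟩ :=
        hcon.imp SetLike.not_le_iff_exists.1 SetLike.not_le_iff_exists.1
      have ha2 := (hor a ha).resolve_left ha'
      have hb2 := (hor b hb).resolve_right hb'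
      rcases hor _ (T.add_mem ha hb) with hh | hh
      · exact ha' ((S.add_mem_iff_left hb2).1 hh)
      · exact hb' ((S2.add_mem_iff_right ha2).1 hh)
    -- one of three second reflections works
    let W0 := S ⊓ LinearMap.ker (polB Q v)
    have hw : ∀ u : W0, Q (v + u) ≠ 0 ∧ v + (u : ι → F) ∈ imSp g' := fun u => by
      obtain ⟨hu1, hu2⟩ := Submodule.mem_inf.1 u.2
      rw [LinearMap.mem_ker, polB_apply] at hu2
      refine ⟨by rw [QuadraticMap.map_add Q, hani _ hu1, hu2, add_zero, add_zero]; exact hv, ?_⟩
      rw [hIm']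
      exact Submodule.add_mem _ (Submodule.mem_sup_right (Submodule.mem_span_singleton_self v))
        (Submodule.mem_sup_left hu1)
    obtain ⟨u, hu⟩ : ∃ u : W0, ∃ x ∈ imSp (reflect Q (v + u) * g'), Q x ≠ 0 := by
      by_contra hall
      push Not at hall
      let T : W0 → Submodule F (ι → F) := fun u => imSp (reflect Q (v + u) * g')
      have hTd : ∀ u, T u = S ∨ T u = S2 := fun u => by
        obtain ⟨hle, hrk⟩ := fix_reflect_of_mem hQ (hw u).1 (hw u).2
        have hT : T u ≤ S ⊔ Submodule.span F {v} := by
          rw [← hIm', imSp_eq hQ g']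
          show imSp (reflect Q (v + u) * g') ≤ _
          rw [imSp_eq hQ]
          exact LinearMap.BilinForm.orthogonal_le hle
        have hd : Module.finrank F ↥(T u) = n := by
          have := finrank_imSp hQ (reflect Q (v + u) * g')
          have := hfl g
          show Module.finrank F ↥(imSp (reflect Q (v + u) * g')) = n
          omega
        rcases hsing (T u) hT (fun x hx => hall u x hx) with hh | hh
        · exact Or.inl (Submodule.eq_of_le_of_finrank_eq hh (by rw [hd, hSk]))
        · exact Or.inr (Submodule.eq_of_le_of_finrank_le hh (hd.symm ▸ hS2k))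
      have hinj : Function.Injective T := fun u u' huu => by
        obtain ⟨x, hx⟩ := (hw u).2
        obtain ⟨x', hx'⟩ := (hw u').2
        rw [LinearMap.sub_apply, LinearMap.id_apply] at hx hx'
        obtain ⟨hle, hrk⟩ := fix_reflect_of_mem hQ (hw u).1 (hw u).2
        have hfix : fixSp (reflect Q (v + u) * g') = fixSp (reflect Q (v + u') * g') := by
          rw [← imSp_orth hQ, ← imSp_orth hQ]
          exact congrArg _ huu
        have hx0 : x ∉ fixSp g' := fun hh => (hw u).1 (by
          rw [← hx, mem_fixSp.1 hh, sub_self, QuadraticMap.map_zero])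
        have hspan : fixSp g' ⊔ Submodule.span F {x} = fixSp (reflect Q (v + u) * g') := by
          refine Submodule.eq_of_le_of_finrank_le (sup_le hle
            ((Submodule.span_singleton_le_iff_mem _ _).2
              (mem_fixSp.2 (fixed_of_image hQ (hw u).1 hx)))) ?_
          rw [hrk]
          exact Submodule.finrank_lt_finrank_of_lt (lt_of_le_of_ne le_sup_left fun hh =>
            hx0 (hh.symm ▸ Submodule.mem_sup_right (Submodule.mem_span_singleton_self x)))
        have hx'mem : x' ∈ fixSp g' ⊔ Submodule.span F {x} := by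
          rw [hspan, hfix]
          exact mem_fixSp.2 (fixed_of_image hQ (hw u').1 hx')
        obtain ⟨f, hf, z, hz, rfl⟩ := Submodule.mem_sup.1 hx'mem
        obtain ⟨c, rfl⟩ := Submodule.mem_span_singleton.1 hz
        have hcw : c • (v + (u : ι → F)) = v + (u' : ι → F) := by
          rw [← hx, ← hx', map_add, map_smul, mem_fixSp.1 hf]
          module
        have hc : c = 1 := by
          by_contra hne
          refine hvm ?_
          have h1 : (c - 1) • v = (u' : ι → F) - c • (u : ι → F) := by
            linear_combination (norm := module) hcw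
          have h2 : (c - 1) • v ∈ S := h1 ▸ S.sub_mem (Submodule.mem_inf.1 u'.2).1
            (S.smul_mem _ (Submodule.mem_inf.1 u.2).1)
          simpa [sub_ne_zero.2 hne] using S.smul_mem (c - 1)⁻¹ h2
        rw [hc, one_smul] at hcw
        exact Subtype.ext (add_left_cancel hcw)
      have hle2 : Nat.card W0 ≤ Nat.card ({S, S2} : Set (Submodule F (ι → F))) :=
        Nat.card_le_card_of_injective (fun u => ⟨T u, hTd u⟩)
          fun a b hab => hinj (congrArg Subtype.val hab)
      have : Nat.card ({S, S2} : Set (Submodule F (ι → F))) ≤ 2 :=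
        (Set.ncard_insert_le _ _).trans (by rw [Set.ncard_singleton])
      have : Nat.card W0 = Nat.card ↥(S ⊓ LinearMap.ker (polB Q v)) := rfl
      omega
    obtain ⟨x, hxm, hx⟩ := hu
    obtain ⟨hle, hrk⟩ := fix_reflect_of_mem hQ (hw u).1 (hw u).2
    have h2 := (fix_reflect_of_mem hQ hx hxm).2
    have h5 := hfl g
    refine back hv (back (hw u).1 (back hx (step _ ?_)))
    rw [← hg']
    omega

theorem par_mul_all [Fintype F] (h : Fintype.card F ≠ 2 ∨ Fintype.card ι ≠ 4)
    (g g' : Cfsg.isometryGroup F ⇑Q) : par (g * g') = par g * par g' :=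
  par_mul hQ (refGroup_eq_top hQ h ▸ Subgroup.mem_top g) g'

end Cfsg.Agent.Forms.Reflections
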