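import Mathlib
import Cfsg.Agent.Lib.Forms.Bases

/-!
The discriminant of a symmetric bilinear form over a finite field of odd characteristic:
classification, and the criterion for a Lagrangian subspace.
-/

set_option autoImplicit false

namespace Cfsg.Agent.Forms.Disc

open Module Cfsg.Agent.Forms.Bases

variable {F V : Type*} [Field F] [AddCommGroup V] [Module F V]

/-- The Gram matrix. -/
def gram {ι : Type*} (B : LinearMap.BilinForm F V) (b : ι → V) : Matrix ι ι F :=
  Matrix.of fun i j => B (b i) (b j)

theorem det_gram_ne_zero {ι : Type*} [Fintype ι] [DecidableEq ι] {B : LinearMap.BilinForm F V}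
    (hB : B.Nondegenerate) (b : Basis ι F V) : (gram B b).det ≠ 0 := by
  have h : gram B b = LinearMap.BilinForm.toMatrix b B := by
    ext i j; simp [gram, LinearMap.BilinForm.toMatrix_apply]
  rw [h]
  exact (LinearMap.BilinForm.nondegenerate_iff_det_ne_zero b).1 hB

/-- Changing the basis changes the determinant of the Gram matrix by a square. -/
theorem det_gram_change {ι κ : Type*} [Fintype ι] [DecidableEq ι] [Fintype κ] [DecidableEq κ]
    (B : LinearMap.BilinForm F V) (b : Basis ι F V) (c : Basis κ F V) :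
    ∃ d : F, d ≠ 0 ∧ (gram B c).det = d * d * (gram B b).det := by
  classical
  let e : ι ≃ κ := b.indexEquiv c
  let c' := c.reindex e.symm
  have h1 : (gram B c).det = (gram B c').det := by
    have : gram B c' = (gram B c).submatrix e e := by
      ext i j; simp [gram, c']
    rw [this, Matrix.det_submatrix_equiv_self]
  refine ⟨(b.toMatrix c').det, ?_, ?_⟩
  · exact (isUnit_iff_ne_zero).1 ((Matrix.isUnit_iff_isUnit_det _).1
      (Units.isUnit ⟨b.toMatrix c', c'.toMatrix b, b.toMatrix_mul_toMatrix_flip c',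
        c'.toMatrix_mul_toMatrix_flip b⟩))
  · rw [h1]
    have h2 : ∀ b : Basis ι F V, gram B b = LinearMap.BilinForm.toMatrix b B := fun b => by
      ext i j; simp [gram, LinearMap.BilinForm.toMatrix_apply]
    rw [h2, h2, ← LinearMap.BilinForm.toMatrix_mul_basis_toMatrix b c' B, Matrix.det_mul, Matrix.det_mul,
      Matrix.det_transpose]
    ring

/-- A linear equivalence that preserves the pairings of two bases is an isometry. -/
theorem isometry_of_bases {V' : Type*} [AddCommGroup V'] [Module F V'] {ι : Type*} [Fintype ι]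
    (B : LinearMap.BilinForm F V) (B' : LinearMap.BilinForm F V') (b : Basis ι F V)
    (b' : Basis ι F V') (h : ∀ i j, B' (b' i) (b' j) = B (b i) (b j)) (u v : V) :
    B' ((b.equiv b' (Equiv.refl ι)) u) ((b.equiv b' (Equiv.refl ι)) v) = B u v := by
  set e := b.equiv b' (Equiv.refl ι)
  have : (B'.compl₁₂ e.toLinearMap e.toLinearMap) = B :=
    LinearMap.ext_basis b b fun i j => by simp [e, h]
  exact congrArg (fun C : LinearMap.BilinForm F V => C u v) this

/-- An orthogonal family with values `(1, …, 1, c)` is a basis with Gram determinant `c`. -/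
theorem exists_diag_basis [FiniteDimensional F V] (C : LinearMap.BilinForm F V) {n : ℕ}
    (w : Fin (n + 1) → V) (hU : finrank F V = n + 1) (ho : ∀ i j, i ≠ j → C (w i) (w j) = 0)
    (h1 : ∀ i, i ≠ Fin.last n → C (w i) (w i) = 1)
    (hl : C (w (Fin.last n)) (w (Fin.last n)) ≠ 0) :
    ∃ c : Basis (Fin (n + 1)) F V, ⇑c = w ∧
      (gram C c).det = C (w (Fin.last n)) (w (Fin.last n)) := by
  have hne : ∀ i, C (w i) (w i) ≠ 0 := fun i => by
    by_cases hi : i = Fin.last n
    · rw [hi]; exact hl
    · simp [h1 i hi]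
  set c := basisOfLinearIndependentOfCardEqFinrank' w (linearIndependent_of_orth ho hne)
    (by simp [hU]) with hc
  have hcw : ⇑c = w := by simp [hc]
  refine ⟨c, hcw, ?_⟩
  have : gram C c = Matrix.diagonal fun i => C (w i) (w i) := by
    ext i j
    rcases eq_or_ne i j with rfl | hij
    · simp [gram, hcw]
    · simp [gram, hcw, hij, ho i j hij]
  rw [this, Matrix.det_diagonal, Fin.prod_univ_castSucc]
  simp [h1 _ (Fin.castSucc_ne_last _)]

/-- Two non-degenerate symmetric forms of one dimension whose discriminants agree are isometric. -/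
theorem exists_isometry [Finite F] (h2 : (2 : F) ≠ 0) [FiniteDimensional F V]
    {V' : Type*} [AddCommGroup V'] [Module F V'] [FiniteDimensional F V']
    (B : LinearMap.BilinForm F V) (hS : B.IsSymm) (hB : B.Nondegenerate)
    (B' : LinearMap.BilinForm F V') (hS' : B'.IsSymm) (hB' : B'.Nondegenerate)
    (hn : finrank F V = finrank F V') {ι κ : Type*} [Fintype ι] [DecidableEq ι] [Fintype κ]
    [DecidableEq κ] (b : Basis ι F V) (b' : Basis κ F V')
    (hd : IsSquare ((gram B b).det * (gram B' b').det)) :
    ∃ e : V ≃ₗ[F] V', ∀ u v, B' (e u) (e v) = B u v := by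
  classical
  rcases Nat.eq_zero_or_pos (finrank F V) with h0 | hpos
  · have : Subsingleton V := finrank_zero_iff.1 h0
    refine ⟨LinearEquiv.ofFinrankEq V V' hn, fun u v => ?_⟩
    rw [Subsingleton.elim u 0, Subsingleton.elim v 0]; simp
  obtain ⟨n, hn1⟩ : ∃ n, finrank F V = n + 1 := ⟨finrank F V - 1, by omega⟩
  cases nonempty_fintype F
  obtain ⟨α, hα⟩ := FiniteField.exists_nonsquare (F := F) (fun h => h2 (by
    have : CharP F 2 := h ▸ ringChar.charP F
    exact CharTwo.two_eq_zero))
  have hα0 : α ≠ 0 := fun h => hα (h ▸ ⟨0, by simp⟩)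
  obtain ⟨v, -, hvo, hv1, hvl⟩ := exists_symm_normal h2 B hS α hα ⊤ (nondegOn_top hB.1)
    (by rw [finrank_top]; exact hn1)
  obtain ⟨v', -, hvo', hv1', hvl'⟩ := exists_symm_normal h2 B' hS' α hα ⊤ (nondegOn_top hB'.1)
    (by rw [finrank_top]; exact hn.symm.trans hn1)
  obtain ⟨c, hc, hcd⟩ := exists_diag_basis B v hn1 hvo hv1
    (by rcases hvl with h | h <;> simp [h, hα0])
  obtain ⟨c', hc', hcd'⟩ := exists_diag_basis B' v' (hn.symm.trans hn1) hvo' hv1'
    (by rcases hvl' with h | h <;> simp [h, hα0])
  have hlast : B (v (Fin.last n)) (v (Fin.last n)) = B' (v' (Fin.last n)) (v' (Fin.last n)) := by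
    obtain ⟨d, hd0, hdd⟩ := det_gram_change B b c
    obtain ⟨d', hd0', hdd'⟩ := det_gram_change B' b' c'
    rw [hcd] at hdd
    rw [hcd'] at hdd'
    obtain ⟨s, hs⟩ := hd
    have hsq : IsSquare (B (v (Fin.last n)) (v (Fin.last n)) *
        B' (v' (Fin.last n)) (v' (Fin.last n))) :=
      ⟨d * d' * s, by rw [hdd, hdd']; linear_combination (d * d * d' * d') * hs⟩
    rcases hvl with h | h <;> rcases hvl' with h' | h' <;> rw [h, h'] <;> rw [h, h'] at hsq
    · exact absurd (by simpa using hsq) hα
    · exact absurd (by simpa using hsq) hα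
  refine ⟨c.equiv c' (Equiv.refl _), isometry_of_bases B B' c c' fun i j => ?_⟩
  rw [hc, hc']
  rcases eq_or_ne i j with rfl | hij
  · by_cases hi : i = Fin.last n
    · rw [hi, hlast]
    · rw [hv1 i hi, hv1' i hi]
  · rw [hvo i j hij, hvo' i j hij]

theorem det_swap_blocks (m : ℕ) :
    (Matrix.fromBlocks (0 : Matrix (Fin m) (Fin m) F) (1 : Matrix (Fin m) (Fin m) F)
      (1 : Matrix (Fin m) (Fin m) F) (0 : Matrix (Fin m) (Fin m) F)).det = (-1) ^ m := by
  have h : Matrix.fromBlocks (0 : Matrix (Fin m) (Fin m) F) (1 : Matrix (Fin m) (Fin m) F)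
      (1 : Matrix (Fin m) (Fin m) F) (0 : Matrix (Fin m) (Fin m) F) =
      (Matrix.fromBlocks 1 1 0 1 * Matrix.fromBlocks 1 0 (-1) 1 * Matrix.fromBlocks 1 1 0 1) *
        Matrix.fromBlocks (-1) 0 0 1 := by
    simp [Matrix.fromBlocks_multiply]
  rw [h, Matrix.det_mul, Matrix.det_mul, Matrix.det_mul]
  simp [Matrix.det_neg]

/-- A non-degenerate symmetric form of dimension `2m` has a totally isotropic subspace of
dimension `m` exactly when `(-1)^m` times the discriminant is a square. -/
theorem exists_lagrangian_iff [Finite F] (h2 : (2 : F) ≠ 0) [FiniteDimensional F V]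
    (B : LinearMap.BilinForm F V) (hS : B.IsSymm) (hB : B.Nondegenerate) {m : ℕ}
    (hn : finrank F V = 2 * m) {ι : Type*} [Fintype ι] [DecidableEq ι] (b : Basis ι F V) :
    (∃ X : Submodule F V, finrank F X = m ∧ ∀ x ∈ X, ∀ y ∈ X, B x y = 0) ↔
      IsSquare ((-1 : F) ^ m * (gram B b).det) := by
  constructor
  · rintro ⟨X, hX, hXX⟩
    obtain ⟨C, hC⟩ := exists_isCompl X
    have hCd : finrank F C = m := by
      have := Submodule.finrank_add_eq_of_isCompl hC
      omega
    let bX := (finBasisOfFinrankEq F X hX)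
    let bC := (finBasisOfFinrankEq F C hCd)
    let c : Basis (Fin m ⊕ Fin m) F V := (bX.prod bC).map (X.prodEquivOfIsCompl C hC)
    have hcl : ∀ i, c (Sum.inl i) = (bX i : V) := fun i => by simp [c]
    have hcr : ∀ i, c (Sum.inr i) = (bC i : V) := fun i => by simp [c]
    set A : Matrix (Fin m) (Fin m) F := Matrix.of fun i j => B (bX i : V) (bC j : V)
    set D : Matrix (Fin m) (Fin m) F := Matrix.of fun i j => B (bC i : V) (bC j : V)
    have hg : gram B c = Matrix.fromBlocks 0 A A.transpose D := by
      ext (i | i) (j | j)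
      · simp [gram, hcl, hXX _ (bX i).2 _ (bX j).2]
      · simp [gram, hcl, hcr, A]
      · simp [gram, hcl, hcr, A, hS.eq (bC i : V) (bX j : V)]
      · simp [gram, hcr, D]
    have hdet : (gram B c).det * (-1) ^ m = A.det * A.det := by
      rw [hg, ← det_swap_blocks (F := F) m, ← Matrix.det_mul, Matrix.fromBlocks_multiply]
      simp
    obtain ⟨d, hd0, hd⟩ := det_gram_change B c b
    exact ⟨d * A.det, by rw [hd]; linear_combination (d * d) * hdet⟩
  · intro hsq
    let P : Matrix (Fin m ⊕ Fin m) (Fin m ⊕ Fin m) F := Matrix.fromBlocks 0 1 1 0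
    let H : LinearMap.BilinForm F (Fin m ⊕ Fin m → F) := Matrix.toBilin' P
    have hPd : P.det = (-1) ^ m := det_swap_blocks m
    have hHB : H.Nondegenerate :=
      LinearMap.BilinForm.nondegenerate_toBilin'_iff_det_ne_zero.2 (by simp [hPd])
    have hHe : ∀ i j, H (Pi.single i 1) (Pi.single j 1) = P i j := fun i j => by
      simp [H, Matrix.toBilin'_single]
    have hHS : H.IsSymm := by
      refine ⟨fun u v => ?_⟩
      have : H.flip = H := LinearMap.ext_basis (Pi.basisFun F _) (Pi.basisFun F _) fun i j => by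
        simp only [Pi.basisFun_apply]
        show H (Pi.single j 1) (Pi.single i 1) = H (Pi.single i 1) (Pi.single j 1)
        rw [hHe, hHe]
        rcases i with i | i <;> rcases j with j | j <;> simp [P, Matrix.one_apply, eq_comm]
      exact (congrArg (fun C : LinearMap.BilinForm F _ => C v u) this)
    have hgram : gram H (Pi.basisFun F (Fin m ⊕ Fin m)) = P := by
      ext i j; simp [gram, hHe]
    obtain ⟨e, he⟩ := exists_isometry h2 H hHS hHB B hS hB (by simp [hn]; ring)
      (Pi.basisFun F _) b (by rw [hgram, hPd]; exact hsq)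
    let v : Fin m → V := fun i => e (Pi.single (Sum.inl i) 1)
    have hv : LinearIndependent F v := by
      have h : v = e.toLinearMap ∘ (Pi.basisFun F (Fin m ⊕ Fin m)) ∘ Sum.inl :=
        funext fun i => by simp [v]
      rw [h]
      exact ((Pi.basisFun F (Fin m ⊕ Fin m)).linearIndependent.comp _ Sum.inl_injective).map'
        e.toLinearMap e.ker
    refine ⟨Submodule.span F (Set.range v), by rw [finrank_span_eq_card hv]; simp, ?_⟩
    intro x hx y hy
    have hx' : ∀ j, B x (v j) = 0 := by
      intro j
      induction hx using Submodule.span_induction with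
      | mem z hz =>
        obtain ⟨i, rfl⟩ := hz
        simp [v, he, hHe, P]
      | zero => simp
      | add a b _ _ ha hb => simp [ha, hb]
      | smul a z _ hz => simp [hz]
    induction hy using Submodule.span_induction with
    | mem z hz => obtain ⟨j, rfl⟩ := hz; exact hx' j
    | zero => simp
    | add a b _ _ ha hb => simp [ha, hb]
    | smul a z _ hz => simp [hz]

end Cfsg.Agent.Forms.Disc
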