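import Mathlib
import Cfsg.Agent.Lib.Forms.Reflections
import Cfsg.Agent.Lib.Forms.Disc

/-!
The spinor character (as the sign of the permutation of a level set of the form), the abelianisation
of the isometry group over a finite field.
-/

set_option autoImplicit false

namespace Cfsg.Agent.Forms.Spinor

open Matrix Cfsg.Agent.Forms.QuadStd Cfsg.Agent.Forms.Reflections

variable {F : Type*} [Field F] {ι : Type} [Fintype ι] [DecidableEq ι]
variable {Q : QuadraticForm F (ι → F)}

theorem act_inv_cancel (g : Cfsg.isometryGroup F ⇑Q) (x : ι → F) : act g⁻¹ (act g x) = x := by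
  rw [← act_mul, inv_mul_cancel, act_one]

theorem reflect_conj (g : Cfsg.isometryGroup F ⇑Q) (v : ι → F) :
    g * reflect Q v * g⁻¹ = reflect Q (act g v) := by
  rw [mul_inv_eq_iff_eq_mul]
  refine iso_ext fun x => ?_
  rw [← act_apply, ← act_apply, act_mul, act_mul, act_reflect, act_reflect, map_sub, map_smul,
    act_map, act_polar]

theorem reflect_smul (v : ι → F) {t : F} (ht : t ≠ 0) : reflect Q (t • v) = reflect Q v := by
  refine iso_ext fun x => ?_
  rw [← act_apply, ← act_apply, act_reflect, act_reflect, QuadraticMap.map_smul,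
    QuadraticMap.polar_smul_left, smul_eq_mul, smul_eq_mul]
  by_cases hv : Q v = 0
  · simp [hv]
  match_scalars <;> field_simp

theorem reflect_mem_refGroup {v : ι → F} (hv : Q v ≠ 0) : reflect Q v ∈ refGroup Q :=
  Subgroup.subset_closure ⟨v, hv, rfl⟩

/-- Reflections with values in one square class are conjugate by a reflection (odd characteristic). -/
theorem exists_reflect_conj (h2 : (2 : F) ≠ 0) {a b : ι → F} (ha : Q a ≠ 0) (hb : Q b ≠ 0)
    (h : IsSquare (Q a / Q b)) :
    ∃ w, Q w ≠ 0 ∧ reflect Q b = reflect Q w * reflect Q a * reflect Q w := by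
  obtain ⟨t, ht⟩ := h
  have ht0 : t ≠ 0 := fun h0 => div_ne_zero ha hb (by rw [ht, h0, mul_zero])
  set b' := t • b with hb'
  have hQb' : Q b' = Q a := by
    rw [hb', QuadraticMap.map_smul, smul_eq_mul, ← ht, div_mul_cancel₀ _ hb]
  have hinv : ∀ w : ι → F, (reflect Q w)⁻¹ = reflect Q w := fun w =>
    inv_eq_of_mul_eq_one_right (reflect_sq w)
  have key : ∀ s : F, s * s = 1 → Q (a - s • b') ≠ 0 →
      ∃ w, Q w ≠ 0 ∧ reflect Q b = reflect Q w * reflect Q a * reflect Q w := by
    intro s hs hne
    have hs0 : s ≠ 0 := fun h0 => by simp [h0] at hs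
    refine ⟨a - s • b', hne, ?_⟩
    have himg : act (reflect Q (a - s • b')) a = s • b' := by
      have hexp : Q (a - s • b') = QuadraticMap.polar Q (a - s • b') a := by
        simp only [sub_eq_add_neg, ← neg_smul, QuadraticMap.map_add Q, QuadraticMap.map_smul,
          QuadraticMap.polar_add_left, QuadraticMap.polar_smul_left, QuadraticMap.polar_smul_right,
          QuadraticMap.polar_self, QuadraticMap.polar_comm _ b' a, hQb', smul_eq_mul,
          nsmul_eq_mul]
        push_cast
        linear_combination Q a * hs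
      rw [act_reflect, ← hexp, inv_mul_cancel₀ hne, one_smul, sub_sub_cancel]
    have := reflect_conj (reflect Q (a - s • b')) a
    rw [himg, hinv, reflect_smul _ hs0, hb', reflect_smul _ ht0] at this
    exact this.symm
  by_cases h1 : Q (a - (1 : F) • b') = 0
  · refine key (-1) (by ring) fun h3 => ?_
    have hsum : Q (a - (1 : F) • b') + Q (a - (-1 : F) • b') = (2 * 2) * Q a := by
      simp only [sub_eq_add_neg, ← neg_smul, QuadraticMap.map_add Q, QuadraticMap.map_smul,
        QuadraticMap.polar_smul_right, hQb', smul_eq_mul]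
      ring
    rw [h1, h3, add_zero] at hsum
    exact mul_ne_zero (mul_ne_zero h2 h2) ha hsum.symm
  · exact key 1 (by ring) h1

/-- In characteristic two any two reflections are conjugate. -/
theorem exists_conj_char_two [Finite F] [CharP F 2] (hQ : (QuadraticMap.polarBilin Q).Nondegenerate)
    {a b : ι → F} (ha : Q a ≠ 0) (hb : Q b ≠ 0) :
    ∃ g : Cfsg.isometryGroup F ⇑Q, reflect Q b = g * reflect Q a * g⁻¹ := by
  cases nonempty_fintype F
  obtain ⟨s, hs⟩ := (FiniteField.isSquare_of_char_two (ringChar.eq F 2) (Q a / Q b) :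
    IsSquare (Q a / Q b))
  have hs0 : s ≠ 0 := fun h0 => div_ne_zero ha hb (by rw [hs, h0, mul_zero])
  have ha0 : a ≠ 0 := fun h0 => ha (by rw [h0, QuadraticMap.map_zero])
  have hb0 : s • b ≠ 0 := smul_ne_zero hs0 fun h0 => hb (by rw [h0, QuadraticMap.map_zero])
  let e := LinearEquiv.toSpanNonzeroSingleton F (ι → F) a ha0
  let φ : Submodule.span F {a} →ₗ[F] (ι → F) :=
    LinearMap.toSpanSingleton F (ι → F) (s • b) ∘ₗ e.symm.toLinearMap
  obtain ⟨f, hf, hfx⟩ := Witt.witt_quad Q hQ _ φ
    (fun x y h => e.symm.injective (smul_left_injective F hb0 h)) fun x => by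
      obtain ⟨c, hc⟩ := e.surjective x
      have : (x : ι → F) = c • a := by rw [← hc]; rfl
      rw [this, ← hc]
      simp only [φ, LinearMap.comp_apply, LinearEquiv.coe_coe, LinearEquiv.symm_apply_apply,
        LinearMap.toSpanSingleton_apply, QuadraticMap.map_smul, smul_eq_mul, ← hs,
        div_mul_cancel₀ _ hb]
  refine ⟨isoOfEquiv ⇑Q f hf, ?_⟩
  rw [reflect_conj, act_apply, isoOfEquiv_mulVec]
  have h1 := hfx ⟨a, Submodule.mem_span_singleton_self a⟩
  have he : e.symm ⟨a, Submodule.mem_span_singleton_self a⟩ = 1 :=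
    e.injective (Subtype.ext (by simp [e]))
  simp only [φ, LinearMap.comp_apply, LinearEquiv.coe_coe, he, LinearMap.toSpanSingleton_apply,
    one_smul] at h1
  rw [h1, reflect_smul _ hs0]

/-! ### The sign character on a level set -/

/-- The level set. -/
abbrev ValSet (Q : QuadraticForm F (ι → F)) (c : F) : Type _ := {x : ι → F // Q x = c}

/-- The action of the isometries on a level set. -/
noncomputable def valPerm (Q : QuadraticForm F (ι → F)) (c : F) :
    Cfsg.isometryGroup F ⇑Q →* Equiv.Perm (ValSet Q c) where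
  toFun g :=
    { toFun := fun x => ⟨act g x.1, by rw [act_map]; exact x.2⟩
      invFun := fun x => ⟨act g⁻¹ x.1, by rw [act_map]; exact x.2⟩
      left_inv := fun x => Subtype.ext (act_inv_cancel g x.1)
      right_inv := fun x => Subtype.ext (by
        have := act_inv_cancel g⁻¹ x.1
        rwa [inv_inv] at this) }
  map_one' := Equiv.ext fun x => Subtype.ext (act_one x.1)
  map_mul' g h := Equiv.ext fun x => Subtype.ext (act_mul g h x.1)

open scoped Classical in
/-- The spinor character. -/
noncomputable def spin [Fintype F] (Q : QuadraticForm F (ι → F)) (c : F) :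
    Cfsg.isometryGroup F ⇑Q →* ℤˣ :=
  Equiv.Perm.sign.comp (valPerm Q c)

theorem four_dvd_card {α : Type*} [DecidableEq α] (s : Finset α) (a b : α → α)
    (haa : ∀ x, a (a x) = x) (hbb : ∀ x, b (b x) = x) (hab : ∀ x, a (b x) = b (a x))
    (has : ∀ x ∈ s, a x ∈ s) (hbs : ∀ x ∈ s, b x ∈ s) (ha : ∀ x ∈ s, a x ≠ x)
    (hb : ∀ x ∈ s, b x ≠ x) (hne : ∀ x ∈ s, a x ≠ b x) : 4 ∣ s.card := by
  let f : α → Finset α := fun x => {x, a x, b x, a (b x)}
  rw [Finset.card_eq_sum_card_image f s]
  refine Finset.dvd_sum fun t ht => ?_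
  obtain ⟨x, hx, rfl⟩ := Finset.mem_image.1 ht
  have hfil : s.filter (fun y => f y = f x) = f x := by
    ext y
    simp only [Finset.mem_filter]
    constructor
    · rintro ⟨-, hy⟩
      rw [← hy]; simp [f]
    · intro hy
      simp only [f, Finset.mem_insert, Finset.mem_singleton] at hy
      rcases hy with rfl | rfl | rfl | rfl
      · exact ⟨hx, rfl⟩
      · refine ⟨has _ hx, ?_⟩
        ext z
        simp only [f, Finset.mem_insert, Finset.mem_singleton, haa, ← hab]
        tauto
      · refine ⟨hbs _ hx, ?_⟩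
        ext z
        simp only [f, Finset.mem_insert, Finset.mem_singleton, hbb, hab]
        tauto
      · refine ⟨has _ (hbs _ hx), ?_⟩
        ext z
        simp only [f, Finset.mem_insert, Finset.mem_singleton, hbb, haa, hab]
        tauto
  rw [hfil]
  have h1 : a (b x) ≠ x := fun h => hne x hx (by conv_lhs => rw [← h, haa])
  have h2 : a (b x) ≠ a x := fun h => hb x hx (by have := congrArg a h; rwa [haa, haa] at this)
  have h3 : a (b x) ≠ b x := ha _ (hbs _ hx)
  have : (f x).card = 4 := by
    simp [f, (ha x hx).symm, (hb x hx).symm, h1.symm, h2.symm, h3.symm, hne x hx]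
  rw [this]

open scoped Classical in
theorem spin_reflect [Fintype F] (h2 : (2 : F) ≠ 0) {c : F} (hc : c ≠ 0) {v : ι → F}
    (hv : Q v ≠ 0) :
    spin Q c (reflect Q v) = if IsSquare (c / Q v) then -1 else 1 := by
  set σ := valPerm Q c (reflect Q v) with hσ
  have hσσ : σ ^ 2 = 1 := by rw [sq, hσ, ← map_mul, reflect_sq, map_one]
  have hs : spin Q c (reflect Q v) = Equiv.Perm.sign σ := rfl
  rw [hs, Equiv.Perm.sign_of_pow_two_eq_one hσσ]
  set M := (Finset.univ : Finset (ι → F)).filter
    (fun x => Q x = c ∧ QuadraticMap.polar Q v x ≠ 0) with hM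
  have hcard : Fintype.card (ValSet Q c) - Fintype.card (Function.fixedPoints σ) = M.card := by
    rw [← Fintype.card_subtype_compl]
    rw [hM, ← Fintype.card_subtype]
    refine Fintype.card_congr ((Equiv.subtypeEquivRight fun x => ?_).trans
      (Equiv.subtypeSubtypeEquivSubtypeInter _ (fun x => QuadraticMap.polar Q v x ≠ 0)))
    show ¬ σ x = x ↔ _
    rw [Subtype.ext_iff]
    show ¬ act (reflect Q v) x.1 = x.1 ↔ _
    rw [act_reflect, sub_eq_self, smul_eq_zero]
    have hv0 : v ≠ 0 := fun h => hv (by rw [h, QuadraticMap.map_zero])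
    simp [hv, hv0]
  rw [hcard]
  have hpolv : QuadraticMap.polar Q v v = 2 * Q v := by simp [QuadraticMap.polar_self]
  have hneg : ∀ x, act (reflect Q v) (-x) = -act (reflect Q v) x := fun x => map_neg _ _
  have hrr : ∀ x, act (reflect Q v) (act (reflect Q v) x) = x := fun x => by
    rw [← act_mul, reflect_sq, act_one]
  have hpr : ∀ x, QuadraticMap.polar Q v (act (reflect Q v) x) = -QuadraticMap.polar Q v x := by
    intro x
    rw [act_reflect, QuadraticMap.polar_sub_right, QuadraticMap.polar_smul_right, hpolv, smul_eq_mul]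
    field_simp
    ring
  set A := M.filter (fun x => x ∈ Submodule.span F {v}) with hA
  have h4 : 4 ∣ (M.filter (fun x => ¬ x ∈ Submodule.span F {v})).card := by
    refine four_dvd_card _ (fun x => act (reflect Q v) x) (fun x => -x) hrr neg_neg hneg ?_ ?_ ?_
      ?_ ?_
    · intro x hx
      simp only [hM, Finset.mem_filter, Finset.mem_univ, true_and] at hx ⊢
      refine ⟨⟨by rw [act_map, hx.1.1], by rw [hpr, neg_ne_zero]; exact hx.1.2⟩, fun hh => hx.2 ?_⟩
      rw [act_reflect] at hh
      simpa using Submodule.add_mem _ hh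
        (Submodule.smul_mem _ ((Q v)⁻¹ * QuadraticMap.polar Q v x) (Submodule.mem_span_singleton_self v))
    · intro x hx
      simp only [hM, Finset.mem_filter, Finset.mem_univ, true_and] at hx ⊢
      exact ⟨⟨by rw [QuadraticMap.map_neg, hx.1.1], by
        rw [QuadraticMap.polar_neg_right, neg_ne_zero]; exact hx.1.2⟩, by simpa using hx.2⟩
    · intro x hx h
      simp only [hM, Finset.mem_filter, Finset.mem_univ, true_and] at hx
      have := hpr x
      rw [h, eq_neg_iff_add_eq_zero, ← two_mul] at this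
      exact hx.1.2 ((mul_eq_zero.1 this).resolve_left h2)
    · intro x hx h
      simp only [hM, Finset.mem_filter, Finset.mem_univ, true_and] at hx
      have h' : (2 : F) • x = 0 := by rw [two_smul]; exact neg_eq_iff_add_eq_zero.1 h
      exact hx.2 ((smul_eq_zero.1 h').resolve_left h2 ▸ Submodule.zero_mem _)
    · intro x hx h
      simp only [hM, Finset.mem_filter, Finset.mem_univ, true_and] at hx
      rw [act_reflect] at h
      refine hx.2 (Submodule.mem_span_singleton.2
        ⟨((Q v)⁻¹ * QuadraticMap.polar Q v x) / 2, ?_⟩)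
      rw [div_eq_inv_mul, ← smul_smul]
      calc (2 : F)⁻¹ • ((Q v)⁻¹ * QuadraticMap.polar Q v x) • v = (2 : F)⁻¹ • ((2 : F) • x) := by
            congr 1
            linear_combination (norm := module) -h
        _ = x := by rw [smul_smul, inv_mul_cancel₀ h2, one_smul]
  have hAcard : A.card = if IsSquare (c / Q v) then 2 else 0 := by
    have hmem : ∀ x, x ∈ A ↔ ∃ t : F, t * t = c / Q v ∧ t • v = x := by
      intro x
      simp only [hA, hM, Finset.mem_filter, Finset.mem_univ, true_and,
        Submodule.mem_span_singleton]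
      constructor
      · rintro ⟨⟨hx, -⟩, t, rfl⟩
        refine ⟨t, ?_, rfl⟩
        rw [QuadraticMap.map_smul, smul_eq_mul] at hx
        field_simp
        linear_combination hx
      · rintro ⟨t, ht, rfl⟩
        have hx : Q (t • v) = c := by
          rw [QuadraticMap.map_smul, smul_eq_mul, ht, div_mul_cancel₀ _ hv]
        refine ⟨⟨hx, ?_⟩, t, rfl⟩
        rw [QuadraticMap.polar_smul_right, hpolv, smul_eq_mul]
        have ht0 : t ≠ 0 := fun h => div_ne_zero hc hv (by rw [← ht, h, mul_zero])
        exact mul_ne_zero ht0 (mul_ne_zero h2 hv)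
    split_ifs with hsq
    · obtain ⟨t, ht⟩ := hsq
      have ht0 : t ≠ 0 := fun h => div_ne_zero hc hv (by rw [ht, h, mul_zero])
      have hv0 : v ≠ 0 := fun h => hv (by rw [h, QuadraticMap.map_zero])
      have : A = {t • v, (-t) • v} := by
        ext x
        rw [hmem]
        simp only [Finset.mem_insert, Finset.mem_singleton]
        constructor
        · rintro ⟨s, hs, rfl⟩
          rcases mul_self_eq_mul_self_iff.1 (hs.trans ht) with rfl | rfl
          exacts [Or.inl rfl, Or.inr rfl]
        · rintro (rfl | rfl)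
          exacts [⟨t, ht.symm, rfl⟩, ⟨-t, by rw [neg_mul_neg, ht], rfl⟩]
      rw [this, Finset.card_pair]
      intro h
      have h3 := smul_left_injective F hv0 h
      exact ht0 ((mul_eq_zero.1 (show (2 : F) * t = 0 by linear_combination h3)).resolve_left h2)
    · rw [Finset.card_eq_zero, Finset.eq_empty_iff_forall_notMem]
      intro x hx
      obtain ⟨t, ht, -⟩ := (hmem x).1 hx
      exact hsq ⟨t, ht.symm⟩
  obtain ⟨k, hk⟩ := h4
  have hsplit := Finset.card_filter_add_card_filter_not (s := M)
    (fun x => x ∈ Submodule.span F {v})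
  rw [← hA, hAcard, hk] at hsplit
  rw [← hsplit]
  split_ifs with hsq
  · rw [show (2 + 4 * k) / 2 = 2 * k + 1 by omega, pow_succ, pow_mul]
    simp
  · rw [show (0 + 4 * k) / 2 = 2 * k by omega, pow_mul]
    simp

variable [Fintype F] (hQ : (QuadraticMap.polarBilin Q).Nondegenerate)

include hQ in
theorem exists_value (h2 : (2 : F) ≠ 0) (hn : 2 ≤ Fintype.card ι) {c : F} (hc : c ≠ 0) :
    ∃ v, Q v = c := by
  have hS : (polB Q).IsSymm := ⟨fun u v => QuadraticMap.polar_comm _ u v⟩
  obtain ⟨u, -, hu, -⟩ := Bases.exists_symm_unit h2 (polB Q) hS ⊤ (Bases.nondegOn_top hQ.1)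
    (by rw [finrank_top, Module.finrank_pi]; exact hn) (2 * c) (mul_ne_zero h2 hc)
  refine ⟨u, ?_⟩
  rw [polB_apply, QuadraticMap.polar_self] at hu
  simp at hu
  exact hu.resolve_right h2

include hQ in
/-- The pair `(parity, spinor)` as a homomorphism. -/
theorem pair_hom (h2 : (2 : F) ≠ 0) (g h : Cfsg.isometryGroup F ⇑Q) :
    (par (g * h), spin Q 1 (g * h)) = (par g * par h, spin Q 1 g * spin Q 1 h) := by
  have hne : Fintype.card F ≠ 2 := fun hh => h2 (by
    have : (Fintype.card F : F) = 0 := FiniteField.cast_card_eq_zero F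
    rw [hh] at this
    exact_mod_cast this)
  rw [par_mul_all hQ (Or.inl hne), map_mul]

/-- `(parity, spinor)`. -/
noncomputable def pairHom (h2 : (2 : F) ≠ 0) : Cfsg.isometryGroup F ⇑Q →* ℤˣ × ℤˣ :=
  MonoidHom.mk' (fun g => (par g, spin Q 1 g)) (pair_hom hQ h2)

theorem pairHom_reflect (h2 : (2 : F) ≠ 0) {v : ι → F} (hv : Q v ≠ 0) [Decidable (IsSquare (Q v))] :
    pairHom hQ h2 (reflect Q v) = (-1, if IsSquare (Q v) then -1 else 1) := by
  have h1 := par_reflect_mul hQ hv (1 : Cfsg.isometryGroup F ⇑Q)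
  rw [mul_one, par_one] at h1
  show (par (reflect Q v), spin Q 1 (reflect Q v)) = _
  rw [h1, spin_reflect h2 one_ne_zero hv]
  have : IsSquare (1 / Q v) ↔ IsSquare (Q v) := by
    constructor <;> rintro ⟨r, hr⟩ <;> refine ⟨r⁻¹, ?_⟩
    · rw [← mul_inv, ← hr, one_div, inv_inv]
    · rw [hr, one_div, mul_inv]
  by_cases hsq : IsSquare (Q v) <;> simp [hsq, this]

include hQ in
theorem two_ne_card (h2 : (2 : F) ≠ 0) : Fintype.card F ≠ 2 := fun hh => h2 (by
    have : (Fintype.card F : F) = 0 := FiniteField.cast_card_eq_zero F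
    rw [hh] at this
    exact_mod_cast this)

include hQ in
theorem exists_two_classes (h2 : (2 : F) ≠ 0) (hn : 2 ≤ Fintype.card ι) :
    ∃ a b : ι → F, Q a = 1 ∧ Q b ≠ 0 ∧ ¬ IsSquare (Q b) := by
  obtain ⟨α, hα⟩ := FiniteField.exists_nonsquare (F := F) (fun h => h2 (by
    have : CharP F 2 := h ▸ ringChar.charP F
    exact CharTwo.two_eq_zero))
  have hα0 : α ≠ 0 := fun h => hα (h ▸ ⟨0, by simp⟩)
  obtain ⟨a, ha⟩ := exists_value hQ h2 hn one_ne_zero
  obtain ⟨b, hb⟩ := exists_value hQ h2 hn hα0
  exact ⟨a, b, ha, hb ▸ hα0, hb ▸ hα⟩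

theorem pairHom_surjective (h2 : (2 : F) ≠ 0) (hn : 2 ≤ Fintype.card ι) :
    Function.Surjective (pairHom hQ h2) := by
  classical
  obtain ⟨a, b, ha, hb, hbsq⟩ := exists_two_classes hQ h2 hn
  have h1 : pairHom hQ h2 (reflect Q a) = (-1, -1) := by
    rw [pairHom_reflect hQ h2 (by rw [ha]; exact one_ne_zero), if_pos (by rw [ha]; exact IsSquare.one)]
  have h2' : pairHom hQ h2 (reflect Q b) = (-1, 1) := by
    rw [pairHom_reflect hQ h2 hb, if_neg hbsq]
  rintro ⟨x, y⟩
  rcases Int.units_eq_one_or x with rfl | rfl <;> rcases Int.units_eq_one_or y with rfl | rfl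
  exacts [⟨1, map_one _⟩, ⟨reflect Q a * reflect Q b, by rw [map_mul, h1, h2']; rfl⟩,
    ⟨reflect Q b, h2'⟩, ⟨reflect Q a, h1⟩]

/-- The kernel of `(parity, spinor)` is exactly `Ω`. -/
theorem ker_pairHom (h2 : (2 : F) ≠ 0) (hn : 2 ≤ Fintype.card ι) :
    (pairHom hQ h2).ker = Cfsg.Omega F ⇑Q := by
  classical
  refine le_antisymm ?_ (Abelianization.commutator_subset_ker _)
  obtain ⟨a, b, ha, hb, hbsq⟩ := exists_two_classes hQ h2 hn
  have ha' : Q a ≠ 0 := by rw [ha]; exact one_ne_zero
  set π := Abelianization.of (G := Cfsg.isometryGroup F ⇑Q)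
  have hcls : ∀ {v : ι → F}, Q v ≠ 0 → π (reflect Q v) ∈ ({π (reflect Q a), π (reflect Q b)} : Set _) := by
    intro v hv
    have hconj : ∀ {u : ι → F}, Q u ≠ 0 → IsSquare (Q u / Q v) →
        π (reflect Q v) = π (reflect Q u) := fun {u} hu hsq => by
      obtain ⟨w, hw, he⟩ := exists_reflect_conj h2 hu hv hsq
      rw [he, map_mul, map_mul, mul_comm (π (reflect Q w)), mul_assoc, ← map_mul, reflect_sq,
        map_one, mul_one]
    by_cases hsq : IsSquare (Q v)
    · refine Or.inl (hconj ha' ?_)
      rw [ha]; obtain ⟨r, hr⟩ := hsq; exact ⟨r⁻¹, by rw [hr, one_div, mul_inv]⟩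
    · refine Or.inr (hconj hb ?_)
      obtain ⟨r, hr⟩ := Bases.isSquare_mul_of_not hbsq hsq
      exact ⟨r / Q v, by field_simp; linear_combination hr⟩
  intro g hg
  have hgen : π g ∈ Subgroup.closure ({π (reflect Q a), π (reflect Q b)} : Set _) := by
    have h0 : g ∈ (Subgroup.closure ({π (reflect Q a), π (reflect Q b)} : Set _)).comap π := by
      have hle : refGroup Q ≤ (Subgroup.closure ({π (reflect Q a), π (reflect Q b)} : Set _)).comap π := by
        refine (Subgroup.closure_le _).2 ?_
        rintro _ ⟨v, hv, rfl⟩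
        exact Subgroup.subset_closure (hcls hv)
      exact hle (refGroup_eq_top hQ (Or.inl (two_ne_card hQ h2)) ▸ Subgroup.mem_top g)
    exact h0
  obtain ⟨i, j, hij⟩ := Subgroup.mem_closure_pair.1 hgen
  have hpar : ∀ {v : ι → F} (k : ℤ), π (reflect Q v) ^ k = π (reflect Q v) ^ (k % 2) := by
    intro v k
    conv_lhs => rw [← Int.emod_add_mul_ediv k 2, _root_.zpow_add, _root_.zpow_mul, zpow_ofNat, sq, ← map_mul,
      reflect_sq, map_one, _root_.one_zpow, mul_one]
  have hπ : ∀ g, Abelianization.lift (pairHom hQ h2) (π g) = pairHom hQ h2 g :=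
    fun g => Abelianization.lift_apply_of _ _
  have h0 := congrArg (Abelianization.lift (pairHom hQ h2)) hij
  rw [hpar i, hpar j, map_mul, map_zpow, map_zpow, hπ, hπ, hπ, MonoidHom.mem_ker.1 hg,
    pairHom_reflect hQ h2 ha', pairHom_reflect hQ h2 hb, if_pos (by rw [ha]; exact IsSquare.one),
    if_neg hbsq] at h0
  have hone : π g = 1 := by
    rcases Int.emod_two_eq_zero_or_one i with hi | hi <;>
      rcases Int.emod_two_eq_zero_or_one j with hj | hj
    · rw [← hij, hpar i, hpar j, hi, hj]; simp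
    all_goals rw [hi, hj] at h0; simp [Prod.ext_iff] at h0
  exact (QuotientGroup.eq_one_iff g).1 hone

include hQ in
theorem omega_index (h2 : (2 : F) ≠ 0) (hn : 2 ≤ Fintype.card ι) :
    (Cfsg.Omega F ⇑Q).index = 4 := by
  rw [← ker_pairHom hQ h2 hn, Subgroup.index_ker,
    MonoidHom.range_eq_top.2 (pairHom_surjective hQ h2 hn), Subgroup.card_top,
    Nat.card_eq_fintype_card]
  rfl

end Cfsg.Agent.Forms.Spinor
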