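import Mathlib
import Cfsg.Prelude.Def_ClassicalGeometry

/-!
`Cfsg.quadFormPlus` as a `QuadraticForm`.
-/

set_option autoImplicit false

namespace Cfsg.Agent.Forms.PlusStd

/-- The hyperbolic form `∑ xᵢ yᵢ`. -/
noncomputable def plusQ (F : Type*) [Field F] (m : ℕ) : QuadraticForm F (Fin m ⊕ Fin m → F) :=
  ∑ i : Fin m, QuadraticMap.linMulLin
    (LinearMap.proj (R := F) (φ := fun _ : Fin m ⊕ Fin m => F) (Sum.inl i))
    (LinearMap.proj (R := F) (φ := fun _ : Fin m ⊕ Fin m => F) (Sum.inr i))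

theorem plusQ_apply (F : Type*) [Field F] (m : ℕ) (v : Fin m ⊕ Fin m → F) :
    plusQ F m v = Cfsg.quadFormPlus m F v := by
  simp [plusQ, Cfsg.quadFormPlus]

theorem plusQ_polar (F : Type*) [Field F] (m : ℕ) (u v : Fin m ⊕ Fin m → F) :
    QuadraticMap.polar (plusQ F m) u v =
      ∑ i, (u (.inl i) * v (.inr i) + u (.inr i) * v (.inl i)) := by
  simp only [QuadraticMap.polar, plusQ_apply, Cfsg.quadFormPlus, Pi.add_apply,
    ← Finset.sum_sub_distrib]
  exact Finset.sum_congr rfl fun i _ => by ring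

theorem plusQ_nondeg (F : Type*) [Field F] (m : ℕ) :
    (QuadraticMap.polarBilin (plusQ F m)).Nondegenerate := by
  have h : ∀ v : Fin m ⊕ Fin m → F,
      (∀ w, QuadraticMap.polar (plusQ F m) v w = 0) → v = 0 := by
    intro v hv
    funext z
    rcases z with i | i
    · simpa [plusQ_polar, Pi.single_apply] using hv (Pi.single (Sum.inr i) 1)
    · simpa [plusQ_polar, Pi.single_apply] using hv (Pi.single (Sum.inl i) 1)
  exact ⟨fun v hv => h v hv, fun v hv => h v fun w => (QuadraticMap.polar_comm _ v w).trans (hv w)⟩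

end Cfsg.Agent.Forms.PlusStd
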