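import Mathlib
import Cfsg.Prelude.Def_ClassicalGeometry
import Cfsg.Agent.Lib.Forms.Witt

/-!
The standard symplectic form, its isometries as elements of `Matrix.symplecticGroup`, symplectic
transvections, transitivity on hyperbolic pairs and generation by transvections.
-/

set_option autoImplicit false

namespace Cfsg.Agent.Forms.SympStd

open Matrix

variable {F : Type*} [Field F] {m : ℕ}

local notation "Vec" => (Fin m ⊕ Fin m → F)

local notation "Mat" => Matrix (Fin m ⊕ Fin m) (Fin m ⊕ Fin m) F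

/-- The standard alternating form as a bilinear form. -/
noncomputable def sympB (m : ℕ) (F : Type*) [Field F] :
    LinearMap.BilinForm F (Fin m ⊕ Fin m → F) :=
  Matrix.toBilin' (J (Fin m) F)

theorem sympB_apply (u v : Vec) : sympB m F u v = Cfsg.sympForm m F u v := by
  simp [sympB, Cfsg.sympForm, Matrix.toBilin'_apply']

theorem J_mulVec (v : Vec) : J (Fin m) F *ᵥ v = Sum.elim (fun i => -(v (.inr i))) (fun i => v (.inl i)) := by
  rw [J, fromBlocks_mulVec]
  congr 1 <;> funext i <;> simp [Matrix.neg_mulVec]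

theorem sympForm_eq (u v : Vec) : Cfsg.sympForm m F u v
    = ∑ i, (u (.inr i) * v (.inl i) - u (.inl i) * v (.inr i)) := by
  simp [Cfsg.sympForm, J_mulVec, dotProduct, Fintype.sum_sum_type, Finset.sum_sub_distrib]
  ring

theorem sympForm_self (v : Vec) : Cfsg.sympForm m F v v = 0 := by
  rw [sympForm_eq]
  exact Finset.sum_eq_zero fun i _ => by ring

theorem sympB_isAlt : (sympB m F).IsAlt := fun v => by rw [sympB_apply, sympForm_self]

theorem sympForm_swap (u v : Vec) : Cfsg.sympForm m F v u = - Cfsg.sympForm m F u v := by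
  rw [← sympB_apply, ← sympB_apply]
  have h : (sympB m F).IsAlt := sympB_isAlt
  exact (LinearMap.IsAlt.neg h u v).symm

theorem sympB_nondegenerate : (sympB m F).Nondegenerate :=
  LinearMap.BilinForm.nondegenerate_toBilin'_iff_det_ne_zero.2 (isUnit_det_J (Fin m) F).ne_zero

theorem finrank_vec : Module.finrank F Vec = 2 * m := by simp; ring

theorem sympForm_inr_inl (i j : Fin m) :
    Cfsg.sympForm m F (Pi.single (Sum.inr i) 1) (Pi.single (Sum.inl j) 1) = if i = j then 1 else 0 := by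
  rw [sympForm_eq]
  rcases eq_or_ne i j with rfl | h
  · simp [Pi.single_apply]
  · simp [Pi.single_apply, h, Ne.symm h]

theorem sympForm_inl_inr (i j : Fin m) :
    Cfsg.sympForm m F (Pi.single (Sum.inl i) 1) (Pi.single (Sum.inr j) 1)
      = if i = j then -1 else 0 := by
  rw [sympForm_swap, sympForm_inr_inl]
  by_cases h : i = j <;> simp [h, Ne.symm]

theorem sympForm_inl_inl (i j : Fin m) :
    Cfsg.sympForm m F (Pi.single (Sum.inl i) 1) (Pi.single (Sum.inl j) 1) = 0 := by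
  rw [sympForm_eq]; simp [Pi.single_apply]

theorem sympForm_inr_inr (i j : Fin m) :
    Cfsg.sympForm m F (Pi.single (Sum.inr i) 1) (Pi.single (Sum.inr j) 1) = 0 := by
  rw [sympForm_eq]; simp [Pi.single_apply]

/-! ### The group -/

theorem mem_sp_iff {A : Matrix (Fin m ⊕ Fin m) (Fin m ⊕ Fin m) F} :
    A ∈ symplecticGroup (Fin m) F ↔
      ∀ u v, Cfsg.sympForm m F (A *ᵥ u) (A *ᵥ v) = Cfsg.sympForm m F u v := by
  have key : ∀ u v, Cfsg.sympForm m F (A *ᵥ u) (A *ᵥ v) = u ⬝ᵥ ((Aᵀ * J (Fin m) F * A) *ᵥ v) := by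
    intro u v
    rw [Cfsg.sympForm, ← mulVec_mulVec, ← mulVec_mulVec, dotProduct_mulVec u Aᵀ,
      vecMul_transpose]
  rw [SymplecticGroup.mem_iff']
  constructor
  · intro h u v
    rw [key, h]; rfl
  · intro h
    ext i j
    have h1 := h (Pi.single i 1) (Pi.single j 1)
    rw [key] at h1
    simpa [Cfsg.sympForm] using h1

theorem sympForm_mulVec (A : symplecticGroup (Fin m) F) (u v : Vec) :
    Cfsg.sympForm m F ((A : Mat) *ᵥ u) ((A : Mat) *ᵥ v)
      = Cfsg.sympForm m F u v :=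
  mem_sp_iff.1 A.2 u v

theorem sp_ext {A B : symplecticGroup (Fin m) F}
    (h : ∀ v, (A : Mat) *ᵥ v = (B : Mat) *ᵥ v) : A = B :=
  Subtype.ext (Matrix.ext_iff_mulVec.2 h)

theorem mul_mulVec_sp (A B : symplecticGroup (Fin m) F) (v : Vec) :
    ((A * B : symplecticGroup (Fin m) F) : Mat) *ᵥ v
      = (A : Mat) *ᵥ ((B : Mat) *ᵥ v) :=
  (mulVec_mulVec _ _ _).symm

theorem inv_mulVec_of_eq {A : symplecticGroup (Fin m) F} {u v : Vec}
    (h : (A : Mat) *ᵥ u = v) :
    ((A⁻¹ : symplecticGroup (Fin m) F) : Mat) *ᵥ v = u := by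
  rw [← h, ← mul_mulVec_sp, inv_mul_cancel]
  exact one_mulVec u

/-- A form-preserving linear map as an element of the symplectic group. -/
noncomputable def ofEquiv (g : Vec ≃ₗ[F] Vec)
    (hg : ∀ u v, Cfsg.sympForm m F (g u) (g v) = Cfsg.sympForm m F u v) :
    symplecticGroup (Fin m) F :=
  ⟨LinearMap.toMatrix' g.toLinearMap, mem_sp_iff.2 fun u v => by
    simp only [← Matrix.toLin'_apply, Matrix.toLin'_toMatrix']
    exact hg u v⟩

theorem ofEquiv_mulVec (g : Vec ≃ₗ[F] Vec)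
    (hg : ∀ u v, Cfsg.sympForm m F (g u) (g v) = Cfsg.sympForm m F u v) (v : Vec) :
    (ofEquiv g hg : Mat) *ᵥ v = g v := by
  simp [ofEquiv, ← Matrix.toLin'_apply]

/-- Witt's theorem inside `Matrix.symplecticGroup`. -/
theorem exists_extend (X : Submodule F Vec) (f : X →ₗ[F] Vec) (hf : Function.Injective f)
    (hiso : ∀ x x' : X, Cfsg.sympForm m F (f x) (f x') = Cfsg.sympForm m F x x') :
    ∃ A : symplecticGroup (Fin m) F, ∀ x : X, (A : Mat) *ᵥ (x : Vec) = f x := by
  obtain ⟨g, hg, hgx⟩ := Witt.witt_alt (sympB m F) sympB_nondegenerate sympB_isAlt X f hf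
    (fun x x' => by rw [sympB_apply, sympB_apply, hiso])
  refine ⟨ofEquiv g fun u v => by rw [← sympB_apply, ← sympB_apply, hg], fun x => ?_⟩
  rw [ofEquiv_mulVec, hgx]

/-! ### Transvections -/

theorem transvection_mulVec (v x : Vec) (c : F) :
    Cfsg.sympTransvection m v c *ᵥ x = x + (c * Cfsg.sympForm m F x v) • v := by
  rw [Cfsg.sympTransvection, add_mulVec, one_mulVec, smul_mulVec, vecMulVec_mulVec,
    op_smul_eq_smul, smul_smul, dotProduct_comm]
  rfl

theorem transvection_mem (v : Vec) (c : F) :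
    Cfsg.sympTransvection m v c ∈ symplecticGroup (Fin m) F := by
  rw [mem_sp_iff]
  intro x y
  simp only [transvection_mulVec, ← sympB_apply, map_add, map_smul, LinearMap.add_apply,
    LinearMap.smul_apply, smul_eq_mul]
  simp only [sympB_apply, sympForm_self, sympForm_swap y v]
  ring

/-- A transvection as an element of the symplectic group. -/
def tv (v : Vec) (c : F) : symplecticGroup (Fin m) F :=
  ⟨Cfsg.sympTransvection m v c, transvection_mem v c⟩

theorem tv_mulVec (v x : Vec) (c : F) :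
    (tv v c : Mat) *ᵥ x = x + (c * Cfsg.sympForm m F x v) • v :=
  transvection_mulVec v x c

/-- The set of transvections whose vector is orthogonal to every member of `S`. -/
def tvSet (S : Set Vec) : Set (symplecticGroup (Fin m) F) :=
  {A | ∃ (w : Vec) (c : F), (∀ s ∈ S, Cfsg.sympForm m F s w = 0) ∧
    (A : Mat) = Cfsg.sympTransvection m w c}

theorem tvSet_mono {S T : Set Vec} (h : S ⊆ T) : tvSet (F := F) T ⊆ tvSet S :=
  fun _ ⟨w, c, hw, hA⟩ => ⟨w, c, fun s hs => hw s (h hs), hA⟩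

theorem tv_mem_closure {S : Set Vec} {w : Vec} (hw : ∀ s ∈ S, Cfsg.sympForm m F s w = 0) (c : F) :
    tv w c ∈ Subgroup.closure (tvSet S) :=
  Subgroup.subset_closure ⟨w, c, hw, rfl⟩

theorem closure_fixes {S : Set Vec} {A : symplecticGroup (Fin m) F}
    (hA : A ∈ Subgroup.closure (tvSet S)) : ∀ s ∈ S, (A : Mat) *ᵥ s = s := by
  induction hA using Subgroup.closure_induction with
  | mem x hx =>
    obtain ⟨w, c, hw, hx⟩ := hx
    intro s hs
    rw [hx, transvection_mulVec, hw s hs]; simp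
  | one => exact fun s _ => one_mulVec s
  | mul x y _ _ hx hy => intro s hs; rw [mul_mulVec_sp, hy s hs, hx s hs]
  | inv x _ hx => intro s hs; exact inv_mulVec_of_eq (hx s hs)

/-- One transvection moves `u` to `v` when they are not orthogonal. -/
theorem tv_move {u v : Vec} (h : Cfsg.sympForm m F u v ≠ 0) :
    (tv (v - u) (Cfsg.sympForm m F u v)⁻¹ : Mat) *ᵥ u = v := by
  rw [tv_mulVec]
  have : Cfsg.sympForm m F u (v - u) = Cfsg.sympForm m F u v := by
    rw [← sympB_apply, map_sub, sympB_apply, sympB_apply, sympForm_self, sub_zero]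
  rw [this, inv_mul_cancel₀ h, one_smul, add_sub_cancel]

theorem orth_sub {S : Set Vec} {u v : Vec} (hu : ∀ s ∈ S, Cfsg.sympForm m F s u = 0)
    (hv : ∀ s ∈ S, Cfsg.sympForm m F s v = 0) : ∀ s ∈ S, Cfsg.sympForm m F s (v - u) = 0 :=
  fun s hs => by
    rw [← sympB_apply, map_sub, sympB_apply, sympB_apply, hu s hs, hv s hs, sub_zero]

theorem orth_add {S : Set Vec} {u v : Vec} (hu : ∀ s ∈ S, Cfsg.sympForm m F s u = 0)
    (hv : ∀ s ∈ S, Cfsg.sympForm m F s v = 0) : ∀ s ∈ S, Cfsg.sympForm m F s (u + v) = 0 :=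
  fun s hs => by
    rw [← sympB_apply, map_add, sympB_apply, sympB_apply, hu s hs, hv s hs, add_zero]

/-- Transvections orthogonal to `S` are transitive on the hyperbolic pairs orthogonal to `S`. -/
theorem exists_move_pair {S : Set Vec} {u v u' v' : Vec}
    (hu : ∀ s ∈ S, Cfsg.sympForm m F s u = 0) (hv : ∀ s ∈ S, Cfsg.sympForm m F s v = 0)
    (hu' : ∀ s ∈ S, Cfsg.sympForm m F s u' = 0) (hv' : ∀ s ∈ S, Cfsg.sympForm m F s v' = 0)
    (h : Cfsg.sympForm m F u v = 1) (h' : Cfsg.sympForm m F u' v' = 1) :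
    ∃ A ∈ Subgroup.closure (tvSet S),
      (A : Mat) *ᵥ u = u' ∧ (A : Mat) *ᵥ v = v' := by
  have hstep : ∀ {x y : Vec}, (∀ s ∈ S, Cfsg.sympForm m F s x = 0) →
      (∀ s ∈ S, Cfsg.sympForm m F s y = 0) → Cfsg.sympForm m F x y ≠ 0 →
      ∃ A ∈ Subgroup.closure (tvSet S), (A : Mat) *ᵥ x = y ∧
        ∀ z, Cfsg.sympForm m F z (y - x) = 0 → (A : Mat) *ᵥ z = z :=
    fun {x y} hx hy hne => ⟨_, tv_mem_closure (orth_sub hx hy) _, tv_move hne,
      fun z hz => by rw [tv_mulVec, hz]; simp⟩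
  obtain ⟨A₁, hA₁, hA₁u⟩ : ∃ A ∈ Subgroup.closure (tvSet S), (A : Mat) *ᵥ u = u' := by
    obtain ⟨w, hw, hw1, hw2⟩ : ∃ w, (∀ s ∈ S, Cfsg.sympForm m F s w = 0) ∧
        Cfsg.sympForm m F u w ≠ 0 ∧ Cfsg.sympForm m F w u' ≠ 0 := by
      by_cases h1 : Cfsg.sympForm m F v u' = 0
      · by_cases h2 : Cfsg.sympForm m F u v' = 0
        · refine ⟨v + v', orth_add hv hv', ?_, ?_⟩
          · rw [← sympB_apply, map_add, sympB_apply, sympB_apply, h, h2]; simp
          · rw [← sympB_apply, map_add, LinearMap.add_apply, sympB_apply, sympB_apply, h1,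
              sympForm_swap u' v', h']; simp
        · exact ⟨v', hv', h2, by rw [sympForm_swap u' v', h']; simp⟩
      · exact ⟨v, hv, by rw [h]; simp, h1⟩
    obtain ⟨A, hA, hAu, -⟩ := hstep hu hw hw1
    obtain ⟨B, hB, hBu, -⟩ := hstep hw hu' hw2
    exact ⟨B * A, mul_mem hB hA, by rw [mul_mulVec_sp, hAu, hBu]⟩
  set v₁ := (A₁ : Mat) *ᵥ v with hv₁def
  have h1 : Cfsg.sympForm m F u' v₁ = 1 := by rw [← hA₁u, hv₁def, sympForm_mulVec, h]
  have hv₁ : ∀ s ∈ S, Cfsg.sympForm m F s v₁ = 0 := fun s hs => by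
    rw [← closure_fixes hA₁ s hs, hv₁def, sympForm_mulVec, hv s hs]
  obtain ⟨A₂, hA₂, hA₂u, hA₂v⟩ : ∃ A ∈ Subgroup.closure (tvSet S),
      (A : Mat) *ᵥ u' = u' ∧ (A : Mat) *ᵥ v₁ = v' := by
    have hfix : ∀ {x y : Vec}, Cfsg.sympForm m F u' x = 1 → Cfsg.sympForm m F u' y = 1 →
        Cfsg.sympForm m F u' (y - x) = 0 := fun {x y} hx hy => by
      rw [← sympB_apply, map_sub, sympB_apply, sympB_apply, hx, hy, sub_self]
    by_cases h2 : Cfsg.sympForm m F v₁ v' = 0
    · have hw : Cfsg.sympForm m F u' (u' + v₁) = 1 := by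
        rw [← sympB_apply, map_add, sympB_apply, sympB_apply, sympForm_self, h1, zero_add]
      have e1 : Cfsg.sympForm m F v₁ (u' + v₁) ≠ 0 := by
        rw [← sympB_apply, map_add, sympB_apply, sympB_apply, sympForm_self,
          sympForm_swap u' v₁, h1]
        simp
      have e2 : Cfsg.sympForm m F (u' + v₁) v' ≠ 0 := by
        rw [← sympB_apply, map_add, LinearMap.add_apply, sympB_apply, sympB_apply, h2, h']
        simp
      obtain ⟨A, hA, hAx, hAf⟩ := hstep hv₁ (orth_add hu' hv₁) e1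
      obtain ⟨B, hB, hBx, hBf⟩ := hstep (orth_add hu' hv₁) hv' e2
      exact ⟨B * A, mul_mem hB hA, by rw [mul_mulVec_sp, hAf _ (hfix h1 hw), hBf _ (hfix hw h')],
        by rw [mul_mulVec_sp, hAx, hBx]⟩
    · obtain ⟨A, hA, hAx, hAf⟩ := hstep hv₁ hv' h2
      exact ⟨A, hA, hAf _ (hfix h1 h'), hAx⟩
  exact ⟨A₂ * A₁, mul_mem hA₂ hA₁, by rw [mul_mulVec_sp, hA₁u, hA₂u],
    by rw [mul_mulVec_sp, ← hv₁def, hA₂v]⟩

/-- The symplectic group is generated by its transvections. -/
theorem closure_tvSet_eq_top : Subgroup.closure (tvSet (F := F) (m := m) ∅) = ⊤ := by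
  rw [eq_top_iff]
  intro A _
  have key : ∀ k ≤ m, ∃ T ∈ Subgroup.closure (tvSet (F := F) (m := m) ∅),
      ∀ i : Fin m, (i : ℕ) < k →
        ((T * A : symplecticGroup (Fin m) F) : Mat) *ᵥ Pi.single (Sum.inl i) 1
            = Pi.single (Sum.inl i) 1 ∧
        ((T * A : symplecticGroup (Fin m) F) : Mat) *ᵥ Pi.single (Sum.inr i) 1
            = Pi.single (Sum.inr i) 1 := by
    intro k
    induction k with
    | zero => exact fun _ => ⟨1, one_mem _, fun i hi => absurd hi (Nat.not_lt_zero _)⟩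
    | succ k ih =>
      intro hk
      obtain ⟨T, hT, hfix⟩ := ih (by omega)
      set B := T * A with hB
      set i₀ : Fin m := ⟨k, by omega⟩ with hi₀
      let S : Set Vec := {x | ∃ i : Fin m, (i : ℕ) < k ∧
        (x = Pi.single (Sum.inl i) 1 ∨ x = Pi.single (Sum.inr i) 1)}
      have hSfix : ∀ s ∈ S, (B : Mat) *ᵥ s = s := by
        rintro s ⟨i, hi, rfl | rfl⟩
        exacts [(hfix i hi).1, (hfix i hi).2]
      have hSu : ∀ s ∈ S, Cfsg.sympForm m F s (Pi.single (Sum.inr i₀) 1) = 0 := by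
        rintro s ⟨i, hi, rfl | rfl⟩
        · rw [sympForm_inl_inr, if_neg fun h => by rw [h, hi₀] at hi; simp at hi]
        · exact sympForm_inr_inr _ _
      have hSv : ∀ s ∈ S, Cfsg.sympForm m F s (Pi.single (Sum.inl i₀) 1) = 0 := by
        rintro s ⟨i, hi, rfl | rfl⟩
        · exact sympForm_inl_inl _ _
        · rw [sympForm_inr_inl, if_neg fun h => by rw [h, hi₀] at hi; simp at hi]
      have himg : ∀ x : Vec, (∀ s ∈ S, Cfsg.sympForm m F s x = 0) →
          ∀ s ∈ S, Cfsg.sympForm m F s ((B : Mat) *ᵥ x) = 0 := fun x hx s hs => by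
        rw [← hSfix s hs, sympForm_mulVec, hx s hs]
      obtain ⟨T', hT', hu, hv⟩ := exists_move_pair (himg _ hSu) (himg _ hSv) hSu hSv
        (by rw [sympForm_mulVec, sympForm_inr_inl, if_pos rfl])
        (by rw [sympForm_inr_inl, if_pos rfl])
      refine ⟨T' * T, mul_mem (Subgroup.closure_mono (tvSet_mono (Set.empty_subset S)) hT') hT,
        fun i hi => ?_⟩
      rw [mul_assoc, mul_mulVec_sp T' (T * A), mul_mulVec_sp T' (T * A), ← hB]
      rcases Nat.lt_or_ge (i : ℕ) k with hik | hik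
      · rw [(hfix i hik).1, (hfix i hik).2]
        exact ⟨closure_fixes hT' _ ⟨i, hik, Or.inl rfl⟩, closure_fixes hT' _ ⟨i, hik, Or.inr rfl⟩⟩
      · obtain rfl : i = i₀ := Fin.ext (by simp [hi₀]; omega)
        exact ⟨hv, hu⟩
  obtain ⟨T, hT, hfix⟩ := key m le_rfl
  have h1 : T * A = 1 := by
    refine Subtype.ext (Matrix.ext fun x y => ?_)
    rcases y with i | i
    · have := congrFun (hfix i i.2).1 x
      simpa [Matrix.mulVec_single, Matrix.one_apply, Pi.single_apply] using this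
    · have := congrFun (hfix i i.2).2 x
      simpa [Matrix.mulVec_single, Matrix.one_apply, Pi.single_apply] using this
  have hAT : A = T⁻¹ := eq_inv_of_mul_eq_one_right h1
  exact hAT ▸ inv_mem hT

end Cfsg.Agent.Forms.SympStd
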