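import Mathlib
import Cfsg.Prelude.Def_ClassicalGeometry
import Cfsg.Prelude.Def_LieClassical
import Cfsg.Agent.Lib.Forms.Witt
import Cfsg.Agent.Lib.Forms.Bases

/-!
The standard hermitian form `hermForm n F q` over a field of order `q²`, its unitary groups as
isometry groups, determinants, unitary transvections.
-/

set_option autoImplicit false

namespace Cfsg.Agent.Forms.HermStd

open Matrix

variable {F : Type*} [Field F] [Fintype F] {q : ℕ} (hF : Fintype.card F = q ^ 2) {n : ℕ}

include hF in
theorem one_lt_q : 1 < q := by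
  have h := Fintype.one_lt_card (α := F)
  rw [hF] at h
  by_contra hq
  interval_cases q <;> simp at h

include hF in
theorem add_pow_q (x y : F) : (x + y) ^ q = x ^ q + y ^ q := by
  obtain ⟨⟨p, k⟩, hp, hk⟩ : ∃ pk : ℕ × ℕ, pk.1.Prime ∧ (CharP F pk.1 ∧ ∃ j, q = pk.1 ^ j) := by
    obtain ⟨p, hp⟩ := CharP.exists F
    haveI := hp
    obtain ⟨n, hpp, hn⟩ := FiniteField.card F p
    rw [hF] at hn
    obtain ⟨j, -, hj⟩ := (Nat.dvd_prime_pow hpp).1 (hn ▸ dvd_pow_self q two_ne_zero)
    exact ⟨⟨p, 0⟩, hpp, hp, j, hj⟩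
  obtain ⟨hchar, j, rfl⟩ := hk
  haveI := Fact.mk hp
  exact add_pow_char_pow x y p j

/-- `x ↦ x ^ q`. -/
def qHom : F →+* F where
  toFun x := x ^ q
  map_one' := one_pow q
  map_mul' x y := mul_pow x y q
  map_zero' := zero_pow (by have := one_lt_q hF; omega)
  map_add' := add_pow_q hF

@[simp] theorem qHom_apply (x : F) : qHom hF x = x ^ q := rfl

include hF in
theorem pow_q_q (x : F) : (x ^ q) ^ q = x := by
  rw [← pow_mul, ← sq, ← hF, FiniteField.pow_card]

theorem qHom_qHom (x : F) : qHom hF (qHom hF x) = x := pow_q_q hF x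

theorem qHom_ne_id : qHom hF ≠ RingHom.id F := by
  intro h
  classical
  have hq := one_lt_q hF
  have hle : Fintype.card F ≤ q := by
    have h0 : (Polynomial.X ^ q - Polynomial.X : Polynomial F) ≠ 0 :=
      FiniteField.X_pow_card_sub_X_ne_zero F hq
    have hsub : (Finset.univ : Finset F) ⊆ (Polynomial.X ^ q - Polynomial.X : Polynomial F).roots.toFinset := by
      intro x _
      rw [Multiset.mem_toFinset, Polynomial.mem_roots h0]
      have := RingHom.congr_fun h x
      simp only [qHom_apply, RingHom.id_apply] at this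
      simp [this]
    calc Fintype.card F ≤ _ := Finset.card_le_card hsub
      _ ≤ Multiset.card (Polynomial.X ^ q - Polynomial.X : Polynomial F).roots :=
          Multiset.toFinset_card_le _
      _ ≤ (Polynomial.X ^ q - Polynomial.X : Polynomial F).natDegree := Polynomial.card_roots' _
      _ = q := FiniteField.X_pow_card_sub_X_natDegree_eq F hq
  rw [hF] at hle
  nlinarith

/-- `hermForm` as a sesquilinear form (semilinear in the first variable). -/
noncomputable def hermB (n : ℕ) : (Fin n → F) →ₛₗ[qHom hF] (Fin n → F) →ₗ[F] F where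
  toFun u :=
    { toFun := fun v => Cfsg.hermForm n F q v u
      map_add' := fun a b => by simp [Cfsg.hermForm, add_mul, Finset.sum_add_distrib]
      map_smul' := fun c a => by simp [Cfsg.hermForm, Finset.mul_sum, mul_assoc] }
  map_add' a b := LinearMap.ext fun v => by
    simp [Cfsg.hermForm, add_pow_q hF, mul_add, Finset.sum_add_distrib]
  map_smul' c a := LinearMap.ext fun v => by
    simp [Cfsg.hermForm, mul_pow, Finset.mul_sum, mul_left_comm]

theorem hermB_apply (u v : Fin n → F) : hermB hF n u v = Cfsg.hermForm n F q v u := rfl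

include hF in
theorem hermForm_conj (u v : Fin n → F) :
    (Cfsg.hermForm n F q u v) ^ q = Cfsg.hermForm n F q v u := by
  rw [← qHom_apply hF, Cfsg.hermForm, map_sum]
  refine Finset.sum_congr rfl fun i _ => ?_
  rw [qHom_apply, mul_pow, pow_q_q hF, mul_comm]

theorem hermB_isSymm : (hermB hF n).IsSymm := ⟨fun u v => hermForm_conj hF v u⟩

theorem hermForm_single_right (v : Fin n → F) (i : Fin n) (hq : q ≠ 0) :
    Cfsg.hermForm n F q v (Pi.single i 1) = v i := by
  rw [Cfsg.hermForm, Finset.sum_eq_single i]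
  · simp
  · intro j _ hji; simp [hji, zero_pow hq]
  · simp

theorem hermB_nondegenerate : (hermB hF n).Nondegenerate := by
  have hq : q ≠ 0 := by have := one_lt_q hF; omega
  constructor
  · intro u h
    funext i
    have h1 := congrArg (qHom hF) (h (Pi.single i 1))
    rw [hermB_apply, map_zero, qHom_apply, hermForm_conj hF, hermForm_single_right u i hq] at h1
    exact h1
  · intro v h
    funext i
    have h1 := h (Pi.single i 1)
    rwa [hermB_apply, hermForm_single_right v i hq] at h1

theorem hermForm_single_single (i j : Fin n) (hq : q ≠ 0) :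
    Cfsg.hermForm n F q (Pi.single i 1) (Pi.single j 1) = if i = j then 1 else 0 := by
  rw [hermForm_single_right _ _ hq, Pi.single_apply]
  by_cases h : i = j <;> simp [h, Ne.symm]

/-! ### The groups -/

theorem mem_GU_iff {g : Matrix.GeneralLinearGroup (Fin n) F} :
    g ∈ Cfsg.GU n F q ↔ ∀ u v, Cfsg.hermForm n F q ((g : Matrix (Fin n) (Fin n) F) *ᵥ u)
      ((g : Matrix (Fin n) (Fin n) F) *ᵥ v) = Cfsg.hermForm n F q u v := Iff.rfl

theorem mem_SU_iff {g : Matrix.SpecialLinearGroup (Fin n) F} :
    g ∈ Cfsg.SU n F q ↔ ∀ u v, Cfsg.hermForm n F q ((g : Matrix (Fin n) (Fin n) F) *ᵥ u)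
      ((g : Matrix (Fin n) (Fin n) F) *ᵥ v) = Cfsg.hermForm n F q u v := Iff.rfl

include hF in
/-- A linear map preserving the form has determinant of norm one. -/
theorem det_norm (M : Matrix (Fin n) (Fin n) F)
    (hM : ∀ u v, Cfsg.hermForm n F q (M *ᵥ u) (M *ᵥ v) = Cfsg.hermForm n F q u v) :
    M.det ^ (q + 1) = 1 := by
  have hq : q ≠ 0 := by have := one_lt_q hF; omega
  have h : Mᵀ * (qHom hF).mapMatrix M = 1 := by
    ext i j
    have h1 := hM (Pi.single i 1) (Pi.single j 1)
    rw [hermForm_single_single i j hq] at h1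
    rw [Matrix.one_apply, ← h1]
    simp [Cfsg.hermForm, Matrix.mul_apply, Matrix.mulVec_single]
  have h2 := congrArg Matrix.det h
  rw [det_mul, det_transpose, det_one, ← RingHom.map_det, qHom_apply, ← pow_succ'] at h2
  exact h2

/-- A form preserving linear equivalence as an element of `GU`. -/
noncomputable def guOfEquiv (g : (Fin n → F) ≃ₗ[F] (Fin n → F))
    (hg : ∀ u v, Cfsg.hermForm n F q (g u) (g v) = Cfsg.hermForm n F q u v) :
    Cfsg.GU n F q :=
  ⟨⟨LinearMap.toMatrix' g.toLinearMap, LinearMap.toMatrix' g.symm.toLinearMap,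
    by rw [← LinearMap.toMatrix'_comp]; simp, by rw [← LinearMap.toMatrix'_comp]; simp⟩,
    fun u v => by
      show Cfsg.hermForm n F q (LinearMap.toMatrix' g.toLinearMap *ᵥ u)
        (LinearMap.toMatrix' g.toLinearMap *ᵥ v) = _
      simp only [← Matrix.toLin'_apply, Matrix.toLin'_toMatrix', LinearEquiv.coe_coe, hg]⟩

omit [Fintype F] in
theorem guOfEquiv_mulVec (g : (Fin n → F) ≃ₗ[F] (Fin n → F))
    (hg : ∀ u v, Cfsg.hermForm n F q (g u) (g v) = Cfsg.hermForm n F q u v) (v : Fin n → F) :
    ((guOfEquiv g hg : Matrix.GeneralLinearGroup (Fin n) F) : Matrix (Fin n) (Fin n) F) *ᵥ v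
      = g v := by
  simp [guOfEquiv, ← Matrix.toLin'_apply]

include hF in
/-- Witt's theorem inside `GU`. -/
theorem exists_extend (X : Submodule F (Fin n → F))
    (f : X →ₗ[F] (Fin n → F)) (hf : Function.Injective f)
    (hiso : ∀ x x' : X, Cfsg.hermForm n F q (f x) (f x') = Cfsg.hermForm n F q x x') :
    ∃ g : Cfsg.GU n F q, ∀ x : X,
      ((g : Matrix.GeneralLinearGroup (Fin n) F) : Matrix (Fin n) (Fin n) F) *ᵥ (x : Fin n → F)
        = f x := by
  obtain ⟨g, hg, hgx⟩ := Witt.witt_herm (qHom hF) (qHom_ne_id hF) (qHom_qHom hF) (hermB hF n)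
    (hermB_isSymm hF) (hermB_nondegenerate hF) X f hf fun x x' => hiso x' x
  exact ⟨guOfEquiv g fun u v => hg v u, fun x => (guOfEquiv_mulVec g _ _).trans (hgx x)⟩

/-! ### Transvections -/

theorem transvection_mulVec (v x : Fin n → F) (c : F) :
    Cfsg.unitaryTransvection n q v c *ᵥ x = x + (c * Cfsg.hermForm n F q x v) • v := by
  rw [Cfsg.unitaryTransvection, add_mulVec, one_mulVec, smul_mulVec, vecMulVec_mulVec,
    op_smul_eq_smul, smul_smul, dotProduct_comm]
  rfl

end Cfsg.Agent.Forms.HermStd
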