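import Mathlib

/-!
# The table of `SU₃(2)` with its map onto `Q₈`
-/

set_option autoImplicit false
set_option maxRecDepth 100000
set_option synthInstance.maxSize 4096
set_option synthInstance.maxHeartbeats 200000

namespace Cfsg.Agent.Forms.SU32

/-- the field with four elements as pairs -/
abbrev E4 : Type := ZMod 2 × ZMod 2
/-- zero -/
abbrev o : E4 := (0, 0)
/-- one -/
abbrev l : E4 := (1, 0)
/-- a cube root of unity -/
abbrev w : E4 := (0, 1)
/-- the other one -/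
abbrev v : E4 := (1, 1)
/-- rows -/
abbrev V3 : Type := E4 × E4 × E4
/-- matrices -/
abbrev M3 : Type := V3 × V3 × V3

/-- product in the field -/
def mE (x y : E4) : E4 := (x.1 * y.1 + x.2 * y.2, x.1 * y.2 + x.2 * y.1 + x.2 * y.2)

/-- a row times a matrix -/
def rowMul (r : V3) (Y : M3) : V3 :=
  (mE r.1 Y.1.1 + mE r.2.1 Y.2.1.1 + mE r.2.2 Y.2.2.1,
    mE r.1 Y.1.2.1 + mE r.2.1 Y.2.1.2.1 + mE r.2.2 Y.2.2.2.1,
    mE r.1 Y.1.2.2 + mE r.2.1 Y.2.1.2.2 + mE r.2.2 Y.2.2.2.2)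

/-- matrix product -/
def mulM (X Y : M3) : M3 := (rowMul X.1 Y, rowMul X.2.1 Y, rowMul X.2.2 Y)

/-- transpose -/
def tr (X : M3) : M3 :=
  ((X.1.1, X.2.1.1, X.2.2.1), (X.1.2.1, X.2.1.2.1, X.2.2.2.1), (X.1.2.2, X.2.1.2.2, X.2.2.2.2))

/-- conjugation -/
def cj (X : M3) : M3 :=
  let c : V3 → V3 := fun r => (mE r.1 r.1, mE r.2.1 r.2.1, mE r.2.2 r.2.2)
  (c X.1, c X.2.1, c X.2.2)

/-- determinant -/
def det3 (X : M3) : E4 :=
  mE (mE X.1.1 X.2.1.2.1) X.2.2.2.2 + mE (mE X.1.1 X.2.1.2.2) X.2.2.2.1 +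
    mE (mE X.1.2.1 X.2.1.1) X.2.2.2.2 + mE (mE X.1.2.1 X.2.1.2.2) X.2.2.1 +
    mE (mE X.1.2.2 X.2.1.1) X.2.2.2.1 + mE (mE X.1.2.2 X.2.1.2.1) X.2.2.1

/-- the identity matrix -/
def oneM : M3 := ((l, o, o), (o, l, o), (o, o, l))

/-- a scalar matrix -/
def isScalar (X : M3) : Bool :=
  decide (X = ((X.1.1, o, o), (o, X.1.1, o), (o, o, X.1.1)))

/-- the elements with their images -/
def table : List (M3 × QuaternionGroup 2) :=
  [(((l, o, o), (o, l, o), (o, o, l)), .a 0),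
    (((v, w, w), (w, w, v), (v, l, v)), .xa 1),
    (((w, l, v), (l, w, v), (v, v, v)), .xa 0),
    (((o, o, l), (o, v, o), (w, o, o)), .a 2),
    (((l, w, w), (w, w, l), (l, v, l)), .a 3),
    (((w, l, w), (v, v, w), (w, v, v)), .a 1),
    (((o, w, o), (w, o, o), (o, o, w)), .a 2),
    (((v, l, v), (l, l, w), (l, v, v)), .xa 3),
    (((l, v, w), (l, l, l), (l, w, v)), .xa 2),
    (((w, v, l), (w, w, w), (w, l, v)), .xa 0),
    (((v, v, l), (l, v, v), (l, w, l)), .xa 3),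
    (((v, v, v), (v, l, w), (v, w, l)), .xa 2),
    (((l, v, v), (w, w, v), (w, v, w)), .xa 1),
    (((v, l, v), (v, v, l), (w, l, l)), .xa 3),
    (((w, v, l), (v, w, l), (l, l, l)), .xa 2),
    (((w, o, o), (o, w, o), (o, o, w)), .a 0),
    (((v, l, l), (w, l, w), (w, w, l)), .a 1),
    (((v, v, w), (v, w, v), (l, w, w)), .a 3),
    (((o, l, o), (o, o, w), (v, o, o)), .a 0),
    (((l, v, l), (l, l, v), (w, v, v)), .a 1),
    (((o, o, w), (o, v, o), (l, o, o)), .a 2),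
    (((w, o, o), (o, l, o), (o, o, v)), .a 0),
    (((v, v, w), (w, v, v), (w, l, w)), .a 1),
    (((w, v, v), (w, w, l), (v, w, v)), .a 3),
    (((o, l, o), (o, o, v), (w, o, o)), .a 0),
    (((v, o, o), (o, o, l), (o, w, o)), .a 2),
    (((l, l, v), (v, w, v), (v, l, l)), .a 3),
    (((o, o, w), (l, o, o), (o, v, o)), .a 0),
    (((v, w, v), (v, v, w), (l, w, w)), .a 1),
    (((w, v, v), (l, l, v), (l, v, l)), .a 3),
    (((v, o, o), (o, v, o), (o, o, v)), .a 0),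
    (((l, v, v), (v, v, l), (l, w, l)), .xa 1),
    (((v, w, l), (w, v, l), (l, l, l)), .xa 0),
    (((w, w, w), (v, l, w), (l, v, w)), .xa 2),
    (((w, w, v), (l, w, l), (w, l, l)), .xa 1),
    (((l, w, v), (v, v, v), (w, l, v)), .xa 0),
    (((l, w, l), (l, l, w), (v, w, w)), .xa 3),
    (((w, w, w), (w, l, v), (w, v, l)), .xa 0),
    (((w, l, v), (l, l, l), (v, l, w)), .xa 2),
    (((w, w, v), (w, v, w), (l, v, v)), .xa 1),
    (((w, l, l), (v, l, v), (v, v, l)), .xa 3),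
    (((l, w, l), (v, w, w), (l, l, w)), .xa 1),
    (((v, l, w), (w, w, w), (l, v, w)), .xa 0),
    (((w, l, v), (v, v, v), (l, w, v)), .xa 2),
    (((w, l, l), (l, l, w), (w, v, w)), .xa 1),
    (((v, w, w), (v, l, v), (w, w, v)), .xa 3),
    (((v, v, l), (l, w, l), (l, v, v)), .xa 1),
    (((l, w, v), (l, l, l), (l, v, w)), .xa 0),
    (((w, v, w), (l, l, w), (w, l, l)), .xa 3),
    (((l, l, l), (v, l, w), (w, l, v)), .xa 2),
    (((v, w, l), (l, w, v), (w, w, w)), .xa 0),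
    (((v, v, l), (w, l, l), (v, l, v)), .xa 3),
    (((w, l, l), (w, w, v), (l, w, l)), .xa 1),
    (((l, w, v), (w, w, w), (v, w, l)), .xa 0),
    (((l, v, w), (v, v, v), (w, v, l)), .xa 2),
    (((l, l, w), (l, w, l), (v, w, w)), .xa 1),
    (((l, l, l), (w, l, v), (v, l, w)), .xa 0),
    (((l, w, l), (v, v, l), (l, v, v)), .xa 3),
    (((l, v, w), (v, l, w), (w, w, w)), .xa 0),
    (((o, o, w), (o, l, o), (v, o, o)), .a 2),
    (((w, v, v), (v, v, w), (w, l, w)), .a 3),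
    (((v, w, v), (l, l, v), (v, l, l)), .a 1),
    (((o, v, o), (v, o, o), (o, o, v)), .a 2),
    (((w, w, l), (l, v, l), (l, w, w)), .a 3),
    (((v, o, o), (o, w, o), (o, o, l)), .a 0),
    (((v, w, v), (l, w, w), (v, v, w)), .a 3),
    (((l, w, w), (w, l, w), (l, l, v)), .a 1),
    (((o, v, o), (l, o, o), (o, o, w)), .a 2),
    (((o, o, v), (w, o, o), (o, l, o)), .a 0),
    (((l, w, w), (l, v, l), (w, w, l)), .a 1),
    (((o, o, v), (o, w, o), (l, o, o)), .a 2),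
    (((o, o, l), (w, o, o), (o, v, o)), .a 0),
    (((o, l, o), (v, o, o), (o, o, w)), .a 2),
    (((w, w, l), (w, l, w), (v, l, l)), .a 3),
    (((l, o, o), (o, w, o), (o, o, v)), .a 0),
    (((w, l, w), (l, l, v), (l, w, w)), .a 1),
    (((o, o, v), (o, v, o), (v, o, o)), .a 2),
    (((w, w, l), (v, w, v), (w, v, v)), .a 3),
    (((v, l, l), (l, v, l), (v, v, w)), .a 1),
    (((o, w, o), (v, o, o), (o, o, l)), .a 2),
    (((w, l, w), (l, w, w), (l, l, v)), .a 3),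
    (((v, o, o), (o, l, o), (o, o, w)), .a 0),
    (((v, l, l), (l, l, v), (v, w, v)), .a 3),
    (((o, o, l), (l, o, o), (o, l, o)), .a 0),
    (((v, v, w), (v, l, l), (l, v, l)), .a 1),
    (((w, o, o), (o, o, w), (o, w, o)), .a 2),
    (((v, l, l), (w, w, l), (w, l, w)), .a 3),
    (((o, o, l), (o, w, o), (v, o, o)), .a 2),
    (((o, w, o), (o, o, v), (l, o, o)), .a 0),
    (((v, v, w), (l, w, w), (v, w, v)), .a 1),
    (((l, v, l), (w, v, v), (l, l, v)), .a 3),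
    (((l, o, o), (o, o, l), (o, l, o)), .a 2),
    (((o, w, o), (o, o, w), (w, o, o)), .a 0),
    (((l, v, l), (w, w, l), (l, w, w)), .a 1),
    (((w, l, w), (w, v, v), (v, v, w)), .a 3),
    (((l, l, v), (v, l, l), (v, w, v)), .a 1),
    (((w, o, o), (o, o, v), (o, l, o)), .a 2),
    (((o, o, v), (l, o, o), (o, w, o)), .a 0),
    (((o, v, o), (w, o, o), (o, o, l)), .a 2),
    (((l, l, v), (l, v, l), (w, v, v)), .a 3),
    (((l, v, l), (v, v, w), (v, l, l)), .a 1),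
    (((w, o, o), (o, o, l), (o, v, o)), .a 2),
    (((w, w, l), (v, l, l), (w, l, w)), .a 1),
    (((o, l, o), (l, o, o), (o, o, l)), .a 2),
    (((l, w, l), (w, w, v), (w, l, l)), .xa 3),
    (((w, l, v), (w, w, w), (w, v, l)), .xa 2),
    (((v, l, w), (v, v, v), (v, w, l)), .xa 0),
    (((l, l, w), (w, l, l), (w, v, w)), .xa 3),
    (((l, l, l), (l, w, v), (l, v, w)), .xa 2),
    (((w, l, l), (v, v, l), (v, l, v)), .xa 1),
    (((v, l, w), (l, v, w), (w, w, w)), .xa 2),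
    (((l, v, w), (w, v, l), (v, v, v)), .xa 0),
    (((l, l, w), (v, w, w), (l, w, l)), .xa 3),
    (((w, v, w), (l, v, v), (w, w, v)), .xa 1),
    (((l, v, w), (l, w, v), (l, l, l)), .xa 0),
    (((w, v, w), (v, v, l), (v, w, w)), .xa 3),
    (((v, l, v), (l, v, v), (l, l, w)), .xa 1),
    (((w, w, v), (w, l, l), (l, w, l)), .xa 3),
    (((l, l, l), (w, v, l), (v, w, l)), .xa 2),
    (((v, w, w), (v, v, l), (w, v, w)), .xa 1),
    (((w, v, l), (v, v, v), (l, v, w)), .xa 0),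
    (((w, v, l), (l, v, w), (v, v, v)), .xa 2),
    (((v, w, l), (v, v, v), (v, l, w)), .xa 2),
    (((v, l, v), (v, w, w), (w, w, v)), .xa 1),
    (((w, w, w), (v, w, l), (l, w, v)), .xa 0),
    (((l, v, v), (l, w, l), (v, v, l)), .xa 3),
    (((v, w, l), (l, l, l), (w, v, l)), .xa 2),
    (((v, v, l), (w, v, w), (v, w, w)), .xa 1),
    (((w, w, w), (l, v, w), (v, l, w)), .xa 0),
    (((l, w, v), (w, l, v), (v, v, v)), .xa 2),
    (((w, v, l), (w, l, v), (w, w, w)), .xa 2),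
    (((v, v, v), (v, w, l), (v, l, w)), .xa 0),
    (((l, v, v), (w, v, w), (w, w, v)), .xa 3),
    (((w, v, w), (v, w, w), (v, v, l)), .xa 1),
    (((l, l, w), (l, v, v), (v, l, v)), .xa 3),
    (((v, v, v), (l, w, v), (w, l, v)), .xa 2),
    (((l, v, v), (v, l, v), (l, l, w)), .xa 3),
    (((l, l, l), (v, w, l), (w, v, l)), .xa 0),
    (((w, w, v), (v, w, w), (v, l, v)), .xa 3),
    (((l, w, l), (l, v, v), (v, v, l)), .xa 1),
    (((v, l, w), (w, l, v), (l, l, l)), .xa 2),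
    (((w, w, w), (w, v, l), (w, l, v)), .xa 2),
    (((l, w, v), (l, v, w), (l, l, l)), .xa 2),
    (((w, w, v), (v, l, v), (v, w, w)), .xa 1),
    (((w, l, v), (w, v, l), (w, w, w)), .xa 0),
    (((v, w, w), (w, v, w), (v, v, l)), .xa 3),
    (((v, w, w), (l, l, w), (l, w, l)), .xa 1),
    (((v, v, v), (w, l, v), (l, w, v)), .xa 0),
    (((v, v, l), (v, w, w), (w, v, w)), .xa 3),
    (((v, v, v), (w, v, l), (l, v, w)), .xa 2),
    (((w, v, w), (w, l, l), (l, l, w)), .xa 1),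
    (((w, v, l), (l, l, l), (v, w, l)), .xa 0),
    (((w, v, w), (w, w, v), (l, v, v)), .xa 3),
    (((v, l, v), (w, l, l), (v, v, l)), .xa 1),
    (((v, w, l), (w, w, w), (l, w, v)), .xa 2),
    (((v, l, w), (v, w, l), (v, v, v)), .xa 2),
    (((l, l, w), (w, v, w), (w, l, l)), .xa 1),
    (((l, w, w), (v, w, v), (v, v, w)), .a 1),
    (((w, l, w), (w, w, l), (v, l, l)), .a 1),
    (((o, o, v), (o, l, o), (w, o, o)), .a 2),
    (((v, l, l), (v, v, w), (l, v, l)), .a 3),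
    (((o, w, o), (o, o, l), (v, o, o)), .a 0),
    (((l, o, o), (o, o, w), (o, v, o)), .a 2),
    (((o, v, o), (o, o, v), (v, o, o)), .a 0),
    (((o, o, l), (o, l, o), (l, o, o)), .a 2),
    (((v, v, w), (l, v, l), (v, l, l)), .a 3),
    (((w, v, v), (l, v, l), (l, l, v)), .a 1),
    (((v, w, v), (w, v, v), (w, w, l)), .a 3),
    (((o, o, w), (v, o, o), (o, l, o)), .a 0),
    (((w, v, v), (w, l, w), (v, v, w)), .a 1),
    (((v, w, v), (v, l, l), (l, l, v)), .a 3),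
    (((w, w, l), (l, w, w), (l, v, l)), .a 1),
    (((o, o, w), (w, o, o), (o, w, o)), .a 0),
    (((o, v, o), (o, o, l), (w, o, o)), .a 0),
    (((v, o, o), (o, o, w), (o, l, o)), .a 2),
    (((l, l, v), (l, w, w), (w, l, w)), .a 1),
    (((l, w, w), (v, v, w), (v, w, v)), .a 3),
    (((l, v, l), (l, w, w), (w, w, l)), .a 3),
    (((o, l, o), (o, o, l), (l, o, o)), .a 0),
    (((l, o, o), (o, o, v), (o, w, o)), .a 2),
    (((v, v, w), (w, l, w), (w, v, v)), .a 3),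
    (((l, o, o), (o, v, o), (o, o, w)), .a 0),
    (((w, v, v), (v, w, v), (w, w, l)), .a 1),
    (((l, l, v), (w, v, v), (l, v, l)), .a 1),
    (((o, w, o), (l, o, o), (o, o, v)), .a 2),
    (((o, l, o), (w, o, o), (o, o, v)), .a 2),
    (((l, w, w), (l, l, v), (w, l, w)), .a 3),
    (((o, o, v), (v, o, o), (o, v, o)), .a 0),
    (((o, v, o), (o, o, w), (l, o, o)), .a 0),
    (((v, l, l), (v, w, v), (l, l, v)), .a 1),
    (((o, o, l), (v, o, o), (o, w, o)), .a 0),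
    (((o, o, w), (o, w, o), (w, o, o)), .a 2),
    (((l, l, v), (w, l, w), (l, w, w)), .a 3),
    (((v, o, o), (o, o, v), (o, v, o)), .a 2),
    (((v, v, l), (v, l, v), (w, l, l)), .xa 1),
    (((v, w, w), (l, w, l), (l, l, w)), .xa 3),
    (((v, l, v), (w, w, v), (v, w, w)), .xa 3),
    (((w, w, w), (l, w, v), (v, w, l)), .xa 2),
    (((l, w, l), (w, l, l), (w, w, v)), .xa 1),
    (((l, l, l), (l, v, w), (l, w, v)), .xa 0),
    (((l, l, w), (v, l, v), (l, v, v)), .xa 1),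
    (((w, l, l), (l, w, l), (w, w, v)), .xa 3),
    (((v, v, v), (l, v, w), (w, v, l)), .xa 0),
    (((l, v, w), (w, w, w), (v, l, w)), .xa 2),
    (((w, l, v), (v, l, w), (l, l, l)), .xa 0),
    (((w, w, v), (l, v, v), (w, v, w)), .xa 3),
    (((v, w, l), (v, l, w), (v, v, v)), .xa 0),
    (((w, l, l), (w, v, w), (l, l, w)), .xa 3),
    (((l, w, v), (v, w, l), (w, w, w)), .xa 2),
    (((l, v, v), (l, l, w), (v, l, v)), .xa 1),
    (((v, l, w), (l, l, l), (w, l, v)), .xa 0),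
    (((w, o, o), (o, v, o), (o, o, l)), .a 0),
    (((v, w, v), (w, w, l), (w, v, v)), .a 1),
    (((w, l, w), (v, l, l), (w, w, l)), .a 3),
    (((l, v, l), (v, l, l), (v, v, w)), .a 3),
    (((w, w, l), (w, v, v), (v, w, v)), .a 1)]

/-- left multiplication by generator 0 -/
def nxt0 : List ℕ :=
  [1, 3, 5, 7, 9, 11, 13, 15, 17, 19, 21, 23, 25, 27, 29, 31, 33, 35, 12, 38, 40, 41, 43, 32,
    46, 48, 50, 52, 54, 56, 44, 59, 61, 63, 20, 66, 68, 69, 60, 72, 74, 76, 78, 80, 70, 83, 85, 28,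
    88, 90, 16, 92, 62, 95, 4, 98, 100, 18, 93, 104, 106, 108, 36, 111, 113, 114, 105, 117, 119, 121, 115, 123,
    125, 42, 127, 129, 107, 131, 8, 134, 53, 34, 47, 39, 49, 136, 124, 132, 109, 142, 144, 145, 116, 141, 147, 126,
    57, 150, 45, 151, 110, 112, 155, 152, 30, 99, 158, 64, 160, 162, 86, 157, 163, 164, 84, 0, 101, 168, 26, 103,
    171, 77, 73, 67, 75, 172, 167, 159, 102, 176, 177, 169, 81, 179, 71, 180, 161, 183, 181, 185, 165, 186, 170, 91,
    175, 24, 96, 89, 97, 65, 79, 182, 190, 191, 82, 94, 193, 135, 154, 195, 58, 156, 196, 198, 138, 199, 118, 120,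
    139, 140, 137, 203, 194, 146, 205, 197, 202, 128, 133, 51, 204, 153, 122, 130, 207, 148, 2, 55, 143, 208, 209, 10,
    37, 201, 184, 211, 173, 213, 174, 189, 87, 188, 212, 214, 166, 178, 215, 187, 192, 6, 22, 200, 14, 206, 210, 149]

/-- left multiplication by generator 1 -/
def nxt1 : List ℕ :=
  [2, 4, 6, 8, 10, 12, 14, 16, 18, 20, 22, 24, 26, 28, 30, 32, 34, 36, 37, 39, 11, 42, 44, 45,
    47, 49, 51, 53, 55, 57, 58, 60, 62, 64, 65, 67, 19, 70, 71, 73, 75, 77, 79, 81, 82, 84, 86, 87,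
    89, 27, 91, 93, 94, 96, 97, 99, 101, 102, 103, 105, 107, 109, 110, 112, 35, 115, 116, 118, 120, 52, 122, 124,
    126, 13, 128, 41, 130, 132, 133, 135, 136, 137, 138, 111, 139, 140, 48, 141, 131, 143, 7, 121, 114, 146, 148, 1,
    149, 56, 43, 152, 153, 154, 156, 129, 157, 88, 159, 95, 161, 63, 0, 85, 5, 165, 76, 166, 167, 169, 21, 170,
    25, 172, 173, 160, 174, 175, 74, 90, 98, 15, 178, 3, 100, 80, 69, 181, 182, 184, 171, 186, 187, 188, 163, 29,
    164, 66, 180, 72, 189, 190, 23, 185, 158, 192, 168, 92, 176, 127, 194, 108, 125, 9, 197, 144, 155, 40, 200, 201,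
    202, 119, 134, 31, 204, 199, 54, 150, 196, 117, 206, 38, 205, 151, 198, 46, 203, 33, 207, 50, 106, 209, 210, 142,
    195, 208, 17, 212, 183, 68, 214, 59, 213, 78, 179, 211, 193, 61, 191, 215, 83, 177, 162, 147, 113, 104, 145, 123]

/-- the construction of each element -/
def par : List (ℕ × ℕ) :=
  [(0, 0), (0, 0), (1, 0), (0, 1), (1, 1), (0, 2), (1, 2), (0, 3), (1, 3), (0, 4),
    (1, 4), (0, 5), (1, 5), (0, 6), (1, 6), (0, 7), (1, 7), (0, 8), (1, 8), (0, 9),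
    (1, 9), (0, 10), (1, 10), (0, 11), (1, 11), (0, 12), (1, 12), (0, 13), (1, 13), (0, 14),
    (1, 14), (0, 15), (1, 15), (0, 16), (1, 16), (0, 17), (1, 17), (1, 18), (0, 19), (1, 19),
    (0, 20), (0, 21), (1, 21), (0, 22), (1, 22), (1, 23), (0, 24), (1, 24), (0, 25), (1, 25),
    (0, 26), (1, 26), (0, 27), (1, 27), (0, 28), (1, 28), (0, 29), (1, 29), (1, 30), (0, 31),
    (1, 31), (0, 32), (1, 32), (0, 33), (1, 33), (1, 34), (0, 35), (1, 35), (0, 36), (0, 37),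
    (1, 37), (1, 38), (0, 39), (1, 39), (0, 40), (1, 40), (0, 41), (1, 41), (0, 42), (1, 42),
    (0, 43), (1, 43), (1, 44), (0, 45), (1, 45), (0, 46), (1, 46), (1, 47), (0, 48), (1, 48),
    (0, 49), (1, 50), (0, 51), (1, 51), (1, 52), (0, 53), (1, 53), (1, 54), (0, 55), (1, 55),
    (0, 56), (1, 56), (1, 57), (1, 58), (0, 59), (1, 59), (0, 60), (1, 60), (0, 61), (1, 61),
    (1, 62), (0, 63), (1, 63), (0, 64), (0, 65), (1, 65), (1, 66), (0, 67), (1, 67), (0, 68),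
    (1, 68), (0, 69), (1, 70), (0, 71), (1, 71), (0, 72), (1, 72), (0, 74), (1, 74), (0, 75),
    (1, 76), (0, 77), (1, 77), (1, 78), (0, 79), (1, 79), (1, 80), (1, 81), (1, 82), (1, 84),
    (1, 85), (1, 87), (0, 89), (1, 89), (0, 90), (0, 91), (1, 93), (0, 94), (1, 94), (1, 96),
    (0, 97), (0, 99), (1, 99), (1, 100), (1, 101), (0, 102), (1, 102), (1, 104), (0, 106), (1, 106),
    (0, 108), (1, 108), (0, 109), (0, 112), (0, 113), (1, 113), (1, 115), (1, 116), (0, 117), (1, 117),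
    (1, 119), (0, 120), (1, 121), (1, 122), (1, 124), (1, 125), (0, 129), (0, 130), (1, 130), (0, 133),
    (0, 135), (1, 135), (1, 136), (0, 137), (1, 137), (0, 139), (1, 139), (1, 140), (1, 141), (1, 148),
    (1, 149), (0, 153), (1, 153), (0, 156), (1, 158), (0, 159), (0, 162), (1, 162), (0, 163), (0, 165),
    (1, 166), (1, 167), (1, 168), (0, 171), (1, 172), (0, 174), (1, 178), (0, 184), (0, 189), (1, 189),
    (1, 190), (0, 195), (1, 195), (0, 197), (1, 198), (0, 206)]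

/-- generator indices -/
def gi : ℕ × ℕ := (1, 2)

/-- the entry -/
def el (i : ℕ) : M3 × QuaternionGroup 2 := table.getD i (oneM, .a 0)

theorem length_table : table.length = 216 := by decide +kernel

theorem nodup_table : (table.map Prod.fst).Nodup := by decide +kernel

theorem mem_table : table.all (fun x => decide (mulM (tr x.1) (cj x.1) = oneM) &&
    decide (det3 x.1 = l)) = true := by decide +kernel

theorem nxt0_spec : ∀ i < 216, nxt0.getD i 0 < 216 ∧
    (el (nxt0.getD i 0)).1 = mulM (el gi.1).1 (el i).1 ∧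
    (el (nxt0.getD i 0)).2 = (el gi.1).2 * (el i).2 := by decide +kernel

theorem nxt1_spec : ∀ i < 216, nxt1.getD i 0 < 216 ∧
    (el (nxt1.getD i 0)).1 = mulM (el gi.2).1 (el i).1 ∧
    (el (nxt1.getD i 0)).2 = (el gi.2).2 * (el i).2 := by decide +kernel

theorem par_spec : ∀ i < 216, i = 0 ∨ ((par.getD i (0, 0)).2 < i ∧
    (((par.getD i (0, 0)).1 = 0 ∧ nxt0.getD (par.getD i (0, 0)).2 0 = i) ∨
      ((par.getD i (0, 0)).1 = 1 ∧ nxt1.getD (par.getD i (0, 0)).2 0 = i))) := by decide +kernel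

theorem cube_scalar : table.all (fun x => !(decide (x.2 = QuaternionGroup.a 0)) ||
    isScalar (mulM (mulM x.1 x.1) x.1)) = true := by decide +kernel

theorem scalar_label : table.all (fun x => !(isScalar x.1) ||
    decide (x.2 = QuaternionGroup.a 0)) = true := by decide +kernel

theorem gi_lt : gi.1 < 216 ∧ gi.2 < 216 := by decide +kernel

theorem el_zero : el 0 = (oneM, QuaternionGroup.a 0) := by decide +kernel

theorem label_surjective : ∀ x : QuaternionGroup 2, x ∈ table.map Prod.snd := by decide +kernel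

end Cfsg.Agent.Forms.SU32
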