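import Mathlib

/-!
# Finite groups acting with at most two fixed points per element

The abstract setting of Klein's and Dickson's classification of finite subgroups of `PGL₂`.
-/

set_option autoImplicit false
set_option linter.unusedSectionVars false

namespace Cfsg.Agent.Forms.DicksonBasic

open MulAction

/-- every element other than `1` fixes one point if it has order `p`, two points otherwise -/
structure TwoPt (p : ℕ) (G : Type*) (X : Type*) [Group G] [MulAction G X] : Prop where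
  finite_fix : ∀ g : G, g ≠ 1 → (fixedBy X g).Finite
  ncard_fix : ∀ g : G, g ≠ 1 → (fixedBy X g).ncard = if orderOf g = p then 1 else 2
  comm : ∀ (x : X) (g h : G), g • x = x → h • x = x → orderOf g = p → orderOf h = p → Commute g h
  cyc : ∀ (x : X) (S : Subgroup G), (∀ g ∈ S, g • x = x) → (∀ g ∈ S, orderOf g ≠ p) → IsCyclic S

variable {p : ℕ} {G : Type*} {X : Type*} [Group G] [MulAction G X]

theorem TwoPt.subgroup (hT : TwoPt p G X) (H : Subgroup G) : TwoPt p H X where
  finite_fix g hg := hT.finite_fix (g : G) fun h => hg (Subtype.ext h)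
  ncard_fix g hg := by
    rw [← Subgroup.orderOf_coe]
    exact hT.ncard_fix (g : G) fun h => hg (Subtype.ext h)
  comm x g h hg hh og oh := Subtype.ext (hT.comm x g h hg hh
    (by rw [Subgroup.orderOf_coe]; exact og) (by rw [Subgroup.orderOf_coe]; exact oh))
  cyc x S hS hp := by
    have h := hT.cyc x (S.map H.subtype)
      (by rintro _ ⟨s, hs, rfl⟩; exact hS s hs)
      (by rintro _ ⟨s, hs, rfl⟩ e; exact hp s hs (by rwa [← Subgroup.orderOf_coe]))
    exact isCyclic_of_surjective (S.equivMapOfInjective _ H.subtype_injective).symm.toMonoidHom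
      (S.equivMapOfInjective _ H.subtype_injective).symm.surjective

/-- a finite action all of whose orbits have size `m` -/
theorem dvd_card_of_index {K : Type*} [Group K] {Y : Type*} [MulAction K Y] [Finite Y] {m : ℕ}
    (h : ∀ y : Y, (stabilizer K y).index = m) : m ∣ Nat.card Y := by
  classical
  have : Fintype Y := Fintype.ofFinite Y
  have : Fintype (orbitRel.Quotient K Y) := Fintype.ofFinite _
  rw [Nat.card_congr (selfEquivSigmaOrbits K Y), Nat.card_sigma]
  refine Finset.dvd_sum fun ω _ => ?_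
  rw [Nat.card_coe_set_eq, ← index_stabilizer, h]

namespace TwoPt

variable [hp : Fact p.Prime] (hT : TwoPt p G X)
include hT

theorem fix_eq {g : G} (hg : orderOf g = p) {x : X} (hx : g • x = x) : fixedBy X g = {x} := by
  have hg1 : g ≠ 1 := fun h => by
    rw [h, orderOf_one] at hg; exact hp.out.one_lt.ne hg
  obtain ⟨y, hy⟩ := Set.ncard_eq_one.1 (by rw [hT.ncard_fix g hg1, if_pos hg] :
    (fixedBy X g).ncard = 1)
  have : x ∈ fixedBy X g := hx
  rw [hy, Set.mem_singleton_iff] at this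
  rw [hy, this]

theorem exists_pair {g : G} (hg1 : g ≠ 1) (hg : orderOf g ≠ p) :
    ∃ x y, x ≠ y ∧ fixedBy X g = {x, y} :=
  Set.ncard_eq_two.1 (by rw [hT.ncard_fix g hg1, if_neg hg])

theorem exists_fixed {g : G} (hg1 : g ≠ 1) : ∃ x : X, g • x = x := by
  have h := hT.ncard_fix g hg1
  obtain ⟨x, hx⟩ : (fixedBy X g).Nonempty := by
    rw [Set.nonempty_iff_ne_empty]
    intro he
    rw [he, Set.ncard_empty] at h
    split_ifs at h <;> omega
  exact ⟨x, hx⟩

theorem eq_of_fix {g : G} (hg : orderOf g = p) {x y : X} (hx : g • x = x) (hy : g • y = y) : y = x :=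
  Set.mem_singleton_iff.1 (hT.fix_eq hg hx ▸ (hy : y ∈ fixedBy X g))

/-- commuting with an element of order `p` -/
theorem cent_p {g h : G} (hg : orderOf g = p) {x : X} (hx : g • x = x) (hc : Commute h g) :
    h • x = x ∧ h ^ p = 1 := by
  have hhx : h • x = x := hT.eq_of_fix hg hx (by rw [← mul_smul, ← hc.eq, mul_smul, hx])
  refine ⟨hhx, ?_⟩
  by_contra hne
  have h1 : h ≠ 1 := fun e => hne (by rw [e, one_pow])
  have ho : orderOf h ≠ p := fun e => hne (by rw [← e, pow_orderOf_eq_one])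
  obtain ⟨a, b, hab, hf⟩ := hT.exists_pair h1 ho
  obtain ⟨y, hy, hyx⟩ : ∃ y, h • y = y ∧ y ≠ x := by
    have ha : a ∈ fixedBy X h := by rw [hf]; simp
    have hb : b ∈ fixedBy X h := by rw [hf]; simp
    by_cases hax : a = x
    · exact ⟨b, hb, fun e => hab (hax.trans e.symm)⟩
    · exact ⟨a, ha, hax⟩
  have hgy : g • y ∈ fixedBy X h := by
    show h • g • y = g • y
    rw [← mul_smul, hc.eq, mul_smul, hy]
  have hxm : x ∈ fixedBy X h := hhx
  have hym : y ∈ fixedBy X h := hy
  rw [hf] at hgy hxm hym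
  have hgyx : g • y ≠ x := fun e => hyx (smul_left_cancel g (e.trans hx.symm))
  have hgyy : g • y = y := by
    simp only [Set.mem_insert_iff, Set.mem_singleton_iff] at hgy hxm hym
    rcases hgy with e | e <;> rcases hxm with e' | e' <;> rcases hym with e'' | e'' <;>
      simp_all
  exact hyx (hT.eq_of_fix hg hx hgyy)

/-- elements of order divisible by `p` have order `p` -/
theorem orderOf_eq [Finite G] {g : G} (h : p ∣ orderOf g) : orderOf g = p := by
  obtain ⟨m, hm⟩ := h
  have h0 := orderOf_pos g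
  rw [hm] at h0
  have hu : orderOf (g ^ m) = p := by
    rw [orderOf_pow' g (fun e => by rw [e, mul_zero] at h0; omega), hm, Nat.gcd_mul_left_left,
      Nat.mul_div_cancel _ (Nat.pos_of_ne_zero fun e => by rw [e, mul_zero] at h0; omega)]
  obtain ⟨x, hx⟩ := hT.exists_fixed (g := g ^ m) fun e => by
    rw [e, orderOf_one] at hu; exact hp.out.one_lt.ne hu
  have h2 := (hT.cent_p hu hx ((Commute.refl g).pow_right m)).2
  have := orderOf_dvd_of_pow_eq_one h2
  exact Nat.dvd_antisymm this (Dvd.intro m hm.symm)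

/-- the `p`-subgroup fixing a point -/
def pSub (x : X) : Subgroup G where
  carrier := {g | g • x = x ∧ g ^ p = 1}
  one_mem' := ⟨one_smul G x, one_pow p⟩
  mul_mem' {g h} hg hh := by
    refine ⟨by rw [mul_smul, hh.1, hg.1], ?_⟩
    rcases eq_or_ne g 1 with rfl | g1
    · rw [one_mul]; exact hh.2
    rcases eq_or_ne h 1 with rfl | h1
    · rw [mul_one]; exact hg.2
    rw [(hT.comm x g h hg.1 hh.1 (orderOf_eq_prime hg.2 g1) (orderOf_eq_prime hh.2 h1)).mul_pow, hg.2,
      hh.2, one_mul]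
  inv_mem' {g} hg := ⟨inv_smul_eq_iff.2 hg.1.symm, by rw [inv_pow, hg.2, inv_one]⟩

theorem mem_pSub {x : X} {g : G} : g ∈ hT.pSub x ↔ g • x = x ∧ g ^ p = 1 := Iff.rfl

theorem orderOf_of_mem {x : X} {g : G} (hg : g ∈ hT.pSub x) (h1 : g ≠ 1) : orderOf g = p :=
  orderOf_eq_prime hg.2 h1

theorem isPGroup_pSub (x : X) : IsPGroup p (hT.pSub x) := fun g =>
  ⟨1, Subtype.ext (by rw [pow_one, SubmonoidClass.coe_pow]; exact g.2.2)⟩

theorem pSub_comm {x : X} {g h : G} (hg : g ∈ hT.pSub x) (hh : h ∈ hT.pSub x) : Commute g h := by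
  rcases eq_or_ne g 1 with rfl | g1
  · exact Commute.one_left h
  rcases eq_or_ne h 1 with rfl | h1
  · exact Commute.one_right g
  exact hT.comm x g h hg.1 hh.1 (hT.orderOf_of_mem hg g1) (hT.orderOf_of_mem hh h1)

theorem pSub_conj {x : X} {g h : G} (hg : g ∈ hT.pSub x) : h * g * h⁻¹ ∈ hT.pSub (h • x) := by
  refine ⟨by rw [mul_smul, mul_smul, inv_smul_smul, hg.1], ?_⟩
  rw [conj_pow, hg.2, mul_one, mul_inv_cancel]

theorem conj_mem_pSub {x : X} {g h : G} (hh : h • x = x) (hg : g ∈ hT.pSub x) :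
    h * g * h⁻¹ ∈ hT.pSub x := by
  have := hT.pSub_conj (h := h) hg
  rwa [hh] at this

theorem smul_eq_of_conj_mem {x : X} {g h : G} (hg : g ∈ hT.pSub x) (h1 : g ≠ 1)
    (hm : h * g * h⁻¹ ∈ hT.pSub x) : h • x = x := by
  have h2 := hT.pSub_conj (h := h) hg
  refine hT.eq_of_fix (g := h * g * h⁻¹) (hT.orderOf_of_mem hm ?_) hm.1 h2.1
  intro e
  exact h1 (conj_eq_one_iff.1 e)

/-- every Sylow subgroup fixes a point -/
theorem exists_eq_pSub [Finite G] (P : Sylow p G) (hP : (P : Subgroup G) ≠ ⊥) :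
    ∃ x, (P : Subgroup G) = hT.pSub x := by
  have : Nontrivial (P : Subgroup G) := Subgroup.nontrivial_iff_ne_bot _ |>.2 hP
  have := P.2.center_nontrivial
  obtain ⟨⟨⟨z, hzP⟩, hzc⟩, hz1⟩ := exists_ne (1 : Subgroup.center (P : Subgroup G))
  have hzne : z ≠ 1 := fun e => hz1 (Subtype.ext (Subtype.ext e))
  obtain ⟨k, hk⟩ := IsPGroup.iff_orderOf.1 P.2 ⟨z, hzP⟩
  rw [Subgroup.orderOf_mk] at hk
  have hk0 : k ≠ 0 := fun e => hzne (orderOf_eq_one_iff.1 (by rw [hk, e, pow_zero]))
  have ho : orderOf z = p := hT.orderOf_eq (hk ▸ dvd_pow_self p hk0)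
  obtain ⟨x, hx⟩ := hT.exists_fixed hzne
  refine ⟨x, (P.is_maximal' (hT.isPGroup_pSub x) fun g hg => ?_).symm⟩
  exact hT.cent_p ho hx (congrArg Subtype.val (Subgroup.mem_center_iff.1 hzc ⟨g, hg⟩))

/-- a nontrivial `pSub` is a Sylow subgroup -/
theorem exists_sylow_eq [Finite G] {x : X} (hx : hT.pSub x ≠ ⊥) :
    ∃ P : Sylow p G, (P : Subgroup G) = hT.pSub x := by
  obtain ⟨P, hP⟩ := (hT.isPGroup_pSub x).exists_le_sylow
  obtain ⟨y, hy⟩ := hT.exists_eq_pSub P fun e => hx (eq_bot_iff.2 (e ▸ hP))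
  obtain ⟨g, hg, hg1⟩ := (Subgroup.ne_bot_iff_exists_ne_one.1 hx).elim fun g hg =>
    (⟨(g : G), g.2, fun e => hg (Subtype.ext e)⟩ : ∃ g, g ∈ hT.pSub x ∧ g ≠ 1)
  have hgy : g ∈ hT.pSub y := hy ▸ hP hg
  rw [hT.eq_of_fix (hT.orderOf_of_mem hg hg1) hg.1 hgy.1] at hy
  exact ⟨P, hy⟩

/-- the points fixed by elements of order `p` form one orbit -/
theorem orbit_pSub [Finite G] {x y : X} (hx : hT.pSub x ≠ ⊥) (hy : hT.pSub y ≠ ⊥) :
    y ∈ orbit G x := by
  obtain ⟨P, hP⟩ := hT.exists_sylow_eq hx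
  obtain ⟨Q, hQ⟩ := hT.exists_sylow_eq hy
  obtain ⟨h, rfl⟩ := MulAction.exists_smul_eq G P Q
  obtain ⟨g, hg, hg1⟩ := (Subgroup.ne_bot_iff_exists_ne_one.1 hx).elim fun g hg =>
    (⟨(g : G), g.2, fun e => hg (Subtype.ext e)⟩ : ∃ g, g ∈ hT.pSub x ∧ g ≠ 1)
  refine ⟨h, ?_⟩
  have h1 : h * g * h⁻¹ ∈ hT.pSub y := by
    rw [← hQ, Sylow.coe_subgroup_smul, hP]
    exact Subgroup.smul_mem_pointwise_smul g (MulAut.conj h) _ hg
  exact hT.eq_of_fix (hT.orderOf_of_mem h1 fun e => hg1 (conj_eq_one_iff.1 e)) h1.1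
    (hT.pSub_conj hg).1

/-- the number of conjugates -/
theorem card_sylow_le [Finite G] {r : ℕ} [Fact r.Prime] (s : Set X) (hs : s.Finite)
    (st : ∀ x ∈ s, ∃ Q : Sylow r G, ((Q : Subgroup G) ≠ ⊥) ∧ ∀ g ∈ (Q : Subgroup G), g • x = x) :
    s.ncard ≤ 2 * Nat.card (Sylow r G) := by
  classical
  have : Finite s := hs.to_subtype
  have : Fintype s := Fintype.ofFinite _
  have : Fintype (Sylow r G) := Fintype.ofFinite _
  choose f hf1 hf2 using fun x : s => st x x.2
  rw [← Nat.card_coe_set_eq, Nat.card_eq_fintype_card, Nat.card_eq_fintype_card, ← Finset.card_univ,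
    ← Finset.card_univ (α := Sylow r G)]
  refine (Finset.card_le_mul_card_image_of_maps_to (f := f) (fun x _ => Finset.mem_univ _) 2 ?_)
  intro Q _
  by_cases hQ : (Finset.univ.filter fun x => f x = Q).Nonempty
  · obtain ⟨a, ha⟩ := hQ
    rw [Finset.mem_filter] at ha
    obtain ⟨g, hg⟩ := Subgroup.ne_bot_iff_exists_ne_one.1 (ha.2 ▸ hf1 a)
    have hg1 : (g : G) ≠ 1 := fun e => hg (Subtype.ext e)
    calc (Finset.univ.filter fun x => f x = Q).card
        = ((Finset.univ.filter fun x => f x = Q).image Subtype.val).card :=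
          (Finset.card_image_of_injective _ Subtype.val_injective).symm
      _ ≤ (hT.finite_fix _ hg1).toFinset.card := by
          refine Finset.card_le_card fun y hy => ?_
          obtain ⟨x, hx, rfl⟩ := Finset.mem_image.1 hy
          rw [Finset.mem_filter] at hx
          rw [Set.Finite.mem_toFinset]
          exact hf2 x g (by rw [hx.2]; exact g.2)
      _ ≤ 2 := by
          rw [← Set.ncard_eq_toFinset_card _ (hT.finite_fix _ hg1), hT.ncard_fix _ hg1]
          split_ifs <;> omega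
  · rw [Finset.not_nonempty_iff_eq_empty.1 hQ]; simp

theorem natCard_cent_le [Finite G] {z : G} (hz : z ≠ 1) (hzp : orderOf z ≠ p) {x : X}
    (hx : z • x = x) {m : ℕ}
    (hm : Nat.card {h : G // h • x = x ∧ Commute h z} ≤ m) :
    Nat.card (Subgroup.centralizer ({z} : Set G)) ≤ 2 * m := by
  classical
  set C := Subgroup.centralizer ({z} : Set G)
  have hC : ∀ h : C, Commute (h : G) z := fun h =>
    (Subgroup.mem_centralizer_singleton_iff.1 h.2)
  have horb : MulAction.orbit C x ⊆ fixedBy X z := by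
    rintro _ ⟨h, rfl⟩
    show z • (h : G) • x = (h : G) • x
    rw [← mul_smul, ← (hC h).eq, mul_smul, hx]
  have h2 : (MulAction.orbit C x).ncard ≤ 2 := by
    refine (Set.ncard_le_ncard horb (hT.finite_fix z hz)).trans ?_
    rw [hT.ncard_fix z hz, if_neg hzp]
  have hs : Nat.card (stabilizer C x) ≤ m := by
    refine le_trans ?_ hm
    refine Nat.card_le_card_of_injective (fun h => ⟨(h.1 : G), h.2, hC h.1⟩) ?_
    intro a b hab
    exact Subtype.ext (Subtype.ext (congrArg (fun t => (t : {h : G // h • x = x ∧ Commute h z}).1) hab))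
  rw [← (stabilizer C x).index_mul_card, index_stabilizer]
  exact Nat.mul_le_mul h2 hs

end TwoPt

end Cfsg.Agent.Forms.DicksonBasic
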