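import Mathlib
import Cfsg.Agent.Lib.Forms.Bases
import Cfsg.Agent.Lib.Classical.GL2
import Cfsg.Agent.Lib.Classical.SylowSL2

/-!
# Elements of order four in `SL₂` and involutions in `PSL₂`, odd characteristic
-/

set_option autoImplicit false
set_option linter.unusedSectionVars false

namespace Cfsg.Agent.Forms.KleinSL2

open Matrix
open scoped MatrixGroups

variable {F : Type*} [Field F]

/-- `x + y J` -/
def cM (x y : F) : Matrix (Fin 2) (Fin 2) F := !![x, -y; y, x]

/-- the matrices anticommuting with `J` -/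
def aM (a b : F) : Matrix (Fin 2) (Fin 2) F := !![a, b; b, -a]

theorem det_cM (x y : F) : (cM x y).det = x * x + y * y := by simp [cM, det_fin_two]

theorem det_aM (a b : F) : (aM a b).det = -(a * a + b * b) := by simp [aM, det_fin_two]; ring

theorem cM_mul (x y x' y' : F) : cM x y * cM x' y' = cM (x * x' - y * y') (x * y' + y * x') := by
  ext i j
  fin_cases i <;> fin_cases j <;> simp [cM, Matrix.mul_apply, Fin.sum_univ_two] <;> ring

theorem aM_mul_self (a b : F) : aM a b * aM a b = (a * a + b * b) • 1 := by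
  ext i j
  fin_cases i <;> fin_cases j <;> simp [aM, Matrix.mul_apply, Fin.sum_univ_two] <;> ring

theorem cM_mul_J (x y : F) : cM x y * cM 0 1 = cM 0 1 * cM x y := by
  rw [cM_mul, cM_mul]; congr 1 <;> ring

theorem aM_mul_J (a b : F) : aM a b * cM 0 1 = -(cM 0 1 * aM a b) := by
  ext i j
  fin_cases i <;> fin_cases j <;> simp [aM, cM, Matrix.mul_apply, Fin.sum_univ_two]

theorem eq_cM_of_comm {M : Matrix (Fin 2) (Fin 2) F} (h : M * cM 0 1 = cM 0 1 * M) :
    M = cM (M 0 0) (M 1 0) := by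
  have h1 := congrFun (congrFun h 0) 0
  have h2 := congrFun (congrFun h 0) 1
  simp [cM, Matrix.mul_apply, Fin.sum_univ_two] at h1 h2
  ext i j
  fin_cases i <;> fin_cases j <;> simp [cM]
  · linear_combination h1
  · linear_combination -h2

theorem eq_aM_of_anti {M : Matrix (Fin 2) (Fin 2) F} (h : M * cM 0 1 = -(cM 0 1 * M)) :
    M = aM (M 0 0) (M 0 1) := by
  have h1 := congrFun (congrFun h 0) 0
  have h2 := congrFun (congrFun h 0) 1
  simp [cM, Matrix.mul_apply, Fin.sum_univ_two, Matrix.vecMul, dotProduct] at h1 h2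
  ext i j
  fin_cases i <;> fin_cases j <;> simp [aM]
  · linear_combination -h1
  · linear_combination -h2

/-- `J` -/
def jSL : SL(2, F) := ⟨cM 0 1, by rw [det_cM]; ring⟩

theorem coe_jSL : ((jSL : SL(2, F)) : Matrix (Fin 2) (Fin 2) F) = cM 0 1 := rfl

theorem jSL_sq : (jSL : SL(2, F)) * jSL = -1 := by
  apply Subtype.ext
  rw [Matrix.SpecialLinearGroup.coe_mul, coe_jSL, cM_mul, Matrix.SpecialLinearGroup.coe_neg,
    Matrix.SpecialLinearGroup.coe_one]
  ext i j
  fin_cases i <;> fin_cases j <;> simp [cM]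

/-- solutions of `x² + y² = c` -/
abbrev Circ (F : Type*) [Field F] (c : F) : Type _ := {p : F × F // p.1 * p.1 + p.2 * p.2 = c}

variable [Fintype F]

theorem exists_circ (h2 : (2 : F) ≠ 0) (c : F) : ∃ x y : F, x * x + y * y = c := by
  obtain ⟨x, y, h⟩ := Bases.exists_sq_add_sq h2 one_ne_zero one_ne_zero c
  exact ⟨x, y, by linear_combination h⟩

theorem natCard_circ_eq (h2 : (2 : F) ≠ 0) {c : F} (hc : c ≠ 0) :
    Nat.card (Circ F c) = Nat.card (Circ F 1) := by
  obtain ⟨a, b, hab⟩ := exists_circ h2 c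
  exact (Nat.card_congr (show Circ F 1 ≃ Circ F c from
    { toFun := fun p => ⟨(a * p.1.1 - b * p.1.2, a * p.1.2 + b * p.1.1), by
        linear_combination (p.1.1 * p.1.1 + p.1.2 * p.1.2) * hab + c * p.2⟩
      invFun := fun p => ⟨((a * p.1.1 + b * p.1.2) / c, (a * p.1.2 - b * p.1.1) / c), by
        field_simp
        linear_combination (p.1.1 ^ 2 + p.1.2 ^ 2) * hab + c * p.2⟩
      left_inv := fun p => by
        apply Subtype.ext
        show ((a * (a * p.1.1 - b * p.1.2) + b * (a * p.1.2 + b * p.1.1)) / c,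
          (a * (a * p.1.2 + b * p.1.1) - b * (a * p.1.1 - b * p.1.2)) / c) = p.1
        refine Prod.ext ?_ ?_ <;> dsimp only <;> rw [div_eq_iff hc]
        · linear_combination p.1.1 * hab
        · linear_combination p.1.2 * hab
      right_inv := fun p => by
        apply Subtype.ext
        show (a * ((a * p.1.1 + b * p.1.2) / c) - b * ((a * p.1.2 - b * p.1.1) / c),
          a * ((a * p.1.2 - b * p.1.1) / c) + b * ((a * p.1.1 + b * p.1.2) / c)) = p.1
        refine Prod.ext ?_ ?_ <;> dsimp only <;> field_simp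
        · linear_combination p.1.1 * hab
        · linear_combination p.1.2 * hab })).symm

/-- the number of points of the unit circle -/
theorem natCard_circ_one (h2 : (2 : F) ≠ 0) :
    (Fintype.card F % 4 = 1 → Nat.card (Circ F 1) = Fintype.card F - 1) ∧
      (Fintype.card F % 4 = 3 → Nat.card (Circ F 1) = Fintype.card F + 1) := by
  classical
  have hsum : Nat.card (Circ F 0) + (Fintype.card F - 1) * Nat.card (Circ F 1) =
      Fintype.card F * Fintype.card F := by
    rw [← Nat.card_eq_fintype_card, ← Nat.card_prod,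
      ← Nat.card_congr (Equiv.sigmaFiberEquiv fun p : F × F => p.1 * p.1 + p.2 * p.2), Nat.card_sigma,
      ← Finset.add_sum_erase _ _ (Finset.mem_univ (0 : F))]
    congr 1
    rw [Finset.sum_congr rfl fun c hc => natCard_circ_eq h2 (Finset.ne_of_mem_erase hc),
      Finset.sum_const, Finset.card_erase_of_mem (Finset.mem_univ _), Finset.card_univ,
      Nat.card_eq_fintype_card (α := F)]
    rfl
  have hq := Fintype.one_lt_card (α := F)
  constructor <;> intro hm
  · obtain ⟨i, hi⟩ := FiniteField.isSquare_neg_one_iff.2 (by omega : Fintype.card F % 4 ≠ 3)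
    let f : F × F → F × F := fun p => (p.1 + i * p.2, p.1 - i * p.2)
    have hi0 : i ≠ 0 := fun h => by simp [h] at hi
    have hf : Function.Bijective f := by
      refine Finite.injective_iff_bijective.1 fun p p' h => ?_
      simp only [f, Prod.mk.injEq] at h
      obtain ⟨h1, h3⟩ := h
      have e1 : p.1 = p'.1 := mul_left_cancel₀ h2 (by linear_combination h1 + h3)
      refine Prod.ext e1 (mul_left_cancel₀ hi0 ?_)
      linear_combination h1 - e1
    have h0 : Nat.card (Circ F 0) = 2 * Fintype.card F - 1 := by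
      have e : Nat.card (Circ F 0) = Nat.card {p : F × F // p.1 * p.2 = 0} :=
        Nat.card_congr ((Equiv.ofBijective f hf).subtypeEquiv fun p => by
          show _ ↔ (p.1 + i * p.2) * (p.1 - i * p.2) = 0
          constructor <;> intro h
          · linear_combination h + p.2 * p.2 * hi
          · linear_combination h - p.2 * p.2 * hi)
      rw [e, Nat.card_eq_fintype_card, Fintype.card_subtype]
      have : (Finset.univ.filter fun p : F × F => p.1 * p.2 = 0) =
          ({0} ×ˢ Finset.univ) ∪ ((Finset.univ.erase 0) ×ˢ {0}) := by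
        ext ⟨a, b⟩
        rcases eq_or_ne a 0 with rfl | ha <;> simp [*, eq_comm]
      rw [this, Finset.card_union_of_disjoint, Finset.card_product, Finset.card_product,
        Finset.card_singleton, Finset.card_erase_of_mem (Finset.mem_univ _), Finset.card_univ]
      · omega
      · rw [Finset.disjoint_left]
        rintro ⟨a, b⟩ h1 h3
        simp at h1 h3
        exact h3.1 h1.symm h3.2.symm
    rw [h0] at hsum
    obtain ⟨r, hr⟩ : ∃ r, Fintype.card F = r + 1 := ⟨Fintype.card F - 1, by omega⟩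
    rw [hr, Nat.add_sub_cancel] at hsum
    rw [hr, Nat.add_sub_cancel]
    refine Nat.eq_of_mul_eq_mul_left (show 0 < r by omega) ?_
    have : (r + 1) * (r + 1) = r * r + (2 * (r + 1) - 1) := by
      rw [show (r + 1) * (r + 1) = r * r + (2 * r + 1) by ring]; omega
    omega
  · have hns : ¬ IsSquare (-1 : F) := fun h => FiniteField.isSquare_neg_one_iff.1 h hm
    have h0 : Nat.card (Circ F 0) = 1 := by
      rw [Nat.card_eq_one_iff_unique]
      refine ⟨⟨fun p p' => ?_⟩, ⟨⟨(0, 0), by simp⟩⟩⟩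
      have key : ∀ p : Circ F 0, p.1 = (0, 0) := by
        rintro ⟨⟨a, b⟩, h⟩
        simp only at h
        rcases eq_or_ne b 0 with rfl | hb
        · simp at h; simp [h]
        · refine absurd ⟨a / b, ?_⟩ hns
          field_simp
          linear_combination -h
      exact Subtype.ext ((key p).trans (key p').symm)
    rw [h0] at hsum
    obtain ⟨r, hr⟩ : ∃ r, Fintype.card F = r + 1 := ⟨Fintype.card F - 1, by omega⟩
    rw [hr, Nat.add_sub_cancel] at hsum
    rw [hr]
    refine Nat.eq_of_mul_eq_mul_left (show 0 < r by omega) ?_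
    have : (r + 1) * (r + 1) = 1 + r * (r + 1 + 1) := by ring
    omega

/-- every element with square `-1` is conjugate to `J` -/
theorem exists_conj_j (h2 : (2 : F) ≠ 0) {A : SL(2, F)} (hA : A * A = -1) :
    ∃ g : SL(2, F), g * jSL * g⁻¹ = A := by
  have hAm : (A : Matrix (Fin 2) (Fin 2) F) * A = -1 := by
    rw [← Matrix.SpecialLinearGroup.coe_mul, hA, Matrix.SpecialLinearGroup.coe_neg,
      Matrix.SpecialLinearGroup.coe_one]
  set M : Matrix (Fin 2) (Fin 2) F := (A : Matrix (Fin 2) (Fin 2) F) with hM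
  have h00 := congrFun (congrFun hAm 0) 0
  have h01 := congrFun (congrFun hAm 0) 1
  have h10 := congrFun (congrFun hAm 1) 0
  have h11 := congrFun (congrFun hAm 1) 1
  simp [Matrix.mul_apply, Fin.sum_univ_two] at h00 h01 h10 h11
  have hd : M 0 0 * M 1 1 - M 0 1 * M 1 0 = 1 := by
    rw [← det_fin_two]; exact A.2
  obtain ⟨v0, v1, hv⟩ : ∃ v0 v1 : F,
      v0 * (M 1 0 * v0 + M 1 1 * v1) - v1 * (M 0 0 * v0 + M 0 1 * v1) ≠ 0 := by
    by_contra hne
    push Not at hne
    have e1 := hne 1 0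
    have e2 := hne 0 1
    have e3 := hne 1 1
    simp only [one_mul, zero_mul, mul_one, mul_zero, add_zero, zero_add, zero_sub, sub_zero,
      neg_eq_zero] at e1 e2 e3
    have e4 : M 1 1 = M 0 0 := by linear_combination e3 - e1 + e2
    rw [e4, e2, e1] at hd
    rw [e2, e1] at h00
    refine h2 ?_
    linear_combination h00 - hd
  set P : Matrix (Fin 2) (Fin 2) F :=
    !![v0, M 0 0 * v0 + M 0 1 * v1; v1, M 1 0 * v0 + M 1 1 * v1] with hP
  have hPd : P.det ≠ 0 := by
    rw [hP, det_fin_two]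
    simpa [mul_comm] using hv
  have hPJ : M * P = P * cM 0 1 := by
    ext i j
    fin_cases i <;> fin_cases j <;> simp [hP, cM, Matrix.mul_apply, Fin.sum_univ_two]
    · linear_combination v0 * h00 + v1 * h01
    · linear_combination v0 * h10 + v1 * h11
  obtain ⟨x, y, hxy⟩ := exists_circ h2 (P.det)⁻¹
  have hg : (P * cM x y).det = 1 := by rw [det_mul, det_cM, hxy, mul_inv_cancel₀ hPd]
  refine ⟨⟨P * cM x y, hg⟩, ?_⟩
  refine mul_inv_eq_iff_eq_mul.2 (Subtype.ext ?_)
  show P * cM x y * cM 0 1 = M * (P * cM x y)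
  rw [mul_assoc, cM_mul_J, ← mul_assoc, ← hPJ, mul_assoc]

/-- the elements with square `-1` -/
abbrev Quarter (F : Type*) [Field F] : Type _ := {A : SL(2, F) // A * A = -1}

theorem natCard_cent (F : Type*) [Field F] [Fintype F] :
    Nat.card {g : SL(2, F) // g * jSL = jSL * g} = Nat.card (Circ F 1) :=
  Nat.card_congr
    { toFun := fun g => ⟨((g.1 : Matrix (Fin 2) (Fin 2) F) 0 0, (g.1 : Matrix (Fin 2) (Fin 2) F) 1 0), by
        have h : (g.1 : Matrix (Fin 2) (Fin 2) F) * cM 0 1 = cM 0 1 * (g.1 : Matrix (Fin 2) (Fin 2) F) :=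
          congrArg Subtype.val g.2
        have hd := g.1.2
        rw [eq_cM_of_comm h, det_cM] at hd
        exact hd⟩
      invFun := fun p => ⟨⟨cM p.1.1 p.1.2, by rw [det_cM]; exact p.2⟩,
        Subtype.ext (cM_mul_J p.1.1 p.1.2)⟩
      left_inv := fun g => Subtype.ext (Subtype.ext
        (eq_cM_of_comm (congrArg Subtype.val g.2 :)).symm)
      right_inv := fun p => Subtype.ext (Prod.ext (by simp [cM]) (by simp [cM])) }

theorem natCard_anti (F : Type*) [Field F] [Fintype F] :
    Nat.card {g : SL(2, F) // g * jSL = -(jSL * g)} = Nat.card (Circ F (-1)) :=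
  Nat.card_congr
    { toFun := fun g => ⟨((g.1 : Matrix (Fin 2) (Fin 2) F) 0 0, (g.1 : Matrix (Fin 2) (Fin 2) F) 0 1), by
        have h : (g.1 : Matrix (Fin 2) (Fin 2) F) * cM 0 1 =
            -(cM 0 1 * (g.1 : Matrix (Fin 2) (Fin 2) F)) := congrArg Subtype.val g.2
        have hd := g.1.2
        rw [eq_aM_of_anti h, det_aM] at hd
        linear_combination -hd⟩
      invFun := fun p => ⟨⟨aM p.1.1 p.1.2, by rw [det_aM, p.2, neg_neg]⟩,
        Subtype.ext (aM_mul_J p.1.1 p.1.2)⟩
      left_inv := fun g => Subtype.ext (Subtype.ext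
        (eq_aM_of_anti (congrArg Subtype.val g.2 :)).symm)
      right_inv := fun p => Subtype.ext (Prod.ext (by simp [aM]) (by simp [aM])) }

theorem anti_sq {g : SL(2, F)} (h : g * jSL = -(jSL * g)) : g * g = -1 := by
  have hm : (g : Matrix (Fin 2) (Fin 2) F) * cM 0 1 = -(cM 0 1 * (g : Matrix (Fin 2) (Fin 2) F)) :=
    congrArg Subtype.val h
  have hd := g.2
  have he := eq_aM_of_anti hm
  apply Subtype.ext
  rw [Matrix.SpecialLinearGroup.coe_mul, Matrix.SpecialLinearGroup.coe_neg,
    Matrix.SpecialLinearGroup.coe_one]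
  rw [he, det_aM] at hd
  rw [he, aM_mul_self, show ((g : Matrix (Fin 2) (Fin 2) F) 0 0 * (g : Matrix (Fin 2) (Fin 2) F) 0 0 +
      (g : Matrix (Fin 2) (Fin 2) F) 0 1 * (g : Matrix (Fin 2) (Fin 2) F) 0 1) = -1 by
    linear_combination -hd, neg_one_smul]

theorem natCard_quarter_mul (h2 : (2 : F) ≠ 0) :
    Nat.card (Quarter F) * Nat.card (Circ F 1) = Nat.card SL(2, F) := by
  classical
  let φ : SL(2, F) → Quarter F := fun g => ⟨g * jSL * g⁻¹, by
    rw [show g * jSL * g⁻¹ * (g * jSL * g⁻¹) = g * (jSL * jSL) * g⁻¹ by group, jSL_sq, mul_neg, mul_one,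
      neg_mul, mul_inv_cancel]⟩
  rw [← Nat.card_congr (Equiv.sigmaFiberEquiv φ), Nat.card_sigma]
  have : ∀ A, Nat.card {g // φ g = A} = Nat.card (Circ F 1) := by
    intro A
    obtain ⟨h, hh⟩ := exists_conj_j h2 A.2
    rw [← natCard_cent]
    refine Nat.card_congr
      { toFun := fun g => ⟨h⁻¹ * g.1, ?_⟩
        invFun := fun g => ⟨h * g.1, Subtype.ext ?_⟩
        left_inv := fun g => Subtype.ext (mul_inv_cancel_left _ _)
        right_inv := fun g => Subtype.ext (inv_mul_cancel_left _ _) }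
    · have e : g.1 * jSL * g.1⁻¹ = h * jSL * h⁻¹ := (congrArg Subtype.val g.2).trans hh.symm
      calc h⁻¹ * g.1 * jSL = h⁻¹ * (g.1 * jSL * g.1⁻¹) * g.1 := by group
        _ = jSL * (h⁻¹ * g.1) := by rw [e]; group
    · show h * g.1 * jSL * (h * g.1)⁻¹ = A.1
      rw [mul_assoc h, g.2, ← hh]
      group
  rw [Finset.sum_congr rfl fun A _ => this A, Finset.sum_const, smul_eq_mul, Finset.card_univ,
    Nat.card_eq_fintype_card]

theorem natCard_anti_of (h2 : (2 : F) ≠ 0) (A : Quarter F) :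
    Nat.card {g : SL(2, F) // g * A.1 = -(A.1 * g)} = Nat.card (Circ F 1) := by
  obtain ⟨h, hh⟩ := exists_conj_j h2 A.2
  rw [← natCard_circ_eq h2 (neg_ne_zero.2 one_ne_zero), ← natCard_anti, ← hh]
  refine Nat.card_congr ((MulAut.conj h⁻¹).toEquiv.subtypeEquiv fun g => ?_)
  show g * (h * jSL * h⁻¹) = -((h * jSL * h⁻¹) * g) ↔
    h⁻¹ * g * h⁻¹⁻¹ * jSL = -(jSL * (h⁻¹ * g * h⁻¹⁻¹))
  constructor <;> intro e
  · calc h⁻¹ * g * h⁻¹⁻¹ * jSL = h⁻¹ * (g * (h * jSL * h⁻¹)) * h := by group
      _ = -(h⁻¹ * (h * jSL * h⁻¹ * g) * h) := by rw [e, mul_neg, neg_mul]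
      _ = _ := by congr 1; group
  · calc g * (h * jSL * h⁻¹) = h * (h⁻¹ * g * h⁻¹⁻¹ * jSL) * h⁻¹ := by group
      _ = -(h * (jSL * (h⁻¹ * g * h⁻¹⁻¹)) * h⁻¹) := by rw [e, mul_neg, neg_mul]
      _ = _ := by congr 1; group

/-- anticommuting pairs of elements with square `-1` -/
abbrev QPair (F : Type*) [Field F] : Type _ :=
  Σ A : Quarter F, {g : SL(2, F) // g * A.1 = -(A.1 * g)}

theorem natCard_qpair (h2 : (2 : F) ≠ 0) : Nat.card (QPair F) = Nat.card SL(2, F) := by
  classical
  rw [Nat.card_sigma, Finset.sum_congr rfl fun A _ => natCard_anti_of h2 A, Finset.sum_const,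
    smul_eq_mul, Finset.card_univ, ← Nat.card_eq_fintype_card, natCard_quarter_mul h2]

theorem qpair_sq (h2 : (2 : F) ≠ 0) (p : QPair F) : p.2.1 * p.2.1 = -1 := by
  obtain ⟨⟨A, hA⟩, ⟨B, e⟩⟩ := p
  obtain ⟨h, rfl⟩ := exists_conj_j h2 hA
  show B * B = -1
  have h1 : (h⁻¹ * B * h) * jSL = -(jSL * (h⁻¹ * B * h)) := by
    calc (h⁻¹ * B * h) * jSL = h⁻¹ * (B * (h * jSL * h⁻¹)) * h := by group
      _ = -(h⁻¹ * (h * jSL * h⁻¹ * B) * h) := by rw [e, mul_neg, neg_mul]
      _ = _ := by congr 1; group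
  have h3 := anti_sq h1
  calc B * B = h * ((h⁻¹ * B * h) * (h⁻¹ * B * h)) * h⁻¹ := by group
    _ = -1 := by rw [h3, mul_neg, mul_one, neg_mul, mul_inv_cancel]

end Cfsg.Agent.Forms.KleinSL2
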