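import Mathlib
import Cfsg.Agent.Lib.Forms.KleinSL2
import Cfsg.Agent.Lib.Classical.SmallIso

/-!
# Involutions and Klein four subgroups of `PSL₂`, odd characteristic
-/

set_option autoImplicit false
set_option linter.unusedSectionVars false

namespace Cfsg.Agent.Forms.KleinPSL

open Matrix Cfsg.Agent.Forms.KleinSL2
open scoped MatrixGroups

variable {F : Type*} [Field F] [Fintype F]

local notation "PG" => Matrix.ProjectiveSpecialLinearGroup (Fin 2) F

/-- the projection -/
def pi (F : Type*) [Field F] : SL(2, F) →* Matrix.ProjectiveSpecialLinearGroup (Fin 2) F :=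
  QuotientGroup.mk' _

theorem pi_surjective : Function.Surjective (pi F) := QuotientGroup.mk'_surjective _

theorem ne_neg_self (h2 : (2 : F) ≠ 0) (a : SL(2, F)) : a ≠ -a := by
  intro h
  have h1 : (a : Matrix (Fin 2) (Fin 2) F) = -(a : Matrix (Fin 2) (Fin 2) F) :=
    (congrArg Subtype.val h).trans (Matrix.SpecialLinearGroup.coe_neg a)
  have hz : ∀ i j, (a : Matrix (Fin 2) (Fin 2) F) i j = 0 := by
    intro i j
    have := congrFun (congrFun h1 i) j
    rw [Matrix.neg_apply] at this
    exact (mul_eq_zero.1 (by linear_combination this :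
      (2 : F) * (a : Matrix (Fin 2) (Fin 2) F) i j = 0)).resolve_left h2
  have hd := a.2
  rw [det_fin_two, hz, hz, hz, hz] at hd
  simp at hd

theorem pi_eq_one {a : SL(2, F)} : pi F a = 1 ↔ a = 1 ∨ a = -1 := by
  rw [pi, QuotientGroup.mk'_apply, QuotientGroup.eq_one_iff, Matrix.SpecialLinearGroup.mem_center_iff]
  constructor
  · rintro ⟨r, hr, hra⟩
    rw [Fintype.card_fin, pow_two] at hr
    rcases mul_self_eq_one_iff.1 hr with rfl | rfl
    · left; exact Subtype.ext (by rw [← hra]; simp)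
    · right
      refine Subtype.ext ?_
      rw [← hra, Matrix.SpecialLinearGroup.coe_neg, Matrix.SpecialLinearGroup.coe_one]
      ext i j
      fin_cases i <;> fin_cases j <;> simp
  · rintro (rfl | rfl)
    · exact ⟨1, one_pow _, by simp⟩
    · refine ⟨-1, by simp, ?_⟩
      rw [Matrix.SpecialLinearGroup.coe_neg, Matrix.SpecialLinearGroup.coe_one]
      ext i j
      fin_cases i <;> fin_cases j <;> simp

theorem pi_eq_iff {a b : SL(2, F)} : pi F a = pi F b ↔ a = b ∨ a = -b := by
  rw [← inv_mul_eq_one, ← map_inv, ← map_mul, pi_eq_one]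
  constructor
  · rintro (h | h)
    · exact Or.inl (inv_mul_eq_one.1 h)
    · refine Or.inr ?_
      have := congrArg (a * ·) h
      simp only [mul_inv_cancel_left] at this
      rw [this]; simp
  · rintro (rfl | rfl)
    · exact Or.inl (inv_mul_cancel a)
    · right
      rw [show (-b)⁻¹ = -(b⁻¹) from inv_eq_of_mul_eq_one_right (by simp), neg_mul, inv_mul_cancel]

theorem pi_neg (a : SL(2, F)) : pi F (-a) = pi F a := pi_eq_iff.2 (Or.inr rfl)

theorem orderOf_pi_eq_two (h2 : (2 : F) ≠ 0) {X : SL(2, F)} : orderOf (pi F X) = 2 ↔ X * X = -1 := by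
  constructor
  · intro h
    have h1 : pi F (X * X) = 1 := by
      have h0 := pow_orderOf_eq_one (pi F X)
      rw [h, pow_two] at h0
      rw [map_mul]; exact h0
    rcases pi_eq_one.1 h1 with h3 | h3
    · exfalso
      have hne : pi F X ≠ 1 := fun e => by rw [e, orderOf_one] at h; omega
      rcases eq_or_ne X 1 with rfl | hX
      · exact hne (map_one _)
      refine hne (pi_eq_one.2 (Or.inr (Subtype.ext ?_)))
      rw [Classical.SylowSL2.eq_neg_one_of_sq h2 X hX h3, Matrix.SpecialLinearGroup.coe_neg,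
        Matrix.SpecialLinearGroup.coe_one]
    · exact h3
  · intro h
    refine orderOf_eq_prime ?_ ?_
    · rw [pow_two, ← map_mul, h, pi_neg, map_one]
    · intro e
      rcases pi_eq_one.1 e with rfl | rfl
      · exact ne_neg_self h2 1 (by simpa using h)
      · exact ne_neg_self h2 1 (by simpa using h)

theorem comm_cases {A B : SL(2, F)} (h : Commute (pi F A) (pi F B)) :
    A * B = B * A ∨ A * B = -(B * A) := pi_eq_iff.1 (by rw [map_mul, map_mul]; exact h)

theorem anti_of_comm (h2 : (2 : F) ≠ 0) {A B : SL(2, F)} (hA : A * A = -1) (hB : B * B = -1)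
    (hne : pi F A ≠ pi F B) (hc : Commute (pi F A) (pi F B)) : B * A = -(A * B) := by
  rcases comm_cases hc with h | h
  swap
  · rw [h, neg_neg]
  exfalso
  obtain ⟨g, hg⟩ := exists_conj_j h2 hA
  set C := g⁻¹ * B * g with hC
  have hCJ : C * jSL = jSL * C := by
    calc C * jSL = g⁻¹ * (B * (g * jSL * g⁻¹)) * g := by rw [hC]; group
      _ = g⁻¹ * ((g * jSL * g⁻¹) * B) * g := by rw [hg, h]
      _ = jSL * C := by rw [hC]; group
  have hCC : C * C = -1 := by
    calc C * C = g⁻¹ * (B * B) * g := by rw [hC]; group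
      _ = -1 := by rw [hB, mul_neg, mul_one, neg_mul, inv_mul_cancel]
  have hCm : (C : Matrix (Fin 2) (Fin 2) F) =
      cM ((C : Matrix (Fin 2) (Fin 2) F) 0 0) ((C : Matrix (Fin 2) (Fin 2) F) 1 0) :=
    eq_cM_of_comm (congrArg Subtype.val hCJ :)
  set x := (C : Matrix (Fin 2) (Fin 2) F) 0 0
  set y := (C : Matrix (Fin 2) (Fin 2) F) 1 0
  have hsq : cM x y * cM x y = -1 := by
    rw [← hCm, ← Matrix.SpecialLinearGroup.coe_mul, hCC, Matrix.SpecialLinearGroup.coe_neg,
      Matrix.SpecialLinearGroup.coe_one]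
  have hd : x * x + y * y = 1 := by rw [← det_cM, ← hCm]; exact C.2
  have e00 := congrFun (congrFun hsq 0) 0
  simp [cM, Matrix.mul_apply, Fin.sum_univ_two] at e00
  have hx : x = 0 := by
    have : (2 : F) * (x * x) = 0 := by linear_combination e00 + hd
    exact mul_self_eq_zero.1 ((mul_eq_zero.1 this).resolve_left h2)
  have hy : y = 1 ∨ y = -1 := by
    rw [hx] at hd
    exact mul_self_eq_one_iff.1 (by linear_combination hd)
  have hCe : C = jSL ∨ C = -jSL := by
    rcases hy with hy | hy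
    · left; exact Subtype.ext (by rw [hCm, hx, hy, coe_jSL])
    · right
      refine Subtype.ext ?_
      rw [hCm, hx, hy, Matrix.SpecialLinearGroup.coe_neg, coe_jSL]
      ext i j
      fin_cases i <;> fin_cases j <;> simp [cM]
  apply hne
  have hBC : B = g * C * g⁻¹ := by rw [hC]; group
  rcases hCe with h' | h'
  · rw [hBC, h', hg]
  · rw [hBC, h', mul_neg, neg_mul, hg, pi_neg]

theorem involutions_isConj (h2 : (2 : F) ≠ 0) (x y : PG) (hx : orderOf x = 2) (hy : orderOf y = 2) :
    IsConj x y := by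
  obtain ⟨X, rfl⟩ := pi_surjective x
  obtain ⟨Y, rfl⟩ := pi_surjective y
  obtain ⟨g, hg⟩ := exists_conj_j h2 ((orderOf_pi_eq_two h2).1 hx)
  obtain ⟨g', hg'⟩ := exists_conj_j h2 ((orderOf_pi_eq_two h2).1 hy)
  exact (pi F).map_isConj (isConj_iff.2 ⟨g' * g⁻¹, by rw [← hg, ← hg']; group⟩)

/-- pairs of distinct commuting involutions -/
abbrev IPair (F : Type*) [Field F] : Type _ :=
  {p : Matrix.ProjectiveSpecialLinearGroup (Fin 2) F × Matrix.ProjectiveSpecialLinearGroup (Fin 2) F //
    orderOf p.1 = 2 ∧ orderOf p.2 = 2 ∧ p.1 ≠ p.2 ∧ Commute p.1 p.2}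

theorem qpair_image (h2 : (2 : F) ≠ 0) (p : QPair F) :
    orderOf (pi F p.1.1) = 2 ∧ orderOf (pi F p.2.1) = 2 ∧ pi F p.1.1 ≠ pi F p.2.1 ∧
      Commute (pi F p.1.1) (pi F p.2.1) := by
  refine ⟨(orderOf_pi_eq_two h2).2 p.1.2, (orderOf_pi_eq_two h2).2 (qpair_sq h2 p), ?_, ?_⟩
  · obtain ⟨⟨A, hA⟩, ⟨B, h⟩⟩ := p
    intro e
    change pi F A = pi F B at e
    change B * A = -(A * B) at h
    rcases pi_eq_iff.1 e with rfl | rfl
    · exact ne_neg_self h2 _ h
    · simp only [mul_neg, neg_mul, neg_neg] at h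
      exact ne_neg_self h2 _ h.symm
  · show pi F p.1.1 * pi F p.2.1 = pi F p.2.1 * pi F p.1.1
    rw [← map_mul, ← map_mul, p.2.2, pi_neg]

theorem natCard_ipair (h2 : (2 : F) ≠ 0) : 4 * Nat.card (IPair F) = Nat.card SL(2, F) := by
  classical
  let f : QPair F → IPair F := fun p => ⟨(pi F p.1.1, pi F p.2.1), qpair_image h2 p⟩
  rw [← natCard_qpair h2, ← Nat.card_congr (Equiv.sigmaFiberEquiv f), Nat.card_sigma]
  have : ∀ b, Nat.card {p // f p = b} = 4 := by
    rintro ⟨⟨x, y⟩, hx, hy, hne, hc⟩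
    obtain ⟨A, rfl⟩ := pi_surjective x
    obtain ⟨B, rfl⟩ := pi_surjective y
    have hA := (orderOf_pi_eq_two h2).1 hx
    have hB := (orderOf_pi_eq_two h2).1 hy
    have hanti := anti_of_comm h2 hA hB hne hc
    let q : Bool → Bool → QPair F := fun s t =>
      ⟨⟨if s then -A else A, by split_ifs <;> simp [hA]⟩,
        ⟨if t then -B else B, by split_ifs <;> simp [hanti]⟩⟩
    have hq : ∀ s t, f (q s t) = ⟨(pi F A, pi F B), hx, hy, hne, hc⟩ := by
      intro s t
      apply Subtype.ext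
      rcases s <;> rcases t <;> simp [f, q, pi_neg]
    rw [show (4 : ℕ) = Nat.card (Bool × Bool) by simp]
    refine (Nat.card_congr (Equiv.ofBijective
      (fun st => (⟨q st.1 st.2, hq st.1 st.2⟩ : {p // f p = _})) ⟨?_, ?_⟩)).symm
    · rintro ⟨s, t⟩ ⟨s', t'⟩ h
      have h' := congrArg Subtype.val h
      have e1 : (if s then -A else A) = (if s' then -A else A) :=
        congrArg (fun p : QPair F => p.1.1) h'
      have e2 : (if t then -B else B) = (if t' then -B else B) :=
        congrArg (fun p : QPair F => p.2.1) h'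
      rcases s <;> rcases s' <;> rcases t <;> rcases t' <;>
        simp [ne_neg_self h2 A, ne_neg_self h2 B, (ne_neg_self h2 A).symm,
          (ne_neg_self h2 B).symm] at e1 e2 ⊢
    · rintro ⟨⟨⟨A', hA'⟩, ⟨B', hB'⟩⟩, hp⟩
      have h1 := congrArg (fun b : IPair F => b.1.1) hp
      have h3 := congrArg (fun b : IPair F => b.1.2) hp
      simp only [f] at h1 h3
      rcases pi_eq_iff.1 h1 with rfl | rfl <;> rcases pi_eq_iff.1 h3 with rfl | rfl
      exacts [⟨(false, false), rfl⟩, ⟨(false, true), rfl⟩, ⟨(true, false), rfl⟩, ⟨(true, true), rfl⟩]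
  rw [Finset.sum_congr rfl fun b _ => this b, Finset.sum_const, smul_eq_mul, Finset.card_univ,
    Nat.card_eq_fintype_card, mul_comm]

/-- The subgroup generated by two commuting involutions. -/
def kSub {G : Type*} [Group G] (x y : G) (hx : x * x = 1) (hy : y * y = 1) (hc : Commute x y) :
    Subgroup G where
  carrier := {1, x, y, x * y}
  one_mem' := by simp
  mul_mem' {a b} ha hb := by
    simp only [Set.mem_insert_iff, Set.mem_singleton_iff] at ha hb ⊢
    have e1 : y * x = x * y := hc.eq.symm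
    have e2 : ∀ c, x * (x * c) = c := fun c => by rw [← mul_assoc, hx, one_mul]
    have e3 : ∀ c, y * (y * c) = c := fun c => by rw [← mul_assoc, hy, one_mul]
    have e4 : y * (x * y) = x := by rw [← mul_assoc, e1, mul_assoc, hy, mul_one]
    rcases ha with rfl | rfl | rfl | rfl <;> rcases hb with rfl | rfl | rfl | rfl <;>
      simp [mul_assoc, hx, hy, e1, e2, e3, e4]
  inv_mem' {a} ha := by
    simp only [Set.mem_insert_iff, Set.mem_singleton_iff] at ha ⊢
    rcases ha with rfl | rfl | rfl | rfl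
    · simp
    · simp [inv_eq_of_mul_eq_one_right hx]
    · simp [inv_eq_of_mul_eq_one_right hy]
    · right; right; right
      rw [_root_.mul_inv_rev, inv_eq_of_mul_eq_one_right hx, inv_eq_of_mul_eq_one_right hy, hc.eq]

theorem mem_kSub {G : Type*} [Group G] {x y : G} {hx : x * x = 1} {hy : y * y = 1}
    {hc : Commute x y} {z : G} : z ∈ kSub x y hx hy hc ↔ z = 1 ∨ z = x ∨ z = y ∨ z = x * y :=
  Iff.rfl

theorem natCard_kSub {G : Type*} [Group G] {x y : G} {hx : x * x = 1} {hy : y * y = 1}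
    {hc : Commute x y} (hx1 : x ≠ 1) (hy1 : y ≠ 1) (hxy : x ≠ y) :
    Nat.card (kSub x y hx hy hc) = 4 := by
  classical
  have h3 : x * y ≠ 1 := fun h => hxy (by
    calc x = x * (y * y) := by rw [hy, mul_one]
      _ = y := by rw [← mul_assoc, h, one_mul])
  have hc' : ((kSub x y hx hy hc : Subgroup G) : Set G) = (({1, x, y, x * y} : Finset G) : Set G) := by
    simp [kSub]
  show Nat.card ((kSub x y hx hy hc : Subgroup G) : Set G) = 4
  rw [hc', Nat.card_coe_set_eq, Set.ncard_coe_finset]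
  simp [hx1.symm, hy1.symm, hxy, h3.symm, hy1, hx1]

theorem kSub_isKleinFour {G : Type*} [Group G] {x y : G} {hx : x * x = 1} {hy : y * y = 1}
    {hc : Commute x y} (hx1 : x ≠ 1) (hy1 : y ≠ 1) (hxy : x ≠ y) :
    IsKleinFour (kSub x y hx hy hc) := by
  refine ⟨natCard_kSub hx1 hy1 hxy, ?_⟩
  have h1 : ∀ z : kSub x y hx hy hc, z ^ 2 = 1 := by
    rintro ⟨z, hz⟩
    apply Subtype.ext
    show z ^ 2 = 1
    rw [pow_two]
    rcases mem_kSub.1 hz with rfl | rfl | rfl | rfl
    · simp
    · exact hx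
    · exact hy
    · calc x * y * (x * y) = x * (y * x) * y := by group
        _ = x * (x * y) * y := by rw [hc.eq]
        _ = x * x * (y * y) := by group
        _ = 1 := by rw [hx, hy, mul_one]
  have : Nontrivial (kSub x y hx hy hc) :=
    ⟨⟨⟨x, Or.inr (Or.inl rfl)⟩, 1, fun e => hx1 (congrArg Subtype.val e)⟩⟩
  refine (Monoid.exponent_eq_prime_iff Nat.prime_two).2 fun z hz => orderOf_eq_prime (h1 z) hz

theorem kleinFour_ext {G : Type*} [Group G] (V : Subgroup G) [IsKleinFour V] {a b : G} (ha : a ∈ V)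
    (hb : b ∈ V) (ha1 : a ≠ 1) (hb1 : b ≠ 1) (hab : a ≠ b) (z : G) :
    z ∈ V ↔ z = 1 ∨ z = a ∨ z = b ∨ z = a * b := by
  constructor
  · intro hz
    by_cases h1 : z = 1
    · exact Or.inl h1
    by_cases h2 : z = a
    · exact Or.inr (Or.inl h2)
    by_cases h3 : z = b
    · exact Or.inr (Or.inr (Or.inl h3))
    refine Or.inr (Or.inr (Or.inr ?_))
    have := IsKleinFour.eq_mul_of_ne_all (x := (⟨a, ha⟩ : V)) (y := ⟨b, hb⟩) (z := ⟨z, hz⟩)
      (fun e => ha1 (congrArg Subtype.val e)) (fun e => hb1 (congrArg Subtype.val e))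
      (fun e => hab (congrArg Subtype.val e)) (fun e => h1 (congrArg Subtype.val e))
      (fun e => h2 (congrArg Subtype.val e)) (fun e => h3 (congrArg Subtype.val e))
    exact congrArg Subtype.val this
  · rintro (rfl | rfl | rfl | rfl)
    exacts [V.one_mem, ha, hb, V.mul_mem ha hb]

theorem kleinFour_mem {G : Type*} [Group G] (V : Subgroup G) [IsKleinFour V] {a b : G} (ha : a ∈ V)
    (hb : b ∈ V) : Commute a b ∧ (a ≠ 1 → orderOf a = 2) := by
  refine ⟨?_, fun ha1 => orderOf_eq_prime ?_ ha1⟩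
  · have := (IsKleinFour.isMulCommutative (G := V)).is_comm.comm (⟨a, ha⟩ : V) ⟨b, hb⟩
    exact congrArg Subtype.val this
  · rw [pow_two]
    exact congrArg Subtype.val (IsKleinFour.mul_self (⟨a, ha⟩ : V))

theorem mul_self_of_order_two {G : Type*} [Group G] {x : G} (h : orderOf x = 2) : x * x = 1 := by
  rw [← pow_two, ← h, pow_orderOf_eq_one]

theorem ne_one_of_order_two {G : Type*} [Group G] {x : G} (h : orderOf x = 2) : x ≠ 1 := by
  rintro rfl; simp at h

theorem natCard_kleinFour (h2 : (2 : F) ≠ 0) :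
    12 * Nat.card {V : Subgroup PG // IsKleinFour V} = Nat.card PG := by
  classical
  let f : IPair F → {V : Subgroup PG // IsKleinFour V} := fun p =>
    ⟨kSub p.1.1 p.1.2 (mul_self_of_order_two p.2.1) (mul_self_of_order_two p.2.2.1) p.2.2.2.2,
      kSub_isKleinFour (ne_one_of_order_two p.2.1) (ne_one_of_order_two p.2.2.1) p.2.2.2.1⟩
  have hfib : ∀ V, Nat.card {p // f p = V} = 6 := by
    intro V
    have := V.2
    have hcard : Nat.card {z : V.1 // z ≠ 1} = 3 := by
      rw [Nat.card_eq_fintype_card, Fintype.card_subtype_compl, Fintype.card_subtype_eq,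
        ← Nat.card_eq_fintype_card, this.card_four]
    have hd : Nat.card {p : {z : V.1 // z ≠ 1} × {z : V.1 // z ≠ 1} // p.1 ≠ p.2} = 6 := by
      obtain ⟨e⟩ : Nonempty ({z : V.1 // z ≠ 1} ≃ Fin 3) :=
        ⟨Finite.equivFinOfCardEq hcard⟩
      rw [Nat.card_congr ((e.prodCongr e).subtypeEquiv (q := fun p => p.1 ≠ p.2) fun p => by simp),
        Nat.card_eq_fintype_card]
      decide
    rw [← hd]
    refine Nat.card_congr
      { toFun := fun p => ⟨(⟨⟨p.1.1.1, ?_⟩, ?_⟩, ⟨⟨p.1.1.2, ?_⟩, ?_⟩), ?_⟩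
        invFun := fun p => ⟨⟨((p.1.1.1 : PG), (p.1.2.1 : PG)), ?_, ?_, ?_, ?_⟩, ?_⟩
        left_inv := fun p => rfl
        right_inv := fun p => rfl }
    · exact (SetLike.ext_iff.1 (congrArg Subtype.val p.2) _).1 (Or.inr (Or.inl rfl))
    · exact fun e => ne_one_of_order_two p.1.2.1 (congrArg Subtype.val e)
    · exact (SetLike.ext_iff.1 (congrArg Subtype.val p.2) _).1 (Or.inr (Or.inr (Or.inl rfl)))
    · exact fun e => ne_one_of_order_two p.1.2.2.1 (congrArg Subtype.val e)
    · exact fun e => p.1.2.2.2.1 (congrArg (fun z : {z : V.1 // z ≠ 1} => (z.1 : PG)) e)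
    · exact (kleinFour_mem V.1 p.1.1.1.2 p.1.1.1.2).2 fun e => p.1.1.2 (Subtype.ext e)
    · exact (kleinFour_mem V.1 p.1.2.1.2 p.1.2.1.2).2 fun e => p.1.2.2 (Subtype.ext e)
    · exact fun e => p.2 (Subtype.ext (Subtype.ext e))
    · exact (kleinFour_mem V.1 p.1.1.1.2 p.1.2.1.2).1
    · apply Subtype.ext
      ext z
      show (z = 1 ∨ z = (p.1.1.1 : PG) ∨ z = (p.1.2.1 : PG) ∨
        z = (p.1.1.1 : PG) * (p.1.2.1 : PG)) ↔ z ∈ V.1
      exact (kleinFour_ext V.1 p.1.1.1.2 p.1.2.1.2
        (fun e => p.1.1.2 (Subtype.ext e)) (fun e => p.1.2.2 (Subtype.ext e))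
        (fun e => p.2 (Subtype.ext (Subtype.ext e))) z).symm
  have h6 : Nat.card (IPair F) = 6 * Nat.card {V : Subgroup PG // IsKleinFour V} := by
    rw [← Nat.card_congr (Equiv.sigmaFiberEquiv f), Nat.card_sigma,
      Finset.sum_congr rfl fun V _ => hfib V, Finset.sum_const, smul_eq_mul, Finset.card_univ,
      Nat.card_eq_fintype_card, mul_comm]
  have h4 := natCard_ipair (F := F) h2
  have hP := Classical.SmallIso.natCard_pslTwo F
  have hodd : Fintype.card F % 2 = 1 :=
    FiniteField.odd_card_of_char_ne_two fun h => h2 (by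
      have : CharP F 2 := h ▸ ringChar.charP F
      exact CharTwo.two_eq_zero)
  have hg : Nat.gcd 2 (Fintype.card F - 1) = 2 :=
    Nat.gcd_eq_left (Nat.dvd_of_mod_eq_zero (by omega))
  rw [hg] at hP
  omega

end Cfsg.Agent.Forms.KleinPSL

namespace Cfsg.Agent.Forms.KleinPSL

open Matrix Cfsg.Agent.Forms.KleinSL2
open scoped MatrixGroups

variable {F : Type*} [Field F] [Fintype F]

theorem natCard_cent_of (h2 : (2 : F) ≠ 0) {A : SL(2, F)} (hA : A * A = -1) :
    Nat.card {g : SL(2, F) // g * A = A * g} = Nat.card (Circ F 1) := by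
  obtain ⟨h, rfl⟩ := exists_conj_j h2 hA
  rw [← natCard_cent]
  refine Nat.card_congr ((MulAut.conj h⁻¹).toEquiv.subtypeEquiv fun g => ?_)
  show g * (h * jSL * h⁻¹) = (h * jSL * h⁻¹) * g ↔
    h⁻¹ * g * h⁻¹⁻¹ * jSL = jSL * (h⁻¹ * g * h⁻¹⁻¹)
  constructor <;> intro e
  · calc h⁻¹ * g * h⁻¹⁻¹ * jSL = h⁻¹ * (g * (h * jSL * h⁻¹)) * h := by group
      _ = h⁻¹ * (h * jSL * h⁻¹ * g) * h := by rw [e]
      _ = _ := by group
  · calc g * (h * jSL * h⁻¹) = h * (h⁻¹ * g * h⁻¹⁻¹ * jSL) * h⁻¹ := by group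
      _ = h * (jSL * (h⁻¹ * g * h⁻¹⁻¹)) * h⁻¹ := by rw [e]
      _ = _ := by group

theorem four_mem (h2 : (2 : F) ≠ 0) {X : SL(2, F)} (hX : X * X = -1) {z : SL(2, F)} :
    z ∈ Subgroup.zpowers X ↔ z = 1 ∨ z = -1 ∨ z = X ∨ z = -X := by
  have hX3 : X * (-X) = 1 := by rw [mul_neg, hX, neg_neg]
  have hinv : X⁻¹ = -X := inv_eq_of_mul_eq_one_right hX3
  constructor
  · rintro ⟨i, rfl⟩
    induction i using Int.induction_on with
    | zero => simp
    | succ n ih =>
      simp only at ih ⊢
      rw [_root_.zpow_add_one]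
      rcases ih with h | h | h | h <;> rw [h] <;> simp [hX]
    | pred n ih =>
      simp only at ih ⊢
      rw [_root_.zpow_sub_one, hinv]
      rcases ih with h | h | h | h <;> rw [h] <;> simp [hX]
  · have hX' := Subgroup.mem_zpowers X
    rintro (rfl | rfl | rfl | rfl)
    · exact one_mem _
    · rw [← hX]; exact mul_mem hX' hX'
    · exact hX'
    · rw [← hinv]; exact inv_mem hX'

theorem exists_quarter_gen (h2 : (2 : F) ≠ 0) (A : Subgroup SL(2, F)) (hA : Nat.card A = 4) :
    ∃ X : SL(2, F), X * X = -1 ∧ A = Subgroup.zpowers X := by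
  classical
  have hX : ∃ X ∈ A, X * X = -1 := by
    by_contra hne
    push Not at hne
    have key : ∀ z : A, (z : SL(2, F)) = 1 ∨ (z : SL(2, F)) = -1 := by
      intro z
      have h4 : (z : SL(2, F)) * z * ((z : SL(2, F)) * z) = 1 := by
        have h := pow_card_eq_one' (x := z)
        rw [hA] at h
        have h' := congrArg Subtype.val h
        rw [SubmonoidClass.coe_pow, show (4 : ℕ) = 2 + 2 from rfl, pow_add, pow_two] at h'
        simpa using h'
      rcases eq_or_ne ((z : SL(2, F)) * z) 1 with h1 | h1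
      · rcases eq_or_ne (z : SL(2, F)) 1 with h0 | h0
        · exact Or.inl h0
        · right
          refine Subtype.ext ?_
          rw [Classical.SylowSL2.eq_neg_one_of_sq h2 _ h0 h1, Matrix.SpecialLinearGroup.coe_neg,
            Matrix.SpecialLinearGroup.coe_one]
      · exfalso
        apply hne z z.2
        refine Subtype.ext ?_
        rw [Classical.SylowSL2.eq_neg_one_of_sq h2 _ h1 h4, Matrix.SpecialLinearGroup.coe_neg,
          Matrix.SpecialLinearGroup.coe_one]
    have hinj : Function.Injective fun z : A => decide ((z : SL(2, F)) = 1) := by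
      intro a b hab
      apply Subtype.ext
      rcases key a with h | h <;> rcases key b with h' | h' <;>
        simp [h, h', ne_neg_self h2 (1 : SL(2, F)), (ne_neg_self h2 (1 : SL(2, F))).symm] at hab ⊢
    have := Nat.card_le_card_of_injective _ hinj
    rw [hA, Nat.card_eq_fintype_card, Fintype.card_bool] at this
    omega
  obtain ⟨X, hXA, hX⟩ := hX
  refine ⟨X, hX, (Subgroup.eq_of_le_of_card_ge (Subgroup.zpowers_le.2 hXA) ?_).symm⟩
  rw [hA]
  let f : Fin 4 → Subgroup.zpowers X := ![1, ⟨-1, (four_mem h2 hX).2 (Or.inr (Or.inl rfl))⟩,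
    ⟨X, Subgroup.mem_zpowers X⟩, ⟨-X, (four_mem h2 hX).2 (Or.inr (Or.inr (Or.inr rfl)))⟩]
  have hX1 : X ≠ 1 := by rintro rfl; exact ne_neg_self h2 (1 : SL(2, F)) (by simpa using hX)
  have hXm : X ≠ -1 := by rintro rfl; exact ne_neg_self h2 (1 : SL(2, F)) (by simpa using hX)
  have hf : Function.Injective f := by
    intro a b hab
    have h' := congrArg Subtype.val hab
    have n1 : -X ≠ 1 := fun h => hXm (by rw [← h, neg_neg])
    have n2 : -X ≠ -1 := fun h => hX1 (neg_injective h)
    fin_cases a <;> fin_cases b <;>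
      simp [f, hX1, hXm, hX1.symm, hXm.symm, n1, n2, n1.symm, n2.symm, ne_neg_self h2 X,
        (ne_neg_self h2 X).symm, ne_neg_self h2 (1 : SL(2, F)),
        (ne_neg_self h2 (1 : SL(2, F))).symm] at h' ⊢
  simpa using Nat.card_le_card_of_injective f hf

theorem natCard_normalizer (h2 : (2 : F) ≠ 0) {X : SL(2, F)} (hX : X * X = -1) :
    Nat.card ↥(Subgroup.normalizer (Subgroup.zpowers X : Set SL(2, F))) = 2 * Nat.card (Circ F 1) := by
  classical
  have hmem : ∀ g, g ∈ Subgroup.normalizer (Subgroup.zpowers X : Set SL(2, F)) ↔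
      g * X = X * g ∨ g * X = -(X * g) := by
    intro g
    constructor
    · intro hg
      have h1 := (Subgroup.mem_normalizer_iff.1 hg X).1 (Subgroup.mem_zpowers X)
      rcases (four_mem h2 hX).1 h1 with h | h | h | h
      · rw [mul_inv_eq_one] at h
        have : X = 1 := by simpa using h
        subst this
        exact absurd (by simpa using hX) (ne_neg_self h2 (1 : SL(2, F)))
      · rw [mul_inv_eq_iff_eq_mul, neg_one_mul] at h
        have : X = -1 := mul_left_cancel (a := g) (by rw [h, mul_neg_one])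
        subst this
        exact absurd (by simpa using hX) (ne_neg_self h2 (1 : SL(2, F)))
      · exact Or.inl (mul_inv_eq_iff_eq_mul.1 h)
      · exact Or.inr (by rw [mul_inv_eq_iff_eq_mul.1 h, neg_mul])
    · intro hg
      rw [Subgroup.mem_normalizer_iff]
      have hcases : g * X * g⁻¹ = X ∨ g * X * g⁻¹ = -X := by
        rcases hg with h | h
        · left; rw [h, mul_inv_cancel_right]
        · right; rw [h, neg_mul, mul_inv_cancel_right]
      intro z
      simp only [SetLike.mem_coe, four_mem h2 hX]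
      have hz : ∀ w, g * z * g⁻¹ = g * w * g⁻¹ ↔ z = w := fun w => by simp
      have e1 : g * 1 * g⁻¹ = 1 := by group
      have e2 : g * -1 * g⁻¹ = -1 := by simp
      have e3 : g * -X * g⁻¹ = -(g * X * g⁻¹) := by simp
      rw [← hz 1, ← hz (-1), ← hz X, ← hz (-X), e1, e2, e3]
      rcases hcases with h | h <;> rw [h]
      rw [neg_neg]
      tauto
  rw [Nat.card_congr (Equiv.subtypeEquivRight hmem), Nat.card_eq_fintype_card,
    Fintype.card_subtype_or_disjoint, ← Nat.card_eq_fintype_card, ← Nat.card_eq_fintype_card,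
    natCard_cent_of h2 hX, natCard_anti_of h2 ⟨X, hX⟩, two_mul]
  intro p hp hq g hg
  exact ne_neg_self h2 (X * g) ((hp g hg).symm.trans (hq g hg))

end Cfsg.Agent.Forms.KleinPSL
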