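import Mathlib
import Cfsg.Agent.Lib.Forms.DicksonBasic
import Cfsg.Agent.Lib.Forms.KleinPSL

/-!
# `PSL₂(q)` on the projective line over the algebraic closure
-/

set_option autoImplicit false
set_option linter.unusedSectionVars false

open scoped Classical

namespace Cfsg.Agent.Forms.DicksonAction

open Matrix MulAction OnePoint Cfsg.Agent.Forms.DicksonBasic
open scoped MatrixGroups

variable {F : Type*} [Field F]

/-- matrices over the closure -/
noncomputable def glHom (F : Type*) [Field F] : SL(2, F) →* GL (Fin 2) (AlgebraicClosure F) :=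
  Matrix.SpecialLinearGroup.toGL.comp (Matrix.SpecialLinearGroup.map (algebraMap F (AlgebraicClosure F)))

theorem glHom_apply (X : SL(2, F)) (i j : Fin 2) :
    (glHom F X : Matrix (Fin 2) (Fin 2) (AlgebraicClosure F)) i j =
      algebraMap F (AlgebraicClosure F) ((X : Matrix (Fin 2) (Fin 2) F) i j) := rfl

theorem center_smul {X : SL(2, F)} (h : X ∈ Subgroup.center SL(2, F))
    (z : OnePoint (AlgebraicClosure F)) : glHom F X • z = z := by
  obtain ⟨r, hr, hX⟩ := Matrix.SpecialLinearGroup.mem_center_iff.1 h
  have hr0 : r ≠ 0 := fun e => by simp [e] at hr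
  have e : ∀ i j, (X : Matrix (Fin 2) (Fin 2) F) i j = if i = j then r else 0 := by
    intro i j
    rw [← hX]
    simp [Matrix.scalar_apply, Matrix.diagonal]
  cases z with
  | infty => rw [smul_infty_eq_self_iff, glHom_apply, e]; simp
  | coe c =>
    rw [← GeneralLinearGroup.fixpointPolynomial_aeval_eq_zero_iff]
    simp [GeneralLinearGroup.fixpointPolynomial, glHom_apply, e]

/-- the permutation representation -/
noncomputable def permHom (F : Type*) [Field F] :
    Matrix.ProjectiveSpecialLinearGroup (Fin 2) F →* Equiv.Perm (OnePoint (AlgebraicClosure F)) :=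
  QuotientGroup.lift _
    ((MulAction.toPermHom (GL (Fin 2) (AlgebraicClosure F)) _).comp (glHom F))
    fun _ hX => MonoidHom.mem_ker.2 (Equiv.ext fun z => center_smul hX z)

noncomputable instance pslAction (F : Type*) [Field F] :
    MulAction (Matrix.ProjectiveSpecialLinearGroup (Fin 2) F) (OnePoint (AlgebraicClosure F)) :=
  MulAction.compHom _ (permHom F)

theorem pi_smul (X : SL(2, F)) (z : OnePoint (AlgebraicClosure F)) :
    KleinPSL.pi F X • z = glHom F X • z := rfl

theorem smul_infty_iff (X : SL(2, F)) :
    KleinPSL.pi F X • (∞ : OnePoint (AlgebraicClosure F)) = ∞ ↔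
      (X : Matrix (Fin 2) (Fin 2) F) 1 0 = 0 := by
  rw [pi_smul, smul_infty_eq_self_iff, glHom_apply, map_eq_zero]

theorem smul_coe_iff (X : SL(2, F)) (z : AlgebraicClosure F) :
    KleinPSL.pi F X • (z : OnePoint (AlgebraicClosure F)) = z ↔
      algebraMap F _ ((X : Matrix (Fin 2) (Fin 2) F) 1 0) * z * z +
        (algebraMap F _ ((X : Matrix (Fin 2) (Fin 2) F) 1 1) -
          algebraMap F _ ((X : Matrix (Fin 2) (Fin 2) F) 0 0)) * z -
        algebraMap F _ ((X : Matrix (Fin 2) (Fin 2) F) 0 1) = 0 := by
  rw [pi_smul, ← GeneralLinearGroup.fixpointPolynomial_aeval_eq_zero_iff]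
  simp [GeneralLinearGroup.fixpointPolynomial, glHom_apply, pow_two, mul_assoc]

theorem det_map (X : SL(2, F)) :
    algebraMap F (AlgebraicClosure F) ((X : Matrix (Fin 2) (Fin 2) F) 0 0) *
        algebraMap F _ ((X : Matrix (Fin 2) (Fin 2) F) 1 1) -
      algebraMap F _ ((X : Matrix (Fin 2) (Fin 2) F) 0 1) *
        algebraMap F _ ((X : Matrix (Fin 2) (Fin 2) F) 1 0) = 1 := by
  rw [← map_mul, ← map_mul, ← map_sub, ← det_fin_two, Matrix.SpecialLinearGroup.det_coe, map_one]

/-- number of fixed points -/
theorem fix_facts (X : SL(2, F)) (hX : KleinPSL.pi F X ≠ 1) :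
    (fixedBy (OnePoint (AlgebraicClosure F)) (KleinPSL.pi F X)).Finite ∧
      (fixedBy (OnePoint (AlgebraicClosure F)) (KleinPSL.pi F X)).ncard =
        if (X : Matrix (Fin 2) (Fin 2) F).trace * (X : Matrix (Fin 2) (Fin 2) F).trace = 4 then 1 else 2 := by
  set f := algebraMap F (AlgebraicClosure F)
  set a := f ((X : Matrix (Fin 2) (Fin 2) F) 0 0)
  set b := f ((X : Matrix (Fin 2) (Fin 2) F) 0 1)
  set c := f ((X : Matrix (Fin 2) (Fin 2) F) 1 0)
  set d := f ((X : Matrix (Fin 2) (Fin 2) F) 1 1)
  have hdet : a * d - b * c = 1 := det_map X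
  have hiff : (X : Matrix (Fin 2) (Fin 2) F).trace * (X : Matrix (Fin 2) (Fin 2) F).trace = 4 ↔
      (a - d) * (a - d) + 4 * (b * c) = 0 := by
    rw [← f.injective.eq_iff, map_mul, trace_fin_two, map_add, map_ofNat]
    constructor <;> intro h
    · linear_combination h - 4 * hdet
    · linear_combination h + 4 * hdet
  by_cases hc : c = 0
  · have hinf : KleinPSL.pi F X • (∞ : OnePoint (AlgebraicClosure F)) = ∞ :=
      (smul_infty_iff X).2 ((map_eq_zero f).1 hc)
    by_cases had : a = d
    · have hb : b ≠ 0 := by
        intro hb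
        refine hX ?_
        rw [KleinPSL.pi, QuotientGroup.mk'_apply, QuotientGroup.eq_one_iff,
          Matrix.SpecialLinearGroup.mem_center_iff]
        refine ⟨(X : Matrix (Fin 2) (Fin 2) F) 0 0, f.injective ?_, ?_⟩
        · rw [map_pow, map_one, Fintype.card_fin]
          linear_combination hdet + a * had + c * hb
        · ext i j
          fin_cases i <;> fin_cases j <;> simp
          · exact ((map_eq_zero f).1 hb).symm
          · exact ((map_eq_zero f).1 hc).symm
          · exact f.injective had
      have hset : fixedBy (OnePoint (AlgebraicClosure F)) (KleinPSL.pi F X) = {∞} := by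
        ext z
        cases z with
        | infty => simpa [mem_fixedBy] using hinf
        | coe z =>
          simp only [mem_fixedBy, smul_coe_iff, Set.mem_singleton_iff]
          refine iff_of_false (fun h => hb ?_) (coe_ne_infty z)
          linear_combination -h + (z * z) * hc - z * had
      rw [hset, if_pos (hiff.2 (by linear_combination (a - d) * had + 4 * b * hc))]
      exact ⟨Set.finite_singleton _, Set.ncard_singleton _⟩
    · have hda : d - a ≠ 0 := sub_ne_zero.2 (Ne.symm had)
      have hset : fixedBy (OnePoint (AlgebraicClosure F)) (KleinPSL.pi F X) =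
          {∞, ((b / (d - a) : AlgebraicClosure F) : OnePoint (AlgebraicClosure F))} := by
        ext z
        cases z with
        | infty => simpa [mem_fixedBy] using hinf
        | coe z =>
          simp only [mem_fixedBy, smul_coe_iff, Set.mem_insert_iff, Set.mem_singleton_iff]
          change c * z * z + (d - a) * z - b = 0 ↔ _
          rw [hc, or_iff_right (coe_ne_infty z), OnePoint.coe_eq_coe, eq_div_iff hda]
          constructor <;> intro h <;> linear_combination h
      rw [hset, if_neg (fun h => hda ?_)]
      · exact ⟨Set.toFinite _, Set.ncard_pair (infty_ne_coe _)⟩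
      · have := hiff.1 h
        rw [hc, mul_zero, mul_zero, add_zero, mul_self_eq_zero] at this
        linear_combination -this
  · obtain ⟨z₁, hz⟩ := IsAlgClosed.exists_root
      (Polynomial.C c * Polynomial.X ^ 2 + Polynomial.C (d - a) * Polynomial.X + Polynomial.C (-b))
      (by rw [Polynomial.degree_quadratic hc]; decide)
    simp only [Polynomial.IsRoot, Polynomial.eval_add, Polynomial.eval_mul, Polynomial.eval_C,
      Polynomial.eval_pow, Polynomial.eval_X] at hz
    set z₂ := (a - d) / c - z₁ with hz₂def
    have hz₂ : c * z₂ = a - d - c * z₁ := by rw [hz₂def]; field_simp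
    have hset : fixedBy (OnePoint (AlgebraicClosure F)) (KleinPSL.pi F X) =
        {(z₁ : OnePoint (AlgebraicClosure F)), (z₂ : OnePoint (AlgebraicClosure F))} := by
      ext z
      cases z with
      | infty =>
        simp only [mem_fixedBy, smul_infty_iff, Set.mem_insert_iff, Set.mem_singleton_iff]
        refine iff_of_false (fun h => hc (by simp [c, h])) ?_
        rintro (h | h) <;> exact infty_ne_coe _ h
      | coe z =>
        simp only [mem_fixedBy, smul_coe_iff, Set.mem_insert_iff, Set.mem_singleton_iff,
          OnePoint.coe_eq_coe]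
        change c * z * z + (d - a) * z - b = 0 ↔ _
        constructor
        · intro h
          have : (z - z₁) * (c * z - c * z₂) = 0 := by
            rw [hz₂]; linear_combination h - hz
          rcases mul_eq_zero.1 this with e | e
          · exact Or.inl (sub_eq_zero.1 e)
          · exact Or.inr (mul_left_cancel₀ hc (sub_eq_zero.1 e))
        · rintro (rfl | rfl)
          · linear_combination hz
          · linear_combination hz + (z₂ - z₁) * hz₂
    have hdisc : (a - d) * (a - d) + 4 * (b * c) = (c * z₂ - c * z₁) * (c * z₂ - c * z₁) := by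
      rw [hz₂]; linear_combination -4 * c * hz
    rw [hset]
    refine ⟨Set.toFinite _, ?_⟩
    by_cases he : z₁ = z₂
    · rw [if_pos (hiff.2 (by rw [hdisc, ← he]; ring)), he, Set.pair_eq_singleton, Set.ncard_singleton]
    · rw [if_neg (fun h => he ?_), Set.ncard_pair (fun e => he (OnePoint.coe_eq_coe.1 e))]
      have := hiff.1 h
      rw [hdisc, mul_self_eq_zero, sub_eq_zero] at this
      exact (mul_left_cancel₀ hc this).symm

theorem sq_eq_trace (X : SL(2, F)) :
    (X : Matrix (Fin 2) (Fin 2) F) * X =
      (X : Matrix (Fin 2) (Fin 2) F).trace • (X : Matrix (Fin 2) (Fin 2) F) - 1 := by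
  have hd := Matrix.SpecialLinearGroup.det_coe X
  rw [det_fin_two] at hd
  rw [trace_fin_two]
  ext i j
  fin_cases i <;> fin_cases j <;> simp [Matrix.mul_apply, Fin.sum_univ_two] <;>
    first | linear_combination -hd | ring

variable [Fintype F] (p : ℕ) [hp : Fact p.Prime] [CharP F p]

theorem neg_one_pow_char' : (-1 : F) ^ p = -1 := by
  rw [← frobenius_def, map_neg, map_one]

theorem orderOf_iff (X : SL(2, F)) (hX : KleinPSL.pi F X ≠ 1) :
    orderOf (KleinPSL.pi F X) = p ↔
      (X : Matrix (Fin 2) (Fin 2) F).trace * (X : Matrix (Fin 2) (Fin 2) F).trace = 4 := by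
  set M := (X : Matrix (Fin 2) (Fin 2) F) with hM
  have hcomm : ∀ e : F, Commute M (e • (1 : Matrix (Fin 2) (Fin 2) F)) :=
    fun e => (Commute.one_right M).smul_right e
  constructor
  · intro h
    have h1 : KleinPSL.pi F (X ^ p) = 1 := by rw [map_pow, ← h, pow_orderOf_eq_one]
    obtain ⟨e, he, he2, hXe⟩ : ∃ e : F, e ^ p = e ∧ e * e = 1 ∧
        M ^ p = e • (1 : Matrix (Fin 2) (Fin 2) F) := by
      rcases KleinPSL.pi_eq_one.1 h1 with h2 | h2
      · exact ⟨1, one_pow p, one_mul 1,
          by rw [hM, ← Matrix.SpecialLinearGroup.coe_pow, h2, Matrix.SpecialLinearGroup.coe_one, one_smul]⟩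
      · refine ⟨-1, neg_one_pow_char' p, by ring, ?_⟩
        rw [hM, ← Matrix.SpecialLinearGroup.coe_pow, h2, Matrix.SpecialLinearGroup.coe_neg,
          Matrix.SpecialLinearGroup.coe_one, neg_one_smul]
    have hn : IsNilpotent (M - e • (1 : Matrix (Fin 2) (Fin 2) F)) :=
      ⟨p, by rw [sub_pow_char_of_commute (p := p) (hcomm e), smul_pow, one_pow, he, hXe, sub_self]⟩
    have ht := (Matrix.isNilpotent_trace_of_isNilpotent hn).eq_zero
    rw [Matrix.trace_sub, Matrix.trace_smul, Matrix.trace_one, Fintype.card_fin, sub_eq_zero] at ht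
    rw [ht, smul_eq_mul]
    push_cast
    linear_combination 4 * he2
  · intro h
    obtain ⟨e, he, he2, ht⟩ : ∃ e : F, e ^ p = e ∧ e * e = 1 ∧ M.trace = 2 * e := by
      have : (M.trace - 2) * (M.trace + 2) = 0 := by linear_combination h
      rcases mul_eq_zero.1 this with h1 | h1
      · exact ⟨1, one_pow p, one_mul 1, by linear_combination h1⟩
      · exact ⟨-1, neg_one_pow_char' p, by ring, by linear_combination h1⟩
    have hsq : (M - e • 1) * (M - e • 1) = 0 := by
      simp only [sub_mul, mul_sub, smul_mul_assoc, mul_smul_comm, mul_one, one_mul]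
      rw [hM, sq_eq_trace X, ← hM, ht]
      match_scalars <;> first | linear_combination he2 | ring
    have hpow : M ^ p = e • (1 : Matrix (Fin 2) (Fin 2) F) := by
      have h0 : (M - e • 1) ^ p = 0 := by
        rw [show p = 2 + (p - 2) by have := hp.out.two_le; omega, pow_add, pow_two, hsq, zero_mul]
      rwa [sub_pow_char_of_commute (p := p) (hcomm e), smul_pow, one_pow, he, sub_eq_zero] at h0
    refine orderOf_eq_prime ?_ hX
    rw [← map_pow]
    refine KleinPSL.pi_eq_one.2 ?_
    rcases mul_self_eq_one_iff.1 he2 with rfl | rfl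
    · left
      exact Subtype.ext (by rw [Matrix.SpecialLinearGroup.coe_pow, ← hM, hpow, one_smul, Matrix.SpecialLinearGroup.coe_one])
    · right
      refine Subtype.ext ?_
      rw [Matrix.SpecialLinearGroup.coe_pow, ← hM, hpow, neg_one_smul, Matrix.SpecialLinearGroup.coe_neg,
        Matrix.SpecialLinearGroup.coe_one]

/-- the eigenvalue at a fixed point -/
noncomputable def eigen (z : OnePoint (AlgebraicClosure F)) (X : SL(2, F)) : AlgebraicClosure F :=
  z.elim (algebraMap F _ ((X : Matrix (Fin 2) (Fin 2) F) 0 0))
    fun w => algebraMap F _ ((X : Matrix (Fin 2) (Fin 2) F) 1 0) * w +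
      algebraMap F _ ((X : Matrix (Fin 2) (Fin 2) F) 1 1)

theorem eigen_root {z : OnePoint (AlgebraicClosure F)} {X : SL(2, F)}
    (h : KleinPSL.pi F X • z = z) :
    eigen z X * eigen z X -
      algebraMap F _ ((X : Matrix (Fin 2) (Fin 2) F).trace) * eigen z X + 1 = 0 := by
  have hdet := det_map X
  rw [trace_fin_two, map_add]
  cases z with
  | infty =>
    rw [smul_infty_iff] at h
    simp only [eigen, OnePoint.elim_infty]
    rw [h, map_zero, mul_zero, sub_zero] at hdet
    linear_combination -hdet
  | coe w =>
    rw [smul_coe_iff] at h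
    simp only [eigen, OnePoint.elim_some]
    linear_combination (algebraMap F (AlgebraicClosure F) ((X : Matrix (Fin 2) (Fin 2) F) 1 0)) * h - hdet

theorem eigen_mul {z : OnePoint (AlgebraicClosure F)} {X Y : SL(2, F)}
    (hX : KleinPSL.pi F X • z = z) (hY : KleinPSL.pi F Y • z = z) :
    eigen z (X * Y) = eigen z X * eigen z Y := by
  cases z with
  | infty =>
    rw [smul_infty_iff] at hY
    simp [eigen, Matrix.mul_apply, Fin.sum_univ_two, hY]
  | coe w =>
    rw [smul_coe_iff] at hY
    simp only [eigen, OnePoint.elim_some, Matrix.SpecialLinearGroup.coe_mul, Matrix.mul_apply,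
      Fin.sum_univ_two, map_add, map_mul]
    linear_combination -(algebraMap F (AlgebraicClosure F) ((X : Matrix (Fin 2) (Fin 2) F) 1 0)) * hY

theorem twoPt : TwoPt p (Matrix.ProjectiveSpecialLinearGroup (Fin 2) F) (OnePoint (AlgebraicClosure F)) where
  finite_fix g hg := by
    obtain ⟨X, rfl⟩ := KleinPSL.pi_surjective g
    exact (fix_facts X hg).1
  ncard_fix g hg := by
    obtain ⟨X, rfl⟩ := KleinPSL.pi_surjective g
    rw [(fix_facts X hg).2]
    exact if_congr (orderOf_iff p X hg).symm rfl rfl
  comm z g h hg hh og oh := by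
    obtain ⟨X, rfl⟩ := KleinPSL.pi_surjective g
    obtain ⟨Y, rfl⟩ := KleinPSL.pi_surjective h
    suffices hc : X * Y = Y * X by
      show KleinPSL.pi F X * KleinPSL.pi F Y = KleinPSL.pi F Y * KleinPSL.pi F X
      rw [← map_mul, hc, map_mul]
    have key : ∀ W : SL(2, F), KleinPSL.pi F W • z = z → orderOf (KleinPSL.pi F W) = p →
        ∃ e : F, (W : Matrix (Fin 2) (Fin 2) F).trace = 2 * e ∧ eigen z W = algebraMap F _ e ∧ e * e = 1 := by
      intro W hW oW
      have h1 : KleinPSL.pi F W ≠ 1 := fun e => by
        rw [e, orderOf_one] at oW; exact hp.out.one_lt.ne oW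
      have ht := (orderOf_iff p W h1).1 oW
      obtain ⟨e, he, het⟩ : ∃ e : F, e * e = 1 ∧ (W : Matrix (Fin 2) (Fin 2) F).trace = 2 * e := by
        have : ((W : Matrix (Fin 2) (Fin 2) F).trace - 2) *
            ((W : Matrix (Fin 2) (Fin 2) F).trace + 2) = 0 := by linear_combination ht
        rcases mul_eq_zero.1 this with h1 | h1
        · exact ⟨1, one_mul 1, by linear_combination h1⟩
        · exact ⟨-1, by ring, by linear_combination h1⟩
      refine ⟨e, het, ?_, he⟩
      have hr := eigen_root hW
      rw [het, map_mul, map_ofNat] at hr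
      have hee : algebraMap F (AlgebraicClosure F) e * algebraMap F _ e = 1 := by
        rw [← map_mul, he, map_one]
      have : (eigen z W - algebraMap F _ e) * (eigen z W - algebraMap F _ e) = 0 := by
        linear_combination hr + hee
      exact sub_eq_zero.1 (mul_self_eq_zero.1 this)
    obtain ⟨e, ht, he, -⟩ := key X hg og
    obtain ⟨e', ht', he', -⟩ := key Y hh oh
    set f := algebraMap F (AlgebraicClosure F)
    refine Subtype.ext ?_
    show (X : Matrix (Fin 2) (Fin 2) F) * Y = Y * X
    rw [trace_fin_two] at ht ht'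
    cases z with
    | infty =>
      rw [smul_infty_iff] at hg hh
      simp only [eigen, OnePoint.elim_infty] at he he'
      replace he := f.injective he
      replace he' := f.injective he'
      ext i j
      fin_cases i <;> fin_cases j <;> simp [Matrix.mul_apply, Fin.sum_univ_two, hg, hh]
      · ring
      · linear_combination ((X : Matrix (Fin 2) (Fin 2) F) 0 1) * ((ht' - 2 * he')) -
          ((Y : Matrix (Fin 2) (Fin 2) F) 0 1) * (ht - 2 * he)
      · ring
    | coe w =>
      rw [smul_coe_iff] at hg hh
      simp only [eigen, OnePoint.elim_some] at he he'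
      have d1 : f ((X : Matrix (Fin 2) (Fin 2) F) 0 0) - f e = f ((X : Matrix (Fin 2) (Fin 2) F) 1 0) * w := by
        have := congrArg f ht
        rw [map_add, map_mul, map_ofNat] at this
        linear_combination this - he
      have d2 : f ((Y : Matrix (Fin 2) (Fin 2) F) 0 0) - f e' = f ((Y : Matrix (Fin 2) (Fin 2) F) 1 0) * w := by
        have := congrArg f ht'
        rw [map_add, map_mul, map_ofNat] at this
        linear_combination this - he'
      have b1 : f ((X : Matrix (Fin 2) (Fin 2) F) 0 1) = -(f ((X : Matrix (Fin 2) (Fin 2) F) 1 0) * w * w) := by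
        linear_combination -hg + w * (he - d1)
      have b2 : f ((Y : Matrix (Fin 2) (Fin 2) F) 0 1) = -(f ((Y : Matrix (Fin 2) (Fin 2) F) 1 0) * w * w) := by
        linear_combination -hh + w * (he' - d2)
      have a1 : f ((X : Matrix (Fin 2) (Fin 2) F) 0 0) = f e + f ((X : Matrix (Fin 2) (Fin 2) F) 1 0) * w := by
        linear_combination d1
      have a2 : f ((Y : Matrix (Fin 2) (Fin 2) F) 0 0) = f e' + f ((Y : Matrix (Fin 2) (Fin 2) F) 1 0) * w := by
        linear_combination d2
      have c1 : f ((X : Matrix (Fin 2) (Fin 2) F) 1 1) = f e - f ((X : Matrix (Fin 2) (Fin 2) F) 1 0) * w := by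
        linear_combination he
      have c2 : f ((Y : Matrix (Fin 2) (Fin 2) F) 1 1) = f e' - f ((Y : Matrix (Fin 2) (Fin 2) F) 1 0) * w := by
        linear_combination he'
      ext i j
      apply f.injective
      fin_cases i <;> fin_cases j <;>
        simp only [Fin.zero_eta, Fin.mk_one, Fin.isValue, Matrix.mul_apply, Fin.sum_univ_two, map_add,
          map_mul, a1, a2, b1, b2, c1, c2] <;> ring
  cyc z S hS hnp := by
    set T := S.comap (KleinPSL.pi F) with hT
    have hfix : ∀ X : T, KleinPSL.pi F (X : SL(2, F)) • z = z := fun X => hS _ X.2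
    let φ : T →* AlgebraicClosure F :=
      { toFun := fun X => eigen z (X : SL(2, F))
        map_one' := by cases z <;> simp [eigen]
        map_mul' := fun X Y => eigen_mul (hfix X) (hfix Y) }
    have hker : ∀ X : T, φ X = 1 → X = 1 := by
      intro X h
      have h0 : eigen z (X : SL(2, F)) = 1 := h
      have hr := eigen_root (hfix X)
      rw [h0] at hr
      have ht : (X : SL(2, F)).1.trace = 2 := by
        refine (algebraMap F (AlgebraicClosure F)).injective ?_
        rw [map_ofNat]; linear_combination -hr
      by_cases h1 : KleinPSL.pi F (X : SL(2, F)) = 1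
      · rcases KleinPSL.pi_eq_one.1 h1 with h2 | h2
        · exact Subtype.ext h2
        · refine Subtype.ext ?_
          rw [h2] at h0
          have h5 : eigen z (-1 : SL(2, F)) = -1 := by cases z <;> simp [eigen]
          have h3 : (-1 : AlgebraicClosure F) = 1 := h5.symm.trans h0
          have h4 : (-1 : F) = 1 := (algebraMap F (AlgebraicClosure F)).injective (by simpa using h3)
          rw [h2, Subgroup.coe_one]
          refine Subtype.ext ?_
          rw [Matrix.SpecialLinearGroup.coe_neg, Matrix.SpecialLinearGroup.coe_one, ← neg_one_smul F, h4, one_smul]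
      · exact absurd ((orderOf_iff p _ h1).2 (by rw [ht]; norm_num)) (hnp _ X.2)
    have hinj : Function.Injective φ := (injective_iff_map_eq_one φ).2 hker
    have : IsCyclic T := isCyclic_of_subgroup_isDomain φ hinj
    refine isCyclic_of_surjective ((KleinPSL.pi F).subgroupComap S) ?_
    rintro ⟨s, hs⟩
    obtain ⟨X, rfl⟩ := KleinPSL.pi_surjective s
    exact ⟨⟨X, hs⟩, rfl⟩

end Cfsg.Agent.Forms.DicksonAction
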