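import Mathlib
import Cfsg.Agent.Lib.Forms.DicksonBasic
import Cfsg.Agent.Lib.Classical.DihedralO2
import Cfsg.Agent.Lib.Classical.SmallIso
import Cfsg.Agent.Lib.SmallSimple.Basic
import Cfsg.Agent.S0228

/-!
# The small groups in Klein's list: dihedral, `A₄`, `S₄`, `A₅`
-/

set_option autoImplicit false
set_option linter.unusedSectionVars false

namespace Cfsg.Agent.Forms.DicksonShapes

open MulAction Cfsg.Agent.Forms.DicksonBasic

variable {G : Type*} [Group G] [Finite G]

/-- a cyclic subgroup of index two with only involutions outside -/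
theorem dihedral_of (Z : Subgroup G) (hidx : Z.index = 2) (hc : IsCyclic Z)
    (hinv : ∀ y, y ∉ Z → y * y = 1) :
    ∃ c : G, c ∈ Z ∧ orderOf c = Nat.card Z ∧ Nonempty (G ≃* DihedralGroup (orderOf c)) := by
  obtain ⟨c, hcg⟩ := IsCyclic.exists_generator (α := Z)
  have hco : orderOf (c : G) = Nat.card Z := by
    rw [Subgroup.orderOf_coe, orderOf_eq_card_of_forall_mem_zpowers hcg]
  refine ⟨c, c.2, hco, ?_⟩
  obtain ⟨y, hy⟩ : ∃ y, y ∉ Z := by
    by_contra h
    push Not at h
    rw [(Subgroup.eq_top_iff' Z).2 h, Subgroup.index_top] at hidx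
    omega
  rw [hco]
  refine Classical.DihedralO2.nonempty_dihedral rfl Z.subtype Z.subtype_injective y (hinv y hy) ?_
    (fun z e => hy (e ▸ z.2)) ?_
  · intro z
    show y * (z : G) * y⁻¹ = (z : G)⁻¹
    have h1 := hinv (y * z) fun h => hy ((Subgroup.mul_mem_cancel_right Z z.2).1 h)
    rw [inv_eq_of_mul_eq_one_right (hinv y hy)]
    exact eq_inv_of_mul_eq_one_left (by rw [← h1]; group)
  · intro g
    by_cases hg : g ∈ Z
    · exact ⟨⟨g, hg⟩, Or.inl rfl⟩
    · refine ⟨⟨g * y, (Subgroup.mul_mem_iff_of_index_two hidx).2 (iff_of_false hg hy)⟩, Or.inr ?_⟩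
      show g = g * y * y
      rw [mul_assoc, hinv y hy, mul_one]

theorem sylow_card {r : ℕ} [Fact r.Prime] (h1 : r ∣ Nat.card G) (h2 : ¬ r ^ 2 ∣ Nat.card G)
    (P : Sylow r G) : Nat.card (P : Subgroup G) = r := by
  obtain ⟨k, hk⟩ := IsPGroup.iff_card.1 P.2
  have hd : r ∣ Nat.card (P : Subgroup G) := P.dvd_card_of_dvd_card h1
  have hdG := (P : Subgroup G).card_subgroup_dvd_card
  rcases k with _ | _ | k
  · rw [hk, pow_zero, Nat.dvd_one] at hd
    exact absurd hd (Fact.out : r.Prime).ne_one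
  · rw [hk, pow_one]
  · exact absurd ((pow_dvd_pow r (by omega)).trans (hk ▸ hdG)) h2

/-- a subgroup of order `r` is a Sylow subgroup when `r²` does not divide the order -/
theorem exists_sylow {r : ℕ} [Fact r.Prime] (h2 : ¬ r ^ 2 ∣ Nat.card G) (S : Subgroup G)
    (hS : Nat.card S = r) : ∃ P : Sylow r G, (P : Subgroup G) = S := by
  obtain ⟨P, hP⟩ := (IsPGroup.of_card (p := r) (n := 1) (by rw [pow_one, hS]) :
    IsPGroup r S).exists_le_sylow
  refine ⟨P, (Subgroup.eq_of_le_of_card_ge hP ?_).symm⟩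
  rw [hS, sylow_card (hS ▸ S.card_subgroup_dvd_card) h2 P]

/-- a group of order `60` recognised by its involutions -/
theorem alt5_of (hG : Nat.card G = 60) (hconj : ∀ x y : G, orderOf x = 2 → orderOf y = 2 → IsConj x y)
    (hC : ∀ z : G, orderOf z = 2 → Nat.card (Subgroup.centralizer ({z} : Set G)) ≤ 4)
    (h4 : ∀ g : G, orderOf g ≠ 4) (h3 : 6 ≤ Nat.card (Sylow 3 G)) :
    Nonempty (G ≃* alternatingGroup (Fin 5)) := by
  classical
  haveI : Fact (Nat.Prime 2) := ⟨Nat.prime_two⟩
  haveI : Fact (Nat.Prime 3) := ⟨Nat.prime_three⟩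
  have hP4 : ∀ P : Sylow 2 G, Nat.card (P : Subgroup G) = 4 := by
    intro P
    obtain ⟨S, hS⟩ := Sylow.exists_subgroup_card_pow_prime (G := G) 2 (n := 2) (by rw [hG]; norm_num)
    obtain ⟨Q, hQ⟩ := (IsPGroup.of_card hS).exists_le_sylow
    rw [Nat.card_congr (P.equiv Q).toEquiv]
    obtain ⟨k, hk⟩ := IsPGroup.iff_card.1 Q.2
    have h1 := Subgroup.card_dvd_of_le hQ
    have h2 := (Q : Subgroup G).card_subgroup_dvd_card
    rw [hS, hk, Nat.pow_dvd_pow_iff_le_right (by norm_num)] at h1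
    rw [hk, hG] at h2
    have h3 : k < 3 := by
      by_contra h
      have : 2 ^ 3 ∣ 60 := (pow_dvd_pow 2 (by omega)).trans h2
      norm_num at this
    rw [hk, show k = 2 by omega]; rfl
  have huniq : ∀ (P : Sylow 2 G) (z : G), z ∈ (P : Subgroup G) → orderOf z = 2 →
      (P : Subgroup G) = Subgroup.centralizer ({z} : Set G) := by
    intro P z hz ho
    refine Subgroup.eq_of_le_of_card_ge (fun g hg => ?_) (by rw [hP4]; exact hC z ho)
    have : IsMulCommutative (P : Subgroup G) :=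
      IsPGroup.isMulCommutative_of_card_eq_prime_sq (p := 2) (by rw [hP4]; rfl)
    rw [Subgroup.mem_centralizer_singleton_iff]
    exact congrArg Subtype.val (this.is_comm.comm (⟨g, hg⟩ : (P : Subgroup G)) ⟨z, hz⟩)
  have hinv : ∀ (P : Sylow 2 G), Nat.card {z : (P : Subgroup G) // z ≠ 1} = 3 := by
    intro P
    have : Fintype (P : Subgroup G) := Fintype.ofFinite _
    rw [Nat.card_eq_fintype_card, Fintype.card_subtype_compl, Fintype.card_subtype_eq,
      ← Nat.card_eq_fintype_card, hP4]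
  have ho2 : ∀ (P : Sylow 2 G) (z : (P : Subgroup G)), z ≠ 1 → orderOf (z : G) = 2 := by
    intro P z hz
    have h := orderOf_dvd_natCard z
    rw [hP4, ← Subgroup.orderOf_coe] at h
    have h1 : orderOf (z : G) ≠ 1 := fun e => hz (Subtype.ext (orderOf_eq_one_iff.1 e))
    have h4' := h4 (z : G)
    have hle := Nat.le_of_dvd (by norm_num) h
    interval_cases hh : orderOf (z : G) <;> omega
  obtain ⟨P₀⟩ : Nonempty (Sylow 2 G) := inferInstance
  obtain ⟨⟨z₀, hz₀⟩⟩ : Nonempty {z : (P₀ : Subgroup G) // z ≠ 1} :=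
    (Nat.card_pos_iff.1 (by rw [hinv]; norm_num)).1
  have hz2 := ho2 P₀ z₀ hz₀
  have hclass : Nat.card {y : G // orderOf y = 2} = 15 := by
    have h := SmallSimple.Basic.card_centralizer_mul_card_class (z₀ : G)
    rw [← huniq P₀ _ z₀.2 hz2, hP4, hG] at h
    have e : Nat.card {y : G // IsConj (z₀ : G) y} = Nat.card {y : G // orderOf y = 2} := by
      refine Nat.card_congr (Equiv.subtypeEquivRight fun y => ⟨fun h => ?_, fun h => hconj _ _ hz2 h⟩)
      obtain ⟨c, rfl⟩ := isConj_iff.1 h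
      exact (MulEquiv.orderOf_eq (MulAut.conj c) (z₀ : G)).trans hz2
    omega
  have hn2 : Nat.card (Sylow 2 G) = 5 := by
    have e : (Σ P : Sylow 2 G, {z : (P : Subgroup G) // z ≠ 1}) ≃ {y : G // orderOf y = 2} := by
      refine Equiv.ofBijective (fun t => ⟨(t.2.1 : G), ho2 t.1 t.2.1 t.2.2⟩) ⟨?_, ?_⟩
      · rintro ⟨P, ⟨z, hz⟩, hz1⟩ ⟨Q, ⟨w, hw⟩, hw1⟩ h
        have hzw : z = w := congrArg Subtype.val h
        subst hzw
        have ho := ho2 P ⟨z, hz⟩ hz1
        obtain rfl : P = Q := Sylow.ext ((huniq P z hz ho).trans (huniq Q z hw ho).symm)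
        rfl
      · rintro ⟨y, hy⟩
        obtain ⟨P, hP⟩ := (IsPGroup.of_card (p := 2) (n := 1)
          (by rw [Nat.card_zpowers, hy, pow_one]) : IsPGroup 2 (Subgroup.zpowers y)).exists_le_sylow
        exact ⟨⟨P, ⟨y, hP (Subgroup.mem_zpowers y)⟩, fun e => by
          rw [show y = 1 from congrArg Subtype.val e, orderOf_one] at hy; omega⟩, rfl⟩
    have := Nat.card_congr e
    have : Fintype (Sylow 2 G) := Fintype.ofFinite _
    rw [Nat.card_sigma, Finset.sum_congr rfl fun P _ => hinv P, Finset.sum_const, smul_eq_mul,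
      Finset.card_univ, ← Nat.card_eq_fintype_card, hclass] at *
    omega
  have hN : Nat.card (Subgroup.normalizer ((P₀ : Subgroup G) : Set G)) = 12 := by
    have h := (Subgroup.normalizer ((P₀ : Subgroup G) : Set G)).index_mul_card
    erw [← Sylow.card_eq_index_normalizer P₀] at h
    rw [hn2, hG] at h
    omega
  have : Fintype (Sylow 2 G) := Fintype.ofFinite _
  let φ := MulAction.toPermHom G (Sylow 2 G)
  have hinj : Function.Injective φ := by
    rw [← MonoidHom.ker_eq_bot_iff]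
    by_contra hne
    have hK : φ.ker ≤ Subgroup.normalizer ((P₀ : Subgroup G) : Set G) := by
      intro k hk
      exact Sylow.smul_eq_iff_mem_normalizer.1 (congrArg (fun e => e P₀) hk)
    have hd : Nat.card φ.ker ∣ 12 := hN ▸ Subgroup.card_dvd_of_le hK
    have h1 : Nat.card φ.ker ≠ 1 := fun h => hne (Subgroup.eq_bot_of_card_eq _ h)
    have hpos : 0 < Nat.card φ.ker := Nat.card_pos
    have hle := Nat.le_of_dvd (by norm_num) hd
    rcases Nat.exists_prime_and_dvd h1 with ⟨r, hr, hrd⟩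
    have hr' : r = 2 ∨ r = 3 := by
      have hle' := Nat.le_of_dvd (by norm_num) (hrd.trans hd)
      have := hr.two_le
      have h12 := hrd.trans hd
      interval_cases r <;> first | omega | exact absurd hr (by norm_num) | exact absurd h12 (by norm_num)
    haveI : Fact r.Prime := ⟨hr⟩
    obtain ⟨k, hk⟩ := exists_prime_orderOf_dvd_card' r hrd
    rcases hr' with rfl | rfl
    · have hall : ∀ y : G, orderOf y = 2 → y ∈ φ.ker := by
        intro y hy
        obtain ⟨c, rfl⟩ := isConj_iff.1 (hconj (k : G) y (by rw [Subgroup.orderOf_coe, hk]) hy)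
        exact (inferInstance : φ.ker.Normal).conj_mem _ k.2 c
      have h15 : Nat.card {y : G // orderOf y = 2} ≤ Nat.card φ.ker :=
        Nat.card_le_card_of_injective (fun y => (⟨y.1, hall y.1 y.2⟩ : φ.ker))
          fun a b h => Subtype.ext (congrArg Subtype.val h :)
      omega
    · have h32 : ¬ 3 ^ 2 ∣ Nat.card G := by rw [hG]; norm_num
      obtain ⟨Q, hQ⟩ := exists_sylow h32 (Subgroup.zpowers (k : G))
        (by rw [Nat.card_zpowers, Subgroup.orderOf_coe, hk])
      have hall : ∀ R : Sylow 3 G, (R : Subgroup G) ≤ φ.ker := by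
        intro R
        obtain ⟨c, rfl⟩ := MulAction.exists_smul_eq G Q R
        rw [Sylow.coe_subgroup_smul, hQ]
        rintro _ ⟨x, hx, rfl⟩
        exact (inferInstance : φ.ker.Normal).conj_mem _ (Subgroup.zpowers_le.2 k.2 hx) c
      have hle6 : Nat.card (Sylow 3 G) ≤ Nat.card (Sylow 3 φ.ker) :=
        Nat.card_le_card_of_injective (fun R => R.subtype (hall R))
          fun a b h => Sylow.subtype_injective h
      obtain ⟨R₀⟩ : Nonempty (Sylow 3 φ.ker) := inferInstance
      have h5 := R₀.card_dvd_index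
      have h6 := (R₀ : Subgroup φ.ker).index_mul_card
      have h7 : 3 ∣ Nat.card (R₀ : Subgroup φ.ker) := R₀.dvd_card_of_dvd_card hrd
      have h8 : 3 ≤ Nat.card (R₀ : Subgroup φ.ker) := Nat.le_of_dvd Nat.card_pos h7
      have h9 : 0 < (R₀ : Subgroup φ.ker).index := Nat.pos_of_ne_zero Subgroup.index_ne_zero_of_finite
      have h10 := Nat.le_of_dvd h9 h5
      nlinarith
  obtain ⟨e⟩ : Nonempty (Sylow 2 G ≃ Fin 5) := ⟨Finite.equivFinOfCardEq hn2⟩
  exact Classical.SmallIso.nonempty_mulEquiv_alternating (e.permCongrHom.toMonoidHom.comp φ)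
    (e.permCongrHom.injective.comp hinj) (by rw [hG, Fintype.card_fin]; rfl)

end Cfsg.Agent.Forms.DicksonShapes
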