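import Mathlib
import Cfsg.Agent.Lib.Forms.DicksonBasic
import Cfsg.Agent.Lib.Forms.DicksonShapes

/-!
# Klein's and Dickson's count
-/

set_option autoImplicit false
set_option linter.unusedSectionVars false

namespace Cfsg.Agent.Forms.DicksonCount

open MulAction Cfsg.Agent.Forms.DicksonBasic Cfsg.Agent.Forms.DicksonShapes

variable {p : ℕ} [hp : Fact p.Prime] {G : Type*} {X : Type*} [Group G] [Finite G] [MulAction G X]

/-- the points with nontrivial stabilisers -/
def pts (G X : Type*) [Group G] [MulAction G X] : SubMulAction G X where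
  carrier := {x | stabilizer G x ≠ ⊥}
  smul_mem' g x (hx : stabilizer G x ≠ ⊥) := by
    show stabilizer G (g • x) ≠ ⊥
    rw [stabilizer_smul_eq_stabilizer_map_conj]
    exact fun h => hx ((Subgroup.map_eq_bot_iff_of_injective _ (MulAut.conj g).injective).1 h)

theorem mem_pts {x : X} : x ∈ pts G X ↔ stabilizer G x ≠ ⊥ := Iff.rfl

/-- orbit representatives with their class equation -/
structure Rep (p : ℕ) (G X : Type*) [Group G] [MulAction G X] (ι : Type*) [Fintype ι] (pt : ι → X) :
    Prop where
  ne_bot : ∀ i, stabilizer G (pt i) ≠ ⊥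
  inj : ∀ i j, pt j ∈ orbit G (pt i) → i = j
  cover : ∀ x, stabilizer G x ≠ ⊥ → ∃ i, x ∈ orbit G (pt i)
  eqn : Nat.card {g : G // orderOf g = p} + ∑ i, (Nat.card G - (stabilizer G (pt i)).index) =
    2 * (Nat.card G - 1)

variable (hT : TwoPt p G X)
include hT

theorem exists_rep : ∃ (n : ℕ) (pt : Fin n → X), Rep p G X (Fin n) pt := by
  classical
  have : Fintype G := Fintype.ofFinite G
  have hfin : (pts G X : Set X).Finite := by
    refine Set.Finite.subset (Set.Finite.biUnion (Finset.univ.erase (1 : G)).finite_toSet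
      fun g hg => hT.finite_fix g (Finset.ne_of_mem_erase (Finset.mem_coe.1 hg))) ?_
    intro x hx
    obtain ⟨g, hg⟩ := Subgroup.ne_bot_iff_exists_ne_one.1 (mem_pts.1 hx)
    simp only [Set.mem_iUnion]
    exact ⟨(g : G), by simpa using fun e => hg (Subtype.ext e), g.2⟩
  have : Finite (pts G X) := hfin.to_subtype
  have : Fintype (pts G X) := Fintype.ofFinite _
  have : Fintype (orbitRel.Quotient G (pts G X)) := Fintype.ofFinite _
  set Ω := orbitRel.Quotient G (pts G X)
  let e : Fin (Fintype.card Ω) ≃ Ω := (Fintype.equivFin Ω).symm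
  have hst : ∀ y : pts G X, stabilizer G y = stabilizer G (y : X) := fun y =>
    SubMulAction.stabilizer_of_subMul y
  refine ⟨Fintype.card Ω, fun i => ((e i).out : X), fun i => mem_pts.1 (e i).out.2, ?_, ?_, ?_⟩
  · intro i j h
    refine e.injective ?_
    rw [← Quotient.out_eq' (e i), ← Quotient.out_eq' (e j)]
    obtain ⟨g, hg⟩ := h
    exact (Quotient.sound' (orbitRel_apply.2 ⟨g, Subtype.ext hg⟩)).symm
  · intro x hx
    refine ⟨e.symm (Quotient.mk'' ⟨x, mem_pts.2 hx⟩), ?_⟩
    rw [Equiv.apply_symm_apply]
    have := orbitRel_apply.1 (Quotient.mk_out' (s₁ := orbitRel G (pts G X)) ⟨x, mem_pts.2 hx⟩)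
    obtain ⟨g, hg⟩ := this
    refine ⟨g⁻¹, ?_⟩
    show g⁻¹ • ((Quotient.mk'' ⟨x, mem_pts.2 hx⟩ : Ω).out : X) = x
    rw [← congrArg Subtype.val hg]
    exact inv_smul_smul g x
  · set N := Nat.card {g : G // orderOf g = p} with hN
    have h1 : ∀ g : G, g ≠ 1 → Fintype.card (fixedBy (pts G X) g) + (if orderOf g = p then 1 else 0) = 2 := by
      intro g hg
      have hc : Fintype.card (fixedBy (pts G X) g) = (fixedBy X g).ncard := by
        rw [← Nat.card_eq_fintype_card, ← Nat.card_coe_set_eq]
        refine Nat.card_congr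
          { toFun := fun y => ⟨(y.1 : X), congrArg Subtype.val (y.2 : g • y.1 = y.1)⟩
            invFun := fun y => ⟨⟨y.1, mem_pts.2 fun h => hg (Subgroup.mem_bot.1 (h ▸ (y.2 : g ∈ stabilizer G y.1)))⟩,
              Subtype.ext y.2⟩
            left_inv := fun y => rfl
            right_inv := fun y => rfl }
      rw [hc, hT.ncard_fix g hg]
      split_ifs <;> rfl
    have hB := sum_card_fixedBy_eq_card_orbits_mul_card_group G (pts G X)
    rw [← Finset.add_sum_erase _ _ (Finset.mem_univ (1 : G))] at hB
    have hfix1 : Fintype.card (fixedBy (pts G X) (1 : G)) = Fintype.card (pts G X) :=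
      Fintype.card_congr (Equiv.subtypeUnivEquiv fun y => one_smul G y)
    have hsum : ∑ g ∈ Finset.univ.erase (1 : G), Fintype.card (fixedBy (pts G X) g) + N =
        2 * (Fintype.card G - 1) := by
      have hN' : N = ∑ g ∈ Finset.univ.erase (1 : G), if orderOf g = p then 1 else 0 := by
        rw [hN, Nat.card_eq_fintype_card, Fintype.card_subtype, Finset.card_filter,
          ← Finset.add_sum_erase _ _ (Finset.mem_univ (1 : G)), orderOf_one,
          if_neg hp.out.ne_one.symm, zero_add]
      rw [hN', ← Finset.sum_add_distrib,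
        Finset.sum_congr rfl fun g hg => h1 g (Finset.ne_of_mem_erase hg), Finset.sum_const,
        Finset.card_erase_of_mem (Finset.mem_univ _), Finset.card_univ, smul_eq_mul, mul_comm]
    have hY : Fintype.card (pts G X) = ∑ i, (stabilizer G ((e i).out : X)).index := by
      rw [← Nat.card_eq_fintype_card, Nat.card_congr (selfEquivSigmaOrbits G (pts G X)), Nat.card_sigma]
      refine Fintype.sum_equiv e.symm _ _ fun ω => ?_
      rw [Equiv.apply_symm_apply, ← hst, index_stabilizer, Nat.card_coe_set_eq]
    have hidx : ∀ i, (stabilizer G ((e i).out : X)).index ≤ Fintype.card G := fun i =>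
      Nat.card_eq_fintype_card (α := G) ▸ Nat.le_of_dvd Nat.card_pos (Subgroup.index_dvd_card _)
    rw [Finset.sum_tsub_distrib _ fun i _ => (Nat.card_eq_fintype_card (α := G)).symm ▸ hidx i,
      Finset.sum_const, Finset.card_univ, Fintype.card_fin, smul_eq_mul, ← hY,
      Nat.card_eq_fintype_card (α := G)]
    change _ + (Fintype.card Ω * Fintype.card G - _) = _
    rw [hfix1] at hB
    have hΩ : Fintype.card (Quotient (orbitRel G (pts G X))) = Fintype.card Ω :=
      Fintype.card_congr (Equiv.refl _)
    rw [hΩ] at hB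
    omega

theorem stab_facts {n : ℕ} {pt : Fin n → X} (hR : Rep p G X (Fin n) pt) (i : Fin n) :
    2 * (stabilizer G (pt i)).index ≤ Nat.card G ∧ 0 < (stabilizer G (pt i)).index ∧
      Nat.card (stabilizer G (pt i)) * (stabilizer G (pt i)).index = Nat.card G := by
  have h1 := (stabilizer G (pt i)).index_mul_card
  have h2 : 2 ≤ Nat.card (stabilizer G (pt i)) := by
    have : Nontrivial (stabilizer G (pt i)) := (Subgroup.nontrivial_iff_ne_bot _).2 (hR.ne_bot i)
    exact Finite.one_lt_card
  have h3 : (stabilizer G (pt i)).index ≠ 0 := Subgroup.index_ne_zero_of_finite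
  refine ⟨?_, Nat.pos_of_ne_zero h3, by rw [mul_comm]; exact h1⟩
  calc 2 * (stabilizer G (pt i)).index ≤ Nat.card (stabilizer G (pt i)) * (stabilizer G (pt i)).index :=
        Nat.mul_le_mul_right _ h2
    _ = Nat.card G := by rw [mul_comm]; exact h1

section coprime

variable (hN : ∀ g : G, orderOf g ≠ p)
include hN

theorem cyclic_stab (x : X) : IsCyclic (stabilizer G x) :=
  hT.cyc x _ (fun g hg => hg) fun g _ => hN g

theorem mem_stab_of_fix {n : ℕ} {pt : Fin n → X} (hR : Rep p G X (Fin n) pt) {g : G} (hg : g ≠ 1) :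
    ∃ (i : Fin n) (h : G), h * g * h⁻¹ ∈ stabilizer G (pt i) := by
  obtain ⟨x, hx⟩ := hT.exists_fixed hg
  obtain ⟨i, h, hh⟩ := hR.cover x fun e => hg (Subgroup.mem_bot.1 (e ▸ (hx : g ∈ stabilizer G x)))
  refine ⟨i, h⁻¹, ?_⟩
  rw [mem_stabilizer_iff, inv_inv, mul_smul, mul_smul, show h • pt i = x from hh, hx, ← hh]
  exact inv_smul_smul h (pt i)

theorem eq_orbit_of_dvd {n : ℕ} {pt : Fin n → X} (hR : Rep p G X (Fin n) pt) {x : X} {g : G}
    (hg : g • x = x) (hg1 : g ≠ 1) :
    ∃ i, x ∈ orbit G (pt i) ∧ orderOf g ∣ Nat.card (stabilizer G (pt i)) := by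
  have hgs : g ∈ stabilizer G x := hg
  obtain ⟨i, h, hh⟩ := hR.cover x fun e => hg1 (Subgroup.mem_bot.1 (e ▸ hgs))
  refine ⟨i, ⟨h, hh⟩, ?_⟩
  have hm : (MulAut.conj h⁻¹) g ∈ stabilizer G (pt i) := by
    show (h⁻¹ * g * h⁻¹⁻¹) • pt i = pt i
    rw [inv_inv, mul_smul, mul_smul, show h • pt i = x from hh, hg, ← hh]
    exact inv_smul_smul h (pt i)
  have := orderOf_dvd_natCard (⟨_, hm⟩ : stabilizer G (pt i))
  rwa [Subgroup.orderOf_mk, MulEquiv.orderOf_eq] at this

/-- the conclusion in the coprime case -/
def Coprime' (G : Type*) [Group G] : Prop :=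
  IsCyclic G ∨ (∃ c : G, c ≠ 1 ∧ Nonempty (G ≃* DihedralGroup (orderOf c))) ∨
    Nonempty (G ≃* alternatingGroup (Fin 4)) ∨ Nonempty (G ≃* Equiv.Perm (Fin 4)) ∨
    Nonempty (G ≃* alternatingGroup (Fin 5))

theorem dihedral_case {n : ℕ} {pt : Fin n → X} (hR : Rep p G X (Fin n) pt) (k : Fin n)
    (hk : (stabilizer G (pt k)).index = 2) (ho : ∀ i, i ≠ k → Nat.card (stabilizer G (pt i)) = 2)
    (hG : 4 ≤ Nat.card G) : Coprime' G := by
  right; left
  have hnorm : (stabilizer G (pt k)).Normal := Subgroup.normal_of_index_eq_two hk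
  obtain ⟨c, -, hc, he⟩ := dihedral_of (stabilizer G (pt k)) hk (cyclic_stab hT hN _) fun y hy => by
    obtain ⟨i, h, hm⟩ := mem_stab_of_fix hT hN hR (g := y) fun e => hy (by rw [e]; exact one_mem _)
    have hik : i ≠ k := by
      rintro rfl
      refine hy ?_
      have := hnorm.conj_mem _ hm h⁻¹
      rwa [show h⁻¹ * (h * y * h⁻¹) * h⁻¹⁻¹ = y by group] at this
    have h1 := pow_card_eq_one' (x := (⟨_, hm⟩ : stabilizer G (pt i)))
    rw [ho i hik] at h1
    have h2 := congrArg Subtype.val h1
    rw [SubmonoidClass.coe_pow, conj_pow, Subgroup.coe_one, conj_eq_one_iff, pow_two] at h2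
    exact h2
  refine ⟨c, fun e => ?_, he⟩
  rw [e, orderOf_one] at hc
  have := (stabilizer G (pt k)).index_mul_card
  rw [hk, ← hc] at this
  omega

theorem alt4_case {n : ℕ} {pt : Fin n → X} (hR : Rep p G X (Fin n) pt) (hG : Nat.card G = 12)
    (i : Fin n) (hi : Nat.card (stabilizer G (pt i)) = 2)
    (ho : ∀ l, l ≠ i → Nat.card (stabilizer G (pt l)) = 3) : Coprime' G := by
  right; right; left
  refine S0228.result hG fun z hz hzc => ?_
  have hz1 : z ≠ 1 := fun e => by rw [e, orderOf_one] at hz; omega
  obtain ⟨x, hx⟩ := hT.exists_fixed hz1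
  obtain ⟨l, hl, hd⟩ := eq_orbit_of_dvd hT hN hR hx hz1
  have hli : l = i := by
    by_contra hne
    rw [hz, ho l hne] at hd
    norm_num at hd
  subst hli
  have horb : orbit G x ⊆ fixedBy X z := by
    rintro _ ⟨h, rfl⟩
    show z • h • x = h • x
    rw [← mul_smul, ← Subgroup.mem_center_iff.1 hzc h, mul_smul, hx]
  have h1 := Set.ncard_le_ncard horb (hT.finite_fix z hz1)
  rw [hT.ncard_fix z hz1, if_neg (hN z), orbit_eq_iff.2 hl, ← index_stabilizer] at h1
  have h3 := (stabilizer G (pt l)).index_mul_card
  rw [hi, hG] at h3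
  omega

theorem sym4_case {n : ℕ} {pt : Fin n → X} (hR : Rep p G X (Fin n) pt) (hG : Nat.card G = 24)
    (j : Fin n) (hj : Nat.card (stabilizer G (pt j)) = 3)
    (ho : ∀ l, ¬ 6 ∣ Nat.card (stabilizer G (pt l))) : Coprime' G := by
  right; right; right; left
  classical
  haveI : Fact (Nat.Prime 3) := ⟨Nat.prime_three⟩
  have h32 : ¬ 3 ^ 2 ∣ Nat.card G := by rw [hG]; norm_num
  set s := orbit G (pt j) with hs
  have hs8 : s.ncard = 8 := by
    have := (stabilizer G (pt j)).index_mul_card
    rw [hj, hG, index_stabilizer, ← hs] at this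
    omega
  have hsf : s.Finite := Set.finite_of_ncard_ne_zero (by omega)
  have hstab : ∀ x ∈ s, Nat.card (stabilizer G x) = 3 := by
    rintro _ ⟨h, rfl⟩
    rw [stabilizer_smul_eq_stabilizer_map_conj, Subgroup.card_map_of_injective (MulAut.conj h).injective,
      hj]
  have hn3 : Nat.card (Sylow 3 G) = 4 := by
    have h1 : s.ncard ≤ 2 * Nat.card (Sylow 3 G) := by
      refine hT.card_sylow_le s hsf fun x hx => ?_
      obtain ⟨Q, hQ⟩ := exists_sylow h32 _ (hstab x hx)
      refine ⟨Q, fun e => ?_, fun g hg => by rw [hQ] at hg; exact hg⟩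
      rw [hQ] at e
      have := hstab x hx
      rw [e, Subgroup.card_bot] at this
      omega
    obtain ⟨Q⟩ : Nonempty (Sylow 3 G) := inferInstance
    have h2 := Q.card_dvd_index
    have h3 := (Q : Subgroup G).index_mul_card
    rw [sylow_card (by rw [hG]; norm_num) h32 Q, hG] at h3
    rw [show (Q : Subgroup G).index = 8 by omega] at h2
    have h4 := card_sylow_modEq_one 3 G
    unfold Nat.ModEq at h4
    have h5 := Nat.le_of_dvd (by norm_num) h2
    interval_cases hh : Nat.card (Sylow 3 G) <;> omega
  have : Fintype (Sylow 3 G) := Fintype.ofFinite _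
  let φ := MulAction.toPermHom G (Sylow 3 G)
  have hinj : Function.Injective φ := by
    rw [← MonoidHom.ker_eq_bot_iff, eq_bot_iff]
    intro k hk
    rw [Subgroup.mem_bot]
    by_contra hk1
    -- `k` maps each pair of fixed points to itself
    have hperm : ∀ x ∈ s, ∀ c ∈ stabilizer G x, c • (k • x) = k • x := by
      intro x hx c hc
      obtain ⟨Q, hQ⟩ := exists_sylow h32 _ (hstab x hx)
      have hkN : k⁻¹ ∈ Subgroup.normalizer ((Q : Subgroup G) : Set G) :=
        Sylow.smul_eq_iff_mem_normalizer.1 (congrArg (fun e => e Q) (inv_mem hk : k⁻¹ ∈ φ.ker))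
      rw [hQ, Subgroup.mem_normalizer_iff] at hkN
      have hm := (hkN c).1 hc
      rw [inv_inv] at hm
      calc c • k • x = k • (k⁻¹ * c * k) • x := by rw [← mul_smul, ← mul_smul]; congr 1; group
        _ = k • x := by rw [show (k⁻¹ * c * k) • x = x from hm]
    have hk2 : k * k = 1 := by
      by_contra hkk
      have hsub : s ⊆ fixedBy X (k * k) := by
        intro x hx
        obtain ⟨c, hc⟩ := Subgroup.ne_bot_iff_exists_ne_one.1 (show stabilizer G x ≠ ⊥ from fun e => by
          have := hstab x hx; rw [e, Subgroup.card_bot] at this; omega)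
        have hc1 : (c : G) ≠ 1 := fun e => hc (Subtype.ext e)
        obtain ⟨a, b, hab, hf⟩ := hT.exists_pair hc1 (hN _)
        have hxm : x ∈ fixedBy X (c : G) := c.2
        have hkm : k • x ∈ fixedBy X (c : G) := hperm x hx c c.2
        have hkx : k • x ∈ s := by
          rw [hs, ← orbit_eq_iff.2 hx]; exact mem_orbit x k
        have hc' : (c : G) ∈ stabilizer G (k • x) := hkm
        have hkkm : k • k • x ∈ fixedBy X (c : G) := hperm _ hkx c hc'
        show (k * k) • x = x
        rw [mul_smul]
        rw [hf] at hxm hkm hkkm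
        simp only [Set.mem_insert_iff, Set.mem_singleton_iff] at hxm hkm hkkm
        by_cases hfx : k • x = x
        · rw [hfx, hfx]
        · have hne : k • k • x ≠ k • x := fun e => hfx (smul_left_cancel k e)
          rcases hxm with e | e <;> rcases hkm with e' | e' <;> rcases hkkm with e'' | e'' <;>
            first
            | exact e''.trans e.symm
            | exact absurd (e'.trans e.symm) hfx
            | exact absurd (e''.trans e'.symm) hne
      have := Set.ncard_le_ncard hsub (hT.finite_fix _ hkk)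
      rw [hT.ncard_fix _ hkk, if_neg (hN _)] at this
      omega
    have hko : orderOf k = 2 := orderOf_eq_prime (hp := ⟨Nat.prime_two⟩) (by rw [pow_two, hk2]) hk1
    obtain ⟨x, hx⟩ : s.Nonempty := Set.nonempty_of_ncard_ne_zero (by omega)
    set C := stabilizer G x with hC
    obtain ⟨c, hc⟩ := exists_prime_orderOf_dvd_card' 3 (G := C) (by rw [hC, hstab x hx])
    obtain ⟨Q, hQ⟩ := exists_sylow h32 _ (hstab x hx)
    have hcomm : Commute (c : G) k := by
      have hkN : k ∈ Subgroup.normalizer ((Q : Subgroup G) : Set G) :=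
        Sylow.smul_eq_iff_mem_normalizer.1 (congrArg (fun e => e Q) hk)
      rw [hQ, Subgroup.mem_normalizer_iff] at hkN
      have h1 : k * (c : G) * k⁻¹ * (c : G)⁻¹ ∈ C := mul_mem ((hkN c).1 c.2) (inv_mem c.2)
      have h2 : k * (c : G) * k⁻¹ * (c : G)⁻¹ ∈ φ.ker := by
        rw [show k * (c : G) * k⁻¹ * (c : G)⁻¹ = k * ((c : G) * k⁻¹ * (c : G)⁻¹) by group]
        exact mul_mem hk ((inferInstance : φ.ker.Normal).conj_mem _ (inv_mem hk) _)
      have h3 : ∀ u ∈ φ.ker, u * u = 1 := by
        intro u hu
        by_contra huu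
        have hsub : s ⊆ fixedBy X (u * u) := by
          intro y hy
          obtain ⟨d, hd⟩ := Subgroup.ne_bot_iff_exists_ne_one.1 (show stabilizer G y ≠ ⊥ from fun e => by
            have := hstab y hy; rw [e, Subgroup.card_bot] at this; omega)
          have hd1 : (d : G) ≠ 1 := fun e => hd (Subtype.ext e)
          have hperm' : ∀ y ∈ s, ∀ d ∈ stabilizer G y, d • (u • y) = u • y := by
            intro y hy d hd
            obtain ⟨Q, hQ⟩ := exists_sylow h32 _ (hstab y hy)
            have huN : u⁻¹ ∈ Subgroup.normalizer ((Q : Subgroup G) : Set G) :=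
              Sylow.smul_eq_iff_mem_normalizer.1 (congrArg (fun e => e Q) (inv_mem hu : u⁻¹ ∈ φ.ker))
            rw [hQ, Subgroup.mem_normalizer_iff] at huN
            have hm := (huN d).1 hd
            rw [inv_inv] at hm
            calc d • u • y = u • (u⁻¹ * d * u) • y := by rw [← mul_smul, ← mul_smul]; congr 1; group
              _ = u • y := by rw [show (u⁻¹ * d * u) • y = y from hm]
          obtain ⟨a, b, hab, hf⟩ := hT.exists_pair hd1 (hN _)
          have hxm : y ∈ fixedBy X (d : G) := d.2
          have hkm : u • y ∈ fixedBy X (d : G) := hperm' y hy d d.2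
          have huy : u • y ∈ s := by
            rw [hs, ← orbit_eq_iff.2 hy]; exact mem_orbit y u
          have hd' : (d : G) ∈ stabilizer G (u • y) := hkm
          have hkkm : u • u • y ∈ fixedBy X (d : G) := hperm' _ huy d hd'
          show (u * u) • y = y
          rw [mul_smul]
          rw [hf] at hxm hkm hkkm
          simp only [Set.mem_insert_iff, Set.mem_singleton_iff] at hxm hkm hkkm
          by_cases hfy : u • y = y
          · rw [hfy, hfy]
          · have hne : u • u • y ≠ u • y := fun e => hfy (smul_left_cancel u e)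
            rcases hxm with e | e <;> rcases hkm with e' | e' <;> rcases hkkm with e'' | e'' <;>
              first
              | exact e''.trans e.symm
              | exact absurd (e'.trans e.symm) hfy
              | exact absurd (e''.trans e'.symm) hne
        have := Set.ncard_le_ncard hsub (hT.finite_fix _ huu)
        rw [hT.ncard_fix _ huu, if_neg (hN _)] at this
        omega
      set v := k * (c : G) * k⁻¹ * (c : G)⁻¹
      have hv2 : v * v = 1 := h3 v h2
      have hv3 := congrArg Subtype.val (pow_card_eq_one' (x := (⟨v, h1⟩ : C)))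
      rw [hstab x hx, SubmonoidClass.coe_pow, pow_succ, pow_two, hv2, one_mul, Subgroup.coe_one] at hv3
      exact (mul_inv_eq_iff_eq_mul.1 (mul_inv_eq_one.1 hv3)).symm
    obtain ⟨a, b, hab, hf⟩ := hT.exists_pair hk1 (hN k)
    have hc3 : (c : G) ^ 3 = 1 := by
      have h := pow_orderOf_eq_one c
      rw [hc] at h
      exact congrArg Subtype.val h
    have hca : (c : G) • a = a := by
      have hpres : ∀ y ∈ fixedBy X k, (c : G) • y ∈ fixedBy X k := by
        intro y (hy : k • y = y)
        show k • (c : G) • y = (c : G) • y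
        rw [← mul_smul, ← hcomm.eq, mul_smul, hy]
      have h1 := hpres a (by rw [hf]; simp)
      have h2 := hpres b (by rw [hf]; simp)
      rw [hf] at h1 h2
      simp only [Set.mem_insert_iff, Set.mem_singleton_iff] at h1 h2
      rcases h1 with h1 | h1
      · exact h1
      rcases h2 with h2 | h2
      · exfalso
        apply hab
        calc a = ((c : G) ^ 3) • a := by rw [hc3, one_smul]
          _ = b := by rw [pow_succ, pow_two, mul_smul, mul_smul, h1, h2, h1]
      · exact absurd (smul_left_cancel (c : G) (h1.trans h2.symm)) hab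
    have hka : k • a = a := by
      have : a ∈ fixedBy X k := by rw [hf]; simp
      exact this
    obtain ⟨l, hl, hd2⟩ := eq_orbit_of_dvd hT hN hR hka hk1
    obtain ⟨l', hl', hd3⟩ := eq_orbit_of_dvd hT hN hR hca
      (fun e => by rw [← Subgroup.orderOf_coe, e, orderOf_one] at hc; omega)
    rw [hko] at hd2
    rw [Subgroup.orderOf_coe, hc] at hd3
    obtain rfl : l = l' := hR.inj l l' (by rw [← orbit_eq_iff.2 hl]; exact mem_orbit_symm.1 hl')
    exact ho l (Nat.Coprime.mul_dvd_of_dvd_of_dvd (by norm_num : Nat.Coprime 2 3) hd2 hd3)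
  obtain ⟨e⟩ : Nonempty (Sylow 3 G ≃ Fin 4) := ⟨Finite.equivFinOfCardEq hn3⟩
  have hbij : Function.Bijective (e.permCongrHom.toMonoidHom.comp φ) := by
    rw [Nat.bijective_iff_injective_and_card, hG, Nat.card_perm, Nat.card_fin]
    exact ⟨e.permCongrHom.injective.comp hinj, rfl⟩
  exact ⟨MulEquiv.ofBijective _ hbij⟩

theorem alt5_case {n : ℕ} {pt : Fin n → X} (hR : Rep p G X (Fin n) pt) (hG : Nat.card G = 60)
    (i j : Fin n) (hi : Nat.card (stabilizer G (pt i)) = 2) (hj : Nat.card (stabilizer G (pt j)) = 3)
    (ho : ∀ l, l ≠ i → Odd (Nat.card (stabilizer G (pt l)))) : Coprime' G := by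
  right; right; right; right
  haveI : Fact (Nat.Prime 3) := ⟨Nat.prime_three⟩
  have hmem : ∀ z : G, orderOf z = 2 → ∃ x ∈ orbit G (pt i), z • x = x := by
    intro z hz
    have hz1 : z ≠ 1 := fun e => by rw [e, orderOf_one] at hz; omega
    obtain ⟨x, hx⟩ := hT.exists_fixed hz1
    obtain ⟨l, hl, hd⟩ := eq_orbit_of_dvd hT hN hR hx hz1
    refine ⟨x, ?_, hx⟩
    by_contra hne
    have hli : l ≠ i := fun e => hne (e ▸ hl)
    have := ho l hli
    rw [hz] at hd
    exact this.not_two_dvd_nat hd
  have hcard : ∀ x ∈ orbit G (pt i), Nat.card (stabilizer G x) = 2 := by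
    rintro _ ⟨h, rfl⟩
    rw [stabilizer_smul_eq_stabilizer_map_conj, Subgroup.card_map_of_injective (MulAut.conj h).injective,
      hi]
  refine alt5_of hG ?_ ?_ ?_ ?_
  · intro z w hz hw
    obtain ⟨x, hx, hzx⟩ := hmem z hz
    obtain ⟨y, hy, hwy⟩ := hmem w hw
    obtain ⟨h, rfl⟩ : y ∈ orbit G x := by rw [orbit_eq_iff.2 hx]; exact hy
    refine isConj_iff.2 ⟨h, ?_⟩
    have hm : h * z * h⁻¹ ∈ stabilizer G (h • x) := by
      rw [mem_stabilizer_iff, mul_smul, mul_smul, inv_smul_smul, hzx]
    have h1 := hcard (h • x) (by rw [← orbit_eq_iff.2 hx]; exact mem_orbit x h)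
    have huniq := (Nat.card_eq_two_iff' (1 : stabilizer G (h • x))).1 h1
    have e := huniq.unique (y₁ := ⟨_, hm⟩) (y₂ := ⟨w, hwy⟩)
      (fun e => by
        have := congrArg Subtype.val e
        rw [show z = 1 from conj_eq_one_iff.1 this, orderOf_one] at hz
        omega)
      (fun e => by rw [show w = 1 from congrArg Subtype.val e, orderOf_one] at hw; omega)
    exact congrArg Subtype.val e
  · intro z hz
    obtain ⟨x, hx, hzx⟩ := hmem z hz
    have := hT.natCard_cent_le (z := z) (fun e => by rw [e, orderOf_one] at hz; omega) (hN z) hzx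
      (m := 2) ((Nat.card_le_card_of_injective
        (fun h : {h : G // h • x = x ∧ Commute h z} => (⟨h.1, h.2.1⟩ : stabilizer G x))
        fun a b e => Subtype.ext (congrArg Subtype.val e :)).trans (hcard x hx).le)
    exact this
  · intro g hg
    have hg1 : g ≠ 1 := fun e => by rw [e, orderOf_one] at hg; omega
    obtain ⟨x, hx⟩ := hT.exists_fixed hg1
    obtain ⟨l, hl, hd⟩ := eq_orbit_of_dvd hT hN hR hx hg1
    rw [hg] at hd
    by_cases hli : l = i
    · subst hli; rw [hi] at hd; norm_num at hd
    · exact (ho l hli).not_two_dvd_nat ((by norm_num : 2 ∣ 4).trans hd)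
  · have h32 : ¬ 3 ^ 2 ∣ Nat.card G := by rw [hG]; norm_num
    have hs : (orbit G (pt j)).ncard = 20 := by
      have := (stabilizer G (pt j)).index_mul_card
      rw [hj, hG, index_stabilizer] at this
      omega
    have := hT.card_sylow_le (r := 3) (orbit G (pt j)) (Set.finite_of_ncard_ne_zero (by omega))
      fun x hx => by
        have hx3 : Nat.card (stabilizer G x) = 3 := by
          obtain ⟨h, rfl⟩ := hx
          rw [stabilizer_smul_eq_stabilizer_map_conj,
            Subgroup.card_map_of_injective (MulAut.conj h).injective, hj]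
        obtain ⟨Q, hQ⟩ := exists_sylow h32 _ hx3
        refine ⟨Q, fun e => ?_, fun g hg => by rw [hQ] at hg; exact hg⟩
        rw [hQ] at e
        rw [e, Subgroup.card_bot] at hx3
        omega
    omega

/-- Klein's classification -/
theorem classify_coprime : Coprime' G := by
  rcases subsingleton_or_nontrivial G with h | h
  · exact Or.inl inferInstance
  obtain ⟨n, pt, hR⟩ := exists_rep hT
  have heq := hR.eqn
  have h0 : Nat.card {g : G // orderOf g = p} = 0 := by
    have : IsEmpty {g : G // orderOf g = p} := ⟨fun g => hN g.1 g.2⟩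
    exact Nat.card_of_isEmpty
  rw [h0, zero_add] at heq
  have hg2 : 2 ≤ Nat.card G := Finite.one_lt_card
  set g := Nat.card G with hg
  have hf := fun i => stab_facts hT hR i
  rcases n with _ | _ | _ | _ | n
  · simp at heq; omega
  · have := hf 0
    have e : ∀ f : Fin (0 + 1) → ℕ, ∑ i, f i = f 0 := fun f => Fin.sum_univ_one f
    rw [e] at heq
    omega
  · have h1 := hf 0
    have h2 := hf 1
    have e : ∀ f : Fin (0 + 1 + 1) → ℕ, ∑ i, f i = f 0 + f 1 := fun f => Fin.sum_univ_two f
    rw [e] at heq
    left
    have hidx : (stabilizer G (pt 0)).index = 1 := by omega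
    have := cyclic_stab hT hN (pt 0)
    rw [Subgroup.index_eq_one] at hidx
    rw [hidx] at this
    exact isCyclic_of_surjective (Subgroup.topEquiv : (⊤ : Subgroup G) ≃* G).toMonoidHom
      Subgroup.topEquiv.surjective
  · -- three orbits
    have main : ∀ i j k : Fin 3, i ≠ j → i ≠ k → j ≠ k →
        (stabilizer G (pt i)).index + (stabilizer G (pt j)).index + (stabilizer G (pt k)).index = g + 2 →
        2 * (stabilizer G (pt i)).index = g → g < 4 * (stabilizer G (pt j)).index → Coprime' G := by
      intro i j k hij hik hjk hsum hi hj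
      have hcov : ∀ l, l = i ∨ l = j ∨ l = k := by
        revert i j k
        intro i j k hij hik hjk _ _ _ l
        clear * - hij hik hjk
        revert i j k l
        decide
      obtain ⟨hi1, hi2, hi3⟩ := hf i
      obtain ⟨hj1, hj2, hj3⟩ := hf j
      obtain ⟨hk1, hk2, hk3⟩ := hf k
      have hei : Nat.card (stabilizer G (pt i)) = 2 :=
        Nat.eq_of_mul_eq_mul_right hi2 (hi3.trans hi.symm)
      have hej : Nat.card (stabilizer G (pt j)) = 2 ∨ Nat.card (stabilizer G (pt j)) = 3 := by
        have h1 : Nat.card (stabilizer G (pt j)) < 4 := by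
          by_contra h4
          have := Nat.mul_le_mul_right (stabilizer G (pt j)).index (Nat.not_lt.1 h4)
          omega
        have h2 : 2 ≤ Nat.card (stabilizer G (pt j)) := by
          by_contra h2
          have := Nat.mul_le_mul_right (stabilizer G (pt j)).index
            (Nat.le_of_lt_succ (Nat.not_le.1 h2))
          omega
        omega
      rcases hej with hej | hej
      · rw [hej] at hj3
        refine dihedral_case hT hN hR k (by omega) (fun l hl => ?_) (by omega)
        rcases hcov l with rfl | rfl | rfl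
        exacts [hei, hej, absurd rfl hl]
      · rw [hej] at hj3
        set e := Nat.card (stabilizer G (pt k))
        set c := (stabilizer G (pt k)).index
        have hc : 6 * c = g + 12 := by omega
        have he : e < 6 := by
          by_contra h6
          have := Nat.mul_le_mul_right c (Nat.not_lt.1 h6)
          omega
        interval_cases h : e
        · omega
        · omega
        · refine dihedral_case hT hN hR j (by omega) (fun l hl => ?_) (by omega)
          rcases hcov l with rfl | rfl | rfl
          exacts [hei, absurd rfl hl, h]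
        · refine alt4_case hT hN hR (by omega) i hei fun l hl => ?_
          rcases hcov l with rfl | rfl | rfl
          exacts [absurd rfl hl, hej, h]
        · refine sym4_case hT hN hR (by omega) j hej fun l => ?_
          rcases hcov l with rfl | rfl | rfl
          · rw [hei]; norm_num
          · rw [hej]; norm_num
          · rw [show Nat.card (stabilizer G (pt l)) = 4 from h]; norm_num
        · refine alt5_case hT hN hR (by omega) i j hei hej fun l hl => ?_
          rcases hcov l with rfl | rfl | rfl
          · exact absurd rfl hl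
          · rw [hej]; decide
          · rw [show Nat.card (stabilizer G (pt l)) = 5 from h]; decide
    obtain ⟨a1, a2, a3⟩ := hf 0
    obtain ⟨b1, b2, b3⟩ := hf 1
    obtain ⟨c1, c2, c3⟩ := hf 2
    have e : ∀ f : Fin (0 + 1 + 1 + 1) → ℕ, ∑ i, f i = f 0 + f 1 + f 2 := fun f => Fin.sum_univ_three f
    rw [e] at heq
    have hsum : (stabilizer G (pt 0)).index + (stabilizer G (pt 1)).index +
        (stabilizer G (pt 2)).index = g + 2 := by omega
    have hbig : ∀ l, 3 * (stabilizer G (pt l)).index ≤ g ∨ 2 * (stabilizer G (pt l)).index = g := by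
      intro l
      obtain ⟨l1, l2, l3⟩ := hf l
      by_cases he : 3 ≤ Nat.card (stabilizer G (pt l))
      · left
        have := Nat.mul_le_mul_right (stabilizer G (pt l)).index he
        omega
      · right
        have h2 : Nat.card (stabilizer G (pt l)) ≤ 2 := by omega
        have := Nat.mul_le_mul_right (stabilizer G (pt l)).index h2
        omega
    rcases hbig 0 with h | h
    · rcases hbig 1 with h' | h'
      · rcases hbig 2 with h'' | h''
        · omega
        · by_cases hb : g < 4 * (stabilizer G (pt 0)).index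
          · exact main 2 0 1 (by decide) (by decide) (by decide) (by omega) h'' hb
          · exact main 2 1 0 (by decide) (by decide) (by decide) (by omega) h'' (by omega)
      · by_cases hb : g < 4 * (stabilizer G (pt 0)).index
        · exact main 1 0 2 (by decide) (by decide) (by decide) (by omega) h' hb
        · exact main 1 2 0 (by decide) (by decide) (by decide) (by omega) h' (by omega)
    · by_cases hb : g < 4 * (stabilizer G (pt 1)).index
      · exact main 0 1 2 (by decide) (by decide) (by decide) (by omega) h hb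
      · exact main 0 2 1 (by decide) (by decide) (by decide) (by omega) h (by omega)
  · exfalso
    have h1 : ∀ i, g ≤ 2 * (g - (stabilizer G (pt i)).index) := fun i => by
      have := (hf i).1
      omega
    have h2 := Finset.sum_le_sum (s := Finset.univ) fun i _ => h1 i
    rw [← Finset.mul_sum, heq, Finset.sum_const, Finset.card_univ, Fintype.card_fin, smul_eq_mul] at h2
    have : 4 * g ≤ (n + 1 + 1 + 1 + 1) * g := Nat.mul_le_mul_right g (by omega)
    omega

end coprime

end Cfsg.Agent.Forms.DicksonCount
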