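import Mathlib
import Cfsg.Agent.Lib.Forms.DicksonBasic
import Cfsg.Agent.Lib.Forms.DicksonShapes
import Cfsg.Agent.Lib.Forms.DicksonCount

/-!
# Dickson's count: the order divisible by the characteristic
-/

set_option autoImplicit false
set_option linter.unusedSectionVars false

namespace Cfsg.Agent.Forms.DicksonModular

open MulAction Cfsg.Agent.Forms.DicksonBasic Cfsg.Agent.Forms.DicksonShapes
open Cfsg.Agent.Forms.DicksonCount
open scoped Pointwise

/-- the arithmetic -/
theorem arith {r Q d k e : ℕ} (hr : r = 1 + k * Q) (he : e * (2 + r * (Q - 2)) = r * Q * d)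
    (hd : d ∣ Q - 1) (hk : 1 ≤ k) (hQ : 2 ≤ Q) :
    k = 1 ∨ (Q = 2 ∧ d = 1 ∧ e = r) ∨ (Q = 3 ∧ d = 2 ∧ k = 3 ∧ e = 5) := by
  obtain ⟨m, rfl⟩ : ∃ m, Q = m + 2 := ⟨Q - 2, by omega⟩
  rw [Nat.add_sub_cancel] at he
  rw [show m + 2 - 1 = m + 1 by omega] at hd
  set s := 1 + k * m with hs
  have h1 : 2 + r * m = (m + 2) * s := by rw [hr, hs]; ring
  have h2 : e * s = r * d := by
    refine Nat.eq_of_mul_eq_mul_left (show 0 < m + 2 by omega) ?_
    rw [h1] at he
    linarith [he]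
  have hrs : r = s + 2 * k := by rw [hr, hs]; ring
  have hdvd : s ∣ 2 * d := by
    have h3 : s ∣ k * (2 * d) := by
      have h4 : s ∣ s * d + k * (2 * d) := ⟨e, by rw [mul_comm s e, h2, hrs]; ring⟩
      exact (Nat.dvd_add_right (Dvd.intro d rfl)).1 h4
    refine (Nat.Coprime.dvd_mul_left ?_).1 h3
    rw [hs, Nat.coprime_add_mul_left_left]
    exact Nat.coprime_one_left k
  have hdle : d ≤ m + 1 := Nat.le_of_dvd (by omega) hd
  have hd0 : 0 < d := Nat.pos_of_dvd_of_pos hd (by omega)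
  have hsle := Nat.le_of_dvd (by omega) hdvd
  rcases (show k = 1 ∨ 2 ≤ k by omega) with hk1 | hk2
  · exact Or.inl hk1
  rcases m with _ | _ | m
  · right; left
    have : d = 1 := by omega
    subst this
    rw [hs, mul_zero, add_zero, mul_one, mul_one] at h2
    exact ⟨rfl, rfl, h2⟩
  · right; right
    rw [hs] at hsle hdvd
    rw [show k * (0 + 1) = k by ring] at hsle hdvd
    have hd2 : d = 2 := by
      rcases (show d = 1 ∨ d = 2 by omega) with rfl | rfl
      · omega
      · rfl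
    subst hd2
    have hk3 : k = 3 := by
      rcases (show k = 2 ∨ k = 3 by omega) with rfl | rfl
      · norm_num at hdvd
      · rfl
    subst hk3
    rw [hs, hr] at h2
    exact ⟨rfl, rfl, rfl, by omega⟩
  · exfalso
    rcases (show k = 2 ∨ 3 ≤ k by omega) with rfl | hk3
    · have hodd : Nat.Coprime s 2 := by
        rw [hs, show 1 + 2 * (m + 1 + 1) = 1 + (m + 1 + 1) * 2 by ring, Nat.coprime_add_mul_right_left]
        exact Nat.coprime_one_left 2
      have := Nat.le_of_dvd hd0 (hodd.dvd_of_dvd_mul_left hdvd)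
      omega
    · have : 3 * (m + 1 + 1) ≤ k * (m + 1 + 1) := Nat.mul_le_mul_right _ hk3
      omega

variable {p : ℕ} [hp : Fact p.Prime] {G : Type*} {X : Type*} [Group G] [Finite G] [MulAction G X]
variable (hT : TwoPt p G X)
include hT

/-- the non-degenerate conclusion: a Sylow subgroup transitive on the other points of its orbit -/
def Transitive' (x : X) : Prop :=
  hT.pSub x ≠ ⊥ ∧ (orbit G x).ncard = Nat.card (hT.pSub x) + 1 ∧
    ∀ y ∈ orbit G x, ∀ z ∈ orbit G x, y ≠ x → z ≠ x → ∃ u ∈ hT.pSub x, u • y = z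

theorem natCard_pSub_smul (x : X) (h : G) :
    Nat.card (hT.pSub (h • x)) = Nat.card (hT.pSub x) := by
  refine (Nat.card_congr ((MulAut.conj h).toEquiv.subtypeEquiv fun g => ⟨fun hg => hT.pSub_conj hg, fun hg => ?_⟩)).symm
  have := hT.pSub_conj (h := h⁻¹) (hg : h * g * h⁻¹ ∈ hT.pSub (h • x))
  have e : h⁻¹ * ((MulAut.conj h).toEquiv g) * h⁻¹⁻¹ = g := by
    show h⁻¹ * (h * g * h⁻¹) * h⁻¹⁻¹ = g
    group
  rwa [inv_smul_smul, e] at this

theorem natCard_stab_of_orbit {x y : X} (h : y ∈ orbit G x) :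
    Nat.card (stabilizer G y) = Nat.card (stabilizer G x) := by
  obtain ⟨g, rfl⟩ := h
  rw [stabilizer_smul_eq_stabilizer_map_conj, Subgroup.card_map_of_injective (MulAut.conj g).injective]

theorem pSub_le_stab (x : X) : hT.pSub x ≤ stabilizer G x := fun _ h => h.1

theorem natCard_orderP {x : X} (hx : hT.pSub x ≠ ⊥) :
    Nat.card {g : G // orderOf g = p} = (orbit G x).ncard * (Nat.card (hT.pSub x) - 1) := by
  classical
  have : Finite (orbit G x) := (Set.finite_range fun g : G => g • x).to_subtype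
  have : Fintype (orbit G x) := Fintype.ofFinite _
  have e : (Σ y : orbit G x, {u : hT.pSub y.1 // u ≠ 1}) ≃ {g : G // orderOf g = p} := by
    refine Equiv.ofBijective
      (fun t => ⟨(t.2.1 : G), hT.orderOf_of_mem t.2.1.2 fun e => t.2.2 (Subtype.ext e)⟩) ⟨?_, ?_⟩
    · rintro ⟨⟨y, hy⟩, ⟨u, hu⟩, hu1⟩ ⟨⟨z, hz⟩, ⟨v, hv⟩, hv1⟩ h
      have huv : u = v := congrArg Subtype.val h
      subst huv
      obtain rfl : z = y := hT.eq_of_fix (hT.orderOf_of_mem hu fun e => hu1 (Subtype.ext e)) hu.1 hv.1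
      rfl
    · rintro ⟨g, hg⟩
      have hg1 : g ≠ 1 := fun e => by rw [e, orderOf_one] at hg; exact hp.out.one_lt.ne hg
      obtain ⟨y, hy⟩ := hT.exists_fixed hg1
      have hgy : g ∈ hT.pSub y := ⟨hy, by rw [← hg, pow_orderOf_eq_one]⟩
      have hy' := hT.orbit_pSub hx fun e => hg1 (Subgroup.mem_bot.1 (e ▸ hgy))
      exact ⟨⟨⟨y, hy'⟩, ⟨g, hgy⟩, fun e => hg1 (congrArg Subtype.val e)⟩, rfl⟩
  rw [← Nat.card_congr e, Nat.card_sigma, Finset.sum_congr rfl (fun y _ => ?_), Finset.sum_const,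
    smul_eq_mul, Finset.card_univ, ← Nat.card_eq_fintype_card, Nat.card_coe_set_eq]
  obtain ⟨h, hh⟩ := y.2
  have : Fintype (hT.pSub y.1) := Fintype.ofFinite _
  rw [Nat.card_eq_fintype_card, Fintype.card_subtype_compl, Fintype.card_subtype_eq,
    ← Nat.card_eq_fintype_card, ← hh, natCard_pSub_smul hT]

/-- the other points of the orbit -/
def rest (x : X) : SubMulAction (hT.pSub x) X where
  carrier := orbit G x \ {x}
  smul_mem' u y hy := by
    refine ⟨?_, fun e => hy.2 ?_⟩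
    · rw [← orbit_eq_iff.2 hy.1]
      exact mem_orbit y (u : G)
    · exact smul_left_cancel (u : G) ((e : (u : G) • y = x).trans u.2.1.symm)

theorem rest_stab {x : X} (y : rest hT x) : (stabilizer (hT.pSub x) y).index = Nat.card (hT.pSub x) := by
  have : stabilizer (hT.pSub x) y = ⊥ := by
    rw [eq_bot_iff]
    intro u hu
    rw [Subgroup.mem_bot]
    by_contra h1
    have h := hT.orderOf_of_mem u.2 fun e => h1 (Subtype.ext e)
    exact y.2.2 (hT.eq_of_fix h u.2.1 (congrArg Subtype.val hu))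
  rw [this, Subgroup.index_bot]

theorem natCard_rest (x : X) : Nat.card (rest hT x) = (orbit G x).ncard - 1 := by
  show Nat.card ↥(orbit G x \ {x}) = _
  rw [Nat.card_coe_set_eq, Set.ncard_diff_singleton_of_mem (mem_orbit_self x)]

theorem dvd_orbit_sub_one (x : X) : Nat.card (hT.pSub x) ∣ (orbit G x).ncard - 1 := by
  have : Finite (rest hT x) := ((Set.finite_range fun g : G => g • x).subset Set.diff_subset).to_subtype
  rw [← natCard_rest hT x]
  exact dvd_card_of_index (rest_stab hT)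

theorem transitive_of_card {x : X} (h : (orbit G x).ncard = Nat.card (hT.pSub x) + 1) {y z : X}
    (hy : y ∈ orbit G x) (hz : z ∈ orbit G x) (hyx : y ≠ x) (hzx : z ≠ x) :
    ∃ u ∈ hT.pSub x, u • y = z := by
  have : Finite (rest hT x) := ((Set.finite_range fun g : G => g • x).subset Set.diff_subset).to_subtype
  let y' : rest hT x := ⟨y, hy, hyx⟩
  have h1 : (orbit (hT.pSub x) y').ncard = Nat.card (rest hT x) := by
    rw [← index_stabilizer, rest_stab hT, natCard_rest, h, Nat.add_sub_cancel]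
  have h2 : orbit (hT.pSub x) y' = Set.univ :=
    Set.eq_of_subset_of_ncard_le (Set.subset_univ _) (by rw [h1, Set.ncard_univ]) (Set.toFinite _)
  obtain ⟨u, hu⟩ : (⟨z, hz, hzx⟩ : rest hT x) ∈ orbit (hT.pSub x) y' := h2 ▸ Set.mem_univ _
  exact ⟨u, u.2, congrArg Subtype.val hu⟩

/-- conjugation by the stabiliser on the nontrivial `p`-elements of a point -/
def nonOne (x : X) : SubMulAction ↥((stabilizer G x).map (ConjAct.toConjAct : G ≃* ConjAct G).toMonoidHom) G where
  carrier := {u | u ∈ hT.pSub x ∧ u ≠ 1}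
  smul_mem' := by
    rintro ⟨_, b, hb, rfl⟩ u ⟨hu, hu1⟩
    exact ⟨hT.conj_mem_pSub (h := b) hb hu, fun e => hu1 (conj_eq_one_iff.1 (e : b * u * b⁻¹ = 1))⟩

theorem dvd_pSub_sub_one {x : X} {d : ℕ}
    (hd : Nat.card (stabilizer G x) = Nat.card (hT.pSub x) * d) :
    d ∣ Nat.card (hT.pSub x) - 1 := by
  classical
  have hc : Nat.card (nonOne hT x) = Nat.card (hT.pSub x) - 1 := by
    show Nat.card ↥({u | u ∈ hT.pSub x ∧ u ≠ 1} : Set G) = _
    rw [Nat.card_coe_set_eq,
      show ({u | u ∈ hT.pSub x ∧ u ≠ 1} : Set G) = (hT.pSub x : Set G) \ {1} from rfl,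
      Set.ncard_diff_singleton_of_mem (hT.pSub x).one_mem, ← Nat.card_coe_set_eq]
    rfl
  rw [← hc]
  refine dvd_card_of_index
    (K := ↥((stabilizer G x).map (ConjAct.toConjAct : G ≃* ConjAct G).toMonoidHom)) fun u => ?_
  obtain ⟨hu, hu1⟩ := u.2
  have ho := hT.orderOf_of_mem hu hu1
  have hs : Nat.card (stabilizer ((stabilizer G x).map (ConjAct.toConjAct : G ≃* ConjAct G).toMonoidHom) u) =
      Nat.card (hT.pSub x) := by
    refine Nat.card_congr
      { toFun := fun b => ⟨ConjAct.ofConjAct b.1.1, ?_⟩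
        invFun := fun v => ⟨⟨ConjAct.toConjAct v.1, ⟨v.1, v.2.1, rfl⟩⟩, Subtype.ext ?_⟩
        left_inv := fun b => rfl
        right_inv := fun v => rfl }
    · obtain ⟨⟨_, b, hb, rfl⟩, hbu⟩ := b
      have h := congrArg Subtype.val (hbu : _ • u = u)
      exact hT.cent_p ho hu.1 (mul_inv_eq_iff_eq_mul.1 (h : b * (u : G) * b⁻¹ = u))
    · show v.1 * (u : G) * v.1⁻¹ = u
      rw [(hT.pSub_comm v.2 hu).eq, mul_inv_cancel_right]
  have h := (stabilizer ((stabilizer G x).map (ConjAct.toConjAct : G ≃* ConjAct G).toMonoidHom) u).index_mul_card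
  rw [hs, Subgroup.card_map_of_injective ConjAct.toConjAct.injective, hd, mul_comm (Nat.card _) d] at h
  exact Nat.eq_of_mul_eq_mul_right (Nat.card_pos) h

theorem stab_no_p {x y : X} (hx : hT.pSub x ≠ ⊥) (hy : y ∉ orbit G x) {g : G} (hg : g • y = y) :
    orderOf g ≠ p := fun ho => by
  refine hy (hT.orbit_pSub hx fun e => ?_)
  have : g ∈ hT.pSub y := ⟨hg, by rw [← ho, pow_orderOf_eq_one]⟩
  rw [e, Subgroup.mem_bot] at this
  rw [this, orderOf_one] at ho
  exact hp.out.one_lt.ne ho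

theorem dihedral_case {x y : X} (hx : hT.pSub x ≠ ⊥) (hy : y ∉ orbit G x) (hQ : Nat.card (hT.pSub x) = 2)
    (hidx : (stabilizer G y).index = 2) (he : Nat.card (stabilizer G y) = (orbit G x).ncard)
    (hr : 2 ≤ (orbit G x).ncard) :
    ∃ c : G, c ≠ 1 ∧ orderOf c ≠ p ∧ Nonempty (G ≃* DihedralGroup (orderOf c)) := by
  classical
  have h2 : p = 2 := by
    obtain ⟨⟨u, hu⟩, hu1⟩ := Subgroup.ne_bot_iff_exists_ne_one.1 hx
    have h := orderOf_dvd_natCard (⟨u, hu⟩ : hT.pSub x)
    rw [hQ, Subgroup.orderOf_mk, hT.orderOf_of_mem hu (fun e => hu1 (Subtype.ext e))] at h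
    exact (Nat.prime_dvd_prime_iff_eq hp.out Nat.prime_two).1 h
  subst h2
  have hcard : Nat.card G = 2 * (orbit G x).ncard := by
    rw [← (stabilizer G y).index_mul_card, hidx, he]
  have hinv : ∀ g, g ∉ stabilizer G y → g * g = 1 := by
    let f : {g : G // orderOf g = 2} → {g : G // g ∉ stabilizer G y} := fun g =>
      ⟨g.1, fun h => stab_no_p hT hx hy h g.2⟩
    have hf : Function.Injective f := fun a b h => Subtype.ext (congrArg Subtype.val h :)
    have hfc : Nat.card {g : G // orderOf g = 2} = Nat.card {g : G // g ∉ stabilizer G y} := by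
      have : Fintype G := Fintype.ofFinite G
      rw [natCard_orderP hT hx, hQ, Nat.card_eq_fintype_card (α := {g : G // g ∉ stabilizer G y}),
        Fintype.card_subtype_compl, ← Nat.card_eq_fintype_card, ← Nat.card_eq_fintype_card, hcard, he]
      omega
    have hsurj := ((Nat.bijective_iff_injective_and_card f).2 ⟨hf, hfc⟩).2
    intro g hg
    obtain ⟨u, hu⟩ := hsurj ⟨g, hg⟩
    rw [← show u.1 = g from congrArg Subtype.val hu, ← pow_two]
    have h := pow_orderOf_eq_one u.1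
    rwa [u.2] at h
  obtain ⟨c, hcm, hc, e⟩ := dihedral_of (stabilizer G y) hidx
    (hT.cyc y _ (fun g hg => hg) fun g hg => stab_no_p hT hx hy hg) hinv
  refine ⟨c, fun e1 => ?_, stab_no_p hT hx hy hcm, e⟩
  rw [e1, orderOf_one, he] at hc
  omega

theorem alt5_case {x y : X} (hx : hT.pSub x ≠ ⊥) (hy : y ∉ orbit G x) (hG : Nat.card G = 60)
    (hQ : Nat.card (hT.pSub x) = 3) (hB : Nat.card (stabilizer G x) = 6)
    (he : Nat.card (stabilizer G y) = 5)
    (hcov : ∀ w, stabilizer G w ≠ ⊥ → w ∈ orbit G x ∨ w ∈ orbit G y) :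
    p = 3 ∧ Nonempty (G ≃* alternatingGroup (Fin 5)) := by
  haveI : Fact (Nat.Prime 2) := ⟨Nat.prime_two⟩
  haveI : Fact (Nat.Prime 3) := ⟨Nat.prime_three⟩
  have h3 : p = 3 := by
    obtain ⟨⟨u, hu⟩, hu1⟩ := Subgroup.ne_bot_iff_exists_ne_one.1 hx
    have h := orderOf_dvd_natCard (⟨u, hu⟩ : hT.pSub x)
    rw [hQ, Subgroup.orderOf_mk, hT.orderOf_of_mem hu (fun e => hu1 (Subtype.ext e))] at h
    exact (Nat.prime_dvd_prime_iff_eq hp.out Nat.prime_three).1 h
  subst h3
  have hloc : ∀ g : G, g ≠ 1 → ∃ w, g • w = w ∧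
      ((w ∈ orbit G x ∧ orderOf g ∣ 6) ∨ orderOf g ∣ 5) := by
    intro g hg
    obtain ⟨w, hw⟩ := hT.exists_fixed hg
    have hgw : g ∈ stabilizer G w := hw
    have hd := orderOf_dvd_natCard (⟨g, hgw⟩ : stabilizer G w)
    rw [Subgroup.orderOf_mk] at hd
    refine ⟨w, hw, ?_⟩
    rcases hcov w fun e => hg (Subgroup.mem_bot.1 (e ▸ hgw)) with h | h
    · exact Or.inl ⟨h, by rwa [natCard_stab_of_orbit hT h, hB] at hd⟩
    · exact Or.inr (by rwa [natCard_stab_of_orbit hT h, he] at hd)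
  have hmem : ∀ z : G, orderOf z = 2 → ∃ w ∈ orbit G x, z • w = w := by
    intro z hz
    obtain ⟨w, hw, ⟨h, -⟩ | h⟩ := hloc z fun e => by rw [e, orderOf_one] at hz; omega
    · exact ⟨w, h, hw⟩
    · rw [hz] at h; norm_num at h
  refine ⟨rfl, alt5_of hG ?_ ?_ ?_ ?_⟩
  · intro z v hz hv
    obtain ⟨w, hw, hzw⟩ := hmem z hz
    obtain ⟨w', hw', hvw⟩ := hmem v hv
    obtain ⟨h, rfl⟩ : w' ∈ orbit G w := by rw [orbit_eq_iff.2 hw]; exact hw'
    set B := stabilizer G (h • w)
    have hB6 : Nat.card B = 6 := by rw [natCard_stab_of_orbit hT hw', hB]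
    have hm : h * z * h⁻¹ ∈ B := by
      rw [mem_stabilizer_iff, mul_smul, mul_smul, inv_smul_smul, hzw]
    have ho : orderOf (h * z * h⁻¹) = 2 := (MulEquiv.orderOf_eq (MulAut.conj h) z).trans hz
    have h22 : ¬ 2 ^ 2 ∣ Nat.card B := by rw [hB6]; norm_num
    obtain ⟨P, hP⟩ := exists_sylow h22 (Subgroup.zpowers (⟨_, hm⟩ : B))
      (by rw [Nat.card_zpowers, Subgroup.orderOf_mk, ho])
    obtain ⟨R, hR⟩ := exists_sylow h22 (Subgroup.zpowers (⟨v, hvw⟩ : B))
      (by rw [Nat.card_zpowers]; exact (Subgroup.orderOf_coe (⟨v, hvw⟩ : B)).symm.trans hv)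
    obtain ⟨c, rfl⟩ := MulAction.exists_smul_eq B P R
    rw [Sylow.coe_subgroup_smul, hP] at hR
    have hvm : (⟨v, hvw⟩ : B) ∈ MulAut.conj c • Subgroup.zpowers (⟨_, hm⟩ : B) :=
      hR.symm ▸ Subgroup.mem_zpowers _
    obtain ⟨t, ht, htv⟩ := Subgroup.mem_smul_pointwise_iff_exists _ _ _ |>.1 hvm
    obtain ⟨i, rfl⟩ := ht
    have hz2 : (h * z * h⁻¹) ^ (2 : ℤ) = 1 := by
      have h0 := pow_orderOf_eq_one (h * z * h⁻¹)
      rw [ho] at h0
      exact_mod_cast h0
    have e : (c : G) * (h * z * h⁻¹) ^ i * (c : G)⁻¹ = v := congrArg Subtype.val htv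
    rcases Int.even_or_odd i with ⟨j, rfl⟩ | ⟨j, rfl⟩
    · rw [← two_mul, zpow_mul, hz2, one_zpow, mul_one, mul_inv_cancel] at e
      rw [← e, orderOf_one] at hv
      omega
    · rw [zpow_add, zpow_mul, hz2, one_zpow, one_mul, zpow_one] at e
      exact isConj_iff.2 ⟨(c : G) * h, by rw [← e]; group⟩
  · intro z hz
    have hz1 : z ≠ 1 := fun e => by rw [e, orderOf_one] at hz; omega
    obtain ⟨w, hw, hzw⟩ := hmem z hz
    refine hT.natCard_cent_le hz1 (by omega) hzw (m := 2) ?_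
    let S : Subgroup G := stabilizer G w ⊓ Subgroup.centralizer {z}
    have hS : Nat.card {h : G // h • w = w ∧ Commute h z} = Nat.card S :=
      Nat.card_congr (Equiv.subtypeEquivRight fun h =>
        ⟨fun hh => ⟨hh.1, Subgroup.mem_centralizer_singleton_iff.2 hh.2⟩,
          fun hh => ⟨hh.1, Subgroup.mem_centralizer_singleton_iff.1 hh.2⟩⟩)
    rw [hS]
    have h6 : Nat.card S ∣ 6 := by
      rw [← hB, ← natCard_stab_of_orbit hT hw]
      exact Subgroup.card_dvd_of_le inf_le_left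
    have h3' : ¬ 3 ∣ Nat.card S := by
      intro h
      obtain ⟨u, hu⟩ := exists_prime_orderOf_dvd_card' 3 h
      rw [← Subgroup.orderOf_coe] at hu
      have := (hT.cent_p hu u.2.1 (Subgroup.mem_centralizer_singleton_iff.1 u.2.2).symm).2
      have h23 := orderOf_dvd_of_pow_eq_one this
      rw [hz] at h23
      norm_num at h23
    have hle := Nat.le_of_dvd (by norm_num) h6
    interval_cases h : Nat.card S <;> omega
  · intro g hg
    obtain ⟨w, -, ⟨-, h⟩ | h⟩ := hloc g fun e => by rw [e, orderOf_one] at hg; omega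
    · rw [hg] at h; norm_num at h
    · rw [hg] at h; norm_num at h
  · have hr : (orbit G x).ncard = 10 := by
      have := (stabilizer G x).index_mul_card
      rw [index_stabilizer, hB, hG] at this
      omega
    have hle := hT.card_sylow_le (r := 3) (orbit G x) (Set.finite_of_ncard_ne_zero (by omega))
      fun w hw => by
        obtain ⟨h, rfl⟩ := hw
        have hne : hT.pSub (h • x) ≠ ⊥ := fun e => by
          have := natCard_pSub_smul hT x h
          rw [e, Subgroup.card_bot, hQ] at this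
          omega
        obtain ⟨Q, hQ'⟩ := hT.exists_sylow_eq hne
        exact ⟨Q, hQ' ▸ hne, fun g hg => by rw [hQ'] at hg; exact hg.1⟩
    have h4 := card_sylow_modEq_one 3 G
    unfold Nat.ModEq at h4
    omega

/-- Dickson's count -/
theorem classify_modular {u : G} (hu : orderOf u = p) :
    (∃ x, hT.pSub x ≠ ⊥ ∧ ∀ g : G, g • x = x) ∨
      (∃ c : G, c ≠ 1 ∧ orderOf c ≠ p ∧ Nonempty (G ≃* DihedralGroup (orderOf c))) ∨
      (p = 3 ∧ Nonempty (G ≃* alternatingGroup (Fin 5))) ∨ ∃ x, Transitive' hT x := by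
  classical
  have hu1 : u ≠ 1 := fun e => by rw [e, orderOf_one] at hu; exact hp.out.one_lt.ne hu
  obtain ⟨x, hux⟩ := hT.exists_fixed hu1
  have hum : u ∈ hT.pSub x := ⟨hux, by rw [← hu, pow_orderOf_eq_one]⟩
  have hx : hT.pSub x ≠ ⊥ := fun e => hu1 (Subgroup.mem_bot.1 (e ▸ hum))
  set Q := Nat.card (hT.pSub x) with hQdef
  set r := (orbit G x).ncard with hrdef
  have hQ2 : 2 ≤ Q := by
    have : Nontrivial (hT.pSub x) := (Subgroup.nontrivial_iff_ne_bot _).2 hx
    exact Finite.one_lt_card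
  have hr0 : 0 < r := (Set.ncard_pos ((Set.finite_range fun g : G => g • x))).2 ⟨x, mem_orbit_self x⟩
  rcases (show r = 1 ∨ 2 ≤ r by omega) with hr1 | hr2
  · refine Or.inl ⟨x, hx, fun g => ?_⟩
    obtain ⟨a, ha⟩ := Set.ncard_eq_one.1 hr1
    have h1 : g • x ∈ orbit G x := mem_orbit x g
    have h2 : x ∈ orbit G x := mem_orbit_self x
    rw [ha, Set.mem_singleton_iff] at h1 h2
    rw [h1, h2.symm]
  obtain ⟨d, hd⟩ := Subgroup.card_dvd_of_le (pSub_le_stab hT x)
  have hdQ := dvd_pSub_sub_one hT hd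
  obtain ⟨k, hk⟩ := dvd_orbit_sub_one hT x
  have hk1 : 1 ≤ k := by
    rcases Nat.eq_zero_or_pos k with rfl | h
    · rw [mul_zero] at hk; omega
    · exact h
  have hrk : r = 1 + k * Q := by
    have hk' : r - 1 = Q * k := hk
    rw [mul_comm k Q]; omega
  obtain ⟨n, pt, hR⟩ := exists_rep hT
  obtain ⟨i₀, hi₀⟩ := hR.cover x fun e => hu1 (Subgroup.mem_bot.1 (e ▸ (hux : u ∈ stabilizer G x)))
  have hpt : pt i₀ ∈ orbit G x := mem_orbit_symm.1 hi₀
  have hidx0 : (stabilizer G (pt i₀)).index = r := by rw [index_stabilizer, orbit_eq_iff.2 hpt]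
  have hg : Nat.card G = r * Q * d := by
    rw [mul_assoc, ← hd, ← (stabilizer G x).index_mul_card, index_stabilizer]
  have heq := hR.eqn
  rw [natCard_orderP hT hx, ← Finset.add_sum_erase _ _ (Finset.mem_univ i₀), hidx0] at heq
  set g := Nat.card G with hgdef
  have hgr : r ≤ g := by
    rw [← hidx0]
    have := (stab_facts hT hR i₀).1
    omega
  obtain ⟨Q', hQ'⟩ : ∃ Q', Q = Q' + 2 := ⟨Q - 2, by omega⟩
  have hsum : (∑ i ∈ Finset.univ.erase i₀, (g - (stabilizer G (pt i)).index)) + (2 + r * Q') = g := by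
    have h1 : r * (Q - 1) = r * Q' + r := by
      rw [hQ', show Q' + 2 - 1 = Q' + 1 by omega, mul_add, mul_one]
    change r * (Q - 1) + _ = _ at heq
    omega
  have hsmall : (Finset.univ.erase i₀).card ≤ 1 := by
    by_contra hc
    have h1 : ∀ i ∈ Finset.univ.erase i₀, g ≤ 2 * (g - (stabilizer G (pt i)).index) := fun i _ => by
      have := (stab_facts hT hR i).1
      omega
    have h2 := Finset.sum_le_sum h1
    rw [← Finset.mul_sum, Finset.sum_const, smul_eq_mul] at h2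
    have := Nat.mul_le_mul_right g (Nat.not_le.1 hc : 2 ≤ _)
    omega
  rcases (show (Finset.univ.erase i₀).card = 0 ∨ (Finset.univ.erase i₀).card = 1 by omega) with h0 | h1
  · exfalso
    rw [Finset.card_eq_zero.1 h0, Finset.sum_empty, zero_add, hg] at hsum
    have hd0 : 0 < d := Nat.pos_of_ne_zero fun e => by rw [e, mul_zero] at hg; omega
    rw [hQ'] at hsum
    have := Nat.mul_le_mul_left (r * (Q' + 2)) hd0
    nlinarith
  obtain ⟨j, hj⟩ := Finset.card_eq_one.1 h1
  have hji : j ≠ i₀ := by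
    have : j ∈ Finset.univ.erase i₀ := by rw [hj]; simp
    exact Finset.ne_of_mem_erase this
  rw [hj, Finset.sum_singleton] at hsum
  obtain ⟨j1, j2, j3⟩ := stab_facts hT hR j
  set e := Nat.card (stabilizer G (pt j))
  have hjy : pt j ∉ orbit G x := fun h =>
    hji (hR.inj j i₀ (by rw [orbit_eq_iff.2 h]; exact hpt))
  have hidx : (stabilizer G (pt j)).index = 2 + r * Q' := by omega
  have he : e * (2 + r * (Q - 2)) = r * Q * d := by
    rw [show Q - 2 = Q' by omega, ← hidx, j3]; exact hgdef.symm.trans hg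
  rcases arith hrk he hdQ hk1 hQ2 with hk1' | ⟨hQ2', hd1, her⟩ | ⟨hQ3, hd2, hk3, he5⟩
  · refine Or.inr (Or.inr (Or.inr ⟨x, hx, ?_, fun y hy z hz h1 h2 => ?_⟩))
    · show r = Q + 1
      rw [hrk, hk1', one_mul, add_comm]
    · exact transitive_of_card hT (by rw [← hQdef, ← hrdef, hrk, hk1', one_mul, add_comm]) hy hz h1 h2
  · refine Or.inr (Or.inl (dihedral_case hT hx hjy hQ2' ?_ her hr2))
    rw [hidx, show Q' = 0 by omega, mul_zero, add_zero]
  · refine Or.inr (Or.inr (Or.inl (alt5_case hT hx hjy ?_ hQ3 ?_ he5 fun w hw => ?_)))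
    · rw [← hgdef, hg, hrk, hk3, hQ3, hd2]
    · rw [hd, hd2]
      show Q * 2 = 6
      omega
    · obtain ⟨i, hi⟩ := hR.cover w hw
      by_cases hii : i = i₀
      · subst hii
        left
        rwa [orbit_eq_iff.2 hpt] at hi
      · right
        have : i ∈ Finset.univ.erase i₀ := Finset.mem_erase.2 ⟨hii, Finset.mem_univ _⟩
        rw [hj, Finset.mem_singleton] at this
        rwa [this] at hi

end Cfsg.Agent.Forms.DicksonModular
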