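import Mathlib
import Cfsg.Agent.Lib.Forms.KleinPSL

/-!
# The map of `PSL₂` induced by an embedding of fields
-/

set_option autoImplicit false

namespace Cfsg.Agent.Forms.PslMap

open Matrix
open scoped MatrixGroups

variable {K F : Type*} [Field K] [Field F]

theorem mem_center_map_iff (f : K →+* F) (g : SL(2, K)) :
    Matrix.SpecialLinearGroup.map f g ∈ Subgroup.center SL(2, F) ↔ g ∈ Subgroup.center SL(2, K) := by
  rw [Matrix.SpecialLinearGroup.mem_center_iff, Matrix.SpecialLinearGroup.mem_center_iff]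
  constructor
  · rintro ⟨r, -, h⟩
    have e00 := congrFun (congrFun h 0) 0
    have e01 := congrFun (congrFun h 0) 1
    have e10 := congrFun (congrFun h 1) 0
    have e11 := congrFun (congrFun h 1) 1
    simp [Matrix.SpecialLinearGroup.map_apply_coe, Matrix.scalar_apply] at e00 e01 e10 e11
    have h01 : (g : Matrix (Fin 2) (Fin 2) K) 0 1 = 0 := (map_eq_zero f).1 e01.symm
    have h10 : (g : Matrix (Fin 2) (Fin 2) K) 1 0 = 0 := (map_eq_zero f).1 e10.symm
    have h11 : (g : Matrix (Fin 2) (Fin 2) K) 1 1 = (g : Matrix (Fin 2) (Fin 2) K) 0 0 :=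
      f.injective (e11.symm.trans e00)
    refine ⟨(g : Matrix (Fin 2) (Fin 2) K) 0 0, ?_, ?_⟩
    · have hd := g.2
      rw [det_fin_two, h01, h10, h11] at hd
      rw [Fintype.card_fin, pow_two]
      linear_combination hd
    · ext i j
      fin_cases i <;> fin_cases j <;> simp [h01, h10, h11]
  · rintro ⟨r, hr, h⟩
    refine ⟨f r, by rw [← map_pow, hr, map_one], ?_⟩
    have e00 := congrFun (congrFun h 0) 0
    have e01 := congrFun (congrFun h 0) 1
    have e10 := congrFun (congrFun h 1) 0
    have e11 := congrFun (congrFun h 1) 1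
    simp [Matrix.scalar_apply] at e00 e01 e10 e11
    ext i j
    fin_cases i <;> fin_cases j <;>
      simp [Matrix.SpecialLinearGroup.map_apply_coe, ← e00, ← e01, ← e10, ← e11]

/-- the map of `PSL₂` induced by a field embedding -/
def pslMap (f : K →+* F) :
    Matrix.ProjectiveSpecialLinearGroup (Fin 2) K →* Matrix.ProjectiveSpecialLinearGroup (Fin 2) F :=
  QuotientGroup.map _ _ (Matrix.SpecialLinearGroup.map f) fun g hg => (mem_center_map_iff f g).2 hg

theorem pslMap_pi (f : K →+* F) (g : SL(2, K)) :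
    pslMap f (KleinPSL.pi K g) = KleinPSL.pi F (Matrix.SpecialLinearGroup.map f g) := rfl

theorem pslMap_injective (f : K →+* F) : Function.Injective (pslMap f) := by
  rw [injective_iff_map_eq_one]
  intro x hx
  obtain ⟨g, rfl⟩ := QuotientGroup.mk'_surjective _ x
  change pslMap f (KleinPSL.pi K g) = 1 at hx
  change KleinPSL.pi K g = 1
  rw [pslMap_pi, KleinPSL.pi, QuotientGroup.mk'_apply, QuotientGroup.eq_one_iff, mem_center_map_iff] at hx
  rw [KleinPSL.pi, QuotientGroup.mk'_apply, QuotientGroup.eq_one_iff]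
  exact hx

theorem exists_subgroup_psl (f : K →+* F) :
    ∃ H : Subgroup (Matrix.ProjectiveSpecialLinearGroup (Fin 2) F),
      Nonempty (H ≃* Matrix.ProjectiveSpecialLinearGroup (Fin 2) K) :=
  ⟨(pslMap f).range, ⟨(MonoidHom.ofInjective (pslMap_injective f)).symm⟩⟩

/-- a field embeds in a field whose order is a power of its own -/
theorem nonempty_ringHom [Fintype K] [Fintype F] (m : ℕ) (h : Fintype.card K ^ m = Fintype.card F) :
    Nonempty (K →+* F) := by
  obtain ⟨p, hK⟩ := CharP.exists K
  obtain ⟨r, hF⟩ := CharP.exists F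
  haveI := hK
  haveI := hF
  haveI hp : Fact p.Prime := ⟨CharP.char_is_prime K p⟩
  haveI hr : Fact r.Prime := ⟨CharP.char_is_prime F r⟩
  obtain ⟨a, -, ha⟩ := FiniteField.card K p
  obtain ⟨c, -, hc⟩ := FiniteField.card F r
  have hpr : r = p := by
    rw [ha, hc, ← pow_mul] at h
    have hdvd : r ∣ p ^ ((a : ℕ) * m) := h.symm ▸ dvd_pow_self r c.ne_zero
    exact (Nat.prime_dvd_prime_iff_eq hr.out hp.out).1 (hr.out.dvd_of_dvd_pow hdvd)
  subst hpr
  letI : Algebra (ZMod r) K := ZMod.algebra K r
  letI : Algebra (ZMod r) F := ZMod.algebra F r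
  have e : Module.finrank (ZMod r) K * m = Module.finrank (ZMod r) F := by
    rw [Module.card_eq_pow_finrank (K := ZMod r) (V := K),
      Module.card_eq_pow_finrank (K := ZMod r) (V := F), ← pow_mul, ZMod.card] at h
    exact Nat.pow_right_injective hr.out.two_le h
  obtain ⟨f⟩ := FiniteField.nonempty_algHom_of_finrank_dvd (F := ZMod r) (K := K) (L := F) ⟨m, e.symm⟩
  exact ⟨f.toRingHom⟩

end Cfsg.Agent.Forms.PslMap
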