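import Mathlib
import Cfsg.Agent.Lib.Forms.DicksonBasic
import Cfsg.Agent.Lib.Forms.DicksonAction
import Cfsg.Agent.Lib.Forms.DicksonModular
import Cfsg.Agent.Lib.Forms.KleinPSL
import Cfsg.Agent.Lib.Forms.PslMap
import Cfsg.Agent.Lib.Classical.GL2
import Cfsg.Agent.Lib.Classical.Linear
import Cfsg.Agent.Lib.Classical.SmallIso

/-!
# A transitive Sylow orbit is a projective line over a subfield
-/

set_option autoImplicit false
set_option linter.unusedSectionVars false

open scoped Classical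

namespace Cfsg.Agent.Forms.DicksonField

open Matrix MulAction OnePoint
open scoped MatrixGroups

section field

variable {F : Type*} [Field F] [Fintype F]

/-- an additive group containing `1` with an inversion `a ↦ κ / a` is a subfield -/
theorem mul_mem_of_inversion (p : ℕ) [Fact p.Prime] [CharP F p] (A : AddSubgroup F) (h1 : (1 : F) ∈ A)
    {κ : F} (hκ0 : κ ≠ 0) (hinv : ∀ a ∈ A, a ≠ 0 → κ / a ∈ A) :
    ∀ a ∈ A, ∀ b ∈ A, a * b ∈ A := by
  have hκ : κ ∈ A := by simpa using hinv 1 h1 one_ne_zero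
  have hsqdiv : ∀ a ∈ A, ∀ v ∈ A, v ≠ 0 → a * a / v ∈ A := by
    intro a ha v hv hv0
    rcases eq_or_ne a 0 with rfl | ha0
    · simp
    rcases eq_or_ne v a with rfl | hva
    · rwa [mul_div_assoc, div_self hv0, mul_one]
    have hb : v - a ∈ A := A.sub_mem hv ha
    have hb0 : v - a ≠ 0 := sub_ne_zero.2 hva
    have h2 : κ / a + κ / (v - a) ∈ A := A.add_mem (hinv a ha ha0) (hinv _ hb hb0)
    have e : κ / a + κ / (v - a) = κ * v / (a * (v - a)) := by field_simp; ring
    have h3 := A.sub_mem ha (hinv _ h2 (by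
      rw [e]; exact div_ne_zero (mul_ne_zero hκ0 hv0) (mul_ne_zero ha0 hb0)))
    rw [e] at h3
    have e2 : a - κ / (κ * v / (a * (v - a))) = a * a / v := by field_simp; ring
    rwa [e2] at h3
  have hsqmul : ∀ a ∈ A, ∀ b ∈ A, a * a * b / κ ∈ A := by
    intro a ha b hb
    rcases eq_or_ne b 0 with rfl | hb0
    · simp
    have := hsqdiv a ha _ (hinv b hb hb0) (div_ne_zero hκ0 hb0)
    rwa [div_div_eq_mul_div] at this
  have hmulκ : ∀ b ∈ A, b * κ ∈ A := by
    intro b hb
    let f : A → A := fun c => ⟨c / κ, by simpa using hsqmul 1 h1 c c.2⟩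
    have hf : Function.Injective f := fun c d h => Subtype.ext (by
      have := congrArg Subtype.val h
      simpa [f, div_left_inj' hκ0] using this)
    obtain ⟨c, hc⟩ := (Finite.injective_iff_surjective.1 hf) ⟨b, hb⟩
    have : (c : F) / κ = b := congrArg Subtype.val hc
    rw [← this, div_mul_cancel₀ _ hκ0]
    exact c.2
  have hsq : ∀ a ∈ A, ∀ b ∈ A, a * a * b ∈ A := fun a ha b hb => by
    have := hmulκ _ (hsqmul a ha b hb)
    rwa [div_mul_cancel₀ _ hκ0] at this
  intro a ha b hb
  rcases eq_or_ne p 2 with rfl | hp2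
  · -- every element of `A` is a square
    let f : A → A := fun c => ⟨c * c, by simpa using hsq c c.2 1 h1⟩
    have hf : Function.Injective f := fun c d h => Subtype.ext (by
      have h' : (c : F) * c = d * d := congrArg Subtype.val h
      rcases mul_self_eq_mul_self_iff.1 h' with e | e
      · exact e
      · rw [e, CharTwo.neg_eq])
    obtain ⟨c, hc⟩ := (Finite.injective_iff_surjective.1 hf) ⟨a, ha⟩
    have : (c : F) * c = a := congrArg Subtype.val hc
    rw [← this]
    exact hsq c c.2 b hb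
  · have h2a : (2 : F) * (a * b) ∈ A := by
      have hb' := hsq (a + 1) (A.add_mem ha h1) b hb
      have := A.sub_mem (A.sub_mem hb' (hsq a ha b hb)) hb
      convert this using 1
      ring
    have hodd := (Fact.out : p.Prime).odd_of_ne_two hp2
    obtain ⟨j, hj⟩ := hodd
    have := A.nsmul_mem h2a (j + 1)
    convert this using 1
    rw [nsmul_eq_mul]
    have hp0 : ((2 * j + 1 : ℕ) : F) = 0 := by rw [← hj]; exact CharP.cast_eq_zero F p
    push_cast at hp0 ⊢
    linear_combination -(a * b) * hp0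

/-- the subfield -/
def toSubfield (p : ℕ) [Fact p.Prime] [CharP F p] (A : AddSubgroup F) (h1 : (1 : F) ∈ A)
    {κ : F} (hκ0 : κ ≠ 0) (hinv : ∀ a ∈ A, a ≠ 0 → κ / a ∈ A) : Subfield F where
  toSubring :=
    { A with
      mul_mem' := fun {a b} ha hb => mul_mem_of_inversion p A h1 hκ0 hinv a ha b hb
      one_mem' := h1 }
  inv_mem' a ha := by
    show a⁻¹ ∈ A
    rcases eq_or_ne a 0 with rfl | ha0
    · simp
    have key : ∀ n, a ^ n ∈ A := by
      intro n
      induction n with
      | zero => rwa [pow_zero]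
      | succ n ih => rw [pow_succ]; exact mul_mem_of_inversion p A h1 hκ0 hinv _ ih a ha
    have hq := Fintype.one_lt_card (α := F)
    have hinv' : a⁻¹ = a ^ (Fintype.card F - 2) := by
      refine inv_eq_of_mul_eq_one_right ?_
      rw [← pow_succ', show Fintype.card F - 2 + 1 = Fintype.card F - 1 by omega,
        FiniteField.pow_card_sub_one_eq_one a ha0]
    rw [hinv']; exact key _

theorem mem_toSubfield (p : ℕ) [Fact p.Prime] [CharP F p] (A : AddSubgroup F) (h1 : (1 : F) ∈ A)
    {κ : F} (hκ0 : κ ≠ 0) (hinv : ∀ a ∈ A, a ≠ 0 → κ / a ∈ A) (x : F) :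
    x ∈ toSubfield p A h1 hκ0 hinv ↔ x ∈ A := Iff.rfl

/-- a subfield is the image of a field in `Type` -/
theorem exists_field (p : ℕ) [hp : Fact p.Prime] [CharP F p] (A : Subfield F) :
    ∃ (K : Type) (_ : Field K) (_ : Fintype K) (f : K →+* F) (m : ℕ),
      Fintype.card K ^ m = Fintype.card F ∧ ∀ x : F, x ∈ A ↔ ∃ k, f k = x := by
  have : CharP A p := (A.subtype.charP_iff_charP p).2 inferInstance
  have : Fintype A := Fintype.ofFinite A
  obtain ⟨e, -, he⟩ := FiniteField.card A p
  let K := GaloisField p e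
  haveI : Fintype K := Fintype.ofFinite K
  have hK : Fintype.card K = p ^ (e : ℕ) := by
    rw [← Nat.card_eq_fintype_card, GaloisField.card p e e.ne_zero]
  have hm := Module.card_eq_pow_finrank (K := A) (V := F)
  rw [he, ← hK] at hm
  obtain ⟨f⟩ := PslMap.nonempty_ringHom (K := K) (F := F) _ hm.symm
  refine ⟨K, inferInstance, inferInstance, f, _, hm.symm, ?_⟩
  set Q := Fintype.card K
  have hQ : 1 < Q := Fintype.one_lt_card
  set R := (Polynomial.X ^ Q - Polynomial.X : Polynomial F).roots.toFinset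
  have hne : (Polynomial.X ^ Q - Polynomial.X : Polynomial F) ≠ 0 :=
    FiniteField.X_pow_card_sub_X_ne_zero F hQ
  have hR : R.card ≤ Q := by
    refine (Multiset.toFinset_card_le _).trans ((Polynomial.card_roots' _).trans ?_)
    rw [FiniteField.X_pow_card_sub_X_natDegree_eq F hQ]
  have hroot : ∀ x : F, x ^ Q = x → x ∈ R := fun x hx => by
    rw [Multiset.mem_toFinset, Polynomial.mem_roots hne]
    simp [hx]
  have hA : (Finset.univ.filter fun x : F => x ∈ A) = R := by
    refine Finset.eq_of_subset_of_card_le (fun x hx => hroot x ?_) ?_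
    · rw [Finset.mem_filter] at hx
      have h := FiniteField.pow_card (⟨x, hx.2⟩ : A)
      rw [he, ← hK] at h
      exact congrArg Subtype.val h
    · refine hR.trans (le_of_eq ?_)
      rw [hK, ← he, ← Fintype.card_subtype]
  have hf : Finset.univ.image f = R := by
    refine Finset.eq_of_subset_of_card_le ?_ ?_
    · intro x hx
      obtain ⟨k, -, rfl⟩ := Finset.mem_image.1 hx
      exact hroot _ (by rw [← map_pow, FiniteField.pow_card])
    · rw [Finset.card_image_of_injective _ f.injective, Finset.card_univ]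
      exact hR
  intro x
  have h1 := Finset.ext_iff.1 (hA.trans hf.symm) x
  simpa using h1

end field

section generation

variable {K : Type*} [Field K]

theorem eq_top_of_uni_low (M : Subgroup SL(2, K)) (hu : ∀ c, Classical.GL2.uniSL c ∈ M)
    (hl : ∀ c, Classical.GL2.lowSL c ∈ M) : M = ⊤ := by
  refine (Subgroup.eq_top_iff' M).2 fun g => SL2.transvection_induction (· ∈ M) ?_ (fun _ _ => mul_mem) g
  intro i j h c
  fin_cases i <;> fin_cases j
  · exact absurd rfl h
  · convert hu c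
    ext a b
    fin_cases a <;> fin_cases b <;>
      simp [Matrix.SpecialLinearGroup.transvection, Classical.GL2.uniSL, Matrix.transvection]
  · convert hl c
    ext a b
    fin_cases a <;> fin_cases b <;>
      simp [Matrix.SpecialLinearGroup.transvection, Classical.GL2.lowSL, Matrix.transvection]
  · exact absurd rfl h

end generation

section point

variable {F : Type*} [Field F] [Fintype F] (p : ℕ) [hp : Fact p.Prime] [CharP F p]

/-- embedding of the projective lines -/
noncomputable def emb (F : Type*) [Field F] : OnePoint F → OnePoint (AlgebraicClosure F) :=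
  OnePoint.map (algebraMap F (AlgebraicClosure F))

theorem emb_injective : Function.Injective (emb F) :=
  fun _ _ h => Option.map_injective (algebraMap F (AlgebraicClosure F)).injective h

theorem pi_smul_emb (X : SL(2, F)) (z : OnePoint F) :
    KleinPSL.pi F X • emb F z = emb F (Matrix.SpecialLinearGroup.toGL X • z) := by
  rw [DicksonAction.pi_smul, emb, OnePoint.map_smul]
  rfl

theorem rational_of_fix {g : Matrix.ProjectiveSpecialLinearGroup (Fin 2) F}
    {z : OnePoint (AlgebraicClosure F)} (hg : orderOf g = p) (hz : g • z = z) :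
    ∃ w, emb F w = z := by
  obtain ⟨X, rfl⟩ := KleinPSL.pi_surjective g
  have h1 : KleinPSL.pi F X ≠ 1 := fun e => by rw [e, orderOf_one] at hg; exact hp.out.one_lt.ne hg
  have hT := DicksonAction.twoPt (F := F) p
  set f := algebraMap F (AlgebraicClosure F)
  by_cases hc : (X : Matrix (Fin 2) (Fin 2) F) 1 0 = 0
  · refine ⟨∞, ?_⟩
    exact (hT.eq_of_fix hg hz ((DicksonAction.smul_infty_iff X).2 hc))
  · cases z with
    | infty => exact absurd ((DicksonAction.smul_infty_iff X).1 hz) hc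
    | coe w =>
      have ht := (DicksonAction.orderOf_iff p X h1).1 hg
      obtain ⟨e, het, he⟩ : ∃ e : F, (X : Matrix (Fin 2) (Fin 2) F).trace = 2 * e ∧ e * e = 1 := by
        have : ((X : Matrix (Fin 2) (Fin 2) F).trace - 2) *
            ((X : Matrix (Fin 2) (Fin 2) F).trace + 2) = 0 := by linear_combination ht
        rcases mul_eq_zero.1 this with h | h
        · exact ⟨1, by linear_combination h, one_mul 1⟩
        · exact ⟨-1, by linear_combination h, by ring⟩
      have hr := DicksonAction.eigen_root hz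
      rw [het, map_mul, map_ofNat] at hr
      have hee : f e * f e = 1 := by rw [← map_mul, he, map_one]
      have hl : DicksonAction.eigen (w : OnePoint (AlgebraicClosure F)) X = f e :=
        sub_eq_zero.1 (mul_self_eq_zero.1 (by linear_combination hr + hee :
          (DicksonAction.eigen (w : OnePoint (AlgebraicClosure F)) X - f e) *
            (DicksonAction.eigen (w : OnePoint (AlgebraicClosure F)) X - f e) = 0))
      simp only [DicksonAction.eigen, OnePoint.elim_some] at hl
      refine ⟨(((e - (X : Matrix (Fin 2) (Fin 2) F) 1 1) / (X : Matrix (Fin 2) (Fin 2) F) 1 0 : F) :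
        OnePoint F), ?_⟩
      show ((f _ : AlgebraicClosure F) : OnePoint (AlgebraicClosure F)) = _
      rw [OnePoint.coe_eq_coe, map_div₀, map_sub, div_eq_iff ((map_ne_zero f).2 hc)]
      linear_combination -hl

end point

section identify

variable {F : Type*} [Field F] [Fintype F]

theorem exists_normalize (x y z : OnePoint F) (hxy : x ≠ y) (hxz : x ≠ z) (hyz : y ≠ z) :
    ∃ γ : GL (Fin 2) F, γ • x = ∞ ∧ γ • y = ((0 : F) : OnePoint F) ∧ γ • z = ((1 : F) : OnePoint F) := by
  obtain ⟨γ₁, h1⟩ : ∃ γ : GL (Fin 2) F, γ • x = ∞ := by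
    cases x with
    | infty => exact ⟨1, one_smul _ _⟩
    | coe t =>
      refine ⟨GeneralLinearGroup.mkOfDetNeZero !![0, 1; 1, -t] (by simp [det_fin_two]), ?_⟩
      simp [smul_some_eq_ite]
  obtain ⟨a, ha⟩ : ∃ a : F, γ₁ • y = (a : OnePoint F) := by
    rcases h : γ₁ • y with _ | a
    · exact absurd (smul_left_cancel γ₁ (h1.trans h.symm)) hxy
    · exact ⟨a, rfl⟩
  obtain ⟨b, hb⟩ : ∃ b : F, γ₁ • z = (b : OnePoint F) := by
    rcases h : γ₁ • z with _ | b
    · exact absurd (smul_left_cancel γ₁ (h1.trans h.symm)) hxz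
    · exact ⟨b, rfl⟩
  have hab : b - a ≠ 0 := sub_ne_zero.2 fun e => hyz (smul_left_cancel γ₁ (by rw [ha, hb, e]))
  let γ₂ : GL (Fin 2) F := GeneralLinearGroup.mkOfDetNeZero !![(b - a)⁻¹, -a * (b - a)⁻¹; 0, 1]
    (by simpa [det_fin_two] using inv_ne_zero hab)
  refine ⟨γ₂ * γ₁, ?_, ?_, ?_⟩
  · rw [mul_smul, h1, smul_infty_eq_self_iff]
    simp [γ₂]
  · rw [mul_smul, ha, smul_some_eq_ite]
    simp [γ₂]
    ring
  · rw [mul_smul, hb, smul_some_eq_ite]
    simp [γ₂]
    field_simp
    ring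

theorem natCard_pgl_le (K : Type*) [Field K] [Fintype K] :
    Nat.card (Matrix.ProjGenLinGroup (Fin 2) K) ≤
      2 * Nat.card (Matrix.ProjectiveSpecialLinearGroup (Fin 2) K) := by
  rw [Classical.Linear.natCard_PGL, ← Classical.SmallIso.natCard_pslTwo]
  exact Nat.mul_le_mul_right _ (Nat.le_of_dvd (by norm_num) (Nat.gcd_dvd_left _ _))

/-- the map of `PGL₂` induced by a field embedding -/
noncomputable def pglMap {K : Type*} [Field K] (f : K →+* F) :
    Matrix.ProjGenLinGroup (Fin 2) K →* Matrix.ProjGenLinGroup (Fin 2) F :=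
  Matrix.ProjGenLinGroup.lift (Matrix.ProjGenLinGroup.mk.comp (GeneralLinearGroup.map f)) (by
    ext r
    show Matrix.ProjGenLinGroup.mk (GeneralLinearGroup.map f (GeneralLinearGroup.scalar (Fin 2) r)) = 1
    rw [Matrix.ProjGenLinGroup.mk_eq_one, GeneralLinearGroup.center_eq_range_scalar]
    exact ⟨Units.map f.toMonoidHom r, by ext i j; fin_cases i <;> fin_cases j <;> simp⟩)

theorem pglMap_mk {K : Type*} [Field K] (f : K →+* F) (g : GL (Fin 2) K) :
    pglMap f (Matrix.ProjGenLinGroup.mk g) = Matrix.ProjGenLinGroup.mk (GeneralLinearGroup.map f g) :=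
  rfl

theorem pglMap_injective {K : Type*} [Field K] (f : K →+* F) : Function.Injective (pglMap f) := by
  rw [injective_iff_map_eq_one]
  intro x hx
  obtain ⟨g, rfl⟩ := Matrix.ProjGenLinGroup.mk_surjective x
  rw [pglMap_mk, Matrix.ProjGenLinGroup.mk_eq_one, GeneralLinearGroup.center_eq_range_scalar] at hx
  obtain ⟨r, hr⟩ := hx
  have e := fun i j => congrArg (fun m : GL (Fin 2) F => (m : Matrix (Fin 2) (Fin 2) F) i j) hr
  have e00 := e 0 0
  have e01 := e 0 1
  have e10 := e 1 0
  have e11 := e 1 1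
  simp at e00 e01 e10 e11
  have h00 : (g : Matrix (Fin 2) (Fin 2) K) 0 0 ≠ 0 := fun h => by
    rw [h, map_zero] at e00
    exact r.ne_zero e00
  rw [Matrix.ProjGenLinGroup.mk_eq_one, GeneralLinearGroup.center_eq_range_scalar]
  refine ⟨Units.mk0 _ h00, ?_⟩
  ext i j
  have h01 := (map_eq_zero f).1 e01.symm
  have h10 := (map_eq_zero f).1 e10.symm
  have h11 := f.injective (e00.symm.trans e11)
  fin_cases i <;> fin_cases j <;> simp [h01, h10, h11]

variable (p : ℕ) [hp : Fact p.Prime] [CharP F p]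
variable (H : Subgroup (Matrix.ProjectiveSpecialLinearGroup (Fin 2) F))

/-- the matrices of a subgroup, conjugated -/
noncomputable def mats (γ : GL (Fin 2) F) : Subgroup (GL (Fin 2) F) :=
  (H.comap (KleinPSL.pi F)).map
    ((MulAut.conj γ).toMonoidHom.comp Matrix.SpecialLinearGroup.toGL)

theorem mem_mats {γ g : GL (Fin 2) F} :
    g ∈ mats H γ ↔ ∃ X : SL(2, F), KleinPSL.pi F X ∈ H ∧ γ * Matrix.SpecialLinearGroup.toGL X * γ⁻¹ = g :=
  Iff.rfl

theorem transitive_embedding {x : OnePoint (AlgebraicClosure F)}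
    (h : DicksonModular.Transitive' ((DicksonAction.twoPt (F := F) p).subgroup H) x) :
    ∃ (K : Type) (_ : Field K) (_ : Fintype K) (m : ℕ) (f : K →+* F) (γ : GL (Fin 2) F),
      Fintype.card K ^ m = Fintype.card F ∧
      (Matrix.ProjectiveSpecialLinearGroup.toPGL (n := Fin 2) (R := K)).range.map (pglMap f) ≤
        (H.map Matrix.ProjectiveSpecialLinearGroup.toPGL).map
          (MulAut.conj (Matrix.ProjGenLinGroup.mk γ)).toMonoidHom ∧
      (H.map Matrix.ProjectiveSpecialLinearGroup.toPGL).map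
          (MulAut.conj (Matrix.ProjGenLinGroup.mk γ)).toMonoidHom ≤ (pglMap f).range := by
  set hT := (DicksonAction.twoPt (F := F) p).subgroup H with hTdef
  obtain ⟨hx, hcard, htr⟩ := h
  -- all points of the orbit are rational
  have hrat : ∀ y ∈ orbit H x, ∃ w, emb F w = y := by
    rintro _ ⟨g, rfl⟩
    obtain ⟨⟨u, hu⟩, hu1⟩ := Subgroup.ne_bot_iff_exists_ne_one.1 hx
    have hu' := hT.pSub_conj (h := g) hu
    have hne : g * u * g⁻¹ ≠ 1 := fun e => hu1 (Subtype.ext (conj_eq_one_iff.1 e))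
    exact rational_of_fix p (by rw [Subgroup.orderOf_coe]; exact hT.orderOf_of_mem hu' hne) hu'.1
  -- three points of the orbit
  have hQ2 : 2 ≤ Nat.card (hT.pSub x) := by
    have : Nontrivial (hT.pSub x) := (Subgroup.nontrivial_iff_ne_bot _).2 hx
    exact Finite.one_lt_card
  obtain ⟨y, hy, hyx⟩ : ∃ y ∈ orbit H x, y ≠ x := by
    by_contra hne
    push Not at hne
    have : (orbit H x).ncard ≤ 1 := (Set.ncard_le_one_iff_subset_singleton (Set.finite_range _)).2 ⟨x, hne⟩
    omega
  obtain ⟨⟨u, hu⟩, hu1⟩ := Subgroup.ne_bot_iff_exists_ne_one.1 hx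
  have huy : u • y ≠ y := fun e =>
    hyx (hT.eq_of_fix (hT.orderOf_of_mem hu fun e' => hu1 (Subtype.ext e')) hu.1 e)
  have huyx : u • y ≠ x := fun e => hyx (smul_left_cancel u (e.trans hu.1.symm))
  have huy' : u • y ∈ orbit H x := by rw [← orbit_eq_iff.2 hy]; exact mem_orbit y u
  obtain ⟨x0, hx0⟩ := hrat x (mem_orbit_self x)
  obtain ⟨y0, hy0⟩ := hrat y hy
  obtain ⟨z0, hz0⟩ := hrat _ huy'
  obtain ⟨γ, γx, γy, γz⟩ := exists_normalize x0 y0 z0
    (fun e => hyx (by rw [← hy0, ← e, hx0])) (fun e => huyx (by rw [← hz0, ← e, hx0]))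
    (fun e => huy (by rw [← hz0, ← e, hy0]))
  set Ĝ := mats H γ
  set Ω : Set (OnePoint F) := {w | emb F (γ⁻¹ • w) ∈ orbit H x}
  have hact : ∀ (X : SL(2, F)) (hX : KleinPSL.pi F X ∈ H) (w : OnePoint F),
      emb F (γ⁻¹ • ((γ * Matrix.SpecialLinearGroup.toGL X * γ⁻¹) • w)) =
        (⟨_, hX⟩ : H) • emb F (γ⁻¹ • w) := by
    intro X hX w
    rw [← mul_smul, ← mul_assoc, ← mul_assoc, inv_mul_cancel, one_mul, mul_smul]
    exact (pi_smul_emb X _).symm
  have hinvΩ : ∀ g ∈ Ĝ, ∀ w ∈ Ω, g • w ∈ Ω := by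
    intro g hg w hw
    obtain ⟨X, hX, rfl⟩ := (mem_mats H).1 hg
    show emb F (γ⁻¹ • _ • w) ∈ orbit H x
    rw [hact X hX]
    exact (orbit_eq_iff.2 hw) ▸ mem_orbit (emb F (γ⁻¹ • w)) (⟨_, hX⟩ : H)
  have htrans : ∀ w ∈ Ω, ∀ w' ∈ Ω, ∃ g ∈ Ĝ, g • w = w' := by
    intro w hw w' hw'
    obtain ⟨⟨g, hg⟩, hgw⟩ : emb F (γ⁻¹ • w') ∈ orbit H (emb F (γ⁻¹ • w)) := by
      rw [orbit_eq_iff.2 hw]; exact hw'
    obtain ⟨X, rfl⟩ := KleinPSL.pi_surjective g
    refine ⟨γ * Matrix.SpecialLinearGroup.toGL X * γ⁻¹, (mem_mats H).2 ⟨X, hg, rfl⟩, ?_⟩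
    exact smul_left_cancel γ⁻¹ (emb_injective ((hact X hg w).trans hgw))
  have hinf : (∞ : OnePoint F) ∈ Ω := by
    show emb F (γ⁻¹ • ∞) ∈ orbit H x
    rw [← γx, inv_smul_smul, hx0]
    exact mem_orbit_self x
  have h0 : ((0 : F) : OnePoint F) ∈ Ω := by
    show emb F (γ⁻¹ • _) ∈ orbit H x
    rw [← γy, inv_smul_smul, hy0]
    exact hy
  have h1 : ((1 : F) : OnePoint F) ∈ Ω := by
    show emb F (γ⁻¹ • _) ∈ orbit H x
    rw [← γz, inv_smul_smul, hz0]
    exact huy'
  have hneg : ∀ g ∈ Ĝ, -g ∈ Ĝ := by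
    intro g hg
    obtain ⟨X, hX, rfl⟩ := (mem_mats H).1 hg
    refine (mem_mats H).2 ⟨-X, by rwa [KleinPSL.pi_neg], ?_⟩
    have : Matrix.SpecialLinearGroup.toGL (-X) = -Matrix.SpecialLinearGroup.toGL X := by
      ext i j
      simp
    rw [this, mul_neg, neg_mul]
  have huni : ∀ b : F, (b : OnePoint F) ∈ Ω →
      Matrix.SpecialLinearGroup.toGL (Classical.GL2.uniSL b) ∈ Ĝ := by
    intro b hb
    rcases eq_or_ne b 0 with rfl | hb0
    · rw [Classical.GL2.uniSL_zero, map_one]; exact one_mem _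
    have hy' : emb F (γ⁻¹ • ((0 : F) : OnePoint F)) = y := by rw [← γy, inv_smul_smul, hy0]
    have hb' : emb F (γ⁻¹ • (b : OnePoint F)) ≠ x := fun e => by
      rw [← hx0] at e
      have := emb_injective e
      rw [inv_smul_eq_iff, γx] at this
      exact coe_ne_infty b this
    obtain ⟨⟨v, hv⟩, hvm, hvy⟩ := htr y hy _ hb hyx hb'
    obtain ⟨X, rfl⟩ := KleinPSL.pi_surjective v
    set g := γ * Matrix.SpecialLinearGroup.toGL X * γ⁻¹
    have hgm : g ∈ Ĝ := (mem_mats H).2 ⟨X, hv, rfl⟩
    have hg0 : g • ((0 : F) : OnePoint F) = (b : OnePoint F) := by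
      refine smul_left_cancel γ⁻¹ (emb_injective ?_)
      rw [hact X hv, hy']
      exact hvy
    have hginf : g • (∞ : OnePoint F) = ∞ := by
      refine smul_left_cancel γ⁻¹ (emb_injective ?_)
      rw [hact X hv, ← γx, inv_smul_smul, hx0]
      exact hvm.1
    have hne : (⟨KleinPSL.pi F X, hv⟩ : H) ≠ 1 := fun e => by
      rw [e, one_smul, ← hy'] at hvy
      exact hb0 (OnePoint.coe_eq_coe.1 (smul_left_cancel γ⁻¹ (emb_injective hvy)).symm)
    have ho : orderOf (KleinPSL.pi F X) = p := by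
      have := hT.orderOf_of_mem hvm hne
      rwa [← Subgroup.orderOf_coe] at this
    have ht := (DicksonAction.orderOf_iff p X fun e => hne (Subtype.ext e)).1 ho
    have hgt : (g : Matrix (Fin 2) (Fin 2) F).trace = (X : Matrix (Fin 2) (Fin 2) F).trace := by
      simp only [g, Units.val_mul]
      rw [Matrix.trace_mul_cycle, ← Units.val_mul, inv_mul_cancel, Units.val_one, Matrix.one_mul]
      rfl
    have hgd : (g : Matrix (Fin 2) (Fin 2) F).det = 1 := by
      simp only [g, Units.val_mul, Matrix.det_mul]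
      rw [mul_comm (Matrix.det (γ : Matrix (Fin 2) (Fin 2) F)), mul_assoc, ← Matrix.det_mul,
        ← Units.val_mul, mul_inv_cancel, Units.val_one, det_one, mul_one]
      exact X.2
    rw [smul_infty_eq_self_iff] at hginf
    rw [trace_fin_two] at hgt
    rw [det_fin_two, hginf, mul_zero, sub_zero] at hgd
    have had : g 0 0 = g 1 1 := by
      have : (g 0 0 - g 1 1) * (g 0 0 - g 1 1) = 0 := by
        linear_combination ht + (g 0 0 + g 1 1 + (X : Matrix (Fin 2) (Fin 2) F).trace) * hgt - 4 * hgd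
      exact sub_eq_zero.1 (mul_self_eq_zero.1 this)
    have hd0 : g 1 1 ≠ 0 := fun e => by rw [e, mul_zero] at hgd; exact zero_ne_one hgd
    rw [smul_some_eq_ite, mul_zero, zero_add, if_neg hd0, mul_zero, zero_add, OnePoint.coe_eq_coe,
      div_eq_iff hd0] at hg0
    rw [had] at hgd
    rcases mul_self_eq_one_iff.1 hgd with e | e
    · convert hgm using 1
      ext i j
      fin_cases i <;> fin_cases j <;> simp [Classical.GL2.coe_uniSL, hginf, had, e, hg0]
    · convert hneg g hgm using 1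
      ext i j
      fin_cases i <;> fin_cases j <;> simp [Classical.GL2.coe_uniSL, hginf, had, e, hg0]
  have hadd : ∀ a b : F, (a : OnePoint F) ∈ Ω → (b : OnePoint F) ∈ Ω →
      ((a + b : F) : OnePoint F) ∈ Ω := by
    intro a b ha hb
    have := hinvΩ _ (huni a ha) _ hb
    rw [smul_some_eq_ite] at this
    simp [Classical.GL2.coe_uniSL] at this
    rwa [add_comm a b]
  let A : AddSubgroup F :=
    { carrier := {a | (a : OnePoint F) ∈ Ω}
      add_mem' := fun {a b} ha hb => hadd a b ha hb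
      zero_mem' := h0
      neg_mem' := fun {a} ha => by
        have key : ∀ n : ℕ, ((n • a : F) : OnePoint F) ∈ Ω := by
          intro n
          induction n with
          | zero => rw [zero_nsmul]; exact h0
          | succ n ih => rw [succ_nsmul]; exact hadd _ _ ih ha
        have e : -a = (p - 1) • a := by
          rw [nsmul_eq_mul, Nat.cast_sub hp.out.one_lt.le, CharP.cast_eq_zero, Nat.cast_one]; ring
        show ((-a : F) : OnePoint F) ∈ Ω
        rw [e]; exact key _ }
  obtain ⟨g₁, hg₁, hg₁inf⟩ := htrans ∞ hinf _ h0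
  have h10 : g₁ 1 0 ≠ 0 := fun e => by
    rw [smul_infty_eq_ite, if_pos e] at hg₁inf
    exact infty_ne_coe _ hg₁inf
  have h00 : g₁ 0 0 = 0 := by
    rw [smul_infty_eq_ite, if_neg h10, OnePoint.coe_eq_coe] at hg₁inf
    exact (div_eq_zero_iff.1 hg₁inf).resolve_right h10
  have hpre : ((-(g₁ 1 1) / g₁ 1 0 : F) : OnePoint F) ∈ Ω := by
    have hm := hinvΩ _ (inv_mem hg₁) ∞ hinf
    have e : g₁ • ((-(g₁ 1 1) / g₁ 1 0 : F) : OnePoint F) = ∞ := by
      rw [smul_some_eq_ite, if_pos]
      field_simp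
      ring
    rwa [← e, inv_smul_smul] at hm
  obtain ⟨κ, hκ0, hanti⟩ : ∃ κ : F, κ ≠ 0 ∧ ∃ g ∈ Ĝ, ∃ c : F, c ≠ 0 ∧
      (g : Matrix (Fin 2) (Fin 2) F) = !![0, c * κ; c, 0] := by
    have hdet := g₁.det_ne_zero
    rw [det_fin_two, h00, zero_mul, zero_sub, neg_ne_zero] at hdet
    refine ⟨g₁ 0 1 / g₁ 1 0, div_ne_zero (left_ne_zero_of_mul hdet) h10, _,
      mul_mem hg₁ (huni _ hpre), g₁ 1 0, h10, ?_⟩
    rw [Units.val_mul]
    ext i j
    fin_cases i <;> fin_cases j <;>
      simp [Matrix.mul_apply, Fin.sum_univ_two, Classical.GL2.coe_uniSL, h00] <;> field_simp <;> ring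
  obtain ⟨w, hwm, c, hc, hw⟩ := hanti
  have hwe : w 0 0 = 0 ∧ w 0 1 = c * κ ∧ w 1 0 = c ∧ w 1 1 = 0 := by simp [hw]
  have hA1 : (1 : F) ∈ A := h1
  have hinv : ∀ a ∈ A, a ≠ 0 → κ / a ∈ A := by
    intro a ha ha0
    have := hinvΩ w hwm _ ha
    rw [smul_some_eq_ite, hwe.1, hwe.2.1, hwe.2.2.1, hwe.2.2.2, zero_mul, zero_add, add_zero,
      if_neg (mul_ne_zero hc ha0), mul_div_mul_left _ _ hc] at this
    exact this
  let S := toSubfield p A hA1 hκ0 hinv
  obtain ⟨K, iK, fK, f, m, hm, hf⟩ := exists_field p S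
  refine ⟨K, iK, fK, m, f, γ, hm, ?_⟩
  have hfA : ∀ k, (f k : OnePoint F) ∈ Ω := fun k => (hf _).2 ⟨k, rfl⟩
  -- the image in `PGL₂(F)`
  let θ : H →* Matrix.ProjGenLinGroup (Fin 2) F :=
    ((MulAut.conj (Matrix.ProjGenLinGroup.mk γ)).toMonoidHom.comp
      Matrix.ProjectiveSpecialLinearGroup.toPGL).comp H.subtype
  have hθ : Function.Injective θ := fun a b e => H.subtype_injective
    (Matrix.ProjectiveSpecialLinearGroup.toPGL_injective
      ((MulAut.conj (Matrix.ProjGenLinGroup.mk γ)).injective e))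
  have hθpi : ∀ (X : SL(2, F)) (hX : KleinPSL.pi F X ∈ H),
      θ ⟨_, hX⟩ = Matrix.ProjGenLinGroup.mk (γ * Matrix.SpecialLinearGroup.toGL X * γ⁻¹) := by
    intro X hX
    rw [map_mul, map_mul, map_inv]
    rfl
  have hle : θ.range ≤ (pglMap f).range := by
    rintro _ ⟨⟨g, hg⟩, rfl⟩
    obtain ⟨X, rfl⟩ := KleinPSL.pi_surjective g
    rw [hθpi X hg]
    set g := γ * Matrix.SpecialLinearGroup.toGL X * γ⁻¹
    have hgm : g ∈ Ĝ := (mem_mats H).2 ⟨X, hg, rfl⟩
    have hdet : g 0 0 * g 1 1 - g 0 1 * g 1 0 ≠ 0 := by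
      rw [← det_fin_two]; exact g.det_ne_zero
    obtain ⟨r, hr, hrA⟩ : ∃ r : F, r ≠ 0 ∧ ∀ i j, r * g i j ∈ S := by
      have himg : ∀ w : OnePoint F, w ∈ Ω → ∀ v : F, g • w = (v : OnePoint F) → v ∈ S := by
        intro w hw v hv
        show (v : OnePoint F) ∈ Ω
        rw [← hv]; exact hinvΩ g hgm w hw
      by_cases hc0 : g 1 0 = 0
      · have hd : g 1 1 ≠ 0 := fun e => by simp [e, hc0] at hdet
        have a1 : g 0 1 / g 1 1 ∈ S := himg _ h0 _ (by rw [smul_some_eq_ite]; simp [hc0, hd])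
        have a2 : (g 0 0 + g 0 1) / g 1 1 ∈ S := himg _ h1 _ (by rw [smul_some_eq_ite]; simp [hc0, hd])
        refine ⟨(g 1 1)⁻¹, inv_ne_zero hd, fun i j => ?_⟩
        fin_cases i <;> fin_cases j
        · show (g 1 1)⁻¹ * g 0 0 ∈ S
          have := S.sub_mem a2 a1
          rwa [← sub_div, add_sub_cancel_right, div_eq_inv_mul] at this
        · show (g 1 1)⁻¹ * g 0 1 ∈ S
          rwa [← div_eq_inv_mul]
        · show (g 1 1)⁻¹ * g 1 0 ∈ S
          rw [hc0, mul_zero]; exact S.zero_mem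
        · show (g 1 1)⁻¹ * g 1 1 ∈ S
          rw [inv_mul_cancel₀ hd]; exact S.one_mem
      · have a0 : g 0 0 / g 1 0 ∈ S := himg _ hinf _ (by rw [smul_infty_eq_ite, if_neg hc0])
        obtain ⟨b1, d1⟩ : g 0 1 / g 1 0 ∈ S ∧ g 1 1 / g 1 0 ∈ S := by
          by_cases hd : g 1 1 = 0
          · refine ⟨?_, by rw [hd, zero_div]; exact S.zero_mem⟩
            have a2 : (g 0 0 + g 0 1) / g 1 0 ∈ S :=
              himg _ h1 _ (by rw [smul_some_eq_ite]; simp [hd, hc0])
            have := S.sub_mem a2 a0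
            rwa [← sub_div, add_sub_cancel_left] at this
          · have a1 : g 0 1 / g 1 1 ∈ S := himg _ h0 _ (by rw [smul_some_eq_ite]; simp [hd])
            have hd1 : g 1 1 / g 1 0 ∈ S := by
              by_cases hcd : g 1 0 + g 1 1 = 0
              · rw [show g 1 1 = -g 1 0 by linear_combination hcd, neg_div, div_self hc0]
                exact S.neg_mem S.one_mem
              · have a2 : (g 0 0 + g 0 1) / (g 1 0 + g 1 1) ∈ S :=
                  himg _ h1 _ (by rw [smul_some_eq_ite]; simp [hcd])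
                have key := S.div_mem (S.sub_mem a0 a2) (S.sub_mem a2 a1)
                have hne1 : (g 0 0 + g 0 1) / (g 1 0 + g 1 1) - g 0 1 / g 1 1 =
                    (g 0 0 * g 1 1 - g 0 1 * g 1 0) / ((g 1 0 + g 1 1) * g 1 1) := by
                  field_simp; ring
                have hne2 : g 0 0 / g 1 0 - (g 0 0 + g 0 1) / (g 1 0 + g 1 1) =
                    (g 0 0 * g 1 1 - g 0 1 * g 1 0) / ((g 1 0 + g 1 1) * g 1 0) := by
                  field_simp; ring
                rw [hne1, hne2] at key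
                convert key using 1
                generalize g 0 0 * g 1 1 - g 0 1 * g 1 0 = D at hdet ⊢
                field_simp
            refine ⟨?_, hd1⟩
            have := S.mul_mem a1 hd1
            rwa [div_mul_div_cancel₀ hd] at this
        refine ⟨(g 1 0)⁻¹, inv_ne_zero hc0, fun i j => ?_⟩
        fin_cases i <;> fin_cases j
        · show (g 1 0)⁻¹ * g 0 0 ∈ S; rwa [← div_eq_inv_mul]
        · show (g 1 0)⁻¹ * g 0 1 ∈ S; rwa [← div_eq_inv_mul]
        · show (g 1 0)⁻¹ * g 1 0 ∈ S; rw [inv_mul_cancel₀ hc0]; exact S.one_mem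
        · show (g 1 0)⁻¹ * g 1 1 ∈ S; rwa [← div_eq_inv_mul]
    choose N hN using fun i j => (hf _).1 (hrA i j)
    have hNd : (Matrix.of N).det ≠ 0 := by
      intro e
      apply hdet
      have := congrArg f e
      rw [det_fin_two, map_sub, map_mul, map_mul, map_zero] at this
      simp only [Matrix.of_apply, hN] at this
      have h' : r * r * (g 0 0 * g 1 1 - g 0 1 * g 1 0) = 0 := by linear_combination this
      exact (mul_eq_zero.1 h').resolve_left (mul_ne_zero hr hr)
    refine ⟨Matrix.ProjGenLinGroup.mk (GeneralLinearGroup.mkOfDetNeZero (Matrix.of N) hNd), ?_⟩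
    have e : GeneralLinearGroup.map f (GeneralLinearGroup.mkOfDetNeZero (Matrix.of N) hNd) =
        GeneralLinearGroup.scalar (Fin 2) (Units.mk0 r hr) * g := by
      ext i j
      fin_cases i <;> fin_cases j <;> simp [hN, Matrix.mul_apply, Fin.sum_univ_two]
    rw [pglMap_mk, e, map_mul, Matrix.ProjGenLinGroup.mk_scalar, one_mul]
  -- it contains `PSL₂(K)`
  have htop : Ĝ.comap ((GeneralLinearGroup.map f).comp Matrix.SpecialLinearGroup.toGL) = ⊤ := by
    have hu : ∀ k, Classical.GL2.uniSL k ∈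
        Ĝ.comap ((GeneralLinearGroup.map f).comp Matrix.SpecialLinearGroup.toGL) := by
      intro k
      rw [Subgroup.mem_comap]
      convert huni _ (hfA k) using 1
      ext i j
      fin_cases i <;> fin_cases j <;> simp [Classical.GL2.coe_uniSL]
    refine eq_top_of_uni_low _ hu fun k => ?_
    rw [Subgroup.mem_comap]
    have hκS : κ ∈ S := by
      have := hinv 1 hA1 one_ne_zero
      rwa [div_one] at this
    have hb : ((κ * f k : F) : OnePoint F) ∈ Ω := S.mul_mem hκS ((hf _).2 ⟨k, rfl⟩)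
    convert mul_mem (mul_mem hwm (huni _ hb)) (inv_mem hwm) using 1
    rw [eq_mul_inv_iff_mul_eq]
    ext i j
    fin_cases i <;> fin_cases j <;>
      simp [Classical.GL2.coe_lowSL, Classical.GL2.coe_uniSL, hw, Matrix.mul_apply, Fin.sum_univ_two] <;>
      ring
  have hθr : θ.range = (H.map Matrix.ProjectiveSpecialLinearGroup.toPGL).map
      (MulAut.conj (Matrix.ProjGenLinGroup.mk γ)).toMonoidHom := by
    rw [Subgroup.map_map]
    show ((((MulAut.conj (Matrix.ProjGenLinGroup.mk γ)).toMonoidHom.comp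
      Matrix.ProjectiveSpecialLinearGroup.toPGL)).comp H.subtype).range = _
    rw [MonoidHom.range_comp, Subgroup.range_subtype]
  refine ⟨?_, hθr ▸ hle⟩
  rw [← hθr]
  rintro _ ⟨_, ⟨s, rfl⟩, rfl⟩
  obtain ⟨Y, rfl⟩ := QuotientGroup.mk_surjective s
  have hY : Y ∈ Ĝ.comap ((GeneralLinearGroup.map f).comp Matrix.SpecialLinearGroup.toGL) :=
    htop ▸ Subgroup.mem_top Y
  obtain ⟨X, hX, hXY⟩ := (mem_mats H).1 (Subgroup.mem_comap.1 hY)
  refine ⟨⟨_, hX⟩, ?_⟩
  rw [hθpi X hX, hXY, Matrix.ProjectiveSpecialLinearGroup.toPGL_mk, pglMap_mk]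
  rfl

theorem classify_transitive {x : OnePoint (AlgebraicClosure F)}
    (h : DicksonModular.Transitive' ((DicksonAction.twoPt (F := F) p).subgroup H) x) :
    ∃ (K : Type) (_ : Field K) (_ : Fintype K) (m : ℕ), Fintype.card K ^ m = Fintype.card F ∧
      (Nonempty (H ≃* Matrix.ProjectiveSpecialLinearGroup (Fin 2) K) ∨
        Nonempty (H ≃* Matrix.ProjGenLinGroup (Fin 2) K)) := by
  obtain ⟨K, iK, fK, m, f, γ, hm, hlo, hhi⟩ := transitive_embedding p H h
  refine ⟨K, iK, fK, m, hm, ?_⟩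
  haveI : Finite (Matrix.ProjGenLinGroup (Fin 2) K) :=
    Finite.of_surjective _ Matrix.ProjGenLinGroup.mk_surjective
  set H' := (H.map Matrix.ProjectiveSpecialLinearGroup.toPGL).map
    (MulAut.conj (Matrix.ProjGenLinGroup.mk γ)).toMonoidHom with hH'
  let eH' : H ≃* H' := (H.equivMapOfInjective _ Matrix.ProjectiveSpecialLinearGroup.toPGL_injective).trans
    (Subgroup.equivMapOfInjective _ _ (MulAut.conj (Matrix.ProjGenLinGroup.mk γ)).injective)
  let M : Subgroup (Matrix.ProjGenLinGroup (Fin 2) K) := H'.comap (pglMap f)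
  have hM : M.map (pglMap f) = H' := Subgroup.map_comap_eq_self hhi
  have eH : H ≃* M :=
    (eH'.trans (MulEquiv.subgroupCongr hM.symm)).trans
      (M.equivMapOfInjective _ (pglMap_injective f)).symm
  have hpsl : (Matrix.ProjectiveSpecialLinearGroup.toPGL (n := Fin 2) (R := K)).range ≤ M := by
    rw [← Subgroup.map_le_iff_le_comap]
    exact hlo
  by_cases hMtop : M = ⊤
  · exact Or.inr ⟨eH.trans ((MulEquiv.subgroupCongr hMtop).trans Subgroup.topEquiv)⟩
  · left
    have hcardR : Nat.card (Matrix.ProjectiveSpecialLinearGroup.toPGL (n := Fin 2) (R := K)).range =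
        Nat.card (Matrix.ProjectiveSpecialLinearGroup (Fin 2) K) :=
      (Nat.card_congr
        (MonoidHom.ofInjective Matrix.ProjectiveSpecialLinearGroup.toPGL_injective).toEquiv).symm
    have heq : (Matrix.ProjectiveSpecialLinearGroup.toPGL (n := Fin 2) (R := K)).range = M := by
      refine Subgroup.eq_of_le_of_card_ge hpsl ?_
      rw [hcardR]
      have h2 : 2 ≤ M.index := by
        have h1 : M.index ≠ 1 := fun e => hMtop (Subgroup.index_eq_one.1 e)
        have h0 : M.index ≠ 0 := Subgroup.index_ne_zero_of_finite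
        omega
      have h3 := M.index_mul_card
      have h4 := natCard_pgl_le K
      have h5 := Nat.mul_le_mul_right (Nat.card M) h2
      omega
    exact ⟨eH.trans ((MulEquiv.subgroupCongr heq.symm).trans
      (MonoidHom.ofInjective Matrix.ProjectiveSpecialLinearGroup.toPGL_injective).symm)⟩

end identify

end Cfsg.Agent.Forms.DicksonField
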