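import Mathlib
import Cfsg.Agent.Lib.Forms.KleinPSL
import Cfsg.Agent.S0228

/-!
# Subgroups `A₄` and `S₄` from generators and relations
-/

set_option autoImplicit false
set_option linter.unusedSectionVars false

namespace Cfsg.Agent.Forms.KleinGroups

open Cfsg.Agent.Forms.KleinPSL

variable {G : Type*} [Group G] [Finite G]

theorem natCard_sup {V K : Subgroup G} (hn : K ≤ Subgroup.normalizer (V : Set G))
    (hd : Disjoint V K) : Nat.card ↥(V ⊔ K) = Nat.card V * Nat.card K := by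
  rw [← Nat.card_prod]
  let f : V × K → ↥(V ⊔ K) := fun p =>
    ⟨(p.1 : G) * p.2, mul_mem (Subgroup.mem_sup_left p.1.2) (Subgroup.mem_sup_right p.2.2)⟩
  refine (Nat.card_congr (Equiv.ofBijective f ⟨?_, ?_⟩)).symm
  · intro p p' h
    exact Subgroup.mul_injective_of_disjoint hd (congrArg Subtype.val h)
  · rintro ⟨z, hz⟩
    rw [← SetLike.mem_coe, Subgroup.coe_mul_of_right_le_normalizer_left V K hn] at hz
    obtain ⟨v, hv, k, hk, rfl⟩ := hz
    exact ⟨(⟨v, hv⟩, ⟨k, hk⟩), rfl⟩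

theorem mem_zpowers_two {t : G} (ht : t * t = 1) {z : G} (hz : z ∈ Subgroup.zpowers t) :
    z = 1 ∨ z = t := by
  classical
  rw [mem_zpowers_iff_mem_range_orderOf, Finset.mem_image] at hz
  obtain ⟨i, -, rfl⟩ := hz
  rcases Nat.even_or_odd' i with ⟨k, rfl | rfl⟩
  · left; rw [pow_mul, pow_two, ht, one_pow]
  · right; rw [pow_succ, pow_mul, pow_two, ht, one_pow, one_mul]

theorem mem_zpowers_three {w : G} (hw : w * w * w = 1) {z : G} (hz : z ∈ Subgroup.zpowers w) :
    z = 1 ∨ z = w ∨ z = w * w := by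
  classical
  rw [mem_zpowers_iff_mem_range_orderOf, Finset.mem_image] at hz
  obtain ⟨i, -, rfl⟩ := hz
  have h3 : w ^ 3 = 1 := by rw [pow_succ, pow_two, hw]
  rw [← Nat.mod_add_div i 3, pow_add, pow_mul, h3, one_pow, mul_one]
  have := Nat.mod_lt i (show 3 > 0 by norm_num)
  interval_cases (i % 3) <;> simp [pow_two]

variable {a b w : G}

theorem mem_normalizer_kSub (ha : a * a = 1) (hb : b * b = 1) (hc : Commute a b) (k : G)
    (h : (k * a * k⁻¹ = a * b ∧ k * b * k⁻¹ = a ∧ k * (a * b) * k⁻¹ = b) ∨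
      (k * a * k⁻¹ = a ∧ k * b * k⁻¹ = a * b ∧ k * (a * b) * k⁻¹ = b)) :
    k ∈ Subgroup.normalizer (kSub a b ha hb hc : Set G) := by
  rw [Subgroup.mem_normalizer_iff]
  intro z
  simp only [SetLike.mem_coe, mem_kSub]
  have hz : ∀ u, k * z * k⁻¹ = k * u * k⁻¹ ↔ z = u := fun u => by simp
  have e1 : k * 1 * k⁻¹ = 1 := by group
  rw [← hz 1, ← hz a, ← hz b, ← hz (a * b), e1]
  rcases h with ⟨h1, h2, h3⟩ | ⟨h1, h2, h3⟩ <;> rw [h1, h2, h3] <;> tauto

/-- data for an `A₄` -/
structure Alt4Data (a b w : G) : Prop where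
  ha : a * a = 1
  hb : b * b = 1
  hc : Commute a b
  ha1 : a ≠ 1
  hb1 : b ≠ 1
  hab : a ≠ b
  hw : w * w * w = 1
  hwa : w * a = a * b * w
  hwb : w * b = a * w

namespace Alt4Data

variable (d : Alt4Data a b w)
include d

theorem ab_ne_one : a * b ≠ 1 := fun h => d.hab (by
  calc a = a * (b * b) := by rw [d.hb, mul_one]
    _ = b := by rw [← mul_assoc, h, one_mul])

theorem ab_ne_a : a * b ≠ a := fun h => d.hb1 (mul_eq_left.1 h)

theorem ab_ne_b : a * b ≠ b := fun h => d.ha1 (mul_eq_right.1 h)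

theorem conj_w : w * a * w⁻¹ = a * b ∧ w * b * w⁻¹ = a ∧ w * (a * b) * w⁻¹ = b := by
  have h1 : w * a * w⁻¹ = a * b := by rw [d.hwa, mul_inv_cancel_right]
  have h2 : w * b * w⁻¹ = a := by rw [d.hwb, mul_inv_cancel_right]
  refine ⟨h1, h2, ?_⟩
  calc w * (a * b) * w⁻¹ = (w * a * w⁻¹) * (w * b * w⁻¹) := by group
    _ = a * (b * a) := by rw [h1, h2, mul_assoc]
    _ = b := by rw [← d.hc.eq, ← mul_assoc, d.ha, one_mul]

theorem w_ne_one : w ≠ 1 := by
  intro h
  have h1 := d.hwa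
  rw [h, one_mul, mul_one] at h1
  exact d.ab_ne_a h1.symm

theorem orderOf_w : orderOf w = 3 :=
  orderOf_eq_prime (hp := ⟨Nat.prime_three⟩) (by rw [pow_succ, pow_two, d.hw]) d.w_ne_one

theorem w_le : Subgroup.zpowers w ≤ Subgroup.normalizer (kSub a b d.ha d.hb d.hc : Set G) :=
  Subgroup.zpowers_le.2 (mem_normalizer_kSub d.ha d.hb d.hc w (Or.inl d.conj_w))

theorem exists_alt4 : ∃ H : Subgroup G, Nonempty (H ≃* alternatingGroup (Fin 4)) := by
  set V := kSub a b d.ha d.hb d.hc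
  have hV : Nat.card V = 4 := natCard_kSub d.ha1 d.hb1 d.hab
  have hW : Nat.card (Subgroup.zpowers w) = 3 := by rw [Nat.card_zpowers, d.orderOf_w]
  have hd : V ⊓ Subgroup.zpowers w = ⊥ :=
    Subgroup.inf_eq_bot_of_coprime (by rw [hV, hW]; norm_num)
  refine ⟨V ⊔ Subgroup.zpowers w, S0228.result ?_ ?_⟩
  · rw [natCard_sup d.w_le (disjoint_iff.2 hd), hV, hW]
  rintro ⟨z, hz⟩ ho hcen
  have hwm : w ∈ V ⊔ Subgroup.zpowers w := Subgroup.mem_sup_right (Subgroup.mem_zpowers w)
  have hzw : w * z = z * w := congrArg Subtype.val (Subgroup.mem_center_iff.1 hcen ⟨w, hwm⟩)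
  have ho' : orderOf z = 2 := by rw [← ho, Subgroup.orderOf_mk]
  have hz2 : z * z = 1 := mul_self_of_order_two ho'
  have hz1 : z ≠ 1 := ne_one_of_order_two ho'
  have hz' := hz
  rw [← SetLike.mem_coe, Subgroup.coe_mul_of_right_le_normalizer_left V _ d.w_le] at hz'
  obtain ⟨v, hv, k, hk, hvk⟩ := hz'
  simp only at hvk
  have hkk : k * k ∈ V := by
    have hn := (Subgroup.mem_normalizer_iff.1 (d.w_le hk) v).1 hv
    have : (v * (k * v * k⁻¹)) * (k * k) = 1 := by
      rw [← hz2, ← hvk]; group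
    rw [eq_inv_of_mul_eq_one_right this]
    exact inv_mem (mul_mem hv hn)
  have hkk1 : k * k = 1 := Subgroup.mem_bot.1 (hd ▸ ⟨hkk, mul_mem hk hk⟩)
  have hk1 : k = 1 := by
    rcases mem_zpowers_three d.hw hk with rfl | rfl | rfl
    · rfl
    · have := d.hw; rw [hkk1, one_mul] at this; exact this
    · rw [← mul_assoc, d.hw, one_mul] at hkk1
      rw [hkk1, mul_one]
  rw [hk1, mul_one] at hvk
  subst hvk
  rcases mem_kSub.1 hv with h | h | h | h
  · exact hz1 h
  · subst h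
    rw [d.hwa] at hzw
    exact d.ab_ne_a (mul_right_cancel hzw)
  · subst h
    rw [d.hwb] at hzw
    exact d.hab (mul_right_cancel hzw)
  · subst h
    have := d.conj_w.2.2
    rw [hzw, mul_inv_cancel_right] at this
    exact d.ab_ne_b this

theorem exists_sym4 {t : G} (ht : t * t = 1) (hta : t * a = a * t) (htb : t * b = a * b * t)
    (htw : t * w = w * w * t) : ∃ H : Subgroup G, Nonempty (H ≃* Equiv.Perm (Fin 4)) := by
  classical
  set V := kSub a b d.ha d.hb d.hc with hVdef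
  set W := Subgroup.zpowers w
  set T := Subgroup.zpowers t
  have hta' : t * a * t⁻¹ = a := by rw [hta, mul_inv_cancel_right]
  have htb' : t * b * t⁻¹ = a * b := by rw [htb, mul_inv_cancel_right]
  have htab : t * (a * b) * t⁻¹ = b := by
    calc t * (a * b) * t⁻¹ = (t * a * t⁻¹) * (t * b * t⁻¹) := by group
      _ = b := by rw [hta', htb', ← mul_assoc, d.ha, one_mul]
  have ht1 : t ≠ 1 := by
    intro h
    rw [h, one_mul, mul_one] at htb
    exact d.ab_ne_b htb.symm
  have hTcard : Nat.card T = 2 := by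
    rw [Nat.card_zpowers, orderOf_eq_prime (by rw [pow_two, ht]) ht1]
  have hWcard : Nat.card W = 3 := by rw [Nat.card_zpowers, d.orderOf_w]
  have hTW : T ≤ Subgroup.normalizer (W : Set G) := by
    refine Subgroup.zpowers_le.2 ?_
    rw [Subgroup.mem_normalizer_iff]
    have hcw : t * w * t⁻¹ = w * w := by rw [htw, mul_inv_cancel_right]
    have hti : t⁻¹ = t := inv_eq_of_mul_eq_one_right ht
    have fwd : ∀ z ∈ W, t * z * t⁻¹ ∈ W := by
      intro z hz
      rcases mem_zpowers_three d.hw hz with e | e | e <;> subst z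
      · simp
      · rw [hcw]; exact mul_mem (Subgroup.mem_zpowers w) (Subgroup.mem_zpowers w)
      · rw [show t * (w * w) * t⁻¹ = (t * w * t⁻¹) * (t * w * t⁻¹) by group, hcw]
        exact mul_mem (mul_mem (Subgroup.mem_zpowers w) (Subgroup.mem_zpowers w))
          (mul_mem (Subgroup.mem_zpowers w) (Subgroup.mem_zpowers w))
    intro z
    refine ⟨fwd z, fun h => ?_⟩
    have h' := fwd _ h
    rw [hti, show t * (t * z * t) * t = (t * t) * z * (t * t) by group, ht, one_mul, mul_one] at h'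
    exact h'
  have hdWT : Disjoint W T :=
    disjoint_iff.2 (Subgroup.inf_eq_bot_of_coprime (by rw [hWcard, hTcard]; norm_num))
  set K := W ⊔ T
  have hKcard : Nat.card K = 6 := by rw [natCard_sup hTW hdWT, hWcard, hTcard]
  have hKn : K ≤ Subgroup.normalizer (V : Set G) := sup_le d.w_le
    (Subgroup.zpowers_le.2 (mem_normalizer_kSub d.ha d.hb d.hc t (Or.inr ⟨hta', htb', htab⟩)))
  obtain ⟨hw1, hw2, hw3⟩ := d.conj_w
  have key : ∀ k ∈ K, k * a * k⁻¹ = a → k * b * k⁻¹ = b → k = 1 := by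
    intro k hk h1 h2
    rw [← SetLike.mem_coe, Subgroup.coe_mul_of_right_le_normalizer_left W T hTW] at hk
    obtain ⟨u, hu, s, hs, rfl⟩ := hk
    simp only at h1 h2 ⊢
    have hww : w * w * a * (w * w)⁻¹ = b ∧ w * w * b * (w * w)⁻¹ = a * b := by
      constructor
      · rw [show w * w * a * (w * w)⁻¹ = w * (w * a * w⁻¹) * w⁻¹ by group, hw1, hw3]
      · rw [show w * w * b * (w * w)⁻¹ = w * (w * b * w⁻¹) * w⁻¹ by group, hw2, hw1]
    rcases mem_zpowers_two ht hs with rfl | rfl <;>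
      rcases mem_zpowers_three d.hw hu with rfl | rfl | rfl
    · simp
    · rw [mul_one, hw1] at h1
      exact absurd h1 d.ab_ne_a
    · rw [mul_one, hww.1] at h1
      exact absurd h1.symm d.hab
    · rw [one_mul, htb'] at h2
      exact absurd h2 d.ab_ne_b
    · rw [show u * s * a * (u * s)⁻¹ = u * (s * a * s⁻¹) * u⁻¹ by group, hta', hw1] at h1
      exact absurd h1 d.ab_ne_a
    · rw [show w * w * s * a * (w * w * s)⁻¹ = w * w * (s * a * s⁻¹) * (w * w)⁻¹ by group, hta',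
        hww.1] at h1
      exact absurd h1.symm d.hab
  have haV : a ∈ V := mem_kSub.2 (Or.inr (Or.inl rfl))
  have hbV : b ∈ V := mem_kSub.2 (Or.inr (Or.inr (Or.inl rfl)))
  have := kSub_isKleinFour (hx := d.ha) (hy := d.hb) (hc := d.hc) d.ha1 d.hb1 d.hab
  have hdVK : Disjoint V K := by
    rw [Subgroup.disjoint_def]
    intro z hzV hzK
    refine key z hzK ?_ ?_
    · rw [(kleinFour_mem V hzV haV).1.eq, mul_inv_cancel_right]
    · rw [(kleinFour_mem V hzV hbV).1.eq, mul_inv_cancel_right]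
  set H := V ⊔ K
  have hH : Nat.card H = 24 := by
    rw [natCard_sup hKn hdVK, natCard_kSub d.ha1 d.hb1 d.hab, hKcard]
  refine ⟨H, ?_⟩
  set K' : Subgroup H := K.subgroupOf H
  have hK' : Nat.card K' = 6 := by
    rw [Nat.card_congr (Subgroup.subgroupOfEquivOfLe (le_sup_right : K ≤ H)).toEquiv, hKcard]
  have hidx : K'.index = 4 := by
    have := K'.index_mul_card
    rw [hK', hH] at this
    omega
  have hinj : Function.Injective (MulAction.toPermHom H (H ⧸ K')) := by
    rw [← MonoidHom.ker_eq_bot_iff, ← Subgroup.normalCore_eq_ker, eq_bot_iff]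
    intro n hn
    have hnK : (n : G) ∈ K := K'.normalCore_le hn
    have comm : ∀ v, v ∈ V → (n : G) * v * (n : G)⁻¹ = v := by
      intro v hv
      have h1 : v * n * v⁻¹ ∈ K :=
        K'.normalCore_le (K'.normalCore_normal.conj_mem n hn ⟨v, Subgroup.mem_sup_left hv⟩)
      have h2 : v * ((n : G) * v⁻¹ * (n : G)⁻¹) ∈ V :=
        mul_mem hv ((Subgroup.mem_normalizer_iff.1 (hKn hnK) _).1 (inv_mem hv))
      have h3 : v * ((n : G) * v⁻¹ * (n : G)⁻¹) ∈ K := by
        rw [show v * ((n : G) * v⁻¹ * (n : G)⁻¹) = (v * n * v⁻¹) * (n : G)⁻¹ by group]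
        exact mul_mem h1 (inv_mem hnK)
      have h4 := Subgroup.disjoint_def.1 hdVK h2 h3
      calc (n : G) * v * (n : G)⁻¹ = ((n : G) * v⁻¹ * (n : G)⁻¹)⁻¹ := by group
        _ = v := (eq_inv_of_mul_eq_one_left h4).symm
    exact Subgroup.mem_bot.2 (Subtype.ext (key _ hnK (comm a haV) (comm b hbV)))
  have : Finite H := inferInstance
  have hq : Nat.card (H ⧸ K') = 4 := hidx
  have e : (H ⧸ K') ≃ Fin 4 := Finite.equivFinOfCardEq hq
  have hbij : Function.Bijective (MulAction.toPermHom H (H ⧸ K')) := by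
    rw [Nat.bijective_iff_injective_and_card, hH, Nat.card_perm, hq]
    exact ⟨hinj, rfl⟩
  exact ⟨(MulEquiv.ofBijective _ hbij).trans e.permCongrHom⟩

end Alt4Data

end Cfsg.Agent.Forms.KleinGroups
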