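import Mathlib
import Cfsg.Agent.Lib.Forms.KleinPSL
import Cfsg.Agent.Lib.Forms.KleinGroups

/-!
# The standard quaternion basis of `SL₂`, odd characteristic: `A₄`, `S₄`, classes of four-groups
-/

set_option autoImplicit false
set_option linter.unusedSectionVars false

namespace Cfsg.Agent.Forms.KleinClasses

open Matrix Cfsg.Agent.Forms.KleinSL2 Cfsg.Agent.Forms.KleinPSL
open scoped MatrixGroups

variable {F : Type*} [Field F] [Fintype F]

local notation "PG" => Matrix.ProjectiveSpecialLinearGroup (Fin 2) F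

/-- the quaternion `x₀ + x₁ J + x₂ B + x₃ J B` for the basis given by `B = aM a b` -/
def quat (a b x₀ x₁ x₂ x₃ : F) : Matrix (Fin 2) (Fin 2) F :=
  !![x₀ + x₂ * a - x₃ * b, -x₁ + x₂ * b + x₃ * a;
     x₁ + x₂ * b + x₃ * a, x₀ - x₂ * a + x₃ * b]

theorem det_quat {a b : F} (hab : a * a + b * b = -1) (x₀ x₁ x₂ x₃ : F) :
    (quat a b x₀ x₁ x₂ x₃).det = x₀ * x₀ + x₁ * x₁ + x₂ * x₂ + x₃ * x₃ := by
  simp [quat, det_fin_two]
  linear_combination -(x₂ * x₂ + x₃ * x₃) * hab

theorem quat_mul {a b : F} (hab : a * a + b * b = -1) (x₀ x₁ x₂ x₃ y₀ y₁ y₂ y₃ : F) :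
    quat a b x₀ x₁ x₂ x₃ * quat a b y₀ y₁ y₂ y₃ = quat a b
      (x₀ * y₀ - x₁ * y₁ - x₂ * y₂ - x₃ * y₃)
      (x₀ * y₁ + x₁ * y₀ + x₂ * y₃ - x₃ * y₂)
      (x₀ * y₂ - x₁ * y₃ + x₂ * y₀ + x₃ * y₁)
      (x₀ * y₃ + x₁ * y₂ - x₂ * y₁ + x₃ * y₀) := by
  ext i j
  fin_cases i <;> fin_cases j <;> simp [quat, Matrix.mul_apply, Fin.sum_univ_two]
  · linear_combination (x₂ * y₂ + x₃ * y₃) * hab
  · linear_combination (x₂ * y₃ - x₃ * y₂) * hab
  · linear_combination -(x₂ * y₃ - x₃ * y₂) * hab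
  · linear_combination (x₂ * y₂ + x₃ * y₃) * hab

theorem neg_quat (a b x₀ x₁ x₂ x₃ : F) :
    -quat a b x₀ x₁ x₂ x₃ = quat a b (-x₀) (-x₁) (-x₂) (-x₃) := by
  ext i j
  fin_cases i <;> fin_cases j <;> simp [quat] <;> ring

theorem quat_one (a b : F) : quat a b 1 0 0 0 = 1 := by
  ext i j
  fin_cases i <;> fin_cases j <;> simp [quat]

section quatSL

variable {a b : F} (hab : a * a + b * b = -1)

/-- quaternions of norm one -/
def qSL (x₀ x₁ x₂ x₃ : F) (h : x₀ * x₀ + x₁ * x₁ + x₂ * x₂ + x₃ * x₃ = 1) : SL(2, F) :=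
  ⟨quat a b x₀ x₁ x₂ x₃, (det_quat hab _ _ _ _).trans h⟩

theorem qSL_mul {x₀ x₁ x₂ x₃ y₀ y₁ y₂ y₃ z₀ z₁ z₂ z₃ : F}
    (hx : x₀ * x₀ + x₁ * x₁ + x₂ * x₂ + x₃ * x₃ = 1) (hy : y₀ * y₀ + y₁ * y₁ + y₂ * y₂ + y₃ * y₃ = 1)
    (hz : z₀ * z₀ + z₁ * z₁ + z₂ * z₂ + z₃ * z₃ = 1)
    (e0 : x₀ * y₀ - x₁ * y₁ - x₂ * y₂ - x₃ * y₃ = z₀)
    (e1 : x₀ * y₁ + x₁ * y₀ + x₂ * y₃ - x₃ * y₂ = z₁)
    (e2 : x₀ * y₂ - x₁ * y₃ + x₂ * y₀ + x₃ * y₁ = z₂)
    (e3 : x₀ * y₃ + x₁ * y₂ - x₂ * y₁ + x₃ * y₀ = z₃) :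
    qSL hab x₀ x₁ x₂ x₃ hx * qSL hab y₀ y₁ y₂ y₃ hy = qSL hab z₀ z₁ z₂ z₃ hz := by
  apply Subtype.ext
  show quat a b x₀ x₁ x₂ x₃ * quat a b y₀ y₁ y₂ y₃ = _
  rw [quat_mul hab, e0, e1, e2, e3]
  rfl

theorem qSL_neg_one (h : (-1 : F) * (-1) + 0 * 0 + 0 * 0 + 0 * 0 = 1) :
    qSL hab (-1) 0 0 0 h = -1 := by
  apply Subtype.ext
  rw [Matrix.SpecialLinearGroup.coe_neg, Matrix.SpecialLinearGroup.coe_one, ← quat_one a b, neg_quat]
  show quat a b (-1) 0 0 0 = _
  rw [neg_zero]

theorem qSL_one (h : (1 : F) * 1 + 0 * 0 + 0 * 0 + 0 * 0 = 1) : qSL hab 1 0 0 0 h = 1 :=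
  Subtype.ext ((quat_one a b).trans Matrix.SpecialLinearGroup.coe_one.symm)

theorem qSL_J (h : (0 : F) * 0 + 1 * 1 + 0 * 0 + 0 * 0 = 1) : qSL hab 0 1 0 0 h = jSL := by
  apply Subtype.ext
  rw [coe_jSL]
  show quat a b 0 1 0 0 = _
  ext i j
  fin_cases i <;> fin_cases j <;> simp [quat, cM]

theorem qSL_neg {x₀ x₁ x₂ x₃ : F} (h : x₀ * x₀ + x₁ * x₁ + x₂ * x₂ + x₃ * x₃ = 1) :
    -qSL hab x₀ x₁ x₂ x₃ h = qSL hab (-x₀) (-x₁) (-x₂) (-x₃) (by linear_combination h) := by
  apply Subtype.ext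
  rw [Matrix.SpecialLinearGroup.coe_neg]
  exact neg_quat a b x₀ x₁ x₂ x₃

/-- `B` -/
def bq : SL(2, F) := qSL hab 0 0 1 0 (by ring)

theorem bq_sq : bq hab * bq hab = -1 := by
  rw [← qSL_neg_one hab (by ring)]
  exact qSL_mul hab _ _ _ (by ring) (by ring) (by ring) (by ring)

theorem bq_anti : bq hab * jSL = -(jSL * bq hab) := by
  rw [← qSL_J hab (by ring), bq, qSL_mul hab (z₀ := 0) (z₁ := 0) (z₂ := 0) (z₃ := -1) _ _
    (by ring) (by ring) (by ring) (by ring) (by ring), qSL_mul hab (z₀ := 0) (z₁ := 0) (z₂ := 0)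
    (z₃ := 1) _ _ (by ring) (by ring) (by ring) (by ring) (by ring), qSL_neg]
  simp only [neg_zero]

variable (h2 : (2 : F) ≠ 0)

/-- an element of order three normalising the quaternion group -/
def wq : SL(2, F) :=
  qSL hab (-(2⁻¹)) 2⁻¹ 2⁻¹ 2⁻¹ (by field_simp; ring)

theorem wq_rel : wq hab h2 * wq hab h2 * wq hab h2 = 1 ∧
    wq hab h2 * jSL = jSL * bq hab * wq hab h2 ∧ wq hab h2 * bq hab = jSL * wq hab h2 := by
  refine ⟨?_, ?_, ?_⟩
  · rw [← qSL_one hab (by ring), wq, qSL_mul hab (z₀ := -(2⁻¹)) (z₁ := -(2⁻¹)) (z₂ := -(2⁻¹))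
      (z₃ := -(2⁻¹)) _ _ (by field_simp; ring) (by field_simp; ring) (by field_simp; ring)
      (by field_simp; ring) (by field_simp; ring)]
    exact qSL_mul hab _ _ _ (by field_simp; ring) (by field_simp; ring) (by field_simp; ring)
      (by field_simp; ring)
  · rw [← qSL_J hab (by ring), wq, bq,
      qSL_mul hab (x₀ := (0 : F)) (z₀ := 0) (z₁ := 0) (z₂ := 0) (z₃ := 1) (y₀ := 0) (y₁ := 0) (y₂ := 1)
        (y₃ := 0) (by ring) (by ring) (by ring) (by ring) (by ring) (by ring) (by ring)]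
    rw [qSL_mul hab (z₀ := -(2⁻¹)) (z₁ := -(2⁻¹)) (z₂ := 2⁻¹) (z₃ := -(2⁻¹)) _ _
      (by field_simp; ring) (by ring) (by ring) (by ring) (by ring)]
    symm
    exact qSL_mul hab _ _ _ (by ring) (by ring) (by ring) (by ring)
  · rw [← qSL_J hab (by ring), wq, bq,
      qSL_mul hab (z₀ := -(2⁻¹)) (z₁ := -(2⁻¹)) (z₂ := -(2⁻¹)) (z₃ := 2⁻¹) _ _
      (by field_simp; ring) (by ring) (by ring) (by ring) (by ring)]
    symm
    exact qSL_mul hab _ _ _ (by ring) (by ring) (by ring) (by ring)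

/-- the data of an `A₄` in `PSL₂` -/
theorem alt4Data :
    KleinGroups.Alt4Data (pi F jSL) (pi F (bq hab)) (pi F (wq hab h2)) := by
  obtain ⟨r1, r2, r3⟩ := wq_rel hab h2
  have hJ := (orderOf_pi_eq_two h2).2 (jSL_sq (F := F))
  have hB := (orderOf_pi_eq_two h2).2 (bq_sq hab)
  have hanti := bq_anti hab
  exact {
    ha := mul_self_of_order_two hJ
    hb := mul_self_of_order_two hB
    hc := by
      show pi F jSL * pi F (bq hab) = pi F (bq hab) * pi F jSL
      rw [← map_mul, ← map_mul, hanti, pi_neg]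
    ha1 := ne_one_of_order_two hJ
    hb1 := ne_one_of_order_two hB
    hab := fun e => by
      rcases pi_eq_iff.1 e with h | h
      · rw [← h] at hanti
        exact ne_neg_self h2 _ hanti
      · have h' : bq hab = -jSL := by rw [h, neg_neg]
        rw [h', neg_mul, mul_neg, neg_neg] at hanti
        exact ne_neg_self h2 _ hanti.symm
    hw := by rw [← map_mul, ← map_mul, r1, map_one]
    hwa := by rw [← map_mul, ← map_mul, ← map_mul, r2]
    hwb := by rw [← map_mul, ← map_mul, r3] }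

/-- with a square root of `1/2` there is an element inducing a transposition -/
theorem exists_sym4Elt {s : F} (hs : s * s = 2⁻¹) : ∃ t : PG, t * t = 1 ∧
    t * pi F jSL = pi F jSL * t ∧ t * pi F (bq hab) = pi F jSL * pi F (bq hab) * t ∧
    t * pi F (wq hab h2) = pi F (wq hab h2) * pi F (wq hab h2) * t := by
  have h0 : (0 : F) * 0 + 0 * 0 + s * s + -s * -s = 1 := by
    linear_combination (2 : F) * hs + mul_inv_cancel₀ h2
  let T : SL(2, F) := qSL hab 0 0 s (-s) h0
  have t1 : T * T = -1 := by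
    rw [← qSL_neg_one hab (by ring)]
    exact qSL_mul hab _ _ _ (by linear_combination (-2 : F) * hs - mul_inv_cancel₀ h2) (by ring)
      (by ring) (by ring)
  have t2 : T * jSL = -(jSL * T) := by
    rw [← qSL_J hab (by ring)]
    simp only [T]
    rw [qSL_mul hab (z₀ := 0) (z₁ := 0) (z₂ := -s) (z₃ := -s) h0 _ (by linear_combination h0)
      (by ring) (by ring) (by ring) (by ring), qSL_mul hab (z₀ := 0) (z₁ := 0) (z₂ := s) (z₃ := s) _ h0
      (by linear_combination h0) (by ring) (by ring) (by ring) (by ring), qSL_neg]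
    simp only [neg_zero]
  have hs2 : (-s) * (-s) + s * s + 0 * 0 + 0 * 0 = 1 := by linear_combination h0
  have t3 : T * bq hab = -(jSL * bq hab * T) := by
    rw [← qSL_J hab (by ring)]
    simp only [T, bq]
    rw [qSL_mul hab (z₀ := -s) (z₁ := s) (z₂ := 0) (z₃ := 0) h0 _ hs2
      (by ring) (by ring) (by ring) (by ring),
      qSL_mul hab (z₀ := 0) (z₁ := 0) (z₂ := 0) (z₃ := 1) (by ring) (by ring) (by ring) (by ring)
        (by ring) (by ring) (by ring),
      qSL_mul hab (z₀ := s) (z₁ := -s) (z₂ := 0) (z₃ := 0) _ h0 (by linear_combination h0)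
        (by ring) (by ring) (by ring) (by ring), qSL_neg]
    simp only [neg_zero, neg_neg]
  have t4 : T * wq hab h2 = wq hab h2 * wq hab h2 * T := by
    simp only [T, wq]
    rw [qSL_mul hab (z₀ := 0) (z₁ := s) (z₂ := -s) (z₃ := 0) h0 _ (by linear_combination h0)
      (by field_simp; ring) (by field_simp; ring) (by field_simp; ring) (by field_simp; ring),
      qSL_mul hab (z₀ := -(2⁻¹)) (z₁ := -(2⁻¹)) (z₂ := -(2⁻¹)) (z₃ := -(2⁻¹))
      (by field_simp; ring) (by field_simp; ring) (by field_simp; ring) (by field_simp; ring)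
      (by field_simp; ring) (by field_simp; ring) (by field_simp; ring)]
    symm
    exact qSL_mul hab _ _ _ (by field_simp; ring) (by field_simp; ring) (by field_simp; ring)
      (by field_simp; ring)
  refine ⟨pi F T, ?_, ?_, ?_, ?_⟩
  · rw [← map_mul, t1, pi_neg, map_one]
  · rw [← map_mul, ← map_mul, t2, pi_neg]
  · rw [← map_mul, ← map_mul, ← map_mul, t3, pi_neg]
  · rw [← map_mul, ← map_mul, ← map_mul, t4]

end quatSL

section classes

/-- the centralizer of `J` -/
def tor (F : Type*) [Field F] : Subgroup SL(2, F) where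
  carrier := {g | g * jSL = jSL * g}
  one_mem' := by simp
  mul_mem' {x y} (hx : x * jSL = jSL * x) (hy : y * jSL = jSL * y) := by
    show x * y * jSL = jSL * (x * y)
    rw [mul_assoc, hy, ← mul_assoc, hx, mul_assoc]
  inv_mem' {x} (hx : x * jSL = jSL * x) := (show Commute x jSL from hx).inv_left.eq

theorem mem_tor {g : SL(2, F)} : g ∈ tor F ↔ g * jSL = jSL * g := Iff.rfl

theorem natCard_tor : Nat.card (tor F) = Nat.card (Circ F 1) := natCard_cent F

theorem eight_dvd_tor_iff (h2 : (2 : F) ≠ 0) :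
    8 ∣ Nat.card (tor F) ↔ Fintype.card F % 8 = 1 ∨ Fintype.card F % 8 = 7 := by
  have hodd : Fintype.card F % 2 = 1 :=
    FiniteField.odd_card_of_char_ne_two fun h => h2 (by
      have : CharP F 2 := h ▸ ringChar.charP F
      exact CharTwo.two_eq_zero)
  rw [natCard_tor]
  rcases (show Fintype.card F % 4 = 1 ∨ Fintype.card F % 4 = 3 by omega) with h | h
  · rw [(natCard_circ_one h2).1 h]; omega
  · rw [(natCard_circ_one h2).2 h]; omega

theorem jSL_mem_tor : (jSL : SL(2, F)) ∈ tor F := mem_tor.2 rfl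

theorem neg_one_mem_tor : (-1 : SL(2, F)) ∈ tor F := by
  rw [← jSL_sq]; exact mul_mem jSL_mem_tor jSL_mem_tor

theorem tor_comm {u v : SL(2, F)} (hu : u ∈ tor F) (hv : v ∈ tor F) : u * v = v * u := by
  have eu := eq_cM_of_comm (congrArg Subtype.val (mem_tor.1 hu) :)
  have ev := eq_cM_of_comm (congrArg Subtype.val (mem_tor.1 hv) :)
  apply Subtype.ext
  rw [Matrix.SpecialLinearGroup.coe_mul, Matrix.SpecialLinearGroup.coe_mul, eu, ev, cM_mul, cM_mul]
  congr 1 <;> ring

/-- squaring on the centralizer of `J` -/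
def sqHom (F : Type*) [Field F] [Fintype F] : tor F →* tor F where
  toFun z := z * z
  map_one' := one_mul 1
  map_mul' x y := by
    have h : y * x = x * y := Subtype.ext (tor_comm y.2 x.2)
    calc x * y * (x * y) = x * (y * x) * y := by group
      _ = x * x * (y * y) := by rw [h]; group

/-- the squares in the centralizer of `J` -/
def squares (F : Type*) [Field F] [Fintype F] : Subgroup (tor F) := (sqHom F).range

theorem sq_eq_one {h2 : (2 : F) ≠ 0} {z : SL(2, F)} (hz : z * z = 1) : z = 1 ∨ z = -1 := by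
  rcases eq_or_ne z 1 with h | h
  · exact Or.inl h
  · right
    refine Subtype.ext ?_
    rw [Classical.SylowSL2.eq_neg_one_of_sq h2 z h hz, Matrix.SpecialLinearGroup.coe_neg,
      Matrix.SpecialLinearGroup.coe_one]

theorem squares_index (h2 : (2 : F) ≠ 0) : (squares F).index = 2 := by
  classical
  have hk : Nat.card (sqHom F).ker = 2 := by
    have hset : ∀ z : tor F, z ∈ (sqHom F).ker ↔
        z = 1 ∨ z = ⟨-1, neg_one_mem_tor⟩ := by
      intro z
      rw [MonoidHom.mem_ker]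
      constructor
      · intro h
        rcases sq_eq_one (h2 := h2) (congrArg Subtype.val h : (z : SL(2, F)) * z = 1) with h' | h'
        · exact Or.inl (Subtype.ext h')
        · exact Or.inr (Subtype.ext h')
      · rintro (rfl | rfl)
        · exact map_one _
        · exact Subtype.ext (show (-1 : SL(2, F)) * -1 = 1 by simp)
    have hne : (1 : tor F) ≠ ⟨-1, neg_one_mem_tor⟩ :=
      fun h => ne_neg_self h2 1 (congrArg Subtype.val h)
    rw [Nat.card_congr (Equiv.subtypeEquivRight hset), Nat.card_eq_fintype_card,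
      Fintype.card_subtype]
    rw [show (Finset.univ.filter fun z : tor F => z = 1 ∨ z = ⟨-1, neg_one_mem_tor⟩) =
      {1, ⟨-1, neg_one_mem_tor⟩} by ext; simp]
    exact Finset.card_pair hne
  have h1 := (sqHom F).ker.index_mul_card
  rw [Subgroup.index_ker, hk] at h1
  have h3 := (squares F).index_mul_card
  have hpos : 0 < Nat.card (squares F) := Nat.card_pos
  change Nat.card (squares F) * 2 = _ at h1
  rw [← h1, mul_comm (Nat.card _) 2] at h3
  exact Nat.eq_of_mul_eq_mul_right hpos h3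

theorem jSL_mem_squares_iff (h2 : (2 : F) ≠ 0) :
    (⟨jSL, jSL_mem_tor⟩ : tor F) ∈ squares F ↔ 8 ∣ Nat.card (tor F) := by
  constructor
  · rintro ⟨z, hz⟩
    have hz' : (z : SL(2, F)) * (z : SL(2, F)) = jSL := congrArg Subtype.val hz
    have : orderOf (z : SL(2, F)) = 2 ^ (2 + 1) := by
      refine orderOf_eq_prime_pow ?_ ?_
      · rw [show (2 ^ 2 : ℕ) = 2 * 2 from rfl, pow_mul, pow_two, pow_two, hz', jSL_sq]
        exact (ne_neg_self h2 1).symm
      · rw [show (2 ^ (2 + 1) : ℕ) = 2 * 2 * 2 from rfl, pow_mul, pow_mul, pow_two, pow_two, pow_two,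
          hz', jSL_sq]
        simp
    rw [Subgroup.orderOf_coe] at this
    rw [show (8 : ℕ) = 2 ^ (2 + 1) from rfl, ← this]
    exact orderOf_dvd_natCard z
  · intro h8
    have hq : 2 ^ 2 ∣ Nat.card (squares F) := by
      have h3 := (squares F).index_mul_card
      rw [squares_index h2] at h3
      omega
    haveI : Fact (Nat.Prime 2) := ⟨Nat.prime_two⟩
    obtain ⟨P, hP⟩ := Sylow.exists_subgroup_card_pow_prime 2 hq
    obtain ⟨Y, hYP, hY1, hY2⟩ : ∃ Y ∈ P, ((Y : tor F) : SL(2, F)) * (Y : tor F) ≠ 1 ∧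
        ((Y : tor F) : SL(2, F)) ^ 4 = 1 := by
      by_contra hne
      push Not at hne
      have key : ∀ z : P, ((z.1 : tor F) : SL(2, F)) = 1 ∨ ((z.1 : tor F) : SL(2, F)) = -1 := by
        intro z
        refine sq_eq_one (h2 := h2) ?_
        by_contra hz
        refine hne z.1 z.2 hz ?_
        have h := pow_card_eq_one' (x := z)
        rw [hP] at h
        exact congrArg (fun v : P => ((v.1 : tor F) : SL(2, F))) h
      classical
      have hinj : Function.Injective fun z : P => decide (((z.1 : tor F) : SL(2, F)) = 1) := by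
        intro u v huv
        refine Subtype.ext (Subtype.ext (Subtype.ext ?_))
        rcases key u with h | h <;> rcases key v with h' | h' <;>
          simp [h, h', (ne_neg_self h2 (1 : SL(2, F))).symm] at huv ⊢
      have := Nat.card_le_card_of_injective _ hinj
      rw [hP, Nat.card_eq_fintype_card, Fintype.card_bool] at this
      omega
    set y : SL(2, F) := ((Y : tor F) : SL(2, F))
    have hy : y * y = -1 := by
      rw [show (4 : ℕ) = 2 * 2 from rfl, pow_mul, pow_two, pow_two] at hY2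
      exact (sq_eq_one (h2 := h2) hY2).resolve_left hY1
    have hyJ : (y * jSL) * (y * jSL) = 1 := by
      calc (y * jSL) * (y * jSL) = y * (jSL * y) * jSL := by group
        _ = (y * y) * (jSL * jSL) := by
          rw [show jSL * y = y * jSL from (mem_tor.1 (Y : tor F).2).symm]; group
        _ = 1 := by rw [hy, jSL_sq]; simp
    rcases sq_eq_one (h2 := h2) hyJ with h | h
    · have : (⟨jSL, jSL_mem_tor⟩ : tor F) = (Y : tor F)⁻¹ :=
        Subtype.ext (eq_inv_of_mul_eq_one_right h)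
      rw [this]
      exact inv_mem Y.2
    · have : (⟨jSL, jSL_mem_tor⟩ : tor F) = (Y : tor F) := by
        refine Subtype.ext ?_
        calc jSL = (-(y * y)) * jSL := by rw [hy]; simp
          _ = -(y * (y * jSL)) := by rw [neg_mul, mul_assoc]
          _ = y := by rw [h]; simp
      rw [this]
      exact Y.2

variable {B : SL(2, F)}

theorem mul_mem_anti (hanti : B * jSL = -(jSL * B)) {u : SL(2, F)} (hu : u ∈ tor F) :
    (u * B) * jSL = -(jSL * (u * B)) := by
  rw [mul_assoc, hanti, mul_neg, ← mul_assoc, mem_tor.1 hu, mul_assoc]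

theorem anti_mem (hB : B * B = -1) (hanti : B * jSL = -(jSL * B)) {g : SL(2, F)}
    (hg : g * jSL = -(jSL * g)) : ∃ u ∈ tor F, g = u * B := by
  refine ⟨-(g * B), mem_tor.2 ?_, ?_⟩
  · rw [neg_mul, mul_assoc, hanti, mul_neg, neg_neg, ← mul_assoc, hg, neg_mul, mul_assoc, mul_neg]
  · rw [neg_mul, mul_assoc, hB, mul_neg, mul_one, neg_neg]

theorem bq_mul_tor (hB : B * B = -1) (hanti : B * jSL = -(jSL * B)) {u : SL(2, F)} (hu : u ∈ tor F) :
    B * u = u⁻¹ * B := by
  have h := anti_sq (mul_mem_anti hanti hu)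
  have h' : u * B * u * B = B * B := by rw [hB, ← h]; group
  have h'' : u * B * u = B := mul_right_cancel h'
  calc B * u = u⁻¹ * (u * B * u) := by group
    _ = u⁻¹ * B := by rw [h'']

theorem conj_eq (hB : B * B = -1) (hanti : B * jSL = -(jSL * B)) {z u : SL(2, F)} (hz : z ∈ tor F)
    (hu : u ∈ tor F) : z * (u * B) * z⁻¹ = z * z * u * B := by
  calc z * (u * B) * z⁻¹ = z * u * (B * z⁻¹) := by group
    _ = z * (u * z) * B := by rw [bq_mul_tor hB hanti (inv_mem hz), inv_inv]; group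
    _ = z * z * u * B := by rw [tor_comm hu hz]; group

theorem four_data (h2 : (2 : F) ≠ 0) (hanti : B * jSL = -(jSL * B)) {u : SL(2, F)}
    (hu : u ∈ tor F) :
    pi F jSL * pi F jSL = 1 ∧ pi F (u * B) * pi F (u * B) = 1 ∧
      Commute (pi F jSL) (pi F (u * B)) ∧ pi F jSL ≠ 1 ∧ pi F (u * B) ≠ 1 ∧
      pi F jSL ≠ pi F (u * B) := by
  have ha := mul_mem_anti hanti hu
  have hJ := (orderOf_pi_eq_two h2).2 (jSL_sq (F := F))
  have hB := (orderOf_pi_eq_two h2).2 (anti_sq ha)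
  refine ⟨mul_self_of_order_two hJ, mul_self_of_order_two hB, ?_, ne_one_of_order_two hJ,
    ne_one_of_order_two hB, fun e => ?_⟩
  · show pi F jSL * pi F (u * B) = pi F (u * B) * pi F jSL
    rw [← map_mul, ← map_mul, ha, pi_neg]
  · rcases pi_eq_iff.1 e with h | h
    · rw [← h] at ha
      exact ne_neg_self h2 _ ha
    · have h' : u * B = -jSL := by rw [h, neg_neg]
      rw [h', neg_mul, mul_neg, neg_neg] at ha
      exact ne_neg_self h2 _ ha.symm

/-- the four-group attached to an element of the centralizer of `J` -/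
def four (h2 : (2 : F) ≠ 0) (hanti : B * jSL = -(jSL * B)) (u : tor F) : Subgroup PG :=
  kSub (pi F jSL) (pi F ((u : SL(2, F)) * B)) (four_data h2 hanti u.2).1 (four_data h2 hanti u.2).2.1
    (four_data h2 hanti u.2).2.2.1

theorem map_conj_trans {G : Type*} [Group G] {U V W : Subgroup G} {g h : G}
    (hV : V = U.map (MulAut.conj g).toMonoidHom) (hW : W = U.map (MulAut.conj h).toMonoidHom) :
    W = V.map (MulAut.conj (h * g⁻¹)).toMonoidHom := by
  rw [hW, hV, Subgroup.map_map]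
  congr 1
  ext x
  simp [mul_assoc]

theorem map_kSub {G : Type*} [Group G] {x y : G} {hx : x * x = 1} {hy : y * y = 1}
    {hc : Commute x y} {x' y' : G} {hx' : x' * x' = 1} {hy' : y' * y' = 1} {hc' : Commute x' y'}
    (g : G) (ex : g * x * g⁻¹ = x') (ey : g * y * g⁻¹ = y') :
    (kSub x y hx hy hc).map (MulAut.conj g).toMonoidHom = kSub x' y' hx' hy' hc' := by
  ext z
  rw [Subgroup.mem_map, mem_kSub]
  constructor
  · rintro ⟨v, hv, rfl⟩
    show g * v * g⁻¹ = 1 ∨ _
    rcases mem_kSub.1 hv with rfl | rfl | rfl | rfl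
    · left; group
    · right; left; exact ex
    · right; right; left; exact ey
    · right; right; right
      rw [← ex, ← ey]; show g * (x * y) * g⁻¹ = _; group
  · intro hz
    refine ⟨g⁻¹ * z * g, mem_kSub.2 ?_, show g * (g⁻¹ * z * g) * g⁻¹ = z by group⟩
    rcases hz with rfl | rfl | rfl | rfl
    · left; group
    · right; left; rw [← ex]; group
    · right; right; left; rw [← ey]; group
    · right; right; right; rw [← ex, ← ey]; group

theorem four_move (h2 : (2 : F) ≠ 0) (hB : B * B = -1) (hanti : B * jSL = -(jSL * B)) (z u : tor F) :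
    four h2 hanti (z * z * u) =
      (four h2 hanti u).map (MulAut.conj (pi F (z : SL(2, F)))).toMonoidHom := by
  refine (map_kSub _ ?_ ?_).symm
  · rw [← map_inv, ← map_mul, ← map_mul, mem_tor.1 z.2, mul_inv_cancel_right]
  · rw [← map_inv, ← map_mul, ← map_mul, conj_eq hB hanti z.2 u.2]
    rfl

theorem four_jSL_mul (h2 : (2 : F) ≠ 0) (hanti : B * jSL = -(jSL * B)) (u : tor F) :
    four h2 hanti (⟨jSL, jSL_mem_tor⟩ * u) = four h2 hanti u := by
  have e : pi F (((⟨jSL, jSL_mem_tor⟩ * u : tor F) : SL(2, F)) * B) =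
      pi F jSL * pi F ((u : SL(2, F)) * B) := by
    rw [← map_mul, Subgroup.coe_mul, mul_assoc]
  ext z
  simp only [four, mem_kSub, e]
  have hJ : pi F jSL * pi F jSL = 1 := (four_data h2 hanti u.2).1
  rw [← mul_assoc, hJ, one_mul]
  tauto

theorem exists_four (h2 : (2 : F) ≠ 0) (hB : B * B = -1) (hanti : B * jSL = -(jSL * B))
    (V : Subgroup PG) [IsKleinFour V] :
    ∃ (g : PG) (u : tor F), V = (four h2 hanti u).map (MulAut.conj g).toMonoidHom := by
  classical
  have hcard : Nat.card {z : V // z ≠ 1} = 3 := by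
    rw [Nat.card_eq_fintype_card, Fintype.card_subtype_compl, Fintype.card_subtype_eq,
      ← Nat.card_eq_fintype_card, IsKleinFour.card_four]
  have hnt : Nontrivial {z : V // z ≠ 1} := Finite.one_lt_card_iff_nontrivial.1 (by omega)
  obtain ⟨⟨⟨a, ha⟩, ha1⟩, ⟨⟨b, hb⟩, hb1⟩, hab⟩ := exists_pair_ne {z : V // z ≠ 1}
  have ha1' : a ≠ 1 := fun h => ha1 (Subtype.ext h)
  have hb1' : b ≠ 1 := fun h => hb1 (Subtype.ext h)
  have hab' : a ≠ b := fun h => hab (Subtype.ext (Subtype.ext h))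
  have oa := (kleinFour_mem V ha ha).2 ha1'
  have ob := (kleinFour_mem V hb hb).2 hb1'
  have hcab := (kleinFour_mem V ha hb).1
  obtain ⟨A, rfl⟩ := pi_surjective a
  obtain ⟨C, rfl⟩ := pi_surjective b
  have hA := (orderOf_pi_eq_two h2).1 oa
  have hC := (orderOf_pi_eq_two h2).1 ob
  have hAC := anti_of_comm h2 hA hC hab' hcab
  obtain ⟨g, hg⟩ := exists_conj_j h2 hA
  have h' : (g⁻¹ * C * g) * jSL = -(jSL * (g⁻¹ * C * g)) := by
    calc (g⁻¹ * C * g) * jSL = g⁻¹ * (C * (g * jSL * g⁻¹)) * g := by group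
      _ = -(g⁻¹ * (g * jSL * g⁻¹ * C) * g) := by rw [hg, hAC, mul_neg, neg_mul]
      _ = _ := by congr 1; group
  obtain ⟨u, hu, e⟩ := anti_mem hB hanti h'
  refine ⟨pi F g, ⟨u, hu⟩, ?_⟩
  rw [four, map_kSub (x' := pi F A) (y' := pi F C) (hx' := mul_self_of_order_two oa)
    (hy' := mul_self_of_order_two ob) (hc' := hcab) _ (by rw [← map_inv, ← map_mul, ← map_mul, hg])
    (by show pi F g * pi F (u * B) * (pi F g)⁻¹ = _
        rw [← e, ← map_inv, ← map_mul, ← map_mul]
        congr 1; group)]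
  ext z
  rw [mem_kSub]
  exact kleinFour_ext V ha hb ha1' hb1' hab' z

theorem four_not_conj (h2 : (2 : F) ≠ 0) {a b : F} (hab : a * a + b * b = -1)
    (hJ : (⟨jSL, jSL_mem_tor⟩ : tor F) ∈ squares F) {n : tor F} (hn : n ∉ squares F) (g : PG) :
    four h2 (bq_anti hab) n ≠
      (four h2 (bq_anti hab) 1).map (MulAut.conj g).toMonoidHom := by
  intro e
  set B := bq hab
  have hB : B * B = -1 := bq_sq hab
  have hanti : B * jSL = -(jSL * B) := bq_anti hab
  have d := alt4Data hab h2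
  obtain ⟨c1, c2, c3⟩ := d.conj_w
  set w := pi F (wq hab h2)
  set j := pi F jSL
  set β := pi F B
  have hone : pi F (((1 : tor F) : SL(2, F)) * B) = β := by
    rw [Subgroup.coe_one, one_mul]
  have mem1 : ∀ z, z ∈ four h2 hanti 1 ↔ z = 1 ∨ z = j ∨ z = β ∨ z = j * β := by
    intro z; simp only [four, mem_kSub, hone]; rfl
  -- an element `k` fixing the standard four-group with `g * k` fixing `J`
  have hjn : j ∈ four h2 hanti n := mem_kSub.2 (Or.inr (Or.inl rfl))
  rw [e, Subgroup.mem_map] at hjn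
  obtain ⟨x, hx, hgx⟩ := hjn
  replace hgx : g * x * g⁻¹ = j := hgx
  have hk : ∃ k : PG, k * j * k⁻¹ = x ∧ k * β * k⁻¹ ∈ four h2 hanti 1 := by
    rcases (mem1 x).1 hx with h | h | h | h
    · refine absurd ?_ d.ha1
      rw [← hgx, h]; group
    · exact ⟨1, by rw [h]; group, by simpa using (mem1 β).2 (Or.inr (Or.inr (Or.inl rfl)))⟩
    · refine ⟨w * w, ?_, ?_⟩
      · rw [h, show w * w * j * (w * w)⁻¹ = w * (w * j * w⁻¹) * w⁻¹ by group, c1, c3]
      · rw [show w * w * β * (w * w)⁻¹ = w * (w * β * w⁻¹) * w⁻¹ by group, c2, c1]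
        exact (mem1 _).2 (Or.inr (Or.inr (Or.inr rfl)))
    · refine ⟨w, by rw [h, c1], ?_⟩
      rw [c2]; exact (mem1 _).2 (Or.inr (Or.inl rfl))
  obtain ⟨k, hk1, hk2⟩ := hk
  obtain ⟨G, hG⟩ := pi_surjective (g * k)
  have hGj : Commute (pi F G) (pi F jSL) := by
    show pi F G * j = j * pi F G
    rw [hG]
    calc g * k * j = g * (k * j * k⁻¹) * g⁻¹ * (g * k) := by group
      _ = j * (g * k) := by rw [hk1, hgx]
  have hz : ∃ z ∈ tor F, pi F (G * B * G⁻¹) = pi F (z * z * B) := by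
    rcases comm_cases hGj with h | h
    · refine ⟨G, mem_tor.2 h, ?_⟩
      rw [show G * B = G * (1 * B) by rw [one_mul], conj_eq hB hanti (mem_tor.2 h) (one_mem _), mul_one]
    · obtain ⟨u, hu, hGu⟩ := anti_mem hB hanti h
      refine ⟨u, hu, ?_⟩
      rw [hGu, show u * B * B * (u * B)⁻¹ = u * (1 * B) * u⁻¹ by group,
        conj_eq hB hanti hu (one_mem _), mul_one]
  obtain ⟨z, hz, hzB⟩ := hz
  have hmem : pi F (z * z * B) ∈ four h2 hanti n := by
    rw [← hzB, map_mul, map_mul, map_inv, hG, e, Subgroup.mem_map]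
    exact ⟨k * β * k⁻¹, hk2, by show g * (k * β * k⁻¹) * g⁻¹ = _; group; rfl⟩
  have hBt : B ∉ tor F := fun h => by
    have := mem_tor.1 h
    rw [hanti] at this
    exact ne_neg_self h2 _ this.symm
  have hzz : z * z ∈ tor F := mul_mem hz hz
  have hcase : ∀ v : SL(2, F), v ∈ tor F → pi F (z * z * B) = pi F v → False := by
    intro v hv h
    apply hBt
    rcases pi_eq_iff.1 h with h' | h'
    · rw [eq_inv_mul_of_mul_eq h']
      exact mul_mem (inv_mem hzz) hv
    · rw [eq_inv_mul_of_mul_eq h', ← neg_one_mul v]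
      exact mul_mem (inv_mem hzz) (mul_mem neg_one_mem_tor hv)
  have hneg : (⟨-1, neg_one_mem_tor⟩ : tor F) ∈ squares F :=
    ⟨⟨jSL, jSL_mem_tor⟩, Subtype.ext jSL_sq⟩
  have hsq : ∀ v : tor F, z * z = (v : SL(2, F)) ∨ z * z = -(v : SL(2, F)) → v ∈ squares F := by
    rintro v (h | h)
    · exact ⟨⟨z, hz⟩, Subtype.ext h⟩
    · have : v = ⟨-1, neg_one_mem_tor⟩ * sqHom F ⟨z, hz⟩ := by
        apply Subtype.ext
        show (v : SL(2, F)) = -1 * (z * z)
        rw [neg_one_mul, h, neg_neg]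
      rw [this]
      exact mul_mem hneg ⟨_, rfl⟩
  rcases mem_kSub.1 hmem with h | h | h | h
  · exact hcase 1 (one_mem _) (by rw [h, map_one])
  · exact hcase jSL jSL_mem_tor h
  · refine hn (hsq n ?_)
    rcases pi_eq_iff.1 h with h' | h'
    · exact Or.inl (mul_right_cancel h')
    · exact Or.inr (mul_right_cancel (b := B) (by rw [h', neg_mul]))
  · refine hn ?_
    have := hsq (⟨jSL, jSL_mem_tor⟩ * n) ?_
    · exact (Subgroup.mul_mem_cancel_left _ hJ).1 this
    rw [← map_mul, ← mul_assoc] at h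
    rcases pi_eq_iff.1 h with h' | h'
    · exact Or.inl (mul_right_cancel h')
    · exact Or.inr (mul_right_cancel (b := B) (by rw [h', neg_mul]; rfl))

end classes

end Cfsg.Agent.Forms.KleinClasses
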