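import Mathlib
import Cfsg.Agent.Lib.Forms.DicksonAction
import Cfsg.Agent.Lib.Forms.DicksonCount
import Cfsg.Agent.Lib.Forms.DicksonModular
import Cfsg.Agent.Lib.Forms.DicksonField
import Cfsg.Agent.Lib.Forms.KleinClasses
import Cfsg.Agent.S0800

/-!
# Dickson's list of subgroups of `PSL₂(q)`
-/

set_option autoImplicit false
set_option linter.unusedSectionVars false

namespace Cfsg.Agent.Forms.DicksonList

open MulAction
open scoped MatrixGroups

variable {F : Type*} [Field F] [Fintype F] (p : ℕ) [hp : Fact p.Prime] [CharP F p]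

local notation "PG" => Matrix.ProjectiveSpecialLinearGroup (Fin 2) F

theorem order_dvd (g : PG) (hg : ¬ p ∣ orderOf g) :
    orderOf g ∣ (Fintype.card F + 1) / Nat.gcd 2 (Fintype.card F - 1) ∨
      orderOf g ∣ (Fintype.card F - 1) / Nat.gcd 2 (Fintype.card F - 1) := by
  obtain ⟨X, rfl⟩ := KleinPSL.pi_surjective g
  obtain ⟨n, -, hn⟩ := FiniteField.card F p
  set m := orderOf (KleinPSL.pi F X) with hm
  have hXm : X ^ m = 1 ∨ X ^ m = -1 :=
    KleinPSL.pi_eq_one.1 (by rw [map_pow, pow_orderOf_eq_one])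
  rcases eq_or_ne p 2 with rfl | hp2
  · have hg1 : Nat.gcd 2 (Fintype.card F - 1) = 1 := by
      rw [hn]
      have h : 2 ^ (n : ℕ) % 2 = 0 := Nat.mod_eq_zero_of_dvd (dvd_pow_self 2 n.ne_zero) |> fun h => by omega
      have h2 := Nat.gcd_dvd_left 2 (2 ^ (n : ℕ) - 1)
      rcases (Nat.dvd_prime Nat.prime_two).1 h2 with h3 | h3
      · exact h3
      · have h4 := Nat.gcd_dvd_right 2 (2 ^ (n : ℕ) - 1)
        rw [h3] at h4
        have : 0 < 2 ^ (n : ℕ) := Nat.two_pow_pos _
        omega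
    have hneg : (-1 : SL(2, F)) = 1 := by
      refine Subtype.ext ?_
      rw [Matrix.SpecialLinearGroup.coe_neg, Matrix.SpecialLinearGroup.coe_one]
      ext i j
      simp [CharTwo.neg_eq]
    have hX : orderOf X = m := by
      refine Nat.dvd_antisymm (orderOf_dvd_of_pow_eq_one ?_) (orderOf_map_dvd _ _)
      rcases hXm with h | h
      · exact h
      · rw [h, hneg]
    have := S0800.result rfl 2 X (by
      rw [hX]; exact (Nat.prime_two.coprime_iff_not_dvd.2 hg).symm)
    rw [hX] at this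
    rw [hg1, Nat.div_one, Nat.div_one]
    exact this.symm
  · have hodd : Odd (Fintype.card F) := by rw [hn]; exact (hp.out.odd_of_ne_two hp2).pow
    have h2 := Classical.SylowSL2.two_ne_zero_of_odd hodd
    obtain ⟨j, hj⟩ := hodd
    have hg2 : Nat.gcd 2 (Fintype.card F - 1) = 2 :=
      Nat.gcd_eq_left (Nat.dvd_of_mod_eq_zero (by omega))
    have hX : orderOf X ∣ 2 * m := by
      refine orderOf_dvd_of_pow_eq_one ?_
      rw [mul_comm, pow_mul]
      rcases hXm with h | h <;> rw [h] <;> simp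
    have hcop : Nat.Coprime (orderOf X) p := by
      refine (hp.out.coprime_iff_not_dvd.2 fun h => ?_).symm
      rcases (Nat.Prime.dvd_mul hp.out).1 (h.trans hX) with h | h
      · exact hp2 ((Nat.prime_dvd_prime_iff_eq hp.out Nat.prime_two).1 h)
      · exact hg h
    have key : ∀ k, orderOf X ∣ 2 * k → m ∣ k := by
      intro k hk
      refine orderOf_dvd_of_pow_eq_one ?_
      rw [← map_pow]
      refine KleinPSL.pi_eq_one.2 (KleinClasses.sq_eq_one (h2 := h2) ?_)
      rw [← pow_two, ← pow_mul, mul_comm k 2]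
      exact orderOf_dvd_iff_pow_eq_one.1 hk
    rw [hg2]
    rcases S0800.result rfl p X hcop with h | h
    · exact Or.inr (key _ (by rwa [Nat.mul_div_cancel' (Nat.dvd_of_mod_eq_zero (by omega))]))
    · exact Or.inl (key _ (by rwa [Nat.mul_div_cancel' (Nat.dvd_of_mod_eq_zero (by omega))]))

/-- the shapes in Dickson's list -/
theorem classify (H : Subgroup PG) :
    (∃ g ∈ H, ¬ p ∣ orderOf g ∧ ((IsCyclic H ∧ Nat.card H = orderOf g) ∨
        Nonempty (H ≃* DihedralGroup (orderOf g)))) ∨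
      (∃ x : OnePoint (AlgebraicClosure F),
        (DicksonAction.twoPt (F := F) p).pSub x ≠ ⊥ ∧ ∀ g ∈ H, g • x = x) ∨
      Nonempty (H ≃* alternatingGroup (Fin 4)) ∨ Nonempty (H ≃* Equiv.Perm (Fin 4)) ∨
      Nonempty (H ≃* alternatingGroup (Fin 5)) ∨
      (∃ (K : Type) (_ : Field K) (_ : Fintype K) (m : ℕ), Fintype.card K ^ m = Fintype.card F ∧
        (Nonempty (H ≃* Matrix.ProjectiveSpecialLinearGroup (Fin 2) K) ∨
          Nonempty (H ≃* Matrix.ProjGenLinGroup (Fin 2) K))) := by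
  have hT := DicksonAction.twoPt (F := F) p
  have hTH := hT.subgroup H
  have hnd : ∀ c : H, orderOf c ≠ p → ¬ p ∣ orderOf (c : PG) := fun c hc h => by
    rw [Subgroup.orderOf_coe] at h
    exact hc (hTH.orderOf_eq h)
  by_cases hN : ∀ g : H, orderOf g ≠ p
  · rcases DicksonCount.classify_coprime hTH hN with h | ⟨c, -, h⟩ | h | h | h
    · obtain ⟨c, hc⟩ := IsCyclic.exists_generator (α := H)
      refine Or.inl ⟨c, c.2, hnd c (hN c), Or.inl ⟨h, ?_⟩⟩
      rw [Subgroup.orderOf_coe, orderOf_eq_card_of_forall_mem_zpowers hc]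
    · exact Or.inl ⟨c, c.2, hnd c (hN c), Or.inr (by rw [Subgroup.orderOf_coe]; exact h)⟩
    · exact Or.inr (Or.inr (Or.inl h))
    · exact Or.inr (Or.inr (Or.inr (Or.inl h)))
    · exact Or.inr (Or.inr (Or.inr (Or.inr (Or.inl h))))
  · push Not at hN
    obtain ⟨u, hu⟩ := hN
    rcases DicksonModular.classify_modular hTH hu with ⟨x, hx, hfix⟩ | ⟨c, -, hc, h⟩ | ⟨-, h⟩ | ⟨x, h⟩
    · refine Or.inr (Or.inl ⟨x, fun e => ?_, fun g hg => hfix ⟨g, hg⟩⟩)
      obtain ⟨⟨v, hv⟩, hv1⟩ := Subgroup.ne_bot_iff_exists_ne_one.1 hx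
      have hm : (v : PG) ∈ hT.pSub x := ⟨hv.1, congrArg Subtype.val hv.2⟩
      rw [e, Subgroup.mem_bot] at hm
      exact hv1 (Subtype.ext (Subtype.ext hm))
    · exact Or.inl ⟨c, c.2, hnd c hc, Or.inr (by rw [Subgroup.orderOf_coe]; exact h)⟩
    · exact Or.inr (Or.inr (Or.inr (Or.inr (Or.inl h))))
    · exact Or.inr (Or.inr (Or.inr (Or.inr (Or.inr (DicksonField.classify_transitive p H h)))))

end Cfsg.Agent.Forms.DicksonList
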