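import Mathlib
import Cfsg.Agent.Lib.Forms.DicksonList
import Cfsg.Agent.Lib.Classical.SmallIso
import Cfsg.Agent.Lib.Classical.GL2

/-!
# Cardinalities in Dickson's list
-/

set_option autoImplicit false
set_option linter.unusedSectionVars false

open scoped Classical

namespace Cfsg.Agent.Forms.DicksonCor

open MulAction
open scoped MatrixGroups

variable {F : Type*} [Field F] [Fintype F]

local notation "PG" => Matrix.ProjectiveSpecialLinearGroup (Fin 2) F

theorem gcd_mul_natCard :
    Nat.gcd 2 (Fintype.card F - 1) * Nat.card PG =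
      Fintype.card F * ((Fintype.card F - 1) * (Fintype.card F + 1)) := by
  rw [Classical.SmallIso.natCard_pslTwo, Classical.GL2.natCard_SL_two]

theorem orbit_emb (w : OnePoint F) :
    orbit PG (DicksonField.emb F w) = Set.range (DicksonField.emb F) := by
  have hinf : ∀ v : OnePoint F, DicksonField.emb F v ∈ orbit PG (DicksonField.emb F OnePoint.infty) := by
    intro v
    cases v with
    | infty => exact mem_orbit_self _
    | coe t =>
      let X : SL(2, F) := ⟨!![t, -1; 1, 0], by simp [Matrix.det_fin_two]⟩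
      refine ⟨KleinPSL.pi F X, ?_⟩
      show KleinPSL.pi F X • DicksonField.emb F OnePoint.infty = _
      rw [DicksonField.pi_smul_emb]
      congr 1
      rw [OnePoint.smul_infty_eq_ite]
      have h10 : ((Matrix.SpecialLinearGroup.toGL X : GL (Fin 2) F) : Matrix (Fin 2) (Fin 2) F) 1 0 = 1 := by
        show (X : Matrix (Fin 2) (Fin 2) F) 1 0 = 1
        simp [X]
      have h00 : ((Matrix.SpecialLinearGroup.toGL X : GL (Fin 2) F) : Matrix (Fin 2) (Fin 2) F) 0 0 = t := by
        show (X : Matrix (Fin 2) (Fin 2) F) 0 0 = t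
        simp [X]
      simp [h10, h00]
  have hle : ∀ v, orbit PG (DicksonField.emb F v) ⊆ Set.range (DicksonField.emb F) := by
    rintro v _ ⟨g, rfl⟩
    obtain ⟨X, rfl⟩ := KleinPSL.pi_surjective g
    exact ⟨_, (DicksonField.pi_smul_emb X v).symm⟩
  refine Set.Subset.antisymm (hle w) ?_
  rintro _ ⟨v, rfl⟩
  rw [orbit_eq_iff.2 (hinf w)]
  exact hinf v

theorem index_stabilizer_emb (w : OnePoint F) :
    (stabilizer PG (DicksonField.emb F w)).index = Fintype.card F + 1 := by
  rw [index_stabilizer, orbit_emb, ← Nat.card_coe_set_eq,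
    Nat.card_range_of_injective DicksonField.emb_injective,
    show Nat.card (OnePoint F) = Nat.card (Option F) from rfl, Finite.card_option,
    Nat.card_eq_fintype_card]

variable (p : ℕ) [hp : Fact p.Prime] [CharP F p]

theorem index_stabilizer_of_pSub {x : OnePoint (AlgebraicClosure F)}
    (hx : (DicksonAction.twoPt (F := F) p).pSub x ≠ ⊥) :
    (stabilizer PG x).index = Fintype.card F + 1 := by
  obtain ⟨⟨g, hg⟩, hg1⟩ := Subgroup.ne_bot_iff_exists_ne_one.1 hx
  have ho := (DicksonAction.twoPt (F := F) p).orderOf_of_mem hg fun e => hg1 (Subtype.ext e)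
  obtain ⟨w, rfl⟩ := DicksonField.rational_of_fix p ho hg.1
  exact index_stabilizer_emb w

/-- proper subfield subgroups -/
theorem subfield_bound (H : Subgroup PG) (hH : H ≠ ⊤) (K : Type) [Field K] [Fintype K] (m : ℕ)
    (hm : Fintype.card K ^ m = Fintype.card F)
    (h : Nonempty (H ≃* Matrix.ProjectiveSpecialLinearGroup (Fin 2) K) ∨
      Nonempty (H ≃* Matrix.ProjGenLinGroup (Fin 2) K)) :
    2 ≤ m ∧ Nat.card H ≤ Fintype.card K * ((Fintype.card K - 1) * (Fintype.card K + 1)) := by
  have hK := Classical.SmallIso.natCard_pslTwo K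
  rw [Classical.GL2.natCard_SL_two] at hK
  have hd : 0 < Nat.gcd 2 (Fintype.card K - 1) := Nat.gcd_pos_of_pos_left _ (by norm_num)
  have hG := gcd_mul_natCard (F := F)
  have hdF : 0 < Nat.gcd 2 (Fintype.card F - 1) := Nat.gcd_pos_of_pos_left _ (by norm_num)
  have hcard : Nat.gcd 2 (Fintype.card K - 1) * Nat.card H =
        Fintype.card K * ((Fintype.card K - 1) * (Fintype.card K + 1)) ∨
      Nat.card H = Fintype.card K * ((Fintype.card K - 1) * (Fintype.card K + 1)) := by
    rcases h with h | h <;> obtain ⟨e⟩ := h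
    · left; rw [Nat.card_congr e.toEquiv, hK]
    · right; rw [Nat.card_congr e.toEquiv, Classical.Linear.natCard_PGL, Classical.GL2.natCard_SL_two]
  refine ⟨?_, ?_⟩
  · by_contra hlt
    rcases m with _ | _ | m
    · have := Fintype.one_lt_card (α := F)
      simp at hm
      omega
    · rw [pow_one] at hm
      rw [hm] at hcard
      refine hH (Subgroup.eq_top_of_card_eq H (le_antisymm H.card_le_card_group ?_))
      rcases hcard with hc | hc
      · exact le_of_eq (Nat.eq_of_mul_eq_mul_left hdF (hc.trans hG.symm)).symm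
      · rw [hc, ← hG]
        exact Nat.le_mul_of_pos_left _ hdF
    · omega
  · rcases hcard with hc | hc
    · rw [← hc]
      exact Nat.le_mul_of_pos_left _ hd
    · exact hc.le

end Cfsg.Agent.Forms.DicksonCor
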