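import Mathlib
import Cfsg.Agent.Lib.Forms.DicksonCor
import Cfsg.Agent.Lib.Classical.Torus

/-!
# Maximal dihedral subgroups of `PSL₂(q)`
-/

set_option autoImplicit false
set_option linter.unusedSectionVars false

namespace Cfsg.Agent.Forms.DicksonDihedral

open MulAction
open scoped MatrixGroups

theorem gcd_two_eq_one {m : ℕ} (h : ¬ 2 ∣ m) : Nat.gcd 2 m = 1 :=
  Nat.prime_two.coprime_iff_not_dvd.2 h

section orders

variable {K : Type*} [Field K] [Fintype K]

/-- element orders in `PGL₂(k)` are at most `k + 1` -/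
theorem orderOf_pgl_le (g : Matrix.ProjGenLinGroup (Fin 2) K) :
    orderOf g ≤ Fintype.card K + 1 := by
  classical
  obtain ⟨g₀, rfl⟩ := Matrix.ProjGenLinGroup.mk_surjective g
  have hspan : ∀ i : ℕ, ∃ a b : K, ((g₀ ^ i : GL (Fin 2) K) : Matrix (Fin 2) (Fin 2) K) =
      a • (g₀ : Matrix (Fin 2) (Fin 2) K) + b • 1 := by
    intro i
    induction i with
    | zero => exact ⟨0, 1, by simp⟩
    | succ i ih =>
      obtain ⟨a, b, h⟩ := ih
      set M := (g₀ : Matrix (Fin 2) (Fin 2) K) with hM
      refine ⟨a * (M 0 0 + M 1 1) + b, -(a * M.det), ?_⟩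
      rw [pow_succ, Units.val_mul, h]
      ext r s
      fin_cases r <;> fin_cases s <;>
        simp [Matrix.mul_apply, Fin.sum_univ_two, Matrix.det_fin_two, ← hM] <;> ring
  choose a b hab using hspan
  have hne : ∀ i, (![a i, b i] : Fin 2 → K) ≠ 0 := by
    intro i h
    have h0 := congrFun h 0
    have h1 := congrFun h 1
    simp at h0 h1
    have := hab i
    rw [h0, h1] at this
    exact Units.ne_zero (g₀ ^ i) (this.trans (by simp))
  let v : Fin (orderOf (Matrix.ProjGenLinGroup.mk g₀)) → Projectivization K (Fin 2 → K) :=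
    fun i => Projectivization.mk K _ (hne i)
  have hv : Function.Injective v := by
    intro i j h
    obtain ⟨u, hu⟩ := (Projectivization.mk_eq_mk_iff K _ _ (hne i) (hne j)).1 h
    have h0 := congrFun hu 0
    have h1 := congrFun hu 1
    simp [Units.smul_def] at h0 h1
    have e : g₀ ^ (j : ℕ) * Matrix.GeneralLinearGroup.scalar (Fin 2) u = g₀ ^ (i : ℕ) := by
      refine Units.ext ?_
      rw [Units.val_mul, hab, hab, ← h0, ← h1]
      ext r s
      fin_cases r <;> fin_cases s <;>
        simp [Matrix.mul_apply, Fin.sum_univ_two] <;> ring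
    have e' := congrArg Matrix.ProjGenLinGroup.mk e
    rw [map_mul, Matrix.ProjGenLinGroup.mk_scalar, mul_one, map_pow, map_pow] at e'
    exact Fin.ext (pow_injOn_Iio_orderOf (Set.mem_Iio.2 i.2) (Set.mem_Iio.2 j.2) e'.symm)
  have h := Nat.card_le_card_of_injective v hv
  rw [Nat.card_fin, Projectivization.card_of_finrank_two K (Fin 2 → K) (Module.finrank_fin_fun K),
    Nat.card_eq_fintype_card] at h
  exact h

theorem orderOf_psl_le (g : Matrix.ProjectiveSpecialLinearGroup (Fin 2) K) :
    orderOf g ≤ Fintype.card K + 1 := by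
  rw [← orderOf_injective _ Matrix.ProjectiveSpecialLinearGroup.toPGL_injective g]
  exact orderOf_pgl_le _

end orders

variable {F : Type*} [Field F] [Fintype F]

local notation "PG" => Matrix.ProjectiveSpecialLinearGroup (Fin 2) F

theorem orderOf_pi (X : SL(2, F)) (hX : Nat.gcd 2 (Fintype.card F - 1) ∣ orderOf X) :
    orderOf (KleinPSL.pi F X) = orderOf X / Nat.gcd 2 (Fintype.card F - 1) := by
  obtain ⟨p, hpc⟩ := CharP.exists F
  haveI := hpc
  haveI : Fact p.Prime := ⟨CharP.char_is_prime F p⟩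
  obtain ⟨n, -, hn⟩ := FiniteField.card F p
  have hm := orderOf_pos X
  rcases eq_or_ne p 2 with rfl | hp2
  · have hg1 : Nat.gcd 2 (Fintype.card F - 1) = 1 := by
      rw [hn]
      have h2 : 2 ∣ 2 ^ (n : ℕ) := dvd_pow_self 2 n.ne_zero
      have h2' := Nat.two_pow_pos (n : ℕ)
      exact gcd_two_eq_one (by omega)
    have hneg : (-1 : SL(2, F)) = 1 := by
      refine Subtype.ext ?_
      rw [Matrix.SpecialLinearGroup.coe_neg, Matrix.SpecialLinearGroup.coe_one]
      ext i j
      simp [CharTwo.neg_eq]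
    rw [hg1, Nat.div_one]
    refine orderOf_injective _ (fun A B h => ?_) X
    rcases KleinPSL.pi_eq_iff.1 h with h | h
    · exact h
    · rw [h, show -B = -1 * B by simp, hneg, one_mul]
  · have hodd : Odd (Fintype.card F) := by
      rw [hn]; exact ((Fact.out : p.Prime).odd_of_ne_two hp2).pow
    have h2 := Classical.SylowSL2.two_ne_zero_of_odd hodd
    obtain ⟨j, hj⟩ := hodd
    have hg2 : Nat.gcd 2 (Fintype.card F - 1) = 2 :=
      Nat.gcd_eq_left (Nat.dvd_of_mod_eq_zero (by omega))
    rw [hg2] at hX ⊢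
    obtain ⟨m, hm'⟩ := hX
    rw [hm', Nat.mul_div_cancel_left _ (by norm_num : 0 < 2)]
    refine (orderOf_eq_iff (by omega)).2 ⟨?_, fun k hk hk0 h => ?_⟩
    · rw [← map_pow]
      refine KleinPSL.pi_eq_one.2 (KleinClasses.sq_eq_one (h2 := h2) ?_)
      rw [← pow_two, ← pow_mul, mul_comm, ← hm', pow_orderOf_eq_one]
    · rw [← map_pow] at h
      have : X ^ (k * 2) = 1 := by
        rw [pow_mul]
        rcases KleinPSL.pi_eq_one.1 h with h | h <;> rw [h] <;> simp
      have := Nat.le_of_dvd (by omega) (orderOf_dvd_of_pow_eq_one this)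
      omega

theorem exists_dihedral (X Y : SL(2, F)) (n : ℕ) (hd : Nat.gcd 2 (Fintype.card F - 1) ∣ orderOf X)
    (hn : orderOf X / Nat.gcd 2 (Fintype.card F - 1) = n) (hY : Y * Y = -1)
    (hYX : Y * X * Y⁻¹ = X⁻¹) (hout : ∀ k : ℤ, Y ≠ X ^ k ∧ Y ≠ -(X ^ k)) :
    ∃ H : Subgroup PG, Nat.card H = 2 * n ∧ Nonempty (H ≃* DihedralGroup n) ∧
      ∃ c ∈ H, ∃ y ∈ H, orderOf c = n ∧ y * c * y⁻¹ = c⁻¹ := by
  obtain ⟨f, hf, hc, hy⟩ := Classical.CyclicExt.exists_dihedral_hom (KleinPSL.pi F X)
    (KleinPSL.pi F Y) ((orderOf_pi X hd).trans hn)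
    (by rw [← map_mul, hY]; exact KleinPSL.pi_eq_one.2 (Or.inr rfl))
    (by rw [← map_inv, ← map_mul, ← map_mul, hYX, map_inv])
    (by
      rintro ⟨k, hk⟩
      simp only at hk
      rw [← map_zpow] at hk
      rcases KleinPSL.pi_eq_iff.1 hk.symm with h | h
      · exact (hout k).1 h
      · exact (hout k).2 h)
  refine ⟨f.range, ?_, ⟨(f.ofInjective hf).symm⟩, _, hc, _, hy, (orderOf_pi X hd).trans hn, ?_⟩
  · rw [← Nat.card_congr (f.ofInjective hf).toEquiv, DihedralGroup.nat_card]
  · rw [← map_inv, ← map_mul, ← map_mul, hYX, map_inv]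

/-- the dihedral group of the nonsplit torus -/
theorem exists_plus :
    ∃ H : Subgroup PG, Nat.card H = 2 * ((Fintype.card F + 1) / Nat.gcd 2 (Fintype.card F - 1)) ∧
      Nonempty (H ≃* DihedralGroup ((Fintype.card F + 1) / Nat.gcd 2 (Fintype.card F - 1))) ∧
      ∃ c ∈ H, ∃ y ∈ H, orderOf c = (Fintype.card F + 1) / Nat.gcd 2 (Fintype.card F - 1) ∧
        y * c * y⁻¹ = c⁻¹ := by
  obtain ⟨A, hA⟩ := Classical.Torus.exists_irreducible F
  haveI : Fact (∀ r : F, r ^ 2 ≠ A + 1 * r) := ⟨hA⟩
  obtain ⟨z, hz⟩ := IsCyclic.exists_generator (α := Classical.Torus.normOne F A 1)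
  obtain ⟨w, hw⟩ := Classical.Torus.norm_surjective (A := A) (B := (1 : F)) (-1) (by norm_num)
  set X : SL(2, F) := Classical.Torus.torusHom z with hXdef
  have hX : orderOf X = Fintype.card F + 1 := by
    rw [hXdef, orderOf_injective _ Classical.Torus.torusHom_injective,
      orderOf_eq_card_of_forall_mem_zpowers hz, Classical.Torus.natCard_normOne]
  let Y : SL(2, F) := ⟨Classical.Torus.mulMat w * Classical.Torus.starMat 1, by
    rw [Matrix.det_mul, Classical.Torus.det_mulMat, Classical.Torus.det_starMat, hw]; ring⟩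
  have hYY : Y * Y = -1 := by
    refine Subtype.ext ?_
    show Classical.Torus.mulMat w * Classical.Torus.starMat 1 *
      (Classical.Torus.mulMat w * Classical.Torus.starMat 1) = _
    rw [mul_assoc, ← mul_assoc (Classical.Torus.starMat 1) (Classical.Torus.mulMat w),
      Classical.Torus.starMat_mul_mulMat, mul_assoc, Classical.Torus.starMat_mul_starMat,
      mul_one, ← map_mul, ← QuadraticAlgebra.algebraMap_norm_eq_mul_star, hw,
      Matrix.SpecialLinearGroup.coe_neg, Matrix.SpecialLinearGroup.coe_one]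
    ext i j
    fin_cases i <;> fin_cases j <;>
      simp [Classical.Torus.mulMat_apply, QuadraticAlgebra.re_one, QuadraticAlgebra.im_one]
  have hYX : Y * X * Y⁻¹ = X⁻¹ := by
    rw [mul_inv_eq_iff_eq_mul, eq_inv_mul_iff_mul_eq]
    refine Subtype.ext ?_
    show Classical.Torus.mulMat (z.1 : QuadraticAlgebra F A 1) *
      (Classical.Torus.mulMat w * Classical.Torus.starMat 1 *
        Classical.Torus.mulMat (z.1 : QuadraticAlgebra F A 1)) =
      Classical.Torus.mulMat w * Classical.Torus.starMat 1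
    rw [mul_assoc (Classical.Torus.mulMat w), Classical.Torus.starMat_mul_mulMat, ← mul_assoc,
      ← mul_assoc, ← map_mul, ← map_mul, mul_right_comm,
      ← QuadraticAlgebra.algebraMap_norm_eq_mul_star, Classical.Torus.mem_normOne.1 z.2,
      map_one, one_mul]
  refine exists_dihedral X Y _ ?_ (by rw [hX]) hYY hYX fun k => ?_
  · rw [hX]
    have := Fintype.card_pos (α := F)
    rcases Nat.even_or_odd (Fintype.card F + 1) with ⟨j, hj⟩ | ⟨j, hj⟩
    · exact (Nat.gcd_dvd_left _ _).trans ⟨j, by omega⟩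
    · have h1 : Nat.gcd 2 (Fintype.card F - 1) = 1 :=
        gcd_two_eq_one (by omega)
      rw [h1]; exact one_dvd _
  have key : ∀ v : QuadraticAlgebra F A 1,
      Classical.Torus.mulMat w * Classical.Torus.starMat 1 ≠ Classical.Torus.mulMat v := by
    intro v h
    have hw0 : w ≠ 0 := fun e => by simp [e] at hw
    have e : Classical.Torus.starMat (1 : F) = Classical.Torus.mulMat (w⁻¹ * v) := by
      rw [map_mul, ← h, ← mul_assoc, ← map_mul, inv_mul_cancel₀ hw0, map_one, one_mul]
    have e10 := congrFun (congrFun e 1) 0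
    have e01 := congrFun (congrFun e 0) 1
    simp [Classical.Torus.starMat, Classical.Torus.mulMat_apply] at e10 e01
    rw [← e10] at e01
    simp at e01
  constructor
  · intro h
    rw [hXdef, ← map_zpow] at h
    exact key _ (congrArg Subtype.val h)
  · intro h
    rw [hXdef, ← map_zpow] at h
    refine key (-((z ^ k).1 : QuadraticAlgebra F A 1)) ?_
    have := congrArg Subtype.val h
    rw [Matrix.SpecialLinearGroup.coe_neg, Classical.Torus.coe_torusHom] at this
    refine this.trans ?_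
    ext i j
    fin_cases i <;> fin_cases j <;> simp [Classical.Torus.mulMat_apply] <;> ring

/-- the dihedral group of the split torus -/
theorem exists_minus :
    ∃ H : Subgroup PG, Nat.card H = 2 * ((Fintype.card F - 1) / Nat.gcd 2 (Fintype.card F - 1)) ∧
      Nonempty (H ≃* DihedralGroup ((Fintype.card F - 1) / Nat.gcd 2 (Fintype.card F - 1))) ∧
      ∃ c ∈ H, ∃ y ∈ H, orderOf c = (Fintype.card F - 1) / Nat.gcd 2 (Fintype.card F - 1) ∧
        y * c * y⁻¹ = c⁻¹ := by
  classical
  obtain ⟨u, hu⟩ := IsCyclic.exists_generator (α := Fˣ)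
  set X : SL(2, F) := Classical.Torus.diagHom u with hXdef
  have hX : orderOf X = Fintype.card F - 1 := by
    rw [hXdef, orderOf_injective _ Classical.Torus.diagHom_injective,
      orderOf_eq_card_of_forall_mem_zpowers hu, Nat.card_eq_fintype_card, Fintype.card_units]
  let Y : SL(2, F) := ⟨!![0, 1; -1, 0], by simp [Matrix.det_fin_two]⟩
  have hYY : Y * Y = -1 := by
    refine Subtype.ext ?_
    rw [Matrix.SpecialLinearGroup.coe_neg, Matrix.SpecialLinearGroup.coe_one]
    show !![(0 : F), 1; -1, 0] * !![(0 : F), 1; -1, 0] = -1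
    ext i j
    fin_cases i <;> fin_cases j <;> simp
  have hYX : Y * X * Y⁻¹ = X⁻¹ := by
    rw [mul_inv_eq_iff_eq_mul, hXdef, ← map_inv]
    refine Subtype.ext ?_
    show !![(0 : F), 1; -1, 0] * !![(u : F), 0; 0, (u⁻¹ : Fˣ)] =
      !![((u⁻¹ : Fˣ) : F), 0; 0, ((u⁻¹)⁻¹ : Fˣ)] * !![(0 : F), 1; -1, 0]
    ext i j
    fin_cases i <;> fin_cases j <;> simp
  refine exists_dihedral X Y _ (hX ▸ Nat.gcd_dvd_right _ _) (by rw [hX]) hYY hYX fun k => ?_
  rw [hXdef, ← map_zpow]
  constructor
  · intro h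
    have := congrFun (congrFun (congrArg Subtype.val h) 0) 1
    exact one_ne_zero (α := F) this
  · intro h
    have := congrFun (congrFun (congrArg Subtype.val h) 0) 1
    rw [Matrix.SpecialLinearGroup.coe_neg] at this
    exact one_ne_zero (α := F) (this.trans neg_zero)

theorem alt4_inv : ∀ g : alternatingGroup (Fin 4), g ^ 2 = 1 ∨ g ^ 3 = 1 := by decide +kernel

theorem alt4_no_six : ∀ c y : alternatingGroup (Fin 4),
    c ^ 3 = 1 → y * c * y⁻¹ = c⁻¹ → c = 1 := by decide +kernel

theorem sym4_exp : ∀ g : Equiv.Perm (Fin 4), g ^ 2 = 1 ∨ g ^ 3 = 1 ∨ g ^ 4 = 1 := by decide +kernel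

theorem alt5_exp : ∀ g : alternatingGroup (Fin 5), g ^ 2 = 1 ∨ g ^ 3 = 1 ∨ g ^ 5 = 1 := by decide +kernel

theorem le_of_pow {G : Type*} [Group G] {g : G} {k : ℕ} (hk : 0 < k) (h : g ^ k = 1) :
    orderOf g ≤ k := Nat.le_of_dvd hk (orderOf_dvd_of_pow_eq_one h)

variable (p : ℕ) [hp : Fact p.Prime] [CharP F p]

/-- a dihedral subgroup with a large rotation group is maximal -/
theorem isCoatom_of (H : Subgroup PG) (n : ℕ) (hH : Nat.card H = 2 * n) (h3 : 3 ≤ n)
    (hpn : ¬ p ∣ n) (hq9 : Fintype.card F ≠ 9)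
    (hn : n * Nat.gcd 2 (Fintype.card F - 1) = Fintype.card F + 1 ∨
      n * Nat.gcd 2 (Fintype.card F - 1) = Fintype.card F - 1)
    (hsmall : n ≤ 5 → n ≠ 4 ∧ Nat.card PG = 60)
    {c y : PG} (hc : c ∈ H) (hy : y ∈ H) (hoc : orderOf c = n) (hyc : y * c * y⁻¹ = c⁻¹) :
    IsCoatom H := by
  classical
  set q := Fintype.card F with hq'
  set d := Nat.gcd 2 (q - 1) with hd'
  have hd : 0 < d := Nat.gcd_pos_of_pos_left _ (by norm_num)
  have hd2 : d ≤ 2 := Nat.le_of_dvd (by norm_num) (Nat.gcd_dvd_left _ _)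
  have hq2 : 2 ≤ q := Fintype.one_lt_card
  have hq3 : 4 ≤ q := by
    by_contra hlt
    have hnd : n * d ≤ q + 1 := by omega
    have h1 : n ≤ n * d := Nat.le_mul_of_pos_right _ hd
    have hq : q = 2 ∨ q = 3 := by omega
    rcases hq with hq | hq
    · have h8 : n = 3 := by omega
      obtain ⟨m, -, hm⟩ := FiniteField.card F p
      have := hsmall (by omega)
      have hG := DicksonCor.gcd_mul_natCard (F := F)
      rw [← hq', this.2, hq] at hG
      norm_num at hG
    · rw [hd', hq] at hnd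
      norm_num at hnd
      omega
  refine ⟨fun e => ?_, fun M hM => ?_⟩
  · rw [e, Subgroup.card_top] at hH
    have hG := DicksonCor.gcd_mul_natCard (F := F)
    rw [← hq', ← hd', hH] at hG
    have h1 : q * ((q - 1) * (q + 1)) ≤ 2 * (q + 1) := by
      rw [← hG, Nat.mul_left_comm]
      refine Nat.mul_le_mul_left 2 ?_
      rw [mul_comm]; omega
    have h2 : q * ((q - 1) * (q + 1)) ≥ 4 * (3 * (q + 1)) :=
      Nat.mul_le_mul hq3 (Nat.mul_le_mul_right _ (by omega))
    omega
  by_contra hMt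
  have hle : H ≤ M := hM.le
  have hlt : 4 * n ≤ Nat.card M := by
    obtain ⟨t, ht⟩ := Subgroup.card_dvd_of_le hle
    rw [hH] at ht
    have ht1 : t ≠ 1 := fun e => hM.ne (Subgroup.eq_of_le_of_card_ge hle (by
      rw [hH, ht, e, mul_one]))
    have ht0 : t ≠ 0 := fun e => by
      have := Nat.card_pos (α := M)
      rw [ht, e] at this; omega
    rw [ht]
    have : 2 * n * 2 ≤ 2 * n * t := Nat.mul_le_mul_left _ (by omega)
    omega
  have hfull : Nat.card M = 60 → n ≤ 5 → False := fun h h5 =>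
    hMt (Subgroup.eq_top_of_card_eq M (h.trans (hsmall h5).2.symm))
  have horder : ∀ {T : Type} [Group T] (e : M ≃* T), orderOf (e ⟨c, hle hc⟩) = n := by
    intro T _ e
    rw [MulEquiv.orderOf_eq, Subgroup.orderOf_mk, hoc]
  rcases DicksonList.classify p M with ⟨g, -, hg, h⟩ | ⟨x, -, hfix⟩ | h | h | h |
      ⟨K, iK, fK, m, hm, h⟩
  · have hk : orderOf g * d ≤ q + 1 := by
      rcases DicksonList.order_dvd p g hg with h | h
      · refine (Nat.mul_le_mul_right d (Nat.le_of_dvd ?_ h)).trans (Nat.div_mul_le_self _ _)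
        exact Nat.div_pos (hd2.trans (by omega)) hd
      · refine (Nat.mul_le_mul_right d (Nat.le_of_dvd ?_ h)).trans
          ((Nat.div_mul_le_self _ _).trans (by omega))
        exact Nat.div_pos (Nat.gcd_le_right _ (by omega)) hd
    have hH2 : Nat.card M ≤ 2 * orderOf g := by
      rcases h with ⟨-, h⟩ | ⟨⟨e⟩⟩
      · omega
      · rw [Nat.card_congr e.toEquiv, DihedralGroup.nat_card]
    have h1 := Nat.mul_le_mul_right d (hlt.trans hH2)
    rw [mul_assoc, mul_assoc] at h1
    omega
  · have hT := DicksonAction.twoPt (F := F) p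
    have hcp : orderOf c ≠ p := fun e => hpn (by rw [← hoc, e])
    have hc1 : c ≠ 1 := fun e => by rw [e, orderOf_one] at hoc; omega
    obtain ⟨a, b, hab, hf⟩ := hT.exists_pair hc1 hcp
    have hxc : x ∈ fixedBy _ c := hfix c (hle hc)
    obtain ⟨x', hx', hne⟩ : ∃ x', c • x' = x' ∧ x' ≠ x := by
      have ha : a ∈ fixedBy _ c := by rw [hf]; simp
      have hb : b ∈ fixedBy _ c := by rw [hf]; simp
      by_cases hax : a = x
      · exact ⟨b, hb, fun e => hab (hax.trans e.symm)⟩
      · exact ⟨a, ha, hax⟩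
    have hyx : y • x = x := hfix y (hle hy)
    have hyx' : y • x' = x' := by
      have hm : y • x' ∈ fixedBy _ c := by
        show c • y • x' = y • x'
        have hcy : c * y = y * c⁻¹ := by
          have := congrArg (fun t => c * t * y) hyc
          simp only [mul_assoc, inv_mul_cancel, mul_one] at this
          rw [← mul_assoc c c⁻¹, mul_inv_cancel, one_mul] at this
          rw [eq_mul_inv_iff_mul_eq, mul_assoc, this]
        rw [← mul_smul, hcy, mul_smul, inv_smul_eq_iff.2 hx'.symm]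
      have hm' : x' ∈ fixedBy _ c := hx'
      have hny : y • x' ≠ x := fun e => hne (smul_left_cancel y (e.trans hyx.symm))
      rw [hf] at hm hm' hxc
      simp only [Set.mem_insert_iff, Set.mem_singleton_iff] at hm hm' hxc
      rcases hm with e | e <;> rcases hm' with e' | e' <;> rcases hxc with e'' | e'' <;> simp_all
    let S : Subgroup PG := stabilizer PG x ⊓ stabilizer PG x'
    haveI : IsCyclic S := hT.cyc x S (fun g hg => hg.1) fun g hg e =>
      hne (hT.eq_of_fix e hg.1 hg.2)
    have hcy : c * y = y * c :=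
      congrArg Subtype.val (IsCyclic.commGroup.mul_comm
        (⟨c, ⟨hfix c (hle hc), hx'⟩⟩ : S) ⟨y, ⟨hyx, hyx'⟩⟩)
    rw [← hcy, mul_inv_cancel_right] at hyc
    have : c ^ 2 = 1 := by rw [pow_two]; nth_rewrite 1 [hyc]; exact inv_mul_cancel c
    have := le_of_pow (by norm_num) this
    omega
  · obtain ⟨e⟩ := h
    have hn3 : n = 3 := by
      rcases alt4_inv (e ⟨c, hle hc⟩) with h | h <;>
        (have := le_of_pow (by norm_num) h; rw [horder e] at this; omega)
    have h1 := alt4_no_six (e ⟨c, hle hc⟩) (e ⟨y, hle hy⟩)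
      (by rw [← hn3, ← horder e, pow_orderOf_eq_one])
      (by rw [← map_inv, ← map_inv, ← map_mul, ← map_mul]; exact congrArg e (Subtype.ext hyc))
    have := horder e
    rw [h1, orderOf_one] at this
    omega
  · obtain ⟨e⟩ := h
    have hn4 : n ≤ 4 := by
      rcases sym4_exp (e ⟨c, hle hc⟩) with h | h | h <;>
        (have := le_of_pow (by norm_num) h; rw [horder e] at this; omega)
    have h24 : Nat.card M = 24 := by
      rw [Nat.card_congr e.toEquiv, Nat.card_perm, Nat.card_fin]; rfl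
    have := M.card_subgroup_dvd_card
    rw [h24, (hsmall (by omega)).2] at this
    norm_num at this
  · obtain ⟨e⟩ := h
    refine hfull (by rw [Nat.card_congr e.toEquiv, nat_card_alternatingGroup, Nat.card_fin]; rfl) ?_
    rcases alt5_exp (e ⟨c, hle hc⟩) with h | h | h <;>
      (have := le_of_pow (by norm_num) h; rw [horder e] at this; omega)
  · obtain ⟨hm2, hcard⟩ := DicksonCor.subfield_bound M hMt K m hm h
    set k := Fintype.card K with hk'
    have hk2 : 2 ≤ k := Fintype.one_lt_card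
    have hkq : k * k ≤ q := by
      rw [hq', ← hm, ← pow_two]; exact Nat.pow_le_pow_right (by omega) hm2
    have hnk : n ≤ k + 1 := by
      rcases h with ⟨⟨e⟩⟩ | ⟨⟨e⟩⟩
      · rw [← horder e]; exact orderOf_psl_le _
      · rw [← horder e]; exact orderOf_pgl_le _
    have h1 : n * d ≤ (k + 1) * 2 := Nat.mul_le_mul hnk hd2
    have hk3 : k ≤ 3 := by
      by_contra hk
      have : 4 * k ≤ k * k := Nat.mul_le_mul_right k (by omega)
      omega
    interval_cases k
    · omega
    · have h9 : q = 3 ^ m := hm.symm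
      have : m ≤ 2 := by
        by_contra h'
        have : 3 ^ 3 ≤ 3 ^ m := Nat.pow_le_pow_right (by norm_num) (by omega)
        omega
      obtain rfl : m = 2 := by omega
      exact hq9 (h9.trans rfl)

end Cfsg.Agent.Forms.DicksonDihedral
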