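import Mathlib
import Cfsg.Agent.Lib.Forms.Spinor
import Cfsg.Prelude.Def_ClassicalGeometry

/-!
The special orthogonal group as generated by pairs of reflections, its index-two subgroup,
`Ω` in characteristic two, and when `-1` lies in `Ω`.
-/

set_option autoImplicit false

namespace Cfsg.Agent.Forms.SpecialOrth

open Matrix Cfsg.Agent.Forms.QuadStd Cfsg.Agent.Forms.Reflections Cfsg.Agent.Forms.Spinor

variable {F : Type*} [Field F] {ι : Type} [Fintype ι] [DecidableEq ι]
variable {Q : QuadraticForm F (ι → F)}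

theorem inv_reflect (v : ι → F) : (reflect Q v)⁻¹ = reflect Q v :=
  inv_eq_of_mul_eq_one_right (reflect_sq v)

theorem det_reflect {v : ι → F} (hv : Q v ≠ 0) :
    ((reflect Q v : Matrix.GeneralLinearGroup ι F) : Matrix ι ι F).det = -1 :=
  reflection_det Q hv

theorem det_mul_iso (g h : Cfsg.isometryGroup F ⇑Q) :
    (((g * h : Cfsg.isometryGroup F ⇑Q) : Matrix.GeneralLinearGroup ι F) : Matrix ι ι F).det =
      ((g : Matrix.GeneralLinearGroup ι F) : Matrix ι ι F).det *
      ((h : Matrix.GeneralLinearGroup ι F) : Matrix ι ι F).det := by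
  rw [← Matrix.det_mul]; rfl

theorem mem_special {g : Cfsg.isometryGroup F ⇑Q} :
    g ∈ Cfsg.specialIsometryGroup F ⇑Q ↔
      ((g : Matrix.GeneralLinearGroup ι F) : Matrix ι ι F).det = 1 := by
  rw [Cfsg.specialIsometryGroup, MonoidHom.mem_ker]
  exact ⟨fun h => congrArg Units.val h, fun h => Units.ext h⟩

/-- The subgroup generated by products of two reflections. -/
noncomputable def pairGroup (Q : QuadraticForm F (ι → F)) : Subgroup (Cfsg.isometryGroup F ⇑Q) :=
  Subgroup.closure {g | ∃ u v, Q u ≠ 0 ∧ Q v ≠ 0 ∧ g = reflect Q u * reflect Q v}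

theorem pairGroup_le : pairGroup Q ≤ Cfsg.specialIsometryGroup F ⇑Q := by
  refine (Subgroup.closure_le _).2 ?_
  rintro _ ⟨u, v, hu, hv, rfl⟩
  refine mem_special.2 ?_
  rw [det_mul_iso, det_reflect hu, det_reflect hv, neg_one_mul, neg_neg]

variable [Fintype F] (hQ : (QuadraticMap.polarBilin Q).Nondegenerate)
include hQ

theorem special_eq (h : Fintype.card F ≠ 2 ∨ Fintype.card ι ≠ 4) (h2 : (2 : F) ≠ 0) :
    Cfsg.specialIsometryGroup F ⇑Q = pairGroup Q := by
  refine le_antisymm (fun g hg => ?_) pairGroup_le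
  by_cases hex : ∃ r, Q r ≠ 0
  swap
  · push Not at hex
    have : ∀ x : ι → F, x = 0 := fun x => hQ.1 x fun y => by simp [QuadraticMap.polar, hex]
    have hg1 : g = 1 := iso_ext fun x => (this _).trans (this _).symm
    rw [hg1]; exact one_mem _
  obtain ⟨r, hr⟩ := hex
  have key : ∀ g ∈ refGroup Q, g ∈ pairGroup Q ∨ reflect Q r * g ∈ pairGroup Q := by
    intro g hg
    induction hg using Subgroup.closure_induction_left with
    | one => exact Or.inl (one_mem _)
    | mul_left x hx y _ ih =>
      obtain ⟨v, hv, rfl⟩ := hx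
      rcases ih with h | h
      · right
        rw [← mul_assoc]
        exact mul_mem (Subgroup.subset_closure ⟨r, v, hr, hv, rfl⟩) h
      · left
        have := mul_mem (Subgroup.subset_closure ⟨v, r, hv, hr, rfl⟩ : _ ∈ pairGroup Q) h
        rwa [mul_assoc, ← mul_assoc (reflect Q r), reflect_sq, one_mul] at this
    | inv_mul_cancel x hx y _ ih =>
      obtain ⟨v, hv, rfl⟩ := hx
      rw [inv_reflect]
      rcases ih with h | h
      · right
        rw [← mul_assoc]
        exact mul_mem (Subgroup.subset_closure ⟨r, v, hr, hv, rfl⟩) h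
      · left
        have := mul_mem (Subgroup.subset_closure ⟨v, r, hv, hr, rfl⟩ : _ ∈ pairGroup Q) h
        rwa [mul_assoc, ← mul_assoc (reflect Q r), reflect_sq, one_mul] at this
  refine (key g (refGroup_eq_top hQ h ▸ Subgroup.mem_top g)).resolve_right fun hh => h2 ?_
  have h1 := mem_special.1 (pairGroup_le hh)
  rw [det_mul_iso, det_reflect hr, mem_special.1 hg] at h1
  linear_combination -h1

/-- `Ω` has index two in characteristic two. -/
theorem omega_index_two [CharP F 2] (h : Fintype.card F ≠ 2 ∨ Fintype.card ι ≠ 4)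
    (hn : 1 ≤ Fintype.card ι) : (Cfsg.Omega F ⇑Q).index = 2 := by
  obtain ⟨r, hr⟩ : ∃ r, Q r ≠ 0 := by
    by_contra hex
    push Not at hex
    have : Subsingleton (ι → F) := ⟨fun x y => by
      rw [hQ.1 x fun z => by simp [QuadraticMap.polar, hex],
        hQ.1 y fun z => by simp [QuadraticMap.polar, hex]]⟩
    have hne : Nonempty ι := Fintype.card_pos_iff.1 hn
    obtain ⟨i⟩ := hne
    exact one_ne_zero (congrFun (Subsingleton.elim (fun _ : ι => (1 : F)) 0) i)
  let φ : Cfsg.isometryGroup F ⇑Q →* ℤˣ := MonoidHom.mk' par (par_mul_all hQ h)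
  have hφr : φ (reflect Q r) = -1 := by
    have h1 := par_reflect_mul hQ hr (1 : Cfsg.isometryGroup F ⇑Q)
    rwa [mul_one, par_one] at h1
  have hsurj : Function.Surjective φ := fun x => by
    rcases Int.units_eq_one_or x with rfl | rfl
    exacts [⟨1, map_one _⟩, ⟨_, hφr⟩]
  have hker : φ.ker = Cfsg.Omega F ⇑Q := by
    refine le_antisymm (fun g hg => ?_) (Abelianization.commutator_subset_ker _)
    set π := Abelianization.of (G := Cfsg.isometryGroup F ⇑Q)
    have hgen : π g ∈ Subgroup.closure ({π (reflect Q r)} : Set _) := by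
      have hle : refGroup Q ≤ (Subgroup.closure ({π (reflect Q r)} : Set _)).comap π := by
        refine (Subgroup.closure_le _).2 ?_
        rintro _ ⟨v, hv, rfl⟩
        obtain ⟨w, hw⟩ := exists_conj_char_two hQ hr hv
        refine Subgroup.subset_closure ?_
        rw [Set.mem_singleton_iff, hw, map_mul, map_mul, map_inv, mul_inv_cancel_comm]
      exact hle (refGroup_eq_top hQ h ▸ Subgroup.mem_top g)
    obtain ⟨i, hi⟩ := Subgroup.mem_closure_singleton.1 hgen
    have hsq : π (reflect Q r) ^ (2 : ℤ) = 1 := by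
      rw [zpow_ofNat, sq, ← map_mul, reflect_sq, map_one]
    have h0 := congrArg (Abelianization.lift φ) hi
    rw [map_zpow, Abelianization.lift_apply_of, Abelianization.lift_apply_of, hφr,
      MonoidHom.mem_ker.1 hg, ← Int.emod_add_mul_ediv i 2, _root_.zpow_add, _root_.zpow_mul] at h0
    rw [← Int.emod_add_mul_ediv i 2, _root_.zpow_add, _root_.zpow_mul, hsq, _root_.one_zpow,
      mul_one] at hi
    rcases Int.emod_two_eq_zero_or_one i with he | he
    · rw [he, zpow_zero] at hi
      exact (QuotientGroup.eq_one_iff g).1 hi.symm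
    · rw [he] at h0
      simp at h0
  rw [← hker, Subgroup.index_ker, MonoidHom.range_eq_top.2 hsurj, Subgroup.card_top,
    Nat.card_eq_fintype_card]
  rfl

/-- The special isometry group has exactly one subgroup of index two. -/
theorem existsUnique_index_two (h : Fintype.card F ≠ 2 ∨ Fintype.card ι ≠ 4)
    (hn : 2 ≤ Fintype.card ι) :
    ∃! H : Subgroup ↥(Cfsg.specialIsometryGroup F ⇑Q), H.index = 2 := by
  classical
  by_cases h2 : (2 : F) = 0
  · have : CharP F 2 := CharTwo.of_one_ne_zero_of_two_eq_zero one_ne_zero h2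
    have htop : Cfsg.specialIsometryGroup F ⇑Q = ⊤ := eq_top_iff.2 fun g _ => mem_special.2 (by
      rcases det_iso_sq Q hQ g with hd | hd
      · exact hd
      · rw [hd, CharTwo.neg_eq])
    set O2 := (Cfsg.Omega F ⇑Q).subgroupOf (Cfsg.specialIsometryGroup F ⇑Q) with hO2
    have hidx : O2.index = 2 := by
      rw [hO2, ← Subgroup.relIndex, htop, Subgroup.relIndex_top_right]
      exact omega_index_two hQ h (by omega)
    refine ⟨O2, hidx, fun H hH => ?_⟩
    have hle : O2 ≤ H := by
      intro x hx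
      have hn' : H.Normal := Subgroup.normal_of_index_eq_two hH
      have hx' : (x : Cfsg.isometryGroup F ⇑Q) ∈ (H.map (Subgroup.subtype _)) := by
        have hm : (H.map (Subgroup.subtype (Cfsg.specialIsometryGroup F ⇑Q))).index = 2 := by
          rw [Subgroup.index_map_of_injective _ (Subgroup.subtype_injective _), hH]
          rw [(Subgroup.subtype _).range_eq_top.2 (fun g => ⟨⟨g, htop ▸ Subgroup.mem_top g⟩, rfl⟩),
            Subgroup.index_top]
        have hn2 : (H.map (Subgroup.subtype (Cfsg.specialIsometryGroup F ⇑Q))).Normal :=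
          Subgroup.normal_of_index_eq_two hm
        haveI := hn2
        have hc : Cfsg.Omega F ⇑Q ≤ H.map (Subgroup.subtype _) := by
          rw [Cfsg.Omega, commutator_eq_closure, Subgroup.closure_le]
          rintro _ ⟨a, b, rfl⟩
          rw [SetLike.mem_coe, ← QuotientGroup.eq_one_iff, ← QuotientGroup.mk'_apply,
            map_commutatorElement, commutatorElement_eq_one_iff_commute]
          have hcard : Nat.card (Cfsg.isometryGroup F ⇑Q ⧸ H.map (Subgroup.subtype _)) = 2 := hm
          haveI : Fact (Nat.Prime 2) := ⟨Nat.prime_two⟩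
          haveI := isCyclic_of_prime_card hcard
          exact IsMulCommutative.is_comm.comm _ _
        exact hc hx
      obtain ⟨y, hy, hyx⟩ := Subgroup.mem_map.1 hx'
      exact Subtype.ext hyx ▸ hy
    have h1 := Subgroup.relIndex_mul_index hle
    rw [hidx, hH] at h1
    have h3 : O2.relIndex H = 1 := by omega
    exact le_antisymm (Subgroup.relIndex_eq_one.1 h3) hle
  · obtain ⟨a, b, ha, hb, hbsq⟩ := exists_two_classes hQ h2 hn
    have ha' : Q a ≠ 0 := by rw [ha]; exact one_ne_zero
    set S := Cfsg.specialIsometryGroup F ⇑Q with hS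
    set σ := (spin Q 1).comp S.subtype with hσ
    have hmem : ∀ {u v : ι → F}, Q u ≠ 0 → Q v ≠ 0 → reflect Q u * reflect Q v ∈ S := fun {u v} hu hv =>
      pairGroup_le (Subgroup.subset_closure ⟨u, v, hu, hv, rfl⟩)
    set τ : S := ⟨_, hmem ha' hb⟩ with hτ
    have hspin : ∀ {v : ι → F}, Q v ≠ 0 →
        spin Q 1 (reflect Q v) = if IsSquare (Q v) then -1 else 1 := fun {v} hv =>
      congrArg Prod.snd (pairHom_reflect hQ h2 hv)
    have hστ : σ τ = -1 := by
      show spin Q 1 (reflect Q a * reflect Q b) = -1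
      rw [map_mul, hspin ha', hspin hb, if_pos (by rw [ha]; exact IsSquare.one), if_neg hbsq,
        mul_one]
    have hsurj : Function.Surjective σ := fun x => by
      rcases Int.units_eq_one_or x with rfl | rfl
      exacts [⟨1, map_one _⟩, ⟨τ, hστ⟩]
    have hidx : σ.ker.index = 2 := by
      rw [Subgroup.index_ker, MonoidHom.range_eq_top.2 hsurj, Subgroup.card_top,
        Nat.card_eq_fintype_card]
      rfl
    refine ⟨σ.ker, hidx, fun H hH => ?_⟩
    have hsame : ∀ {u v : ι → F} (hu : Q u ≠ 0) (hv : Q v ≠ 0), IsSquare (Q u / Q v) →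
        (⟨_, hmem hu hv⟩ : S) ∈ H := by
      intro u v hu hv hsq
      obtain ⟨w, hw, he⟩ := exists_reflect_conj h2 hu hv hsq
      have heq : (⟨_, hmem hu hv⟩ : S) = ⟨_, hmem hu hw⟩ * ⟨_, hmem hu hw⟩ :=
        Subtype.ext (by
          show reflect Q u * reflect Q v = reflect Q u * reflect Q w * (reflect Q u * reflect Q w)
          rw [he]; simp only [mul_assoc])
      rw [heq]
      exact Subgroup.mul_self_mem_of_index_two hH _
    have hclass : ∀ {v : ι → F}, Q v ≠ 0 →
        (IsSquare (Q v) → IsSquare (Q a / Q v) ∧ IsSquare (Q v / Q a)) ∧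
        (¬ IsSquare (Q v) → IsSquare (Q b / Q v) ∧ IsSquare (Q v / Q b)) := by
      intro v hv
      refine ⟨fun ⟨r, hr⟩ => ?_, fun hns => ?_⟩
      · rw [ha]; exact ⟨⟨r⁻¹, by rw [hr, one_div, mul_inv]⟩, ⟨r, by rw [hr, div_one]⟩⟩
      · obtain ⟨r, hr⟩ := Bases.isSquare_mul_of_not hbsq hns
        exact ⟨⟨r / Q v, by field_simp; linear_combination hr⟩,
          ⟨r / Q b, by field_simp; linear_combination hr⟩⟩
    have hprod : ∀ {u v w : ι → F} (hu : Q u ≠ 0) (hv : Q v ≠ 0) (hw : Q w ≠ 0),
        (⟨_, hmem hu hv⟩ : S) = ⟨_, hmem hu hw⟩ * ⟨_, hmem hw hv⟩ := fun {u v w} hu hv hw =>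
      Subtype.ext (by
        show reflect Q u * reflect Q v = reflect Q u * reflect Q w * (reflect Q w * reflect Q v)
        rw [mul_assoc, ← mul_assoc (reflect Q w), reflect_sq, one_mul])
    have hτH : τ ∉ H := by
      intro hτH
      have hall : ∀ {u v : ι → F} (hu : Q u ≠ 0) (hv : Q v ≠ 0), (⟨_, hmem hu hv⟩ : S) ∈ H := by
        have hτ' : (⟨_, hmem hb ha'⟩ : S) ∈ H := by
          have : (⟨_, hmem hb ha'⟩ : S) = τ⁻¹ := eq_inv_of_mul_eq_one_left (Subtype.ext (by
            show reflect Q b * reflect Q a * (reflect Q a * reflect Q b) = 1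
            rw [mul_assoc, ← mul_assoc (reflect Q a), reflect_sq, one_mul, reflect_sq]))
          rw [this]; exact H.inv_mem hτH
        have htoA : ∀ {u : ι → F} (hu : Q u ≠ 0),
            (⟨_, hmem hu ha'⟩ : S) ∈ H ∧ (⟨_, hmem ha' hu⟩ : S) ∈ H := by
          intro u hu
          by_cases hsq : IsSquare (Q u)
          · exact ⟨hsame hu ha' ((hclass hu).1 hsq).2, hsame ha' hu ((hclass hu).1 hsq).1⟩
          · refine ⟨?_, ?_⟩
            · rw [hprod hu ha' hb]; exact H.mul_mem (hsame hu hb ((hclass hu).2 hsq).2) hτ'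
            · rw [hprod ha' hu hb]; exact H.mul_mem hτH (hsame hb hu ((hclass hu).2 hsq).1)
        intro u v hu hv
        rw [hprod hu hv ha']
        exact H.mul_mem (htoA hu).1 (htoA hv).2
      have htop : H = ⊤ := by
        refine eq_top_iff.2 fun x _ => ?_
        have hx : (x : Cfsg.isometryGroup F ⇑Q) ∈ pairGroup Q := special_eq hQ h h2 ▸ x.2
        have : pairGroup Q ≤ H.map S.subtype := by
          refine (Subgroup.closure_le _).2 ?_
          rintro _ ⟨u, v, hu, hv, rfl⟩
          exact ⟨_, hall hu hv, rfl⟩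
        obtain ⟨y, hy, hyx⟩ := Subgroup.mem_map.1 (this hx)
        exact Subtype.ext hyx ▸ hy
      rw [htop, Subgroup.index_top] at hH
      omega
    have hrule : ∀ {u v : ι → F} (hu : Q u ≠ 0) (hv : Q v ≠ 0),
        ((⟨_, hmem hu hv⟩ : S) ∈ H ↔ σ ⟨_, hmem hu hv⟩ = 1) := by
      intro u v hu hv
      have hσuv : σ ⟨_, hmem hu hv⟩ = (if IsSquare (Q u) then -1 else 1) *
          (if IsSquare (Q v) then -1 else 1) := by
        show spin Q 1 (reflect Q u * reflect Q v) = _
        rw [map_mul, hspin hu, hspin hv]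
      by_cases h1 : IsSquare (Q u) <;> by_cases h3 : IsSquare (Q v)
      · simp only [hσuv, h1, h3, if_true]
        refine iff_of_true ?_ (by norm_num)
        rw [hprod hu hv ha']
        exact H.mul_mem (hsame hu ha' ((hclass hu).1 h1).2) (hsame ha' hv ((hclass hv).1 h3).1)
      · simp only [hσuv, h1, h3, if_true, if_false]
        refine iff_of_false (fun hh => hτH ?_) (by decide)
        have : τ = ⟨_, hmem ha' hu⟩ * ⟨_, hmem hu hv⟩ * ⟨_, hmem hv hb⟩ := by
          rw [← hprod ha' hv hu, ← hprod ha' hb hv]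
        rw [this]
        exact H.mul_mem (H.mul_mem (hsame ha' hu ((hclass hu).1 h1).1) hh)
          (hsame hv hb ((hclass hv).2 h3).2)
      · simp only [hσuv, h1, h3, if_true, if_false]
        refine iff_of_false (fun hh => hτH ?_) (by decide)
        have : τ = ⟨_, hmem ha' hv⟩ * (⟨_, hmem hu hv⟩ : S)⁻¹ * ⟨_, hmem hu hb⟩ := by
          have e : (⟨_, hmem hu hv⟩ : S)⁻¹ = ⟨_, hmem hv hu⟩ := (eq_inv_of_mul_eq_one_left
            (Subtype.ext (by
              show reflect Q v * reflect Q u * (reflect Q u * reflect Q v) = 1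
              rw [mul_assoc, ← mul_assoc (reflect Q u), reflect_sq, one_mul, reflect_sq]))).symm
          rw [e, ← hprod ha' hu hv, ← hprod ha' hb hu]
        rw [this]
        exact H.mul_mem (H.mul_mem (hsame ha' hv ((hclass hv).1 h3).1) (H.inv_mem hh))
          (hsame hu hb ((hclass hu).2 h1).2)
      · simp only [hσuv, h1, h3, if_false]
        refine iff_of_true ?_ (by norm_num)
        rw [hprod hu hv hb]
        exact H.mul_mem (hsame hu hb ((hclass hu).2 h1).2) (hsame hb hv ((hclass hv).2 h3).1)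
    ext x
    have hx : (x : Cfsg.isometryGroup F ⇑Q) ∈ pairGroup Q := special_eq hQ h h2 ▸ x.2
    suffices hall : ∀ g (hg : g ∈ pairGroup Q),
        ((⟨g, pairGroup_le hg⟩ : S) ∈ H ↔ σ ⟨g, pairGroup_le hg⟩ = 1) from hall x.1 hx
    intro g hg
    induction hg using Subgroup.closure_induction with
    | mem y hy => obtain ⟨u, v, hu, hv, rfl⟩ := hy; exact hrule hu hv
    | one =>
      exact iff_of_true H.one_mem (map_one σ)
    | mul y z hy hz ihy ihz =>
      have e : (⟨y * z, pairGroup_le (mul_mem hy hz)⟩ : S) =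
          ⟨y, pairGroup_le hy⟩ * ⟨z, pairGroup_le hz⟩ := rfl
      rw [e, Subgroup.mul_mem_iff_of_index_two hH, map_mul, ihy, ihz]
      rcases Int.units_eq_one_or (σ ⟨y, pairGroup_le hy⟩) with h1 | h1 <;>
        rcases Int.units_eq_one_or (σ ⟨z, pairGroup_le hz⟩) with h3 | h3 <;> rw [h1, h3] <;> decide
    | inv y hy ihy =>
      have e : (⟨y⁻¹, pairGroup_le (inv_mem hy)⟩ : S) = (⟨y, pairGroup_le hy⟩ : S)⁻¹ := rfl
      rw [e, inv_mem_iff, ihy, map_inv, inv_eq_one]

/-- When `-1` lies in `Ω` (odd characteristic, even dimension). -/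
theorem neg_one_mem_omega_iff (h2 : (2 : F) ≠ 0) (hn : 2 ≤ Fintype.card ι)
    (heven : Even (Fintype.card ι)) :
    (∃ g : Cfsg.isometryGroup F ⇑Q, g ∈ Cfsg.Omega F ⇑Q ∧
      ((g : Matrix.GeneralLinearGroup ι F) : Matrix ι ι F) = -1) ↔
      IsSquare (Disc.gram (polB Q) (Pi.basisFun F ι)).det := by
  classical
  obtain ⟨α, hα⟩ := FiniteField.exists_nonsquare (F := F) (fun h => h2 (by
    have : CharP F 2 := h ▸ ringChar.charP F
    exact CharTwo.two_eq_zero))
  have hα0 : α ≠ 0 := fun h => hα (h ▸ ⟨0, by simp⟩)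
  have hS : (polB Q).IsSymm := ⟨fun u v => QuadraticMap.polar_comm _ u v⟩
  obtain ⟨k, hk⟩ : ∃ k, Fintype.card ι = k + 1 := ⟨Fintype.card ι - 1, by omega⟩
  obtain ⟨v, -, hvo, hv1, hvl⟩ := Bases.exists_symm_normal h2 (polB Q) hS α hα ⊤
    (Bases.nondegOn_top hQ.1) (by rw [finrank_top, Module.finrank_pi]; exact hk)
  set c := polB Q (v (Fin.last k)) (v (Fin.last k)) with hc
  have hc0 : c ≠ 0 := by rcases hvl with h | h <;> rw [h] <;> simp [hα0]
  obtain ⟨bv, hbv, hbd⟩ := Disc.exists_diag_basis (polB Q) v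
    (by rw [Module.finrank_pi]; exact hk) hvo hv1 hc0
  have hdisc : IsSquare (Disc.gram (polB Q) (Pi.basisFun F ι)).det ↔ IsSquare c := by
    obtain ⟨d, hd0, hd⟩ := Disc.det_gram_change (polB Q) bv (Pi.basisFun F ι)
    rw [hd, hbd]
    constructor
    · rintro ⟨r, hr⟩; exact ⟨r / d, by field_simp; linear_combination hr⟩
    · rintro ⟨r, hr⟩; exact ⟨d * r, by rw [← hc, hr]; ring⟩
  have hQv : ∀ i, 2 * Q (v i) = polB Q (v i) (v i) := fun i => by
    rw [polB_apply, QuadraticMap.polar_self, two_nsmul, two_mul]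
  have hQ0 : ∀ i, Q (v i) ≠ 0 := fun i h => by
    have := hQv i
    rw [h, mul_zero] at this
    by_cases hi : i = Fin.last k
    · exact hc0 (by rw [hc, ← hi, ← this])
    · exact one_ne_zero ((hv1 i hi).symm.trans this.symm)
  have hP : ∀ j, j ≤ k + 1 → ∃ P : Cfsg.isometryGroup F ⇑Q,
      (∀ i : Fin (k + 1), act P (v i) = if (i : ℕ) < j then -v i else v i) ∧
      spin Q 1 P = ∏ i ∈ Finset.univ.filter (fun i : Fin (k + 1) => (i : ℕ) < j),
        spin Q 1 (reflect Q (v i)) := by
    intro j
    induction j with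
    | zero => exact fun _ => ⟨1, fun i => by simp [act_one], by simp⟩
    | succ j ih =>
      intro hj
      obtain ⟨P, hP, hPs⟩ := ih (by omega)
      set i₀ : Fin (k + 1) := ⟨j, by omega⟩ with hi₀
      refine ⟨reflect Q (v i₀) * P, fun i => ?_, ?_⟩
      · rw [act_mul, hP i]
        rcases lt_trichotomy (i : ℕ) j with hlt | heq | hgt
        · rw [if_pos hlt, if_pos (by omega), map_neg, act_reflect,
            show QuadraticMap.polar Q (v i₀) (v i) = 0 from hvo i₀ i (fun h => by
              rw [← h, hi₀] at hlt; simp at hlt)]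
          simp
        · have hii : i = i₀ := Fin.ext (by simp [hi₀, heq])
          subst hii
          rw [if_neg (by omega), if_pos (by omega), act_apply]
          exact reflection_self Q (hQ0 _)
        · rw [if_neg (by omega), if_neg (by omega), act_reflect,
            show QuadraticMap.polar Q (v i₀) (v i) = 0 from hvo i₀ i (fun h => by
              rw [← h, hi₀] at hgt; simp at hgt)]
          simp
      · have hins : Finset.univ.filter (fun i : Fin (k + 1) => (i : ℕ) < j + 1) =
            insert i₀ (Finset.univ.filter (fun i : Fin (k + 1) => (i : ℕ) < j)) := by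
          ext i; simp [hi₀, Fin.ext_iff]; omega
        rw [map_mul, hins, Finset.prod_insert (by simp [hi₀]), hPs]
  obtain ⟨P, hPa, hPs⟩ := hP (k + 1) le_rfl
  have hPneg : ((P : Matrix.GeneralLinearGroup ι F) : Matrix ι ι F) = -1 := by
    have hlin : act P = -LinearMap.id := bv.ext fun i => by
      rw [hbv, hPa i, if_pos i.2]; simp
    refine Matrix.ext_iff_mulVec.2 fun x => ?_
    rw [← act_apply, hlin]
    simp [Matrix.neg_mulVec]
  have hspinv : ∀ i, spin Q 1 (reflect Q (v i)) =
      if IsSquare (2 / polB Q (v i) (v i)) then -1 else 1 := fun i => by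
    rw [spin_reflect h2 one_ne_zero (hQ0 i), ← hQv i]
    have : (1 : F) / Q (v i) = 2 / (2 * Q (v i)) := by field_simp
    rw [this]
  have hk' : Odd k := by
    rw [hk] at heven
    simpa [Nat.even_add_one] using heven
  have hspinP : spin Q 1 P = 1 ↔ IsSquare c := by
    rw [hPs, show Finset.univ.filter (fun i : Fin (k + 1) => (i : ℕ) < k + 1) = Finset.univ from
      Finset.filter_true_of_mem fun i _ => i.2, Fin.prod_univ_castSucc]
    simp only [hspinv, hv1 _ (Fin.castSucc_ne_last _), div_one, Finset.prod_const, Finset.card_univ,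
      Fintype.card_fin, ← hc]
    have hiff : IsSquare (2 / c) ↔ (IsSquare (2 : F) ↔ IsSquare c) := by
      constructor
      · rintro ⟨r, hr⟩
        have hr0 : r ≠ 0 := fun h => div_ne_zero h2 hc0 (by rw [hr, h, mul_zero])
        have e : (2 : F) = r * r * c := by rw [← hr, div_mul_cancel₀ _ hc0]
        constructor
        · rintro ⟨s, hs⟩; exact ⟨s / r, by field_simp; linear_combination hs - e⟩
        · rintro ⟨s, hs⟩; exact ⟨r * s, by rw [e, hs]; ring⟩
      · intro hh
        by_cases hc' : IsSquare c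
        · obtain ⟨s, hs⟩ := hh.2 hc'
          obtain ⟨t, ht⟩ := hc'
          have : t ≠ 0 := fun h => hc0 (by rw [ht, h, mul_zero])
          exact ⟨s / t, by rw [hs, ht]; field_simp⟩
        · obtain ⟨r, hr⟩ := Bases.isSquare_mul_of_not (mt hh.1 hc') hc'
          exact ⟨r / c, by field_simp; linear_combination hr⟩
    simp only [hiff]
    by_cases hA : IsSquare (2 : F) <;> by_cases hB : IsSquare c <;>
      simp [hA, hB, hk'.neg_one_pow]
  have hparP : par P = 1 := by
    have hfix : fixSp P = ⊥ := by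
      rw [eq_bot_iff]
      intro x hx
      have := mem_fixSp.1 hx
      rw [act_apply, hPneg, Matrix.neg_mulVec, Matrix.one_mulVec, neg_eq_iff_add_eq_zero,
        ← two_smul F, smul_eq_zero] at this
      exact (Submodule.mem_bot F).2 (this.resolve_left h2)
    rw [par, hfix, finrank_bot, zero_add]
    exact heven.neg_one_pow
  rw [hdisc, ← hspinP, ← ker_pairHom hQ h2 hn]
  constructor
  · rintro ⟨g, hg, hgneg⟩
    have : g = P := Subtype.ext (Units.ext (hgneg.trans hPneg.symm))
    subst this
    exact congrArg Prod.snd (MonoidHom.mem_ker.1 hg)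
  · intro hs
    exact ⟨P, MonoidHom.mem_ker.2 (Prod.ext hparP hs), hPneg⟩

end Cfsg.Agent.Forms.SpecialOrth
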