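import Mathlib
import Cfsg.Agent.Lib.Forms.Reflections
import Cfsg.Agent.Lib.Forms.PlusStd

/-!
Transport of isometry groups along field isomorphisms, and symmetric groups inside isometry groups.
-/

set_option autoImplicit false

namespace Cfsg.Agent.Forms.SmallPerm

open Matrix Cfsg.Agent.Forms.QuadStd Cfsg.Agent.Forms.Reflections

section transport

variable {F K : Type*} [Field F] [Field K] {ι : Type} [Fintype ι] [DecidableEq ι]

/-- `GL` along a field isomorphism -/
noncomputable def glCongr (e : F ≃+* K) :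
    Matrix.GeneralLinearGroup ι F ≃* Matrix.GeneralLinearGroup ι K :=
  Units.mapEquiv e.mapMatrix.toMulEquiv

theorem coe_glCongr (e : F ≃+* K) (g : Matrix.GeneralLinearGroup ι F) :
    (glCongr e g : Matrix ι ι K) = (g : Matrix ι ι F).map e := rfl

theorem glCongr_mulVec (e : F ≃+* K) (g : Matrix.GeneralLinearGroup ι F) (v : ι → F) :
    (glCongr e g : Matrix ι ι K) *ᵥ (e ∘ v) = e ∘ ((g : Matrix ι ι F) *ᵥ v) := by
  funext i
  exact (RingHom.map_mulVec e.toRingHom _ _ i).symm

theorem glCongr_mem (e : F ≃+* K) {Q : (ι → F) → F} {Q' : (ι → K) → K}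
    (h : ∀ v, e (Q v) = Q' (e ∘ v)) (g : Matrix.GeneralLinearGroup ι F) :
    glCongr e g ∈ Cfsg.isometryGroup K Q' ↔ g ∈ Cfsg.isometryGroup F Q := by
  rw [mem_isometry_iff, mem_isometry_iff]
  constructor
  · intro hg v
    apply e.injective
    rw [h, h, ← glCongr_mulVec, hg]
  · intro hg w
    have hw : e ∘ (e.symm ∘ w) = w := funext fun i => e.apply_symm_apply (w i)
    rw [← hw, glCongr_mulVec, ← h, ← h, hg]

theorem map_isometry (e : F ≃+* K) {Q : (ι → F) → F} {Q' : (ι → K) → K}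
    (h : ∀ v, e (Q v) = Q' (e ∘ v)) :
    (Cfsg.isometryGroup F Q).map (glCongr (ι := ι) e).toMonoidHom = Cfsg.isometryGroup K Q' := by
  ext g
  rw [Subgroup.mem_map_equiv, ← glCongr_mem e h]
  simp

/-- isometry groups along a field isomorphism -/
noncomputable def isoCongr (e : F ≃+* K) {Q : (ι → F) → F} {Q' : (ι → K) → K}
    (h : ∀ v, e (Q v) = Q' (e ∘ v)) : Cfsg.isometryGroup F Q ≃* Cfsg.isometryGroup K Q' :=
  ((glCongr e).subgroupMap _).trans (MulEquiv.subgroupCongr (map_isometry e h))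

theorem coe_isoCongr (e : F ≃+* K) {Q : (ι → F) → F} {Q' : (ι → K) → K}
    (h : ∀ v, e (Q v) = Q' (e ∘ v)) (g : Cfsg.isometryGroup F Q) :
    (isoCongr e h g : Matrix.GeneralLinearGroup ι K) = glCongr e g := rfl

theorem mem_special_iff {Q : (ι → F) → F} {g : Cfsg.isometryGroup F Q} :
    g ∈ Cfsg.specialIsometryGroup F Q ↔
      ((g : Matrix.GeneralLinearGroup ι F) : Matrix ι ι F).det = 1 := by
  rw [Cfsg.specialIsometryGroup, MonoidHom.mem_ker]
  exact ⟨fun h => congrArg Units.val h, fun h => Units.ext h⟩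

theorem map_special (e : F ≃+* K) {Q : (ι → F) → F} {Q' : (ι → K) → K}
    (h : ∀ v, e (Q v) = Q' (e ∘ v)) :
    (Cfsg.specialIsometryGroup F Q).map (isoCongr e h).toMonoidHom =
      Cfsg.specialIsometryGroup K Q' := by
  ext g
  obtain ⟨g, rfl⟩ := (isoCongr e h).surjective g
  rw [Subgroup.mem_map_equiv, MulEquiv.symm_apply_apply, mem_special_iff, mem_special_iff,
    coe_isoCongr, coe_glCongr]
  rw [show ((g : Matrix.GeneralLinearGroup ι F) : Matrix ι ι F).map e
      = e.toRingHom.mapMatrix ((g : Matrix.GeneralLinearGroup ι F) : Matrix ι ι F) from rfl,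
    ← RingHom.map_det]
  exact ⟨fun hg => by rw [hg, map_one], fun hg => e.injective (by rw [map_one]; exact hg)⟩

end transport

section permHom

variable {F : Type*} [Field F] {ι : Type} [Fintype ι] [DecidableEq ι]
variable {Q : QuadraticForm F (ι → F)}
variable {α β : Type*} [Fintype α] [DecidableEq α] [MulAction (Equiv.Perm α) β]

theorem iso_ext_span {d : β → ι → F} (hd : Submodule.span F (Set.range d) = ⊤)
    {g h : Cfsg.isometryGroup F ⇑Q} (hgh : ∀ x, act g (d x) = act h (d x)) : g = h := by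
  have : act g = act h := LinearMap.ext_on_range hd hgh
  exact iso_ext fun v => by rw [← act_apply, ← act_apply, this]

theorem exists_permHom (H : Subgroup (Cfsg.isometryGroup F ⇑Q)) (d : β → ι → F)
    (hd : Submodule.span F (Set.range d) = ⊤) (χ : Equiv.Perm α →* F)
    (hswap : ∀ i j : α, i ≠ j → ∃ g ∈ H,
      ∀ x, act g (d x) = χ (Equiv.swap i j) • d (Equiv.swap i j • x)) :
    ∃ f : Equiv.Perm α →* H, ∀ σ x,
      act (f σ : Cfsg.isometryGroup F ⇑Q) (d x) = χ σ • d (σ • x) := by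
  have ex : ∀ σ : Equiv.Perm α, ∃ g : H,
      ∀ x, act (g : Cfsg.isometryGroup F ⇑Q) (d x) = χ σ • d (σ • x) := by
    intro σ
    induction σ using Equiv.Perm.swap_induction_on with
    | one => exact ⟨1, fun x => by simp [act_one]⟩
    | swap_mul τ i j hij ih =>
      obtain ⟨g, hg, hgx⟩ := hswap i j hij
      obtain ⟨h, hh⟩ := ih
      refine ⟨⟨g, hg⟩ * h, fun x => ?_⟩
      rw [Subgroup.coe_mul, act_mul, hh, map_smul, hgx, smul_smul, ← mul_smul (Equiv.swap i j),
        mul_comm (χ τ), ← map_mul]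
  choose f hf using ex
  refine ⟨MonoidHom.mk' f fun σ τ => Subtype.ext (iso_ext_span hd fun x => ?_), hf⟩
  rw [hf, Subgroup.coe_mul, act_mul, hf, map_smul, hf, smul_smul, ← mul_smul σ τ, mul_comm (χ τ),
    ← map_mul]

theorem nonempty_permEquiv (H : Subgroup (Cfsg.isometryGroup F ⇑Q)) (d : β → ι → F)
    (hd : Submodule.span F (Set.range d) = ⊤) (χ : Equiv.Perm α →* F)
    (hswap : ∀ i j : α, i ≠ j → ∃ g ∈ H,
      ∀ x, act g (d x) = χ (Equiv.swap i j) • d (Equiv.swap i j • x))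
    (hinj : ∀ σ : Equiv.Perm α, (∀ x, χ σ • d (σ • x) = d x) → σ = 1)
    (hsurj : ∀ g ∈ H, ∃ σ : Equiv.Perm α, ∀ x, act g (d x) = χ σ • d (σ • x)) :
    Nonempty (H ≃* Equiv.Perm α) := by
  obtain ⟨f, hf⟩ := exists_permHom H d hd χ hswap
  refine ⟨(MulEquiv.ofBijective f ⟨?_, ?_⟩).symm⟩
  · rw [injective_iff_map_eq_one]
    intro σ hσ
    refine hinj σ fun x => ?_
    rw [← hf, hσ, Subgroup.coe_one, act_one]
  · rintro ⟨g, hg⟩
    obtain ⟨σ, hσ⟩ := hsurj g hg
    exact ⟨σ, Subtype.ext (iso_ext_span hd fun x => (hf σ x).trans (hσ x).symm)⟩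

end permHom

end Cfsg.Agent.Forms.SmallPerm
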