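import Mathlib
import Cfsg.Agent.Lib.Forms.SU32Data

/-!
# The forty points of `U₄(2)` and of `PSp₄(3)`
-/

set_option autoImplicit false
set_option maxRecDepth 100000
set_option synthInstance.maxSize 4096
set_option synthInstance.maxHeartbeats 200000

namespace Cfsg.Agent.Forms.U42

open SU32 (E4 o l w v mE)

/-- vectors over the field with four elements -/
abbrev U4 : Type := E4 × E4 × E4 × E4
/-- vectors over the field with three elements -/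
abbrev P4 : Type := ZMod 3 × ZMod 3 × ZMod 3 × ZMod 3
/-- matrices over the field with three elements -/
abbrev M4 : Type := P4 × P4 × P4 × P4

/-- scalar multiple -/
def scl (r : E4) (x : U4) : U4 := (mE r x.1, mE r x.2.1, mE r x.2.2.1, mE r x.2.2.2)

/-- the Hermitian form -/
def hH (x y : U4) : E4 :=
  mE x.1 (mE y.1 y.1) + mE x.2.1 (mE y.2.1 y.2.1) + mE x.2.2.1 (mE y.2.2.1 y.2.2.1) +
    mE x.2.2.2 (mE y.2.2.2 y.2.2.2)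

/-- the transvection -/
def tvU (t x : U4) : U4 := x + scl (hH x t) t

/-- dot product -/
def dot (x y : P4) : ZMod 3 := x.1 * y.1 + x.2.1 * y.2.1 + x.2.2.1 * y.2.2.1 + x.2.2.2 * y.2.2.2

/-- matrix times vector -/
def app (M : M4) (x : P4) : P4 := (dot M.1 x, dot M.2.1 x, dot M.2.2.1 x, dot M.2.2.2 x)

/-- the symplectic form -/
def fS (x y : P4) : ZMod 3 :=
  x.2.2.1 * y.1 - x.1 * y.2.2.1 + (x.2.2.2 * y.2.1 - x.2.1 * y.2.2.2)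

/-- the points off the Hermitian surface -/
def upts : List U4 :=
  [(o, o, o, l), (o, o, l, o), (o, l, o, o), (o, l, l, l),
    (o, l, l, w), (o, l, l, v), (o, l, w, l), (o, l, w, w),
    (o, l, w, v), (o, l, v, l), (o, l, v, w), (o, l, v, v),
    (l, o, o, o), (l, o, l, l), (l, o, l, w), (l, o, l, v),
    (l, o, w, l), (l, o, w, w), (l, o, w, v), (l, o, v, l),
    (l, o, v, w), (l, o, v, v), (l, l, o, l), (l, l, o, w),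
    (l, l, o, v), (l, l, l, o), (l, l, w, o), (l, l, v, o),
    (l, w, o, l), (l, w, o, w), (l, w, o, v), (l, w, l, o),
    (l, w, w, o), (l, w, v, o), (l, v, o, l), (l, v, o, w),
    (l, v, o, v), (l, v, l, o), (l, v, w, o), (l, v, v, o)]

/-- the isotropic points -/
def tpts : List U4 :=
  [(o, o, l, l), (o, o, l, w), (o, o, l, v), (o, l, o, l),
    (o, l, o, w), (o, l, o, v), (o, l, l, o), (o, l, w, o),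
    (o, l, v, o), (l, o, o, l), (l, o, o, w), (l, o, o, v),
    (l, o, l, o), (l, o, w, o), (l, o, v, o), (l, l, o, o),
    (l, l, l, l), (l, l, l, w), (l, l, l, v), (l, l, w, l),
    (l, l, w, w), (l, l, w, v), (l, l, v, l), (l, l, v, w),
    (l, l, v, v), (l, w, o, o), (l, w, l, l), (l, w, l, w),
    (l, w, l, v), (l, w, w, l), (l, w, w, w), (l, w, w, v),
    (l, w, v, l), (l, w, v, w), (l, w, v, v), (l, v, o, o),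
    (l, v, l, l), (l, v, l, w), (l, v, l, v), (l, v, w, l),
    (l, v, w, w), (l, v, w, v), (l, v, v, l), (l, v, v, w),
    (l, v, v, v)]

/-- the points of the symplectic space, in the matching order -/
def ppts : List P4 :=
  [(0, 0, 0, 1), (0, 0, 1, 0), (0, 0, 1, 1), (1, 1, 0, 0), (1, 1, 0, 1), (1, 1, 0, 2),
    (1, 1, 1, 0), (1, 1, 1, 1), (1, 1, 1, 2), (1, 1, 2, 0), (1, 1, 2, 1), (1, 1, 2, 2),
    (0, 0, 1, 2), (1, 2, 0, 0), (1, 2, 0, 2), (1, 2, 0, 1), (1, 2, 1, 0), (1, 2, 1, 2),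
    (1, 2, 1, 1), (1, 2, 2, 0), (1, 2, 2, 2), (1, 2, 2, 1), (0, 1, 0, 0), (0, 1, 0, 1),
    (0, 1, 0, 2), (1, 0, 0, 0), (1, 0, 1, 0), (1, 0, 2, 0), (0, 1, 1, 1), (0, 1, 1, 2),
    (0, 1, 1, 0), (1, 0, 1, 1), (1, 0, 2, 1), (1, 0, 0, 1), (0, 1, 2, 2), (0, 1, 2, 0),
    (0, 1, 2, 1), (1, 0, 2, 2), (1, 0, 0, 2), (1, 0, 1, 2)]

/-- the permutations of the transvections -/
def sig : List (List ℕ) :=
  [[1, 0, 2, 3, 6, 9, 4, 7, 10, 5, 8, 11, 12, 13, 16, 19, 14, 17, 20, 15, 18, 21, 25, 26, 27, 22, 23, 24, 31, 32, 33, 28, 29, 30, 37, 38, 39, 34, 35, 36],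
    [1, 0, 2, 10, 4, 7, 11, 5, 8, 9, 3, 6, 12, 20, 14, 17, 21, 15, 18, 19, 13, 16, 27, 25, 26, 23, 24, 22, 33, 31, 32, 29, 30, 28, 39, 37, 38, 35, 36, 34],
    [1, 0, 2, 8, 11, 5, 6, 9, 3, 7, 10, 4, 12, 18, 21, 15, 16, 19, 13, 17, 20, 14, 26, 27, 25, 24, 22, 23, 32, 33, 31, 30, 28, 29, 38, 39, 37, 36, 34, 35],
    [2, 1, 0, 3, 11, 7, 6, 5, 10, 9, 8, 4, 12, 25, 31, 37, 26, 32, 38, 27, 33, 39, 22, 28, 34, 13, 16, 19, 23, 29, 35, 14, 17, 20, 24, 30, 36, 15, 18, 21],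
    [2, 1, 0, 8, 4, 9, 11, 7, 3, 5, 10, 6, 12, 37, 25, 31, 38, 26, 32, 39, 27, 33, 35, 23, 29, 14, 17, 20, 36, 24, 30, 15, 18, 21, 34, 22, 28, 13, 16, 19],
    [2, 1, 0, 10, 6, 5, 4, 9, 8, 7, 3, 11, 12, 31, 37, 25, 32, 38, 26, 33, 39, 27, 30, 36, 24, 15, 18, 21, 28, 34, 22, 13, 16, 19, 29, 35, 23, 14, 17, 20],
    [0, 2, 1, 3, 4, 5, 11, 9, 10, 7, 8, 6, 12, 22, 23, 24, 28, 29, 30, 34, 35, 36, 13, 14, 15, 25, 31, 37, 16, 17, 18, 26, 32, 38, 19, 20, 21, 27, 33, 39],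
    [0, 2, 1, 10, 11, 9, 6, 7, 8, 5, 3, 4, 12, 34, 35, 36, 22, 23, 24, 28, 29, 30, 16, 17, 18, 38, 26, 32, 19, 20, 21, 39, 27, 33, 13, 14, 15, 37, 25, 31],
    [0, 2, 1, 8, 6, 7, 4, 5, 3, 9, 10, 11, 12, 28, 29, 30, 34, 35, 36, 22, 23, 24, 19, 20, 21, 33, 39, 27, 13, 14, 15, 31, 37, 25, 16, 17, 18, 32, 38, 26],
    [12, 1, 2, 25, 39, 32, 26, 37, 33, 27, 38, 31, 0, 13, 21, 17, 16, 15, 20, 19, 18, 14, 22, 36, 29, 3, 6, 9, 28, 24, 35, 11, 5, 8, 34, 30, 23, 7, 10, 4],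
    [12, 1, 2, 32, 25, 39, 33, 26, 37, 31, 27, 38, 0, 18, 14, 19, 21, 17, 13, 15, 20, 16, 30, 23, 34, 4, 7, 10, 36, 29, 22, 9, 3, 6, 24, 35, 28, 8, 11, 5],
    [12, 1, 2, 39, 32, 25, 37, 33, 26, 38, 31, 27, 0, 20, 16, 15, 14, 19, 18, 17, 13, 21, 35, 28, 24, 5, 8, 11, 23, 34, 30, 10, 4, 7, 29, 22, 36, 6, 9, 3],
    [0, 12, 2, 22, 23, 24, 36, 34, 35, 29, 30, 28, 1, 13, 14, 15, 21, 19, 20, 17, 18, 16, 3, 4, 5, 25, 39, 32, 11, 9, 10, 31, 27, 38, 7, 8, 6, 37, 33, 26],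
    [0, 12, 2, 29, 30, 28, 22, 23, 24, 36, 34, 35, 1, 20, 21, 19, 16, 17, 18, 15, 13, 14, 6, 7, 8, 33, 26, 37, 5, 3, 4, 39, 32, 25, 10, 11, 9, 27, 38, 31],
    [0, 12, 2, 36, 34, 35, 29, 30, 28, 22, 23, 24, 1, 18, 16, 17, 14, 15, 13, 19, 20, 21, 9, 10, 11, 38, 31, 27, 8, 6, 7, 26, 37, 33, 4, 5, 3, 32, 25, 39],
    [0, 1, 12, 13, 14, 15, 16, 17, 18, 19, 20, 21, 2, 3, 4, 5, 6, 7, 8, 9, 10, 11, 22, 23, 24, 25, 26, 27, 36, 34, 35, 39, 37, 38, 29, 30, 28, 32, 33, 31],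
    [25, 22, 13, 12, 32, 39, 29, 21, 8, 36, 10, 17, 3, 2, 37, 31, 34, 11, 18, 28, 20, 7, 1, 27, 26, 0, 24, 23, 19, 6, 30, 15, 4, 33, 16, 35, 9, 14, 38, 5],
    [25, 23, 14, 39, 12, 32, 6, 30, 19, 18, 34, 11, 4, 31, 2, 37, 16, 35, 9, 8, 29, 21, 26, 1, 27, 0, 22, 24, 28, 20, 7, 13, 5, 33, 10, 17, 36, 15, 38, 3],
    [25, 24, 15, 32, 39, 12, 20, 7, 28, 9, 16, 35, 5, 37, 31, 2, 10, 17, 36, 19, 6, 30, 27, 26, 1, 0, 23, 22, 8, 29, 21, 14, 3, 33, 34, 11, 18, 13, 38, 4],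
    [26, 22, 16, 36, 4, 20, 12, 33, 37, 29, 15, 11, 6, 28, 14, 10, 2, 38, 32, 34, 5, 21, 1, 25, 27, 23, 0, 24, 13, 9, 30, 31, 18, 7, 19, 35, 3, 8, 17, 39],
    [26, 23, 17, 21, 34, 5, 37, 12, 33, 9, 30, 13, 7, 11, 29, 15, 32, 2, 38, 19, 35, 3, 27, 1, 25, 24, 0, 22, 28, 14, 10, 31, 16, 8, 4, 20, 36, 6, 18, 39],
    [26, 24, 18, 3, 19, 35, 33, 37, 12, 14, 10, 28, 8, 13, 9, 30, 38, 32, 2, 4, 20, 36, 25, 27, 1, 22, 0, 23, 11, 29, 15, 31, 17, 6, 34, 5, 21, 7, 16, 39],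
    [27, 22, 19, 29, 18, 5, 36, 7, 14, 12, 31, 38, 9, 34, 8, 15, 28, 17, 4, 2, 39, 33, 1, 26, 25, 24, 23, 0, 16, 3, 30, 10, 32, 21, 13, 35, 6, 37, 11, 20],
    [27, 23, 20, 3, 30, 16, 15, 34, 8, 38, 12, 31, 10, 13, 35, 6, 5, 29, 18, 33, 2, 39, 25, 1, 26, 22, 24, 0, 28, 17, 4, 11, 32, 19, 7, 14, 36, 37, 9, 21],
    [27, 24, 21, 17, 4, 28, 6, 13, 35, 31, 38, 12, 11, 7, 14, 36, 16, 3, 30, 39, 33, 2, 26, 25, 1, 23, 22, 0, 5, 29, 18, 9, 32, 20, 34, 8, 15, 37, 10, 19],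
    [0, 1, 12, 17, 18, 16, 20, 21, 19, 14, 15, 13, 2, 11, 9, 10, 5, 3, 4, 8, 6, 7, 35, 36, 34, 38, 39, 37, 28, 29, 30, 31, 32, 33, 24, 22, 23, 27, 25, 26],
    [31, 28, 13, 21, 4, 35, 6, 17, 24, 38, 27, 12, 11, 2, 25, 37, 22, 7, 18, 34, 20, 3, 16, 23, 8, 14, 26, 10, 1, 33, 32, 0, 30, 29, 19, 5, 36, 15, 9, 39],
    [31, 29, 14, 36, 19, 5, 22, 7, 18, 12, 38, 27, 9, 37, 2, 25, 16, 23, 8, 4, 35, 21, 6, 17, 24, 15, 26, 11, 32, 1, 33, 0, 28, 30, 34, 20, 3, 13, 10, 39],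
    [31, 30, 15, 3, 34, 20, 16, 23, 8, 27, 12, 38, 10, 25, 37, 2, 6, 17, 24, 19, 5, 36, 22, 7, 18, 13, 26, 9, 33, 32, 1, 0, 29, 28, 4, 35, 21, 14, 11, 39],
    [32, 28, 16, 39, 25, 12, 15, 7, 35, 9, 20, 24, 5, 34, 14, 6, 2, 26, 38, 22, 10, 21, 19, 23, 11, 4, 17, 27, 1, 31, 33, 29, 0, 30, 13, 8, 36, 37, 18, 3],
    [32, 29, 17, 12, 39, 25, 36, 13, 8, 22, 10, 21, 3, 7, 35, 15, 38, 2, 26, 19, 23, 11, 9, 20, 24, 5, 18, 27, 33, 1, 31, 30, 0, 28, 34, 14, 6, 37, 16, 4],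
    [32, 30, 18, 25, 12, 39, 6, 34, 14, 19, 23, 11, 4, 13, 8, 36, 26, 38, 2, 9, 20, 24, 22, 10, 21, 3, 16, 27, 31, 33, 1, 28, 0, 29, 7, 35, 15, 37, 17, 5],
    [33, 28, 19, 3, 14, 24, 37, 26, 12, 18, 10, 35, 8, 22, 4, 15, 34, 17, 9, 2, 27, 39, 13, 23, 5, 25, 7, 20, 1, 32, 31, 30, 29, 0, 16, 11, 36, 6, 38, 21],
    [33, 29, 20, 22, 4, 15, 12, 37, 26, 36, 16, 11, 6, 13, 23, 5, 10, 35, 18, 39, 2, 27, 3, 14, 24, 25, 8, 21, 31, 1, 32, 28, 30, 0, 34, 17, 9, 7, 38, 19],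
    [33, 30, 21, 13, 23, 5, 26, 12, 37, 9, 34, 17, 7, 3, 14, 24, 16, 11, 36, 27, 39, 2, 22, 4, 15, 25, 6, 19, 32, 31, 1, 29, 28, 0, 10, 35, 18, 8, 38, 20],
    [0, 1, 12, 21, 19, 20, 15, 13, 14, 18, 16, 17, 2, 7, 8, 6, 10, 11, 9, 4, 5, 3, 30, 28, 29, 33, 31, 32, 23, 24, 22, 26, 27, 25, 34, 35, 36, 37, 38, 39],
    [37, 34, 13, 17, 30, 5, 33, 12, 26, 9, 23, 21, 7, 2, 31, 25, 28, 3, 18, 22, 20, 11, 19, 10, 24, 15, 8, 27, 16, 29, 4, 14, 32, 6, 1, 39, 38, 0, 36, 35],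
    [37, 35, 14, 3, 18, 28, 26, 33, 12, 19, 10, 24, 8, 25, 2, 31, 16, 29, 4, 9, 23, 21, 22, 20, 11, 13, 6, 27, 5, 17, 30, 15, 32, 7, 38, 1, 39, 0, 34, 36],
    [37, 36, 15, 29, 4, 16, 12, 26, 33, 22, 20, 11, 6, 31, 25, 2, 5, 17, 30, 19, 10, 24, 9, 23, 21, 14, 7, 27, 28, 3, 18, 13, 32, 8, 39, 38, 1, 0, 35, 34],
    [38, 34, 16, 3, 23, 15, 20, 30, 8, 31, 12, 27, 10, 22, 14, 5, 2, 32, 26, 28, 6, 21, 13, 4, 24, 25, 18, 11, 19, 29, 7, 9, 17, 33, 1, 37, 39, 35, 0, 36],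
    [38, 35, 17, 13, 4, 24, 6, 21, 28, 27, 31, 12, 11, 3, 23, 15, 26, 2, 32, 19, 29, 7, 22, 14, 5, 25, 16, 9, 8, 20, 30, 10, 18, 33, 39, 1, 37, 36, 0, 34],
    [38, 36, 18, 22, 14, 5, 29, 7, 19, 12, 27, 31, 9, 13, 4, 24, 32, 26, 2, 8, 20, 30, 3, 23, 15, 25, 17, 10, 28, 6, 21, 11, 16, 33, 37, 39, 1, 34, 0, 35],
    [39, 34, 19, 32, 12, 25, 6, 23, 18, 14, 30, 11, 4, 28, 9, 15, 22, 17, 8, 2, 33, 27, 16, 7, 24, 5, 26, 21, 13, 29, 10, 31, 3, 20, 1, 38, 37, 36, 35, 0],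
    [39, 35, 20, 25, 32, 12, 16, 7, 24, 9, 15, 28, 5, 13, 29, 10, 6, 23, 18, 27, 2, 33, 22, 17, 8, 3, 26, 19, 11, 14, 30, 31, 4, 21, 37, 1, 38, 34, 36, 0],
    [39, 36, 21, 12, 25, 32, 22, 17, 8, 29, 10, 13, 3, 11, 14, 30, 16, 7, 24, 33, 27, 2, 6, 23, 18, 4, 26, 20, 28, 9, 15, 31, 5, 19, 38, 37, 1, 35, 34, 0]]

/-- the symplectic matrices with these permutations -/
def mats : List M4 :=
  [((0, 1, 0, 0), (1, 0, 0, 0), (0, 0, 0, 1), (0, 0, 1, 0)),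
    ((0, 1, 0, 0), (1, 0, 0, 0), (0, 2, 0, 1), (1, 0, 1, 0)),
    ((0, 1, 0, 0), (1, 0, 0, 0), (0, 1, 0, 1), (2, 0, 1, 0)),
    ((1, 0, 0, 0), (2, 2, 0, 0), (0, 0, 1, 2), (0, 0, 0, 2)),
    ((1, 0, 0, 0), (2, 2, 0, 0), (0, 1, 1, 2), (2, 0, 0, 2)),
    ((1, 0, 0, 0), (2, 2, 0, 0), (0, 2, 1, 2), (1, 0, 0, 2)),
    ((1, 1, 0, 0), (0, 2, 0, 0), (0, 0, 1, 0), (0, 0, 1, 2)),
    ((1, 1, 0, 0), (0, 2, 0, 0), (0, 1, 1, 0), (2, 0, 1, 2)),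
    ((1, 1, 0, 0), (0, 2, 0, 0), (0, 2, 1, 0), (1, 0, 1, 2)),
    ((1, 0, 0, 0), (1, 2, 0, 0), (0, 0, 1, 1), (0, 0, 0, 2)),
    ((1, 0, 0, 0), (1, 2, 0, 0), (0, 2, 1, 1), (1, 0, 0, 2)),
    ((1, 0, 0, 0), (1, 2, 0, 0), (0, 1, 1, 1), (2, 0, 0, 2)),
    ((1, 2, 0, 0), (0, 2, 0, 0), (0, 0, 1, 0), (0, 0, 2, 2)),
    ((1, 2, 0, 0), (0, 2, 0, 0), (0, 2, 1, 0), (1, 0, 2, 2)),
    ((1, 2, 0, 0), (0, 2, 0, 0), (0, 1, 1, 0), (2, 0, 2, 2)),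
    ((1, 0, 0, 0), (0, 2, 0, 0), (0, 0, 1, 0), (0, 0, 0, 2)),
    ((0, 0, 0, 1), (0, 0, 2, 0), (0, 2, 0, 0), (1, 0, 0, 0)),
    ((0, 2, 0, 1), (0, 0, 2, 0), (0, 2, 0, 0), (1, 0, 2, 0)),
    ((0, 1, 0, 1), (0, 0, 2, 0), (0, 2, 0, 0), (1, 0, 1, 0)),
    ((0, 0, 0, 1), (1, 0, 2, 0), (0, 2, 0, 1), (1, 0, 0, 0)),
    ((0, 2, 0, 1), (1, 0, 2, 0), (0, 1, 0, 1), (2, 0, 2, 0)),
    ((0, 1, 0, 1), (1, 0, 2, 0), (0, 0, 0, 1), (0, 0, 1, 0)),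
    ((0, 0, 0, 2), (1, 0, 1, 0), (0, 1, 0, 1), (2, 0, 0, 0)),
    ((0, 1, 0, 2), (1, 0, 1, 0), (0, 0, 0, 1), (0, 0, 1, 0)),
    ((0, 2, 0, 2), (1, 0, 1, 0), (0, 2, 0, 1), (1, 0, 2, 0)),
    ((1, 0, 0, 0), (0, 2, 0, 0), (0, 1, 1, 0), (2, 0, 0, 2)),
    ((1, 1, 0, 2), (2, 2, 1, 0), (0, 1, 1, 2), (2, 0, 1, 2)),
    ((1, 2, 0, 2), (2, 2, 1, 0), (0, 2, 1, 2), (1, 0, 2, 2)),
    ((1, 0, 0, 2), (2, 2, 1, 0), (0, 0, 1, 2), (0, 0, 0, 2)),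
    ((1, 1, 0, 2), (1, 2, 1, 0), (0, 2, 1, 1), (1, 0, 1, 2)),
    ((1, 2, 0, 2), (1, 2, 1, 0), (0, 1, 1, 1), (2, 0, 2, 2)),
    ((1, 0, 0, 2), (1, 2, 1, 0), (0, 0, 1, 1), (0, 0, 0, 2)),
    ((1, 1, 0, 2), (0, 2, 1, 0), (0, 0, 1, 0), (0, 0, 1, 2)),
    ((1, 2, 0, 2), (0, 2, 1, 0), (0, 0, 1, 0), (0, 0, 2, 2)),
    ((1, 0, 0, 2), (0, 2, 1, 0), (0, 0, 1, 0), (0, 0, 0, 2)),
    ((1, 0, 0, 0), (0, 2, 0, 0), (0, 2, 1, 0), (1, 0, 0, 2)),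
    ((1, 1, 0, 1), (2, 2, 2, 0), (0, 2, 1, 2), (1, 0, 1, 2)),
    ((1, 0, 0, 1), (2, 2, 2, 0), (0, 0, 1, 2), (0, 0, 0, 2)),
    ((1, 2, 0, 1), (2, 2, 2, 0), (0, 1, 1, 2), (2, 0, 2, 2)),
    ((1, 1, 0, 1), (0, 2, 2, 0), (0, 0, 1, 0), (0, 0, 1, 2)),
    ((1, 0, 0, 1), (0, 2, 2, 0), (0, 0, 1, 0), (0, 0, 0, 2)),
    ((1, 2, 0, 1), (0, 2, 2, 0), (0, 0, 1, 0), (0, 0, 2, 2)),
    ((1, 1, 0, 1), (1, 2, 2, 0), (0, 1, 1, 1), (2, 0, 1, 2)),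
    ((1, 0, 0, 1), (1, 2, 2, 0), (0, 0, 1, 1), (0, 0, 0, 2)),
    ((1, 2, 0, 1), (1, 2, 2, 0), (0, 2, 1, 1), (1, 0, 2, 2))]

/-- a point of the first kind -/
def up (i : ℕ) : U4 := upts.getD i 0
/-- an isotropic point -/
def tp (i : ℕ) : U4 := tpts.getD i 0
/-- a point of the second kind -/
def pp (i : ℕ) : P4 := ppts.getD i 0
/-- a permutation value -/
def sg (k i : ℕ) : ℕ := (sig.getD k []).getD i 0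
/-- a matrix -/
def mt (k : ℕ) : M4 := mats.getD k 0

theorem up_norm : ∀ i < 40, hH (up i) (up i) = l := by decide +kernel

theorem up_distinct : ∀ i < 40, ∀ j < 40, i ≠ j →
    up i ≠ scl l (up j) ∧ up i ≠ scl w (up j) ∧ up i ≠ scl v (up j) := by decide +kernel

theorem tp_norm : ∀ k < 45, hH (tp k) (tp k) = o := by decide +kernel

theorem tp_cover : ∀ x : U4, hH x x = o → x = 0 ∨
    ∃ k < 45, x = scl l (tp k) ∨ x = scl w (tp k) ∨ x = scl v (tp k) := by decide +kernel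

theorem sg_spec : ∀ k < 45, ∀ i < 40, sg k i < 40 ∧
    (tvU (tp k) (up i) = scl l (up (sg k i)) ∨ tvU (tp k) (up i) = scl w (up (sg k i)) ∨
      tvU (tp k) (up i) = scl v (up (sg k i))) := by decide +kernel

theorem mt_points : ∀ k < 45, ∀ i < 40,
    app (mt k) (pp i) = pp (sg k i) ∨ app (mt k) (pp i) = - pp (sg k i) := by decide +kernel

/-- the standard basis -/
def bas : List P4 := [(1, 0, 0, 0), (0, 1, 0, 0), (0, 0, 1, 0), (0, 0, 0, 1)]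

theorem mt_symp : ∀ k < 45, ∀ x ∈ bas, ∀ y ∈ bas,
    fS (app (mt k) x) (app (mt k) y) = fS x y := by decide +kernel

theorem pp_cover : ∀ x : P4, x = 0 ∨ ∃ i < 40, x = pp i ∨ x = - pp i := by decide +kernel

theorem pp_distinct : ∀ i < 40, ∀ j < 40, i ≠ j → pp i ≠ pp j ∧ pp i ≠ - pp j := by decide +kernel

theorem pp_ne_zero : ∀ i < 40, pp i ≠ 0 := by decide +kernel

end Cfsg.Agent.Forms.U42
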