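import Mathlib
import Cfsg.Agent.Lib.Forms.DicksonList

/-!
# Solvable members of Dickson's list
-/

set_option autoImplicit false
set_option linter.unusedSectionVars false

namespace Cfsg.Agent.Forms.DicksonSolvable

open MulAction
open scoped MatrixGroups commutatorElement

theorem isSolvable_dihedral (n : ℕ) : Group.IsSolvable (DihedralGroup n) := by
  let f : DihedralGroup n →* Multiplicative (ZMod 2) :=
    MonoidHom.mk' (fun | .r _ => 1 | .sr _ => Multiplicative.ofAdd 1) fun a b => by
      rcases a with i | i <;> rcases b with j | j <;> simp <;> decide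
  let g : Multiplicative (ZMod n) →* DihedralGroup n :=
    MonoidHom.mk' (fun i => DihedralGroup.r i.toAdd) fun a b => by simp
  refine Group.isSolvable_of_ker_le_range g f ?_
  rintro (i | i) h
  · exact ⟨Multiplicative.ofAdd i, rfl⟩
  · exact absurd h (by show (Multiplicative.ofAdd (1 : ZMod 2)) ≠ 1; decide)

variable {F : Type*} [Field F] [Fintype F] (p : ℕ) [hp : Fact p.Prime] [CharP F p]

local notation "PG" => Matrix.ProjectiveSpecialLinearGroup (Fin 2) F

include hp in
/-- point stabilisers are solvable -/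
theorem isSolvable_of_fix (H : Subgroup PG) (x : OnePoint (AlgebraicClosure F))
    (hfix : ∀ g ∈ H, g • x = x) : Group.IsSolvable H := by
  have hT := DicksonAction.twoPt (F := F) p
  let P : Subgroup H := (hT.pSub x).comap H.subtype
  haveI hP : Group.IsSolvable P := Group.isSolvable_of_comm fun a b =>
    Subtype.ext (Subtype.ext (hT.pSub_comm a.2 b.2))
  refine Group.isSolvable_of_ker_le_range P.subtype Abelianization.of ?_
  rw [Subgroup.range_subtype, Abelianization.ker_of, commutator_def, Subgroup.commutator_le]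
  rintro ⟨g, hg⟩ - ⟨h, hh⟩ -
  show ⁅g, h⁆ ∈ hT.pSub x
  obtain ⟨X, rfl⟩ := KleinPSL.pi_surjective g
  obtain ⟨Y, rfl⟩ := KleinPSL.pi_surjective h
  have hXi : KleinPSL.pi F X⁻¹ • x = x := by
    rw [map_inv, inv_smul_eq_iff]; exact (hfix _ hg).symm
  have hYi : KleinPSL.pi F Y⁻¹ • x = x := by
    rw [map_inv, inv_smul_eq_iff]; exact (hfix _ hh).symm
  have hone : DicksonAction.eigen x (1 : SL(2, F)) = 1 := by
    cases x <;> simp [DicksonAction.eigen]
  have hXY : KleinPSL.pi F (X * Y) • x = x := by rw [map_mul, mul_smul, hfix _ hh, hfix _ hg]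
  have hXYX : KleinPSL.pi F (X * Y * X⁻¹) • x = x := by rw [map_mul, mul_smul, hXi, hXY]
  have he : DicksonAction.eigen x (X * Y * X⁻¹ * Y⁻¹) = 1 := by
    rw [DicksonAction.eigen_mul hXYX hYi, DicksonAction.eigen_mul hXY hXi,
      DicksonAction.eigen_mul (hfix _ hg) (hfix _ hh)]
    have h1 := DicksonAction.eigen_mul (hfix _ hg) hXi
    have h2 := DicksonAction.eigen_mul (hfix _ hh) hYi
    rw [mul_inv_cancel, hone] at h1 h2
    linear_combination -(DicksonAction.eigen x Y * DicksonAction.eigen x Y⁻¹) * h1 - h2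
  have hfxc : KleinPSL.pi F (X * Y * X⁻¹ * Y⁻¹) • x = x := by rw [map_mul, mul_smul, hYi, hXYX]
  have hr := DicksonAction.eigen_root hfxc
  rw [he] at hr
  have ht : (X * Y * X⁻¹ * Y⁻¹ : SL(2, F)).1.trace = 2 := by
    refine (algebraMap F (AlgebraicClosure F)).injective ?_
    rw [map_ofNat]; linear_combination -hr
  have e : ⁅KleinPSL.pi F X, KleinPSL.pi F Y⁆ = KleinPSL.pi F (X * Y * X⁻¹ * Y⁻¹) := by
    simp [commutatorElement_def]
  rw [e, hT.mem_pSub]
  refine ⟨hfxc, ?_⟩
  by_cases h1 : KleinPSL.pi F (X * Y * X⁻¹ * Y⁻¹) = 1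
  · rw [h1, one_pow]
  · have := (DicksonAction.orderOf_iff p _ h1).2 (by rw [ht]; norm_num)
    conv_lhs => arg 2; rw [← this]
    exact pow_orderOf_eq_one _

end Cfsg.Agent.Forms.DicksonSolvable
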