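import Mathlib
import Cfsg.Agent.Lib.Forms.DicksonCor
import Cfsg.Agent.Lib.Forms.DicksonSolvable

/-!
# Maximal subgroups of `PSL₂` from Dickson's list
-/

set_option autoImplicit false
set_option linter.unusedSectionVars false

namespace Cfsg.Agent.Forms.DicksonMax

open MulAction
open scoped MatrixGroups

theorem alt4_not_comm : ∃ u v : alternatingGroup (Fin 4),
    u ^ 3 = 1 ∧ v ^ 3 = 1 ∧ u * v ≠ v * u := by decide +kernel

theorem sym4_not_comm : ∃ u v : Equiv.Perm (Fin 4), u ^ 3 = 1 ∧ v ^ 3 = 1 ∧ u * v ≠ v * u := by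
  decide +kernel

theorem alt5_not_comm : ∃ u v : alternatingGroup (Fin 5),
    u ^ 3 = 1 ∧ v ^ 3 = 1 ∧ u * v ≠ v * u := by decide +kernel

/-- two non-commuting elements of order `p` in `PSL₂(K)` -/
theorem psl_not_comm (K : Type*) [Field K] [Fintype K] (p : ℕ) [Fact p.Prime] [CharP K p] :
    ∃ u v : Matrix.ProjectiveSpecialLinearGroup (Fin 2) K,
      u ^ p = 1 ∧ v ^ p = 1 ∧ u * v ≠ v * u := by
  have hp : (p : K) = 0 := CharP.cast_eq_zero K p
  refine ⟨KleinPSL.pi K (Classical.GL2.uniSL 1), KleinPSL.pi K (Classical.GL2.lowSL 1), ?_, ?_, ?_⟩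
  · rw [← map_pow]
    refine KleinPSL.pi_eq_one.2 (Or.inl ?_)
    have h : ∀ k : ℕ, Classical.GL2.uniSL (1 : K) ^ k = Classical.GL2.uniSL (k : K) := fun k => by
      induction k with
      | zero => rw [pow_zero, Nat.cast_zero, Classical.GL2.uniSL_zero]
      | succ k ih => rw [pow_succ, ih, Classical.GL2.uniSL_mul, Nat.cast_succ]
    rw [h, hp, Classical.GL2.uniSL_zero]
  · rw [← map_pow]
    refine KleinPSL.pi_eq_one.2 (Or.inl ?_)
    have h : ∀ k : ℕ, ((Classical.GL2.lowSL (1 : K) ^ k : SL(2, K)) : Matrix (Fin 2) (Fin 2) K) =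
        !![1, 0; (k : K), 1] := fun k => by
      induction k with
      | zero => simp [Matrix.one_fin_two]
      | succ k ih =>
        rw [pow_succ, Matrix.SpecialLinearGroup.coe_mul, ih]
        simp [Classical.GL2.lowSL, Matrix.mul_fin_two]
    refine Subtype.ext ?_
    rw [h, hp, Matrix.SpecialLinearGroup.coe_one, Matrix.one_fin_two]
  · intro h
    rw [← map_mul, ← map_mul, KleinPSL.pi_eq_iff] at h
    rcases h with h | h
    · have e := congrFun (congrFun (congrArg Subtype.val h) 0) 0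
      rw [Matrix.SpecialLinearGroup.coe_mul, Matrix.SpecialLinearGroup.coe_mul] at e
      simp [Classical.GL2.uniSL, Classical.GL2.lowSL, Matrix.mul_apply, Fin.sum_univ_two] at e
    · have e := congrFun (congrFun (congrArg Subtype.val h) 0) 0
      have e' := congrFun (congrFun (congrArg Subtype.val h) 0) 1
      rw [Matrix.SpecialLinearGroup.coe_neg, Matrix.SpecialLinearGroup.coe_mul,
        Matrix.SpecialLinearGroup.coe_mul] at e e'
      simp [Classical.GL2.uniSL, Classical.GL2.lowSL, Matrix.mul_apply, Fin.sum_univ_two] at e e'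
      have h2 : (2 : K) = 0 := by linear_combination e'
      exact one_ne_zero (α := K) (by linear_combination e - h2)

theorem sub_one_dvd_of_le {p a b : ℕ} (hp : 2 ≤ p) (ha : 1 ≤ a)
    (h : p ^ a * ((p ^ a - 1) * (p ^ a + 1)) ∣ 2 * (p ^ b * ((p ^ b - 1) * (p ^ b + 1)))) :
    a ∣ b := by
  have h1 : ∀ c : ℕ, (p ^ c - 1) * (p ^ c + 1) = p ^ (2 * c) - 1 := fun c => by
    rw [mul_comm, ← Nat.sq_sub_sq, one_pow, ← pow_mul, mul_comm c]
  rw [h1, h1] at h
  have hcop : Nat.Coprime (p ^ (2 * a) - 1) (p ^ b) := by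
    refine Nat.Coprime.pow_right b ?_
    have h2 : 1 ≤ p ^ (2 * a) := Nat.one_le_pow _ _ (by omega)
    have h3 : Nat.Coprime (p ^ (2 * a) - 1) (p ^ (2 * a)) := by
      rw [Nat.coprime_self_sub_left h2]; exact Nat.coprime_one_left _
    exact h3.coprime_dvd_right (dvd_pow_self p (by omega))
  have h4 : p ^ (2 * a) - 1 ∣ 2 * (p ^ (2 * b) - 1) := by
    refine hcop.dvd_of_dvd_mul_left ?_
    rw [← mul_assoc, mul_comm _ 2, mul_assoc]
    exact (dvd_mul_left _ _).trans h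
  have hg := Nat.gcd_dvd_left a b
  have hg0 : 0 < Nat.gcd a b := Nat.gcd_pos_of_pos_left b (by omega)
  set g := Nat.gcd a b with hgdef
  have h5 : p ^ (2 * a) - 1 ∣ 2 * (p ^ (2 * g) - 1) := by
    have : Nat.gcd (p ^ (2 * a) - 1) (p ^ (2 * b) - 1) = p ^ (2 * g) - 1 := by
      rw [Nat.pow_sub_one_gcd_pow_sub_one, Nat.gcd_mul_left]
    have h6 := Nat.dvd_gcd (dvd_mul_left (p ^ (2 * a) - 1) 2) h4
    rwa [Nat.gcd_mul_left, this] at h6
  by_contra hne
  have hlt : g < a := lt_of_le_of_ne (Nat.le_of_dvd (by omega) hg) fun e =>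
    hne (e ▸ Nat.gcd_dvd_right a b)
  have h7 : p ^ 2 * p ^ (2 * g) ≤ p ^ (2 * a) := by
    rw [← pow_add]; exact Nat.pow_le_pow_right (by omega) (by omega)
  have h8 : 4 * p ^ (2 * g) ≤ p ^ 2 * p ^ (2 * g) :=
    Nat.mul_le_mul_right _ (by calc 4 = 2 ^ 2 := rfl
                               _ ≤ p ^ 2 := Nat.pow_le_pow_left hp 2)
  have h9 : 1 < p ^ (2 * g) := Nat.one_lt_pow (by omega) (by omega)
  have := Nat.le_of_dvd (by omega) h5
  omega

variable {F : Type*} [Field F] [Fintype F] (p : ℕ) [hp : Fact p.Prime] [CharP F p]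

local notation "PG" => Matrix.ProjectiveSpecialLinearGroup (Fin 2) F

/-- a cyclic or dihedral group of order prime to `p` has commuting elements of each odd order -/
theorem comm_of_dihedral (M : Subgroup PG) {g : PG} (h : (IsCyclic M ∧ Nat.card M = orderOf g) ∨
    Nonempty (M ≃* DihedralGroup (orderOf g))) {u v : PG} (hu : u ∈ M) (hv : v ∈ M)
    (hu2 : u * u ≠ 1) (hv2 : v * v ≠ 1) : u * v = v * u := by
  rcases h with ⟨hc, -⟩ | ⟨⟨e⟩⟩
  · haveI := hc
    exact congrArg Subtype.val (IsCyclic.commGroup.mul_comm (⟨u, hu⟩ : M) ⟨v, hv⟩)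
  · have key : ∀ x : M, (x : PG) * x ≠ 1 → ∃ i, e x = DihedralGroup.r i := by
      intro x hx
      cases hi : e x with
      | r i => exact ⟨i, rfl⟩
      | sr i =>
        refine absurd (congrArg Subtype.val (e.injective ?_ : x * x = 1)) hx
        rw [map_mul, hi, map_one, DihedralGroup.sr_mul_sr, sub_self, DihedralGroup.one_def]
    obtain ⟨i, hi⟩ := key ⟨u, hu⟩ hu2
    obtain ⟨j, hj⟩ := key ⟨v, hv⟩ hv2
    refine congrArg Subtype.val (e.injective ?_ : (⟨u, hu⟩ : M) * ⟨v, hv⟩ = ⟨v, hv⟩ * ⟨u, hu⟩)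
    rw [map_mul, map_mul, hi, hj, DihedralGroup.r_mul_r, DihedralGroup.r_mul_r, add_comm]

theorem sq_ne_one {G : Type*} [Group G] {u : G} {r : ℕ} (hr : r.Prime) (hr2 : r ≠ 2)
    (hu : u ^ r = 1) (hu1 : u ≠ 1) : u * u ≠ 1 := fun h => by
  have ho := orderOf_eq_prime (p := r) (hp := ⟨hr⟩) hu hu1
  have h2 : orderOf u ∣ 2 := orderOf_dvd_of_pow_eq_one (by rwa [pow_two])
  rw [ho] at h2
  exact hr2 ((Nat.prime_dvd_prime_iff_eq hr Nat.prime_two).1 h2)

theorem comm_of_fix {x : OnePoint (AlgebraicClosure F)} {u v : PG} (hu : u • x = x) (hv : v • x = x)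
    (hu' : u ^ p = 1) (hv' : v ^ p = 1) : u * v = v * u :=
  (DicksonAction.twoPt (F := F) p).pSub_comm (x := x) ⟨hu, hu'⟩ ⟨hv, hv'⟩

/-- the overgroups of a subgroup with non-commuting elements of an odd prime order `r ≠ p` -/
theorem overgroup_of_coprime (H M : Subgroup PG) (hle : H ≤ M) (hpH : ¬ p ∣ Nat.card H) {r : ℕ}
    (hr : r.Prime) (hr2 : r ≠ 2) {u v : PG} (hu : u ∈ H) (hv : v ∈ H) (hu' : u ^ r = 1)
    (hv' : v ^ r = 1) (hne : u * v ≠ v * u) :
    Nonempty (M ≃* alternatingGroup (Fin 4)) ∨ Nonempty (M ≃* Equiv.Perm (Fin 4)) ∨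
      Nonempty (M ≃* alternatingGroup (Fin 5)) ∨
      (∃ (K : Type) (_ : Field K) (_ : Fintype K) (m : ℕ), Fintype.card K ^ m = Fintype.card F ∧
        (Nonempty (M ≃* Matrix.ProjectiveSpecialLinearGroup (Fin 2) K) ∨
          Nonempty (M ≃* Matrix.ProjGenLinGroup (Fin 2) K))) := by
  have hu1 : u ≠ 1 := fun e => hne (by rw [e, one_mul, mul_one])
  have hv1 : v ≠ 1 := fun e => hne (by rw [e, one_mul, mul_one])
  rcases DicksonList.classify p M with ⟨g, -, -, h⟩ | ⟨x, -, hfix⟩ | h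
  · exact absurd (comm_of_dihedral M h (hle hu) (hle hv) (sq_ne_one hr hr2 hu' hu1)
      (sq_ne_one hr hr2 hv' hv1)) hne
  · have hT := DicksonAction.twoPt (F := F) p
    have hcy : IsCyclic H := hT.cyc x H (fun g hg => hfix g (hle hg)) fun g hg e =>
      hpH (e ▸ Subgroup.orderOf_dvd_natCard H hg)
    exact absurd (congrArg Subtype.val
      (IsCyclic.commGroup.mul_comm (⟨u, hu⟩ : H) ⟨v, hv⟩)) hne
  · exact h

/-- the overgroups of a subgroup with non-commuting elements of order `p`, `p` odd -/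
theorem overgroup_of_modular (hp2 : p ≠ 2) (H M : Subgroup PG) (hle : H ≤ M) {u v : PG}
    (hu : u ∈ H) (hv : v ∈ H) (hu' : u ^ p = 1) (hv' : v ^ p = 1) (hne : u * v ≠ v * u) :
    Nonempty (M ≃* alternatingGroup (Fin 4)) ∨ Nonempty (M ≃* Equiv.Perm (Fin 4)) ∨
      Nonempty (M ≃* alternatingGroup (Fin 5)) ∨
      (∃ (K : Type) (_ : Field K) (_ : Fintype K) (m : ℕ), Fintype.card K ^ m = Fintype.card F ∧
        (Nonempty (M ≃* Matrix.ProjectiveSpecialLinearGroup (Fin 2) K) ∨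
          Nonempty (M ≃* Matrix.ProjGenLinGroup (Fin 2) K))) := by
  have hu1 : u ≠ 1 := fun e => hne (by rw [e, one_mul, mul_one])
  have hv1 : v ≠ 1 := fun e => hne (by rw [e, one_mul, mul_one])
  rcases DicksonList.classify p M with ⟨g, -, -, h⟩ | ⟨x, -, hfix⟩ | h
  · exact absurd (comm_of_dihedral M h (hle hu) (hle hv) (sq_ne_one hp.out hp2 hu' hu1)
      (sq_ne_one hp.out hp2 hv' hv1)) hne
  · exact absurd (comm_of_fix p (hfix u (hle hu)) (hfix v (hle hv)) hu' hv') hne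
  · exact h

include hp in
/-- in a proper subfield subgroup over a subgroup of the order of `PSL₂(q)`, `|F| = q ^ r` with `r` prime,
the subfield has order `q` -/
theorem subfield_same {q r : ℕ} (hr : r.Prime) (hF : Fintype.card F = q ^ r) (hq : 2 ≤ q)
    {H M : Subgroup PG} (hle : H ≤ M) (hMt : M ≠ ⊤)
    (hH : q * ((q - 1) * (q + 1)) ∣ 2 * Nat.card H) (K : Type) [Field K] [Fintype K] (m : ℕ)
    (hm : Fintype.card K ^ m = Fintype.card F)
    (h : Nonempty (M ≃* Matrix.ProjectiveSpecialLinearGroup (Fin 2) K) ∨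
      Nonempty (M ≃* Matrix.ProjGenLinGroup (Fin 2) K)) :
    Fintype.card K = q ∧ m = r := by
  obtain ⟨hm2, -⟩ := DicksonCor.subfield_bound M hMt K m hm h
  obtain ⟨n, -, hn⟩ := FiniteField.card F p
  have hp' : p.Prime := hp.out
  obtain ⟨a, -, ha⟩ := (Nat.dvd_prime_pow hp').1
    ((dvd_pow_self q hr.ne_zero).trans (dvd_of_eq (hF.symm.trans hn)))
  obtain ⟨b, -, hb⟩ := (Nat.dvd_prime_pow hp').1
    ((dvd_pow_self (Fintype.card K) (by omega : m ≠ 0)).trans (dvd_of_eq (hm.trans hn)))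
  have ha1 : 1 ≤ a := Nat.pos_of_ne_zero fun e => by rw [e, pow_zero] at ha; omega
  have e1 : a * r = b * m := Nat.pow_right_injective hp'.two_le (by
    show p ^ (a * r) = p ^ (b * m)
    rw [pow_mul, pow_mul, ← ha, ← hb, hm, hF])
  have hKM : Nat.card M ∣ Fintype.card K * ((Fintype.card K - 1) * (Fintype.card K + 1)) := by
    rcases h with h | h <;> obtain ⟨e⟩ := h <;> rw [Nat.card_congr e.toEquiv]
    · rw [← Classical.GL2.natCard_SL_two, ← Classical.SmallIso.natCard_pslTwo K]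
      exact dvd_mul_left _ _
    · rw [Classical.Linear.natCard_PGL, Classical.GL2.natCard_SL_two]
  have hd := hH.trans (Nat.mul_dvd_mul_left 2 ((Subgroup.card_dvd_of_le hle).trans hKM))
  rw [ha, hb] at hd
  obtain ⟨c, rfl⟩ := sub_one_dvd_of_le hp'.two_le ha1 hd
  have e2 : r = c * m := Nat.eq_of_mul_eq_mul_left ha1 (e1.trans (mul_assoc a c m))
  rcases hr.eq_one_or_self_of_dvd m ⟨c, e2.trans (mul_comm c m)⟩ with h1 | h1
  · omega
  · refine ⟨?_, h1⟩
    have : c = 1 := Nat.eq_of_mul_eq_mul_right hr.pos (by rw [one_mul]; exact (h1 ▸ e2).symm)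
    rw [hb, this, mul_one, ← ha]

theorem coatom_of (H : Subgroup PG) (hne : Nat.card H ≠ Nat.card PG)
    (h : ∀ M : Subgroup PG, M ≠ ⊤ → H < M → False) : IsCoatom H :=
  ⟨fun e => hne (by rw [e, Subgroup.card_top]), fun M hM => by_contra fun hMt => h M hMt hM⟩

theorem lt_card {H M : Subgroup PG} (h : H < M) : Nat.card H < Nat.card M :=
  lt_of_le_of_ne (Subgroup.card_le_of_le h.le) fun e =>
    h.ne (Subgroup.eq_of_le_of_card_ge h.le e.ge)

theorem transfer {G T : Type*} [Group G] [Group T] (H : Subgroup G) (e : H ≃* T) {r : ℕ}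
    (h : ∃ u v : T, u ^ r = 1 ∧ v ^ r = 1 ∧ u * v ≠ v * u) :
    ∃ u v : G, u ∈ H ∧ v ∈ H ∧ u ^ r = 1 ∧ v ^ r = 1 ∧ u * v ≠ v * u := by
  obtain ⟨u, v, hu, hv, hne⟩ := h
  refine ⟨e.symm u, e.symm v, (e.symm u).2, (e.symm v).2, ?_, ?_, fun h => hne ?_⟩
  · rw [← Subgroup.coe_pow, ← map_pow, hu, map_one, Subgroup.coe_one]
  · rw [← Subgroup.coe_pow, ← map_pow, hv, map_one, Subgroup.coe_one]
  · exact e.symm.injective (by rw [map_mul, map_mul]; exact Subtype.ext h)

end Cfsg.Agent.Forms.DicksonMax
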