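import Mathlib
import Cfsg.Agent.Lib.Forms.KleinClasses

/-!
# The icosahedral subgroup of `PSL₂`, odd characteristic, when the golden ratio exists
-/

set_option autoImplicit false
set_option linter.unusedSectionVars false

namespace Cfsg.Agent.Forms.KleinIco

section abstractGroup

open Cfsg.Agent.Forms.KleinPSL Cfsg.Agent.Forms.KleinGroups

variable {G : Type*} [Group G] [Finite G] {a b w : G}

theorem exists_alt5 (d : Alt4Data a b w) (y : G) (hy : y ^ 5 = 1) (hy1 : y ≠ 1)
    (hcl : ∀ g, g = a ∨ g = w → ∀ k, 1 ≤ k → k ≤ 4 →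
      ∃ m, ∃ z ∈ kSub a b d.ha d.hb d.hc ⊔ Subgroup.zpowers w, g * y ^ k = y ^ m * z)
    (hne : y * a * y⁻¹ ∉ kSub a b d.ha d.hb d.hc) :
    ∃ H : Subgroup G, Nonempty (H ≃* alternatingGroup (Fin 5)) := by
  classical
  set V := kSub a b d.ha d.hb d.hc
  set A := V ⊔ Subgroup.zpowers w
  have hV : Nat.card V = 4 := natCard_kSub d.ha1 d.hb1 d.hab
  have hW : Nat.card (Subgroup.zpowers w) = 3 := by rw [Nat.card_zpowers, d.orderOf_w]
  have hdVW : Disjoint V (Subgroup.zpowers w) :=
    disjoint_iff.2 (Subgroup.inf_eq_bot_of_coprime (by rw [hV, hW]; norm_num))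
  have hA : Nat.card A = 12 := by rw [natCard_sup d.w_le hdVW, hV, hW]
  have haV : a ∈ V := mem_kSub.2 (Or.inr (Or.inl rfl))
  have haA : a ∈ A := Subgroup.mem_sup_left haV
  have hwA : w ∈ A := Subgroup.mem_sup_right (Subgroup.mem_zpowers w)
  let H : Subgroup G := Subgroup.closure {a, w, y}
  have haH : a ∈ H := Subgroup.subset_closure (by simp)
  have hwH : w ∈ H := Subgroup.subset_closure (by simp)
  have hyH : y ∈ H := Subgroup.subset_closure (by simp)
  have hbH : b ∈ H := by
    have : b = a * (w * a * w⁻¹) := by rw [d.conj_w.1, ← mul_assoc, d.ha, one_mul]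
    rw [this]
    exact mul_mem haH (mul_mem (mul_mem hwH haH) (inv_mem hwH))
  have hAH : A ≤ H := sup_le (fun z hz => by
    rcases mem_kSub.1 hz with rfl | rfl | rfl | rfl
    exacts [one_mem H, haH, hbH, mul_mem haH hbH]) (Subgroup.zpowers_le.2 hwH)
  let S : Set G := {s | ∃ m, ∃ z ∈ A, s = y ^ m * z}
  let T : Subgroup G :=
    { carrier := {g | ∀ s ∈ S, g * s ∈ S}
      one_mem' := fun s hs => by rwa [one_mul]
      mul_mem' := fun {g h} hg hh s hs => by rw [mul_assoc]; exact hg _ (hh s hs)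
      inv_mem' := fun {g} hg s hs => by
        have key : ∀ n, g ^ n * s ∈ S := by
          intro n
          induction n with
          | zero => rwa [pow_zero, one_mul]
          | succ n ih => rw [pow_succ', mul_assoc]; exact hg _ ih
        have hinv : g⁻¹ = g ^ (orderOf g - 1) := by
          refine inv_eq_of_mul_eq_one_right ?_
          rw [← pow_succ', Nat.sub_add_cancel (orderOf_pos g), pow_orderOf_eq_one]
        rw [hinv]; exact key _ }
  have hT : H ≤ T := by
    refine (Subgroup.closure_le T).2 ?_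
    have hgen : ∀ g, g = a ∨ g = w → g ∈ A → g ∈ T := by
      rintro g hg hgA s ⟨m, z, hz, rfl⟩
      rw [← Nat.mod_add_div m 5, pow_add, pow_mul, hy, one_pow, mul_one]
      have := Nat.mod_lt m (show 5 > 0 by norm_num)
      rcases Nat.eq_zero_or_pos (m % 5) with h0 | h0
      · exact ⟨0, g * z, mul_mem hgA hz, by rw [h0, pow_zero, one_mul, one_mul]⟩
      · obtain ⟨m', z', hz', e⟩ := hcl g hg (m % 5) h0 (by omega)
        exact ⟨m', z' * z, mul_mem hz' hz, by rw [← mul_assoc, e, mul_assoc]⟩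
    rintro g (rfl | rfl | rfl)
    · exact hgen _ (Or.inl rfl) haA
    · exact hgen _ (Or.inr rfl) hwA
    · rintro s ⟨m, z, hz, rfl⟩
      exact ⟨m + 1, z, hz, by rw [← mul_assoc, pow_succ']⟩
  have hHS : ∀ h ∈ H, ∃ m, ∃ z ∈ A, h = y ^ m * z := fun h hh => by
    have := hT hh 1 ⟨0, 1, one_mem A, by simp⟩
    rwa [mul_one] at this
  have ho : orderOf y = 5 := orderOf_eq_prime (hp := ⟨by norm_num⟩) hy hy1
  have hle : Nat.card H ≤ 5 * 12 := by
    rw [← hA, ← Nat.card_fin 5, ← Nat.card_prod]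
    refine Nat.card_le_card_of_surjective
      (fun p : Fin 5 × A => (⟨y ^ (p.1 : ℕ) * p.2, mul_mem (pow_mem hyH _) (hAH p.2.2)⟩ : H)) ?_
    rintro ⟨h, hh⟩
    obtain ⟨m, z, hz, rfl⟩ := hHS h hh
    refine ⟨(⟨m % 5, Nat.mod_lt _ (by norm_num)⟩, ⟨z, hz⟩), Subtype.ext ?_⟩
    show y ^ (m % 5) * z = y ^ m * z
    rw [← pow_mod_orderOf y m, ho]
  have h12 : 12 ∣ Nat.card H := hA ▸ Subgroup.card_dvd_of_le hAH
  have h5 : 5 ∣ Nat.card H := by
    rw [← ho, show orderOf y = orderOf (⟨y, hyH⟩ : H) by rw [Subgroup.orderOf_mk]]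
    exact orderOf_dvd_natCard _
  have hH : Nat.card H = 60 := by
    have : 0 < Nat.card H := Nat.card_pos
    omega
  refine ⟨H, ?_⟩
  set A' : Subgroup H := A.subgroupOf H
  have hA' : Nat.card A' = 12 := by
    rw [Nat.card_congr (Subgroup.subgroupOfEquivOfLe hAH).toEquiv, hA]
  have hidx : A'.index = 5 := by
    have := A'.index_mul_card
    rw [hA', hH] at this
    omega
  have hinj : Function.Injective (MulAction.toPermHom H (H ⧸ A')) := by
    rw [← MonoidHom.ker_eq_bot_iff, ← Subgroup.normalCore_eq_ker, eq_bot_iff]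
    intro n hn
    rw [Subgroup.mem_bot]
    by_contra hn1
    have hnA : (n : G) ∈ A := A'.normalCore_le hn
    have hcore := A'.normalCore_normal
    have hexv : ∃ v : H, v ∈ A'.normalCore ∧ (v : G) ∈ V ∧ (v : G) ≠ 1 := by
      have hnA' := hnA
      rw [← SetLike.mem_coe, Subgroup.coe_mul_of_right_le_normalizer_left V _ d.w_le] at hnA'
      obtain ⟨v, hv, k, hk, hvk⟩ := hnA'
      simp only at hvk
      rcases eq_or_ne k 1 with rfl | hk1
      · rw [mul_one] at hvk
        exact ⟨n, hn, hvk ▸ hv, fun h => hn1 (Subtype.ext h)⟩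
      · refine ⟨n * ⟨a, haH⟩ * n⁻¹ * ⟨a, haH⟩⁻¹, ?_, ?_, ?_⟩
        · rw [show n * ⟨a, haH⟩ * n⁻¹ * ⟨a, haH⟩⁻¹ = n * (⟨a, haH⟩ * n⁻¹ * ⟨a, haH⟩⁻¹) by group]
          exact mul_mem hn (hcore.conj_mem _ (inv_mem hn) _)
        · show (n : G) * a * (n : G)⁻¹ * a⁻¹ ∈ V
          rw [← hvk, show v * k * a * (v * k)⁻¹ * a⁻¹ = v * (k * a * k⁻¹) * v⁻¹ * a⁻¹ by group]
          exact mul_mem (mul_mem (mul_mem hv ((Subgroup.mem_normalizer_iff.1 (d.w_le hk) a).1 haV))
            (inv_mem hv)) (inv_mem haV)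
        · show (n : G) * a * (n : G)⁻¹ * a⁻¹ ≠ 1
          rw [← hvk]
          intro h
          have : IsKleinFour V := kSub_isKleinFour d.ha1 d.hb1 d.hab
          have hka : k * a * k⁻¹ ∈ V := (Subgroup.mem_normalizer_iff.1 (d.w_le hk) a).1 haV
          have e : k * a * k⁻¹ = a := by
            have h' : v * (k * a * k⁻¹) * v⁻¹ = a :=
              (show v * (k * a * k⁻¹) * v⁻¹ = v * k * a * (v * k)⁻¹ by group).trans (mul_inv_eq_one.1 h)
            rwa [(kleinFour_mem V hv hka).1.eq, mul_inv_cancel_right] at h'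
          rcases mem_zpowers_three d.hw hk with rfl | hk' | hk'
          · exact hk1 rfl
          · rw [hk', d.conj_w.1] at e
            exact d.ab_ne_a e
          · rw [hk', show w * w * a * (w * w)⁻¹ = w * (w * a * w⁻¹) * w⁻¹ by group, d.conj_w.1,
              d.conj_w.2.2] at e
            exact d.hab e.symm
    obtain ⟨v, hvN, hvV, hv1⟩ := hexv
    obtain ⟨c1, c2, c3⟩ := d.conj_w
    have haN : (⟨a, haH⟩ : H) ∈ A'.normalCore := by
      rcases mem_kSub.1 hvV with h | h | h | h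
      · exact absurd h hv1
      · rwa [show (⟨a, haH⟩ : H) = v from Subtype.ext h.symm]
      · rw [show (⟨a, haH⟩ : H) = ⟨w, hwH⟩ * v * ⟨w, hwH⟩⁻¹ from
          Subtype.ext (by show a = w * (v : G) * w⁻¹; rw [h, c2])]
        exact hcore.conj_mem _ hvN _
      · rw [show (⟨a, haH⟩ : H) = ⟨w, hwH⟩ * (⟨w, hwH⟩ * v * ⟨w, hwH⟩⁻¹) * ⟨w, hwH⟩⁻¹ from
          Subtype.ext (by show a = w * (w * (v : G) * w⁻¹) * w⁻¹; rw [h, c3, c2])]
        exact hcore.conj_mem _ (hcore.conj_mem _ hvN _) _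
    have hya : y * a * y⁻¹ ∈ A := A'.normalCore_le (hcore.conj_mem _ haN ⟨y, hyH⟩)
    -- an involution of `A` lies in `V`
    apply hne
    have hmem := hya
    rw [← SetLike.mem_coe, Subgroup.coe_mul_of_right_le_normalizer_left V _ d.w_le] at hmem
    obtain ⟨u, hu, k, hk, huk⟩ := hmem
    simp only at huk
    have hz2 : (y * a * y⁻¹) * (y * a * y⁻¹) = 1 := by
      rw [show y * a * y⁻¹ * (y * a * y⁻¹) = y * (a * a) * y⁻¹ by group, d.ha]; group
    rw [← huk] at hz2 ⊢
    have hkk : k * k ∈ V := by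
      have hn := (Subgroup.mem_normalizer_iff.1 (d.w_le hk) u).1 hu
      have : (u * (k * u * k⁻¹)) * (k * k) = 1 := by rw [← hz2]; group
      rw [eq_inv_of_mul_eq_one_right this]
      exact inv_mem (mul_mem hu hn)
    have hkk1 : k * k = 1 := Subgroup.disjoint_def.1 hdVW hkk (mul_mem hk hk)
    rcases mem_zpowers_three d.hw hk with rfl | hk' | hk'
    · rwa [mul_one]
    · have := d.hw
      rw [← hk', hkk1, one_mul] at this
      rwa [this, mul_one]
    · have : k = 1 := by
        rw [hk'] at hkk1 ⊢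
        rw [← mul_assoc, d.hw, one_mul] at hkk1
        rw [hkk1, mul_one]
      rwa [this, mul_one]
  have e : (H ⧸ A') ≃ Fin 5 := Finite.equivFinOfCardEq hidx
  let φ : H →* Equiv.Perm (Fin 5) := e.permCongrHom.toMonoidHom.comp (MulAction.toPermHom H (H ⧸ A'))
  have hφ : Function.Injective φ := e.permCongrHom.injective.comp hinj
  have hr : φ.range.index = 2 := by
    have := φ.range.index_mul_card
    rw [← Nat.card_congr (MonoidHom.ofInjective hφ).toEquiv, hH, Nat.card_perm, Nat.card_fin,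
      show Nat.factorial 5 = 120 from rfl] at this
    omega
  exact ⟨(MonoidHom.ofInjective hφ).trans
    (MulEquiv.subgroupCongr (Equiv.Perm.eq_alternatingGroup_of_index_eq_two hr))⟩

end abstractGroup

section psl

open Matrix Cfsg.Agent.Forms.KleinSL2 Cfsg.Agent.Forms.KleinPSL Cfsg.Agent.Forms.KleinClasses
open scoped MatrixGroups

variable {F : Type*} [Field F] [Fintype F]

theorem exists_icosahedral (h2 : (2 : F) ≠ 0) (h5 : (5 : F) ≠ 0) {t : F} (ht : t * t = t + 1) :
    ∃ H : Subgroup (Matrix.ProjectiveSpecialLinearGroup (Fin 2) F),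
      Nonempty (H ≃* alternatingGroup (Fin 5)) := by
  obtain ⟨a, b, hab⟩ := exists_circ h2 (-1 : F)
  have n1 : t * 2⁻¹ * (t * 2⁻¹) + 2⁻¹ * 2⁻¹ + (t - 1) * 2⁻¹ * ((t - 1) * 2⁻¹) + 0 * 0 = (1 : F) := by
    field_simp
    linear_combination (2 : F) * ht
  have n2 : (t - 1) * 2⁻¹ * ((t - 1) * 2⁻¹) + t * 2⁻¹ * (t * 2⁻¹) + 2⁻¹ * 2⁻¹ + 0 * 0 = (1 : F) := by
    linear_combination n1
  have n3 : -((t - 1) * 2⁻¹) * -((t - 1) * 2⁻¹) + t * 2⁻¹ * (t * 2⁻¹) + 2⁻¹ * 2⁻¹ + 0 * 0 = (1 : F) := by
    linear_combination n1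
  have n4 : -(t * 2⁻¹) * -(t * 2⁻¹) + 2⁻¹ * 2⁻¹ + (t - 1) * 2⁻¹ * ((t - 1) * 2⁻¹) + 0 * 0 = (1 : F) := by
    linear_combination n1
  set y1 : SL(2, F) := qSL hab (t * 2⁻¹) 2⁻¹ ((t - 1) * 2⁻¹) 0 n1 with hy1d
  set y2 : SL(2, F) := qSL hab ((t - 1) * 2⁻¹) (t * 2⁻¹) 2⁻¹ 0 n2 with hy2d
  set y3 : SL(2, F) := qSL hab (-((t - 1) * 2⁻¹)) (t * 2⁻¹) 2⁻¹ 0 n3 with hy3d
  set y4 : SL(2, F) := qSL hab (-(t * 2⁻¹)) 2⁻¹ ((t - 1) * 2⁻¹) 0 n4 with hy4d
  have cq : ∀ (x₀ x₁ x₂ x₃ : F) (h : x₀ * x₀ + x₁ * x₁ + x₂ * x₂ + x₃ * x₃ = 1),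
      ((qSL hab x₀ x₁ x₂ x₃ h : SL(2, F)) : Matrix (Fin 2) (Fin 2) F) = quat a b x₀ x₁ x₂ x₃ :=
    fun _ _ _ _ _ => rfl
  have hJ : ((jSL : SL(2, F)) : Matrix (Fin 2) (Fin 2) F) = quat a b 0 1 0 0 := by
    rw [← qSL_J hab (by ring), cq]
  have e2 : y1 * y1 = y2 := by
    rw [hy1d, hy2d]
    exact qSL_mul hab n1 n1 n2
      (by field_simp; linear_combination -(0 : F) * ht) (by field_simp; ring) (by field_simp; linear_combination (2 : F) * ht) (by ring)
  have e3 : y1 * y2 = y3 := by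
    rw [hy1d, hy2d, hy3d]
    exact qSL_mul hab n1 n2 n3
      (by field_simp; linear_combination (1 : F) * ht) (by field_simp; linear_combination (1 : F) * ht) (by field_simp; linear_combination (1 : F) * ht) (by field_simp; linear_combination (-1 : F) * ht)
  have e4 : y1 * y3 = y4 := by
    rw [hy1d, hy3d, hy4d]
    exact qSL_mul hab n1 n3 n4
      (by field_simp; linear_combination (-1 : F) * ht) (by field_simp; linear_combination (1 : F) * ht) (by field_simp; linear_combination (-1 : F) * ht) (by field_simp; linear_combination (-1 : F) * ht)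
  have e5 : y1 * y4 = -1 := by
    rw [hy1d, hy4d, ← qSL_neg_one hab (by ring)]
    exact qSL_mul hab n1 n4 _
      (by field_simp; linear_combination (-2 : F) * ht) (by field_simp; ring) (by field_simp; ring) (by field_simp; ring)
  have q1 : pi F y1 ^ 1 = pi F y1 := pow_one _
  have q2 : pi F y1 ^ 2 = pi F y2 := by rw [pow_two, ← map_mul, e2]
  have q3 : pi F y1 ^ 3 = pi F y3 := by rw [pow_succ', q2, ← map_mul, e3]
  have q4 : pi F y1 ^ 4 = pi F y4 := by rw [pow_succ', q3, ← map_mul, e4]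
  have q5 : pi F y1 ^ 5 = 1 := by rw [pow_succ', q4, ← map_mul, e5, pi_neg, map_one]
  have d := alt4Data hab h2
  set A := kSub (pi F jSL) (pi F (bq hab)) d.ha d.hb d.hc ⊔ Subgroup.zpowers (pi F (wq hab h2))
  have jA : pi F jSL ∈ A := Subgroup.mem_sup_left (mem_kSub.2 (Or.inr (Or.inl rfl)))
  have bA : pi F (bq hab) ∈ A := Subgroup.mem_sup_left (mem_kSub.2 (Or.inr (Or.inr (Or.inl rfl))))
  have wA : pi F (wq hab h2) ∈ A := Subgroup.mem_sup_right (Subgroup.mem_zpowers _)
  have r_a1 : jSL * y1 = -(y2 * wq hab h2 * wq hab h2) := by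
    apply Subtype.ext
    simp only [wq, bq, hy1d, hy2d, hy3d, hy4d, cq, hJ, Matrix.SpecialLinearGroup.coe_mul,
      Matrix.SpecialLinearGroup.coe_neg, quat_mul hab, neg_quat]
    congr 1 <;> field_simp <;> ring
  have r_a2 : jSL * y2 = y1 * wq hab h2 := by
    apply Subtype.ext
    simp only [wq, bq, hy1d, hy2d, hy3d, hy4d, cq, hJ, Matrix.SpecialLinearGroup.coe_mul,
      Matrix.SpecialLinearGroup.coe_neg, quat_mul hab, neg_quat]
    congr 1 <;> field_simp <;> ring
  have r_a3 : jSL * y3 = -(y4 * jSL * wq hab h2) := by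
    apply Subtype.ext
    simp only [wq, bq, hy1d, hy2d, hy3d, hy4d, cq, hJ, Matrix.SpecialLinearGroup.coe_mul,
      Matrix.SpecialLinearGroup.coe_neg, quat_mul hab, neg_quat]
    congr 1 <;> field_simp <;> ring
  have r_a4 : jSL * y4 = -(y3 * bq hab * wq hab h2 * wq hab h2) := by
    apply Subtype.ext
    simp only [wq, bq, hy1d, hy2d, hy3d, hy4d, cq, hJ, Matrix.SpecialLinearGroup.coe_mul,
      Matrix.SpecialLinearGroup.coe_neg, quat_mul hab, neg_quat]
    congr 1 <;> field_simp <;> ring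
  have r_w1 : wq hab h2 * y1 = -(y3 * jSL * wq hab h2) := by
    apply Subtype.ext
    simp only [wq, bq, hy1d, hy2d, hy3d, hy4d, cq, hJ, Matrix.SpecialLinearGroup.coe_mul,
      Matrix.SpecialLinearGroup.coe_neg, quat_mul hab, neg_quat]
    congr 1 <;> field_simp <;> ring
  have r_w2 : wq hab h2 * y2 = -(y2 * bq hab * wq hab h2 * wq hab h2) := by
    apply Subtype.ext
    simp only [wq, bq, hy1d, hy2d, hy3d, hy4d, cq, hJ, Matrix.SpecialLinearGroup.coe_mul,
      Matrix.SpecialLinearGroup.coe_neg, quat_mul hab, neg_quat]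
    congr 1 <;> field_simp <;> ring
  have r_w3 : wq hab h2 * y3 = y4 * jSL := by
    apply Subtype.ext
    simp only [wq, bq, hy1d, hy2d, hy3d, hy4d, cq, hJ, Matrix.SpecialLinearGroup.coe_mul,
      Matrix.SpecialLinearGroup.coe_neg, quat_mul hab, neg_quat]
    congr 1 <;> field_simp <;> ring
  have r_w4 : wq hab h2 * y4 = y1 * wq hab h2 * wq hab h2 := by
    apply Subtype.ext
    simp only [wq, bq, hy1d, hy2d, hy3d, hy4d, cq, hJ, Matrix.SpecialLinearGroup.coe_mul,
      Matrix.SpecialLinearGroup.coe_neg, quat_mul hab, neg_quat]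
    congr 1 <;> field_simp <;> ring
  refine exists_alt5 d (pi F y1) q5 ?_ ?_ ?_
  · intro h
    rw [h] at q1
    rcases pi_eq_one.1 h with h' | h' <;>
    · have e01 := congrArg (fun g : SL(2, F) => Matrix.trace (g * jSL : SL(2, F)).1) h'
      simp only [Matrix.SpecialLinearGroup.coe_mul, hy1d, cq, hJ, quat_mul hab,
        Matrix.SpecialLinearGroup.coe_one, Matrix.SpecialLinearGroup.coe_neg, one_mul, neg_mul,
        neg_quat] at e01
      simp [quat, Matrix.trace_fin_two] at e01
      exact one_ne_zero (α := F) (by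
        first
        | linear_combination -e01 - mul_inv_cancel₀ h2
        | linear_combination e01 - mul_inv_cancel₀ h2)
  · rintro g (rfl | rfl) k hk1 hk4 <;> interval_cases k
    · exact ⟨2, pi F (wq hab h2) * pi F (wq hab h2), (mul_mem wA wA), by
        rw [q1, q2, ← map_mul, r_a1, pi_neg]; simp only [map_mul, mul_assoc]⟩
    · exact ⟨1, pi F (wq hab h2), wA, by
        rw [q2, q1, ← map_mul, r_a2]; simp only [map_mul, mul_assoc]⟩
    · exact ⟨4, pi F jSL * pi F (wq hab h2), (mul_mem jA wA), by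
        rw [q3, q4, ← map_mul, r_a3, pi_neg]; simp only [map_mul, mul_assoc]⟩
    · exact ⟨3, pi F (bq hab) * pi F (wq hab h2) * pi F (wq hab h2), (mul_mem (mul_mem bA wA) wA), by
        rw [q4, q3, ← map_mul, r_a4, pi_neg]; simp only [map_mul, mul_assoc]⟩
    · exact ⟨3, pi F jSL * pi F (wq hab h2), (mul_mem jA wA), by
        rw [q1, q3, ← map_mul, r_w1, pi_neg]; simp only [map_mul, mul_assoc]⟩
    · exact ⟨2, pi F (bq hab) * pi F (wq hab h2) * pi F (wq hab h2), (mul_mem (mul_mem bA wA) wA), by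
        rw [q2, ← map_mul, r_w2, pi_neg]; simp only [map_mul, mul_assoc]⟩
    · exact ⟨4, pi F jSL, jA, by
        rw [q3, q4, ← map_mul, r_w3]; simp only [map_mul, mul_assoc]⟩
    · exact ⟨1, pi F (wq hab h2) * pi F (wq hab h2), (mul_mem wA wA), by
        rw [q4, q1, ← map_mul, r_w4]; simp only [map_mul, mul_assoc]⟩
  · intro hmem
    have hyi : pi F (qSL hab (t * 2⁻¹) (-(2⁻¹)) (-((t - 1) * 2⁻¹)) 0 (by linear_combination n1)) =
        (pi F y1)⁻¹ := by
      rw [eq_inv_iff_mul_eq_one, ← map_mul]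
      refine pi_eq_one.2 (Or.inl ?_)
      rw [hy1d, ← qSL_one hab (by ring)]
      exact qSL_mul hab _ _ _ (by linear_combination n1) (by ring) (by ring) (by ring)
    rw [← hyi, ← map_mul, ← map_mul] at hmem
    have htv : t ≠ 0 ∧ t ≠ 2 ∧ t ≠ -2 := by
      refine ⟨fun h => ?_, fun h => ?_, fun h => ?_⟩
      · rw [h] at ht; simp at ht
      · exact one_ne_zero (α := F) (by rw [h] at ht; linear_combination ht)
      · exact h5 (by rw [h] at ht; linear_combination ht)
    set X := y1 * jSL * qSL hab (t * 2⁻¹) (-(2⁻¹)) (-((t - 1) * 2⁻¹)) 0 (by linear_combination n1)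
    have htr : Matrix.trace (X * jSL : SL(2, F)).1 = -t := by
      simp only [X, Matrix.SpecialLinearGroup.coe_mul, hy1d, cq, hJ, quat_mul hab]
      simp [quat, Matrix.trace_fin_two]
      field_simp
      linear_combination (0 : F) * ht
    have hv : ∀ v : SL(2, F), pi F X = pi F v → Matrix.trace (v * jSL : SL(2, F)).1 = -t ∨
        Matrix.trace (v * jSL : SL(2, F)).1 = t := by
      intro v h
      rcases pi_eq_iff.1 h with h' | h'
      · left; rw [← h']; exact htr
      · right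
        rw [h', neg_mul, Matrix.SpecialLinearGroup.coe_neg, Matrix.trace_neg, neg_inj] at htr
        rw [htr]
    rcases mem_kSub.1 hmem with h | h | h | h
    · have := hv 1 (by rw [h, map_one])
      simp only [Matrix.SpecialLinearGroup.coe_mul, hJ, Matrix.SpecialLinearGroup.coe_one, one_mul] at this
      simp [quat, Matrix.trace_fin_two] at this
      exact htv.1 (by rcases this with h | h <;> first | linear_combination h | linear_combination -h)
    · have := hv jSL h
      simp only [Matrix.SpecialLinearGroup.coe_mul, hJ, quat_mul hab] at this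
      simp [quat, Matrix.trace_fin_two] at this
      rcases this with h | h
      · exact htv.2.1 (by linear_combination h)
      · exact htv.2.2 (by linear_combination -h)
    · have := hv (bq hab) h
      simp only [Matrix.SpecialLinearGroup.coe_mul, hJ, bq, cq, quat_mul hab] at this
      simp [quat, Matrix.trace_fin_two] at this
      exact htv.1 (by rcases this with h | h <;> first | linear_combination h | linear_combination -h)
    · rw [← map_mul] at h
      have := hv (jSL * bq hab) h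
      simp only [Matrix.SpecialLinearGroup.coe_mul, hJ, bq, cq, quat_mul hab] at this
      simp [quat, Matrix.trace_fin_two] at this
      exact htv.1 (by rcases this with h | h <;> first | linear_combination h | linear_combination -h)

end psl

end Cfsg.Agent.Forms.KleinIco
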