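import Cfsg.Prelude.Def_LieTypeDatum
import Cfsg.Agent.Lib.Classical.QuadClass
import Cfsg.Agent.Lib.Forms.QuadStd
import Cfsg.Agent.Lib.Forms.Disc
import Cfsg.Agent.Lib.Forms.SympStd
import Cfsg.Agent.Lib.AutPSp.FieldCent

/-!
# Similarity groups of symmetric and alternating matrices over a finite field

Transport of a similarity group along a linear equivalence, normal forms, and the determinants
of similitudes.
-/

set_option autoImplicit false
set_option linter.unusedSectionVars false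

namespace Cfsg.Agent.Forms.SimForms

open Matrix Cfsg.Agent.Classical Cfsg.Agent.Forms

universe u

variable {K : Type u} [Field K]

section Transport

variable {ι κ : Type} [Fintype ι] [DecidableEq ι] [Fintype κ] [DecidableEq κ]

/-- Conjugation of matrices by a linear equivalence. -/
def matConj (e : (ι → K) ≃ₗ[K] (κ → K)) : Matrix ι ι K ≃* Matrix κ κ K where
  toFun X := LinearMap.toMatrix' (e.conj (Matrix.toLin' X))
  invFun Y := LinearMap.toMatrix' (e.symm.conj (Matrix.toLin' Y))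
  left_inv X := by
    simp only [Matrix.toLin'_toMatrix', LinearEquiv.conj_symm_conj, LinearMap.toMatrix'_toLin']
  right_inv Y := by
    simp only [Matrix.toLin'_toMatrix', LinearEquiv.conj_conj_symm, LinearMap.toMatrix'_toLin']
  map_mul' X Y := by
    simp only [Matrix.toLin'_mul, LinearEquiv.conj_comp, LinearMap.toMatrix'_comp]

/-- Conjugation of invertible matrices by a linear equivalence. -/
def mapGL (e : (ι → K) ≃ₗ[K] (κ → K)) : GL ι K ≃* GL κ K := Units.mapEquiv (matConj e)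

theorem mapGL_mulVec (e : (ι → K) ≃ₗ[K] (κ → K)) (g : GL ι K) (v : ι → K) :
    ((mapGL e g : GL κ K) : Matrix κ κ K) *ᵥ e v = e ((g : Matrix ι ι K) *ᵥ v) := by
  change LinearMap.toMatrix' (e.conj (Matrix.toLin' (g : Matrix ι ι K))) *ᵥ e v = _
  rw [← Matrix.toLin'_apply, Matrix.toLin'_toMatrix', LinearEquiv.conj_apply_apply,
    e.symm_apply_apply, Matrix.toLin'_apply]

theorem det_mapGL (e : (ι → K) ≃ₗ[K] (κ → K)) (g : GL ι K) :
    Matrix.GeneralLinearGroup.det (mapGL e g) = Matrix.GeneralLinearGroup.det g := by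
  refine Units.ext ?_
  change (LinearMap.toMatrix' (e.conj (Matrix.toLin' (g : Matrix ι ι K)))).det = (g : Matrix ι ι K).det
  rw [LinearMap.det_toMatrix', LinearEquiv.conj_apply]
  exact (LinearMap.det_conj _ e).trans (LinearMap.det_toLin' _)

theorem mapGL_scalar (e : (ι → K) ≃ₗ[K] (κ → K)) (a : Kˣ) :
    mapGL e (Units.map (Matrix.scalar ι : K →+* Matrix ι ι K).toMonoidHom a) =
      Units.map (Matrix.scalar κ : K →+* Matrix κ κ K).toMonoidHom a := by
  refine Units.ext (Matrix.ext_iff_mulVec.2 fun w => ?_)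
  obtain ⟨v, rfl⟩ := e.surjective w
  rw [mapGL_mulVec]
  have h1 : ((Units.map (Matrix.scalar ι : K →+* Matrix ι ι K).toMonoidHom a : GL ι K) :
      Matrix ι ι K) *ᵥ v = (a : K) • v := by
    funext i
    simp [Matrix.mulVec_diagonal]
  have h2 : ((Units.map (Matrix.scalar κ : K →+* Matrix κ κ K).toMonoidHom a : GL κ K) :
      Matrix κ κ K) *ᵥ e v = (a : K) • e v := by
    funext i
    simp [Matrix.mulVec_diagonal]
  rw [h1, h2, map_smul]

theorem mem_scalars_mapGL (e : (ι → K) ≃ₗ[K] (κ → K)) (g : GL ι K) :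
    mapGL e g ∈ Geo.scalars κ K ↔ g ∈ Geo.scalars ι K := by
  constructor
  · rintro ⟨a, ha⟩
    exact ⟨a, (mapGL e).injective (by rw [mapGL_scalar]; exact ha)⟩
  · rintro ⟨a, rfl⟩
    exact ⟨a, (mapGL_scalar e a).symm⟩

theorem projQuot_congr (e : (ι → K) ≃ₗ[K] (κ → K)) (S : Subgroup (GL ι K)) (T : Subgroup (GL κ K))
    (h : ∀ g, mapGL e g ∈ T ↔ g ∈ S) : Nonempty (projQuot S ≃* projQuot T) := by
  have hmap : S.map (mapGL e).toMonoidHom = T := by
    ext t
    obtain ⟨g, rfl⟩ := (mapGL e).surjective t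
    rw [h]
    exact Subgroup.mem_map_iff_mem (mapGL e).injective
  let E : S ≃* T := ((mapGL e).subgroupMap S).trans (MulEquiv.subgroupCongr hmap)
  refine ⟨QuotientGroup.congr _ _ E ?_⟩
  ext t
  obtain ⟨s, rfl⟩ := E.surjective t
  change _ ↔ mapGL e (s : GL ι K) ∈ Geo.scalars κ K
  rw [mem_scalars_mapGL, Subgroup.mem_map]
  exact ⟨fun ⟨x, hx, hxs⟩ => E.injective hxs ▸ hx, fun hs => ⟨s, hs, rfl⟩⟩

theorem sim_map (e : (ι → K) ≃ₗ[K] (κ → K)) (f : (ι → K) → (ι → K) → K) (f' : (κ → K) → (κ → K) → K)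
    {l : K} (hl : l ≠ 0) (h : ∀ u v, f' (e u) (e v) = l * f u v) (g : GL ι K) :
    mapGL e g ∈ Geo.similarityGroup f' ↔ g ∈ Geo.similarityGroup f := by
  constructor
  · rintro ⟨c, hc⟩
    refine ⟨c, fun u v => mul_left_cancel₀ hl ?_⟩
    rw [← h, ← mapGL_mulVec, ← mapGL_mulVec, hc, h, mul_left_comm]
  · rintro ⟨c, hc⟩
    refine ⟨c, fun u v => ?_⟩
    obtain ⟨u, rfl⟩ := e.surjective u
    obtain ⟨v, rfl⟩ := e.surjective v
    rw [mapGL_mulVec, mapGL_mulVec, h, h, hc, mul_left_comm]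

theorem quadSim_map (e : (ι → K) ≃ₗ[K] (κ → K)) (Q : (ι → K) → K) (Q' : (κ → K) → K)
    {l : K} (hl : l ≠ 0) (h : ∀ v, Q' (e v) = l * Q v) (g : GL ι K) :
    mapGL e g ∈ Geo.quadSimilarityGroup Q' ↔ g ∈ Geo.quadSimilarityGroup Q := by
  constructor
  · rintro ⟨c, hc⟩
    refine ⟨c, fun v => mul_left_cancel₀ hl ?_⟩
    rw [← h, ← mapGL_mulVec, hc, h, mul_left_comm]
  · rintro ⟨c, hc⟩
    refine ⟨c, fun v => ?_⟩
    obtain ⟨v, rfl⟩ := e.surjective v
    rw [mapGL_mulVec, h, h, hc, mul_left_comm]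

end Transport

variable {n : ℕ}

local notation "Vec" => (Fin n → K)
local notation "M" => Matrix (Fin n) (Fin n) K

/-- The bilinear form of a matrix. -/
def Bf (P : M) (u v : Vec) : K := u ⬝ᵥ (P *ᵥ v)

/-- The similarity group of the bilinear form of a matrix. -/
abbrev Sim (P : M) : Subgroup (GL (Fin n) K) := Geo.similarityGroup (Bf P)

theorem Bf_mulVec (P X : M) (u v : Vec) : Bf P (X *ᵥ u) (X *ᵥ v) = u ⬝ᵥ ((Xᵀ * P * X) *ᵥ v) := by
  rw [Bf, ← Matrix.mulVec_mulVec, ← Matrix.mulVec_mulVec, Matrix.dotProduct_mulVec u Xᵀ,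
    Matrix.vecMul_transpose]

theorem mat_eq_iff (P X R : M) (c : K) :
    (∀ u v, Bf P (X *ᵥ u) (X *ᵥ v) = c * Bf R u v) ↔ Xᵀ * P * X = c • R := by
  constructor
  · intro h
    ext i j
    have h1 := h (Pi.single i 1) (Pi.single j 1)
    rw [Bf_mulVec] at h1
    simpa [Bf, Matrix.mulVec_single_one] using h1
  · intro h u v
    rw [Bf_mulVec, h, Matrix.smul_mulVec, dotProduct_smul, smul_eq_mul]
    rfl

theorem mem_Sim {P : M} {g : GL (Fin n) K} :
    g ∈ Sim P ↔ ∃ k : Kˣ, (g : M)ᵀ * P * (g : M) = (k : K) • P :=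
  exists_congr fun k => mat_eq_iff P g P (k : K)

theorem Bf_comm {P : M} {c : K} (hP : Pᵀ = c • P) (u v : Vec) : Bf P v u = c * Bf P u v := by
  rw [Bf, Bf, dotProduct_mulVec, ← mulVec_transpose, hP, smul_mulVec, smul_dotProduct, smul_eq_mul,
    dotProduct_comm]

theorem toBilin'_eq (P : M) (u v : Vec) : Matrix.toBilin' P u v = Bf P u v :=
  Matrix.toBilin'_apply' P u v

/-- The quadratic form of a matrix. -/
noncomputable def Qm (P : M) : QuadraticForm K Vec := (Matrix.toBilin' P).toQuadraticMap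

theorem Qm_apply (P : M) (v : Vec) : Qm P v = Bf P v v := toBilin'_eq P v v

theorem polar_Qm {P : M} (hP : Pᵀ = P) (u v : Vec) : QuadraticMap.polar (Qm P) u v = 2 * Bf P u v := by
  rw [Qm, LinearMap.BilinMap.polar_toQuadraticMap, toBilin'_eq, toBilin'_eq,
    Bf_comm (c := 1) (by rw [hP, one_smul]) u v]
  ring

theorem nondeg (P : GL (Fin n) K) : (Matrix.toBilin' (P : M)).Nondegenerate := by
  refine LinearMap.BilinForm.nondegenerate_toBilin'_of_det_ne_zero' _ ?_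
  exact (Matrix.GeneralLinearGroup.det P).ne_zero

theorem Bf_eq_zero (P : GL (Fin n) K) {u : Vec} (h : ∀ v, Bf (P : M) u v = 0) : u = 0 :=
  (nondeg P).1 u fun v => by rw [toBilin'_eq]; exact h v

theorem nondeg_Qm (h2 : (2 : K) ≠ 0) (P : GL (Fin n) K) (hP : (P : M)ᵀ = (P : M)) :
    (QuadraticMap.polarBilin (Qm (P : M))).Nondegenerate := by
  have key : ∀ u : Vec, (∀ v, QuadraticMap.polar (Qm (P : M)) u v = 0) → u = 0 := fun u hu =>
    Bf_eq_zero P fun v => by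
      have := hu v
      rw [polar_Qm hP] at this
      exact (mul_eq_zero.1 this).resolve_left h2
  exact ⟨fun x hx => key x hx, fun x hx => key x fun y => (QuadraticMap.polar_comm _ x y).trans (hx y)⟩

theorem sim_eq_quadSim (h2 : (2 : K) ≠ 0) {P : M} (hP : Pᵀ = P) (g : GL (Fin n) K) :
    g ∈ Sim P ↔ g ∈ Geo.quadSimilarityGroup ⇑(Qm P) := by
  constructor
  · rintro ⟨c, hc⟩
    exact ⟨c, fun v => by rw [Qm_apply, Qm_apply, hc]⟩
  · rintro ⟨c, hc⟩
    refine ⟨c, fun u v => mul_left_cancel₀ h2 ?_⟩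
    rw [mul_left_comm, ← polar_Qm hP, ← polar_Qm hP]
    simp only [QuadraticMap.polar, ← Matrix.mulVec_add, hc]
    ring

/-- A linear equivalence of quadratic forms gives a congruence of matrices. -/
theorem exists_congr_of_quad (h2 : (2 : K) ≠ 0) {P P' : M} (hP : Pᵀ = P) (hP' : P'ᵀ = P')
    (e : Vec ≃ₗ[K] Vec) {l : K} (h : ∀ v, Qm P' (e v) = l * Qm P v) :
    ∃ E : GL (Fin n) K, (E : M)ᵀ * P' * (E : M) = l • P := by
  have hE : ∀ v, LinearMap.toMatrix' e.toLinearMap *ᵥ v = e v := fun v => by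
    rw [← Matrix.toLin'_apply, Matrix.toLin'_toMatrix']
    rfl
  refine ⟨QuadStd.glOfEquiv e, (mat_eq_iff _ _ _ _).1 fun u v => mul_left_cancel₀ h2 ?_⟩
  rw [QuadStd.glOfEquiv_mulVec, QuadStd.glOfEquiv_mulVec, mul_left_comm, ← polar_Qm hP, ← polar_Qm hP']
  simp only [QuadraticMap.polar, ← map_add, h]
  ring

theorem exists_congr_of_form {P P' : M} (e : Vec ≃ₗ[K] Vec) {l : K}
    (h : ∀ u v, Bf P' (e u) (e v) = l * Bf P u v) :
    ∃ E : GL (Fin n) K, (E : M)ᵀ * P' * (E : M) = l • P :=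
  ⟨QuadStd.glOfEquiv e, (mat_eq_iff _ _ _ _).1 fun u v => by
    rw [QuadStd.glOfEquiv_mulVec, QuadStd.glOfEquiv_mulVec]; exact h u v⟩

/-! ### Normal forms -/

section Normal

variable {m : ℕ}

theorem odd_std [Fintype K] (h2 : (2 : K) ≠ 0) (P : GL (Fin n) K) (hP : (P : M)ᵀ = (P : M))
    (hn : n = 2 * m + 1) :
    ∃ (e : Vec ≃ₗ[K] (Unit ⊕ (Fin m ⊕ Fin m) → K)) (l : K), l ≠ 0 ∧
      ∀ v, Cfsg.quadFormOdd m K (e v) = l * Qm (P : M) v := by
  obtain ⟨c, hc, e, he⟩ :=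
    QuadClass.classify_odd m (V := Vec) (by simp [hn]) _ (nondeg_Qm h2 P hP)
  let d : Unit ⊕ (Fin m ⊕ Fin m) → Kˣ := Sum.elim (fun _ => 1)
    (Sum.elim (fun _ => (Units.mk0 c hc)⁻¹) fun _ => 1)
  let s : (Unit ⊕ (Fin m ⊕ Fin m) → K) ≃ₗ[K] (Unit ⊕ (Fin m ⊕ Fin m) → K) :=
    LinearEquiv.piCongrRight fun i => LinearEquiv.smulOfUnit (d i)
  refine ⟨e.trans s, c⁻¹, inv_ne_zero hc, fun v => ?_⟩
  rw [← he v, PlusStd.plusQ_apply, mul_add, ← mul_assoc, inv_mul_cancel₀ hc, one_mul, Cfsg.quadFormPlus, Finset.mul_sum,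
    Cfsg.quadFormOdd]
  simp [s, d, mul_assoc, show ∀ (u : Kˣ) (x : K), LinearEquiv.smulOfUnit u x = (u : K) * x from
    fun _ _ => rfl]

theorem even_std [Fintype K] (h2 : (2 : K) ≠ 0) (P : GL (Fin n) K) (hP : (P : M)ᵀ = (P : M))
    (hn : n = 2 * m) :
    (∃ e : Vec ≃ₗ[K] (Fin m ⊕ Fin m → K), ∀ v, Cfsg.quadFormPlus m K (e v) = 1 * Qm (P : M) v) ∨
    (1 ≤ m ∧ ∃ (ζ : K) (e : Vec ≃ₗ[K] ((Fin (m - 1) ⊕ Fin (m - 1)) ⊕ Fin 2 → K)),
      (∀ z₁ z₂ : K, z₁ ^ 2 + 1 * z₁ * z₂ + ζ * z₂ ^ 2 = 0 → z₁ = 0 ∧ z₂ = 0) ∧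
      ∀ v, Cfsg.quadFormMinus (m - 1) K 1 ζ (e v) = 1 * Qm (P : M) v) := by
  rcases QuadClass.classify_even m (V := Vec) (by simp [hn]) _ (nondeg_Qm h2 P hP) with
    ⟨e, he⟩ | ⟨hm, ζ, e, hζ, he⟩
  · exact Or.inl ⟨e, fun v => by rw [← OrthForms.plusQ_eq, he, one_mul]⟩
  · exact Or.inr ⟨hm, ζ, e, QuadClass.aniso_one hζ, fun v => by rw [← OrthForms.minQ_eq, he, one_mul]⟩

theorem alt_std (P : GL (Fin n) K) (hP : ∀ v : Vec, Bf (P : M) v v = 0) (hn : n = 2 * m) :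
    ∃ e : Vec ≃ₗ[K] (Fin m ⊕ Fin m → K), ∀ u v, Cfsg.sympForm m K (e u) (e v) = Bf (P : M) u v := by
  classical
  obtain ⟨b, hef, hee, hff⟩ := Bases.exists_sympBasis (Matrix.toBilin' (P : M))
    (fun v => by rw [toBilin'_eq]; exact hP v) (nondeg P) (m := m) (by simp [hn])
  let b' : Module.Basis (Fin m ⊕ Fin m) K (Fin m ⊕ Fin m → K) :=
    (Pi.basisFun K (Fin m ⊕ Fin m)).reindex (Equiv.sumComm (Fin m) (Fin m))
  refine ⟨b.equiv b' (Equiv.refl _), fun u v => ?_⟩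
  have halt : ∀ i j, Bf (P : M) (b (.inr i)) (b (.inl j)) = -(if j = i then (1 : K) else 0) := by
    intro i j
    have h := hP (b (.inr i) + b (.inl j))
    simp only [← toBilin'_eq, map_add, LinearMap.add_apply] at h ⊢
    simp only [hff, hee, hef] at h
    linear_combination h
  rw [← toBilin'_eq, ← SympStd.sympB_apply]
  refine Disc.isometry_of_bases _ _ b b' (fun i j => ?_) u v
  have hb' : ∀ i, b' i = Pi.single i.swap (1 : K) := fun i => by simp [b']
  rw [hb', hb', SympStd.sympB_apply]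
  rcases i with i | i <;> rcases j with j | j <;> simp only [Sum.swap_inl, Sum.swap_inr]
  · rw [SympStd.sympForm_inr_inr, hee]
  · rw [SympStd.sympForm_inr_inl, hef]
  · rw [SympStd.sympForm_inl_inr, toBilin'_eq, halt]
    simp only [eq_comm]
    split_ifs <;> simp
  · rw [SympStd.sympForm_inl_inl, hff]

theorem alt_of_skew (h2 : (2 : K) ≠ 0) {P : M} (hP : Pᵀ = (-1 : K) • P) (v : Vec) : Bf P v v = 0 := by
  have h := Bf_comm hP v v
  exact (mul_eq_zero.1 (show (2 : K) * Bf P v v = 0 by linear_combination h)).resolve_left h2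

end Normal

/-! ### Determinants -/

theorem det_sq {P : GL (Fin n) K} {g : GL (Fin n) K} {k : K}
    (h : (g : M)ᵀ * (P : M) * (g : M) = k • (P : M)) : (g : M).det ^ 2 = k ^ n := by
  have h1 := congrArg Matrix.det h
  rw [det_mul, det_mul, det_transpose, det_smul, Fintype.card_fin] at h1
  have hP : (P : M).det ≠ 0 := (Matrix.GeneralLinearGroup.det P).ne_zero
  exact mul_right_cancel₀ hP (by linear_combination h1)

theorem exists_root_of_det [Fintype K] (hn : Odd n ∨ (2 : K) = 0) {P : GL (Fin n) K}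
    {g : GL (Fin n) K} {k : K} (h : (g : M)ᵀ * (P : M) * (g : M) = k • (P : M)) :
    ∃ a : K, a * a = k ∧ (g : M).det = a ^ n := by
  have hd := det_sq h
  have hdet : (g : M).det ≠ 0 := (Matrix.GeneralLinearGroup.det g).ne_zero
  rcases hn with ⟨j, hj⟩ | h2
  · have hk : k ≠ 0 := fun h0 => hdet (by
      rw [h0, zero_pow (by omega)] at hd
      exact eq_zero_of_pow_eq_zero hd)
    set a := (g : M).det / k ^ j
    have ha : a * a = k := by
      rw [div_mul_div_comm, ← pow_two, hd, div_eq_iff (by positivity), ← pow_two, ← pow_mul, ← pow_succ']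
      congr 1
      omega
    refine ⟨a, ha, ?_⟩
    calc (g : M).det = a * k ^ j := (div_mul_cancel₀ _ (pow_ne_zero _ hk)).symm
      _ = a ^ n := by rw [← ha, ← pow_two, ← pow_mul, ← pow_succ', hj]
  · have : CharP K 2 := CharTwo.of_one_ne_zero_of_two_eq_zero one_ne_zero h2
    obtain ⟨a, rfl⟩ : IsSquare k := FiniteField.isSquare_of_char_two (ringChar.eq K 2) k
    exact ⟨a, rfl, CharTwo.sq_inj.1 (by rw [hd, ← pow_two a, ← pow_mul, ← pow_mul, mul_comm])⟩

theorem det_symplectic {m : ℕ} (A : Matrix.symplecticGroup (Fin m) K) :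
    (A : Matrix (Fin m ⊕ Fin m) (Fin m ⊕ Fin m) K).det = 1 := by
  have h : ∀ B ∈ Subgroup.closure (SympStd.tvSet (F := K) (m := m) ∅),
      (B : Matrix (Fin m ⊕ Fin m) (Fin m ⊕ Fin m) K).det = 1 := by
    intro B hB
    induction hB using Subgroup.closure_induction with
    | mem B hB =>
      obtain ⟨w, c, -, hB⟩ := hB
      rw [hB, Cfsg.sympTransvection, ← Matrix.smul_vecMulVec, Matrix.vecMulVec_eq Unit,
        Matrix.det_one_add_replicateCol_mul_replicateRow]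
      have : (Matrix.J (Fin m) K *ᵥ w) ⬝ᵥ (c • w) = 0 := by
        rw [dotProduct_smul, dotProduct_comm, ← Cfsg.sympForm, SympStd.sympForm_self, smul_zero]
      rw [this, add_zero]
    | one => exact Matrix.det_one
    | mul x y _ _ hx hy =>
      change (_ * _ : Matrix (Fin m ⊕ Fin m) (Fin m ⊕ Fin m) K).det = 1
      rw [det_mul, hx, hy, one_mul]
    | inv x _ hx =>
      have h1 := congrArg (fun z : Matrix.symplecticGroup (Fin m) K =>
        (z : Matrix (Fin m ⊕ Fin m) (Fin m ⊕ Fin m) K).det) (inv_mul_cancel x)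
      simp only [Submonoid.coe_mul, det_mul, hx, mul_one, Submonoid.coe_one, det_one] at h1
      exact h1
  exact h A (by rw [SympStd.closure_tvSet_eq_top]; trivial)

theorem det_gsp {m : ℕ} (hm : 1 ≤ m) (g : GSp m K) :
    Matrix.GeneralLinearGroup.det (g : GL (Fin m ⊕ Fin m) K) = AutPSp.FieldCent.mult hm g ^ m := by
  set a := AutPSp.FieldCent.mult hm g with ha
  let D : GL (Fin m ⊕ Fin m) K := Matrix.GeneralLinearGroup.mkOfDetNeZero
    (Matrix.diagonal (Sum.elim (fun _ => (a : K)) fun _ => 1))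
    (by rw [Matrix.det_diagonal]; exact Finset.prod_ne_zero_iff.2 fun k _ => by rcases k with k | k <;> simp)
  have hDc : (D : Matrix (Fin m ⊕ Fin m) (Fin m ⊕ Fin m) K) =
      Matrix.diagonal (Sum.elim (fun _ => (a : K)) fun _ => 1) := rfl
  have h : ∀ u v, Cfsg.sympForm m K ((D : Matrix (Fin m ⊕ Fin m) (Fin m ⊕ Fin m) K) *ᵥ u) ((D : Matrix (Fin m ⊕ Fin m) (Fin m ⊕ Fin m) K) *ᵥ v) =
      (a : K) * Cfsg.sympForm m K u v := fun u v => by
    simp only [SympStd.sympForm_eq, hDc, Matrix.mulVec_diagonal, Finset.mul_sum]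
    refine Finset.sum_congr rfl fun i _ => ?_
    simp
    ring
  have hs : ((D⁻¹ * (g : GL (Fin m ⊕ Fin m) K) : GL (Fin m ⊕ Fin m) K) : Matrix (Fin m ⊕ Fin m) (Fin m ⊕ Fin m) K) ∈ Matrix.symplecticGroup (Fin m) K := by
    refine SympStd.mem_sp_iff.2 fun u v => mul_left_cancel₀ a.ne_zero ?_
    rw [← h, Matrix.mulVec_mulVec, Matrix.mulVec_mulVec, ← Units.val_mul, mul_inv_cancel_left]
    exact AutPSp.FieldCent.mult0_spec g u v
  have h1 := det_symplectic ⟨_, hs⟩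
  refine Units.ext ?_
  have hg : ((g : GL (Fin m ⊕ Fin m) K) : Matrix (Fin m ⊕ Fin m) (Fin m ⊕ Fin m) K) =
      (D : Matrix (Fin m ⊕ Fin m) (Fin m ⊕ Fin m) K) * ((D⁻¹ * (g : GL (Fin m ⊕ Fin m) K) : GL (Fin m ⊕ Fin m) K) : Matrix (Fin m ⊕ Fin m) (Fin m ⊕ Fin m) K) := by
    rw [← Units.val_mul, mul_inv_cancel_left]
  change ((g : GL (Fin m ⊕ Fin m) K) : Matrix (Fin m ⊕ Fin m) (Fin m ⊕ Fin m) K).det = _
  rw [hg, det_mul, h1, mul_one, hDc, det_diagonal, Fintype.prod_sum_type]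
  simp

/-- The determinant of a similitude of an alternating form. -/
theorem det_alt {m : ℕ} (hm : 1 ≤ m) (P : GL (Fin n) K) (hP : ∀ v : Vec, Bf (P : M) v v = 0)
    (hn : n = 2 * m) {g : GL (Fin n) K} {k : K}
    (h : (g : M)ᵀ * (P : M) * (g : M) = k • (P : M)) : (g : M).det = k ^ m := by
  obtain ⟨e, he⟩ := alt_std P hP hn
  have hk : k ≠ 0 := fun h0 => by
    have := det_sq h
    rw [h0, zero_pow (by omega)] at this
    exact (Matrix.GeneralLinearGroup.det g).ne_zero (eq_zero_of_pow_eq_zero this)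
  have hmem : mapGL e g ∈ Cfsg.GSp m K :=
    (sim_map e (Bf (P : M)) _ one_ne_zero (fun u v => by rw [one_mul]; exact he u v) g).2
      ⟨Units.mk0 k hk, (mat_eq_iff _ _ _ _).2 h⟩
  have h1 := det_gsp hm ⟨_, hmem⟩
  rw [det_mapGL] at h1
  have h2 : (AutPSp.FieldCent.mult hm ⟨_, hmem⟩ : K) = k := by
    refine AutPSp.FieldCent.mult0_eq hm _ fun u v => ?_
    obtain ⟨u, rfl⟩ := e.surjective u
    obtain ⟨v, rfl⟩ := e.surjective v
    rw [mapGL_mulVec, mapGL_mulVec, he, he, (mat_eq_iff _ _ _ _).2 h]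
  have h3 := congrArg Units.val h1
  rw [Units.val_pow_eq_pow_val, h2] at h3
  exact h3

theorem exists_factor_alt {m : ℕ} (hm : 1 ≤ m) (P : GL (Fin n) K) (hP : ∀ v : Vec, Bf (P : M) v v = 0)
    (hn : n = 2 * m) (k : Kˣ) : ∃ g : GL (Fin n) K, (g : M)ᵀ * (P : M) * (g : M) = (k : K) • (P : M) := by
  obtain ⟨e, he⟩ := alt_std P hP hn
  obtain ⟨x, hx⟩ := AutPSp.FieldCent.exists_mult (F := K) hm k
  refine ⟨(mapGL e).symm (x : GL (Fin m ⊕ Fin m) K), (mat_eq_iff _ _ _ _).1 fun u v => ?_⟩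
  rw [← he, ← he, ← mapGL_mulVec, ← mapGL_mulVec, MulEquiv.apply_symm_apply,
    AutPSp.FieldCent.mult0_spec, ← hx]
  rfl

theorem exists_factor_sym [Fintype K] (h2 : (2 : K) ≠ 0) {m : ℕ} (P : GL (Fin n) K)
    (hP : (P : M)ᵀ = (P : M)) (hn : n = 2 * m) (k : Kˣ) :
    ∃ g : GL (Fin n) K, (g : M)ᵀ * (P : M) * (g : M) = (k : K) • (P : M) := by
  let P' : GL (Fin n) K := Units.map (Matrix.scalar (Fin n)).toMonoidHom k * P
  have hP'c : (P' : M) = (k : K) • (P : M) := by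
    change Matrix.scalar (Fin n) (k : K) * (P : M) = _
    rw [Matrix.scalar_apply, ← Matrix.smul_eq_diagonal_mul]
  have hP' : (P' : M)ᵀ = (P' : M) := by rw [hP'c, transpose_smul, hP]
  have hQ : ∀ v, Qm (P' : M) v = (k : K) * Qm (P : M) v := fun v => by
    rw [Qm_apply, Qm_apply, hP'c, Bf, Bf, smul_mulVec, dotProduct_smul, smul_eq_mul]
  obtain ⟨e, he⟩ := QuadClass.exists_isometry_of_zeros (m := m) (Qm (P' : M)) (Qm (P : M))
    (by simp [hn]) (by simp [hn]) (nondeg_Qm h2 P' hP') (nondeg_Qm h2 P hP)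
    (Nat.card_congr (Equiv.subtypeEquivRight fun v => by
      change Qm (P' : M) v = 0 ↔ Qm (P : M) v = 0
      rw [hQ, mul_eq_zero, or_iff_right k.ne_zero]))
  exact exists_congr_of_quad h2 hP hP e fun v => by rw [he, hQ]

theorem exists_reflection (h2 : (2 : K) ≠ 0) (hn : 1 ≤ n) (P : GL (Fin n) K)
    (hP : (P : M)ᵀ = (P : M)) :
    ∃ g : GL (Fin n) K, (g : M)ᵀ * (P : M) * (g : M) = (1 : K) • (P : M) ∧ (g : M).det = -1 := by
  obtain ⟨v, hv⟩ : ∃ v, Qm (P : M) v ≠ 0 := by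
    by_contra h
    push Not at h
    have hu : (Pi.single ⟨0, hn⟩ 1 : Vec) ≠ 0 := by simp
    refine hu (Bf_eq_zero P fun w => (mul_eq_zero.1 (show 2 * Bf (P : M) _ w = 0 from ?_)).resolve_left h2)
    rw [← polar_Qm hP, QuadraticMap.polar, h, h, h, sub_zero, sub_zero]
  refine ⟨(QuadStd.reflect (Qm (P : M)) v : GL (Fin n) K), (mat_eq_iff _ _ _ _).1 fun a b =>
    mul_left_cancel₀ h2 ?_, QuadStd.reflection_det _ hv⟩
  rw [one_mul, ← polar_Qm hP, ← polar_Qm hP]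
  exact QuadStd.iso_polar _ _ a b

end Cfsg.Agent.Forms.SimForms
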