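import Cfsg.Agent.Lib.Forms.SimProj

/-!
# Determinants of similitudes, and telling congruence classes apart
-/

set_option autoImplicit false
set_option linter.unusedSectionVars false

namespace Cfsg.Agent.Forms.SimDet

open Matrix Cfsg.Agent.Classical Cfsg.Agent.Forms Cfsg.Agent.Forms.SimForms

universe u

variable {K : Type u} [Field K] {n : ℕ}

local notation "M" => Matrix (Fin n) (Fin n) K
local notation "DetS" P => Subgroup.map Matrix.GeneralLinearGroup.det (Sim P)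

theorem scalar_smul (a : Kˣ) (g : GL (Fin n) K) :
    ((Units.map (Matrix.scalar (Fin n) : K →+* M).toMonoidHom a * g : GL (Fin n) K) : M) = (a : K) • (g : M) := by
  change Matrix.scalar (Fin n) (a : K) * (g : M) = _
  rw [Matrix.scalar_apply, ← Matrix.smul_eq_diagonal_mul]

theorem det_sim_root [Fintype K] (hn : Odd n ∨ (2 : K) = 0) (P : GL (Fin n) K) :
    (DetS (P : M)) ≤ (powMonoidHom n : Kˣ →* Kˣ).range := by
  rintro _ ⟨g, hg, rfl⟩
  obtain ⟨k, hk⟩ := mem_Sim.1 hg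
  obtain ⟨a, ha, hd⟩ := exists_root_of_det hn hk
  have ha0 : a ≠ 0 := fun h => k.ne_zero (by rw [← ha, h, zero_mul])
  exact ⟨Units.mk0 a ha0, Units.ext (by simp [hd])⟩

theorem det_sim_alt {m : ℕ} (hm : 1 ≤ m) (P : GL (Fin n) K) (hP : ∀ v, Bf (P : M) v v = 0)
    (hn : n = 2 * m) : (DetS (P : M)) = (powMonoidHom m : Kˣ →* Kˣ).range := by
  ext d
  constructor
  · rintro ⟨g, hg, rfl⟩
    obtain ⟨k, hk⟩ := mem_Sim.1 hg
    exact ⟨k, Units.ext (det_alt hm P hP hn hk).symm⟩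
  · rintro ⟨k, rfl⟩
    obtain ⟨g, hg⟩ := exists_factor_alt hm P hP hn k
    exact ⟨g, mem_Sim.2 ⟨k, hg⟩, Units.ext (det_alt hm P hP hn hg)⟩

theorem det_sim_sym [Fintype K] (h2 : (2 : K) ≠ 0) {m : ℕ} (hm : 1 ≤ m) (P : GL (Fin n) K)
    (hP : (P : M)ᵀ = (P : M)) (hn : n = 2 * m) :
    (DetS (P : M)) = (powMonoidHom m : Kˣ →* Kˣ).range ⊔ Subgroup.zpowers (-1) := by
  have key : ∀ (g : GL (Fin n) K) (k : Kˣ), (g : M)ᵀ * (P : M) * (g : M) = (k : K) • (P : M) →
      Matrix.GeneralLinearGroup.det g = k ^ m ∨ Matrix.GeneralLinearGroup.det g = -1 * k ^ m := by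
    intro g k hk
    have h := det_sq hk
    have h' : ((g : M).det - (k : K) ^ m) * ((g : M).det + (k : K) ^ m) = 0 := by
      linear_combination h.trans (show (k : K) ^ n = ((k : K) ^ m) ^ 2 by rw [← pow_mul, hn, mul_comm])
    rcases mul_eq_zero.1 h' with h1 | h1
    · exact Or.inl (Units.ext (by simpa [sub_eq_zero] using h1))
    · exact Or.inr (Units.ext (by simpa using eq_neg_of_add_eq_zero_left h1))
  have hneg : (-1 : Kˣ) ∈ (DetS (P : M)) := by
    obtain ⟨g, hg, hd⟩ := exists_reflection h2 (by omega) P hP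
    exact ⟨g, mem_Sim.2 ⟨1, hg⟩, Units.ext (by simpa using hd)⟩
  refine le_antisymm ?_ (sup_le ?_ (Subgroup.zpowers_le.2 hneg))
  · rintro _ ⟨g, hg, rfl⟩
    obtain ⟨k, hk⟩ := mem_Sim.1 hg
    rcases key g k hk with h | h <;> rw [h]
    · exact Subgroup.mem_sup_left ⟨k, rfl⟩
    · exact mul_mem (Subgroup.mem_sup_right (Subgroup.mem_zpowers _)) (Subgroup.mem_sup_left ⟨k, rfl⟩)
  · rintro _ ⟨k, rfl⟩
    obtain ⟨g, hg⟩ := exists_factor_sym h2 P hP hn k
    rcases key g k hg with h | h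
    · exact ⟨g, mem_Sim.2 ⟨k, hg⟩, h⟩
    · rw [powMonoidHom_apply, show k ^ m = -1 * Matrix.GeneralLinearGroup.det g by rw [h]; simp]
      exact mul_mem hneg ⟨g, mem_Sim.2 ⟨k, hg⟩, rfl⟩

/-- The determinants of the similitudes of a nondegenerate symmetric or alternating form, joined with the `n`-th powers. -/
theorem index_alt [Fintype K] {m : ℕ} (hm : 1 ≤ m) (P : GL (Fin n) K) (hP : ∀ v, Bf (P : M) v v = 0)
    (hn : n = 2 * m) :
    ((powMonoidHom n : Kˣ →* Kˣ).range ⊔ (DetS (P : M))).index = Nat.gcd m (Fintype.card K - 1) := by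
  rw [det_sim_alt hm P hP hn, sup_eq_right.2, IsCyclic.index_powMonoidHom_range, Nat.card_units,
    Nat.card_eq_fintype_card, Nat.gcd_comm]
  rintro _ ⟨a, rfl⟩
  exact ⟨a ^ 2, by simp only [powMonoidHom_apply, ← pow_mul, hn]⟩

theorem index_sym [Fintype K] (h2 : (2 : K) ≠ 0) {m : ℕ} (hm : 1 ≤ m) (P : GL (Fin n) K)
    (hP : (P : M)ᵀ = (P : M)) (hn : n = 2 * m) :
    ((powMonoidHom n : Kˣ →* Kˣ).range ⊔ (DetS (P : M))).index = Nat.gcd n (Fintype.card K - 1) / 2 := by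
  have hz : (-1 : Kˣ) ≠ 1 := fun h => h2 (by
    have h1 := congrArg Units.val h
    rw [Units.val_neg, Units.val_one] at h1
    linear_combination -h1)
  obtain ⟨he, hd⟩ := SimProj.range_pow_sup_zpowers (G := Kˣ) m (-1) (by simp) hz
  rw [det_sim_sym h2 hm P hP hn, sup_eq_right.2, he, IsCyclic.index_powMonoidHom_range, Nat.gcd_eq_right hd,
    Nat.card_units, Nat.card_eq_fintype_card, hn]
  refine le_trans ?_ le_sup_left
  rintro _ ⟨a, rfl⟩
  exact ⟨a ^ 2, by simp only [powMonoidHom_apply, ← pow_mul, hn]⟩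

theorem index_root [Fintype K] (hn : Odd n ∨ (2 : K) = 0) (P : GL (Fin n) K) :
    ((powMonoidHom n : Kˣ →* Kˣ).range ⊔ (DetS (P : M))).index = Nat.gcd n (Fintype.card K - 1) := by
  rw [sup_eq_left.2 (det_sim_root hn P), IsCyclic.index_powMonoidHom_range, Nat.card_units,
    Nat.card_eq_fintype_card, Nat.gcd_comm]

/-! ### Congruence classes -/

/-- Alternating and symmetric forms are not congruent up to a factor. -/
theorem not_congr_alt (h2 : (2 : K) ≠ 0) (hn : 1 ≤ n) {P P' E : GL (Fin n) K} {l : K}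
    (hP : (P : M)ᵀ = (-1 : K) • (P : M)) (hP' : (P' : M)ᵀ = (P' : M)) :
    (E : M)ᵀ * (P' : M) * (E : M) ≠ l • (P : M) := by
  intro h
  have ht := congrArg Matrix.transpose h
  rw [transpose_mul, transpose_mul, transpose_transpose, hP', transpose_smul, hP, ← mul_assoc, h, smul_smul] at ht
  have hl : l = 0 := by
    by_contra hl
    have h0 : ((2 : K) * l) • (P : M) = 0 := by
      rw [two_mul, add_smul]
      nth_rewrite 2 [ht]
      rw [← add_smul]
      simp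
    have h1 := congrArg (· * ((P⁻¹ : GL (Fin n) K) : M)) h0
    simp only [smul_mul, Units.mul_inv, zero_mul] at h1
    have h3 := congrFun (congrFun h1 ⟨0, by omega⟩) ⟨0, by omega⟩
    simp [h2, hl] at h3
  have : Nonempty (Fin n) := ⟨⟨0, by omega⟩⟩
  have := congrArg Matrix.det h
  rw [hl, zero_smul, det_zero, det_mul, det_mul, det_transpose] at this
  exact mul_ne_zero (mul_ne_zero (Matrix.GeneralLinearGroup.det E).ne_zero (Matrix.GeneralLinearGroup.det P').ne_zero)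
    (Matrix.GeneralLinearGroup.det E).ne_zero this

/-- Forms congruent up to a factor have equally many isotropic vectors. -/
theorem zeros_congr {P P' E : GL (Fin n) K} {l : K} (hl : l ≠ 0)
    (h : (E : M)ᵀ * (P' : M) * (E : M) = l • (P : M)) :
    OrthCount.zeros ⇑(Qm (P : M)) = OrthCount.zeros ⇑(Qm (P' : M)) := by
  have hE : ∀ v, ((E⁻¹ : GL (Fin n) K) : M) *ᵥ ((E : M) *ᵥ v) = v := fun v => by
    rw [mulVec_mulVec, Units.inv_mul, one_mulVec]
  have hE' : ∀ v, (E : M) *ᵥ (((E⁻¹ : GL (Fin n) K) : M) *ᵥ v) = v := fun v => by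
    rw [mulVec_mulVec, Units.mul_inv, one_mulVec]
  let e : (Fin n → K) ≃ (Fin n → K) :=
    ⟨fun v => (E : M) *ᵥ v, fun v => ((E⁻¹ : GL (Fin n) K) : M) *ᵥ v, hE, hE'⟩
  refine Nat.card_congr (e.subtypeEquiv fun v => ?_)
  change Qm (P : M) v = 0 ↔ Qm (P' : M) ((E : M) *ᵥ v) = 0
  rw [Qm_apply, Qm_apply, (mat_eq_iff _ _ _ _).2 h, mul_eq_zero, or_iff_right hl]

/-- Plus type and minus type are not congruent up to a factor. -/
theorem not_congr_plus_min [Fintype K] {m : ℕ} (hm : 1 ≤ m) {P P' E : GL (Fin n) K} {l a b : K} (hl : l ≠ 0)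
    (e : (Fin n → K) ≃ₗ[K] (Fin m ⊕ Fin m → K))
    (he : ∀ v, Cfsg.quadFormPlus m K (e v) = 1 * Qm (P : M) v)
    (hab : ∀ z₁ z₂ : K, z₁ ^ 2 + a * z₁ * z₂ + b * z₂ ^ 2 = 0 → z₁ = 0 ∧ z₂ = 0)
    (e' : (Fin n → K) ≃ₗ[K] ((Fin (m - 1) ⊕ Fin (m - 1)) ⊕ Fin 2 → K))
    (he' : ∀ v, Cfsg.quadFormMinus (m - 1) K a b (e' v) = 1 * Qm (P' : M) v) :
    (E : M)ᵀ * (P' : M) * (E : M) ≠ l • (P : M) := by
  intro h
  refine QuadClass.plus_ne_min hm hab ?_
  rw [← QuadClass.zeros_eq ⇑(Qm (P : M)) _ e fun v => by rw [OrthForms.plusQ_eq, he, one_mul],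
    ← QuadClass.zeros_eq ⇑(Qm (P' : M)) _ e' fun v => by rw [OrthForms.minQ_eq, he', one_mul], zeros_congr hl h]

end Cfsg.Agent.Forms.SimDet
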