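import Cfsg.Agent.Lib.Forms.SimDet

/-!
# The three types of forms in even dimension
-/

set_option autoImplicit false
set_option linter.unusedSectionVars false

namespace Cfsg.Agent.Forms.SimTypes

open Matrix Cfsg.Agent.Classical Cfsg.Agent.Forms Cfsg.Agent.Forms.SimForms

universe u

variable {K : Type u} [Field K] {n m : ℕ}

local notation "M" => Matrix (Fin n) (Fin n) K

theorem sym_of_odd (hn : Odd n) (P : GL (Fin n) K) {c : K} (hc : c = 1 ∨ c = -1)
    (hP : (P : M)ᵀ = c • (P : M)) : (P : M)ᵀ = (P : M) := by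
  rcases hc with rfl | rfl
  · rw [hP, one_smul]
  · have h := congrArg Matrix.det hP
    rw [det_transpose, det_smul, Fintype.card_fin, hn.neg_one_pow] at h
    have h2 : (2 : K) = 0 := (mul_eq_zero.1 (show (2 : K) * (P : M).det = 0 by linear_combination h)).resolve_right
      (Matrix.GeneralLinearGroup.det P).ne_zero
    rw [hP, show (-1 : K) = 1 by linear_combination -h2, one_smul]

theorem pgsp_iso (P : GL (Fin n) K) (hP : ∀ v, Bf (P : M) v v = 0) (hn : n = 2 * m) :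
    Nonempty (projQuot (Sim (P : M)) ≃* PGSp m K) := by
  obtain ⟨e, he⟩ := alt_std P hP hn
  exact projQuot_congr e _ _ (sim_map e _ _ one_ne_zero fun u v => by rw [one_mul]; exact he u v)

theorem pgo_iso (h2 : (2 : K) ≠ 0) (P : GL (Fin n) K) (hP : (P : M)ᵀ = (P : M)) {ι : Type} [Fintype ι]
    [DecidableEq ι] (Q : (ι → K) → K) (e : (Fin n → K) ≃ₗ[K] (ι → K))
    (he : ∀ v, Q (e v) = 1 * Qm (P : M) v) : Nonempty (projQuot (Sim (P : M)) ≃* PGO K Q) :=
  projQuot_congr e _ _ fun g => (quadSim_map e _ _ one_ne_zero he g).trans (sim_eq_quadSim h2 hP g).symm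

theorem exists_mat_of_quad (h2 : (2 : K) ≠ 0) {ι : Type} [Fintype ι] [DecidableEq ι]
    (hι : Fintype.card ι = n) (Q : QuadraticForm K (ι → K))
    (hQ : (QuadraticMap.polarBilin Q).Nondegenerate) :
    ∃ (P : GL (Fin n) K) (e : (Fin n → K) ≃ₗ[K] (ι → K)),
      (P : M)ᵀ = (P : M) ∧ ∀ v, Q (e v) = 1 * Qm (P : M) v := by
  classical
  let σ : ι ≃ Fin n := Fintype.equivFinOfCardEq hι
  let e : (Fin n → K) ≃ₗ[K] (ι → K) := LinearEquiv.funCongrLeft K K σ
  let Q' : QuadraticForm K (Fin n → K) := Q.comp e.toLinearMap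
  let P₀ : M := LinearMap.BilinForm.toMatrix' ((2⁻¹ : K) • QuadraticMap.polarBilin Q')
  have hB : ∀ u v, Bf P₀ u v = 2⁻¹ * QuadraticMap.polar Q' u v := fun u v => by
    rw [← toBilin'_eq, Matrix.toBilin'_toMatrix']
    rfl
  have hdet : P₀.det ≠ 0 := by
    refine LinearMap.BilinForm.nondegenerate_toBilin'_iff_det_ne_zero.1 ⟨fun u hu => ?_, fun v hv => ?_⟩
    · refine e.injective ((hQ.1 (e u) fun w => ?_).trans (map_zero e).symm)
      obtain ⟨w, rfl⟩ := e.surjective w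
      have h := hu w
      rw [toBilin'_eq, hB, mul_eq_zero, or_iff_right (inv_ne_zero h2)] at h
      simpa [Q', QuadraticMap.polar, map_add] using h
    · refine e.injective ((hQ.2 (e v) fun w => ?_).trans (map_zero e).symm)
      obtain ⟨w, rfl⟩ := e.surjective w
      have h := hv w
      rw [toBilin'_eq, hB, mul_eq_zero, or_iff_right (inv_ne_zero h2)] at h
      simpa [Q', QuadraticMap.polar, map_add] using h
  refine ⟨Matrix.GeneralLinearGroup.mkOfDetNeZero P₀ hdet, e, ?_, fun v => ?_⟩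
  · change P₀ᵀ = P₀
    ext i j
    simp only [P₀, transpose_apply, LinearMap.BilinForm.toMatrix'_apply, LinearMap.smul_apply,
      QuadraticMap.polarBilin_apply_apply]
    rw [QuadraticMap.polar_comm]
  · rw [one_mul, Qm_apply]
    change _ = Bf P₀ v v
    rw [hB, QuadraticMap.polar_self, two_nsmul, ← two_mul, ← mul_assoc, inv_mul_cancel₀ h2, one_mul]
    rfl

/-- Representatives of the three types. -/
theorem exists_reps [Fintype K] (h2 : (2 : K) ≠ 0) (hm : 1 ≤ m) (hn : n = 2 * m) :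
    ∃ (P₁ P₂ P₃ : GL (Fin n) K) (ζ : K),
      (∀ z₁ z₂ : K, z₁ ^ 2 + 1 * z₁ * z₂ + ζ * z₂ ^ 2 = 0 → z₁ = 0 ∧ z₂ = 0) ∧
      (P₁ : M)ᵀ = (-1 : K) • (P₁ : M) ∧ (P₂ : M)ᵀ = (P₂ : M) ∧ (P₃ : M)ᵀ = (P₃ : M) ∧
      (∃ e : (Fin n → K) ≃ₗ[K] (Fin m ⊕ Fin m → K), ∀ v, Cfsg.quadFormPlus m K (e v) = 1 * Qm (P₂ : M) v) ∧
      (∃ e : (Fin n → K) ≃ₗ[K] ((Fin (m - 1) ⊕ Fin (m - 1)) ⊕ Fin 2 → K),
        ∀ v, Cfsg.quadFormMinus (m - 1) K 1 ζ (e v) = 1 * Qm (P₃ : M) v) := by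
  classical
  let σ : Fin m ⊕ Fin m ≃ Fin n := Fintype.equivFinOfCardEq (by simp [hn]; omega)
  have hJ : (Matrix.J (Fin m) K).det ≠ 0 := fun h => by
    have h1 := congrArg Matrix.det (Matrix.J_squared (Fin m) K)
    rw [det_mul, h, zero_mul, ← neg_one_smul K (1 : Matrix (Fin m ⊕ Fin m) (Fin m ⊕ Fin m) K), det_smul,
      det_one, mul_one] at h1
    exact absurd h1.symm (pow_ne_zero _ (neg_ne_zero.2 one_ne_zero))
  let P₁ : GL (Fin n) K := Matrix.GeneralLinearGroup.mkOfDetNeZero (Matrix.reindex σ σ (Matrix.J (Fin m) K))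
    (by rw [det_reindex_self]; exact hJ)
  obtain ⟨A, hA⟩ := Torus.exists_irreducible K
  have hζ : ∀ t : K, t ^ 2 + t + -A ≠ 0 := fun t h => hA (-t) (by linear_combination h)
  obtain ⟨P₂, e₂, hP₂, he₂⟩ := exists_mat_of_quad (n := n) h2 (by simp [hn]; omega) (PlusStd.plusQ K m)
    (PlusStd.plusQ_nondeg K m)
  obtain ⟨P₃, e₃, hP₃, he₃⟩ := exists_mat_of_quad (n := n) h2 (by simp [hn]; omega)
    (OrthForms.minQ K (m - 1) 1 (-A)) (OrthForms.minQ_nondeg _ (QuadClass.aniso_one hζ))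
  refine ⟨P₁, P₂, P₃, -A, QuadClass.aniso_one hζ, ?_, hP₂, hP₃,
    ⟨e₂, fun v => by rw [← he₂, PlusStd.plusQ_apply]⟩, ⟨e₃, fun v => by rw [← he₃, OrthForms.minQ_eq]⟩⟩
  change (Matrix.reindex σ σ (Matrix.J (Fin m) K))ᵀ = _
  rw [transpose_reindex, Matrix.J_transpose, neg_one_smul]
  rfl

end Cfsg.Agent.Forms.SimTypes
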