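import Mathlib
import Cfsg.Agent.Lib.Forms.DicksonList

/-!
# Traces and element orders in `PSL₂`
-/

set_option autoImplicit false
set_option linter.unusedSectionVars false

namespace Cfsg.Agent.Forms.DicksonTrace

open MulAction
open scoped MatrixGroups

variable {F : Type*} [Field F] [Fintype F] (p : ℕ) [hp : Fact p.Prime] [CharP F p]

include hp in
/-- an eigenvalue attached to a relation `g ^ n = 1` in `PSL₂` -/
theorem exists_eigen (X : SL(2, F)) {n : ℕ} (h : KleinPSL.pi F X ^ n = 1) :
    ∃ e : AlgebraicClosure F, e ≠ 0 ∧ e ^ (2 * n) = 1 ∧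
      e + e⁻¹ = algebraMap F _ (X : Matrix (Fin 2) (Fin 2) F).trace := by
  obtain ⟨z, hz⟩ : ∃ z : OnePoint (AlgebraicClosure F), KleinPSL.pi F X • z = z := by
    by_cases h1 : KleinPSL.pi F X = 1
    · exact ⟨OnePoint.infty, by rw [h1, one_smul]⟩
    · exact (DicksonAction.twoPt (F := F) p).exists_fixed h1
  have hr := DicksonAction.eigen_root hz
  set e := DicksonAction.eigen z X with he
  set t := algebraMap F (AlgebraicClosure F) (X : Matrix (Fin 2) (Fin 2) F).trace
  have he0 : e ≠ 0 := fun e0 => by rw [e0] at hr; simp at hr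
  have hfix : ∀ i : ℕ, KleinPSL.pi F (X ^ i) • z = z ∧
      DicksonAction.eigen z (X ^ i) = e ^ i := by
    intro i
    induction i with
    | zero =>
      refine ⟨by simp, ?_⟩
      rw [pow_zero, pow_zero]
      cases z <;> simp [DicksonAction.eigen]
    | succ i ih =>
      refine ⟨by rw [pow_succ, map_mul, mul_smul, hz, ih.1], ?_⟩
      rw [pow_succ, DicksonAction.eigen_mul ih.1 hz, ih.2, pow_succ, he]
  refine ⟨e, he0, ?_, ?_⟩
  · rw [mul_comm, pow_mul, ← (hfix n).2]
    rw [← map_pow] at h
    rcases KleinPSL.pi_eq_one.1 h with h' | h' <;> rw [h'] <;>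
      cases z <;> simp [DicksonAction.eigen]
  · field_simp
    linear_combination hr

include hp in
theorem trace_rational (X : SL(2, F)) {n a : ℕ} (h : KleinPSL.pi F X ^ n = 1)
    (hk : 2 * n ∣ p ^ a + 1 ∨ 2 * n ∣ p ^ a - 1) :
    (X : Matrix (Fin 2) (Fin 2) F).trace ^ p ^ a = (X : Matrix (Fin 2) (Fin 2) F).trace := by
  obtain ⟨e, he0, he, ht⟩ := exists_eigen p X h
  refine (algebraMap F (AlgebraicClosure F)).injective ?_
  haveI : CharP (AlgebraicClosure F) p := charP_of_injective_algebraMap (algebraMap F _).injective p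
  rw [map_pow, ← ht, add_pow_char_pow, inv_pow]
  have h1 : 1 ≤ p ^ a := Nat.one_le_pow _ _ hp.out.pos
  rcases hk with hk | hk
  · obtain ⟨c, hc⟩ := hk
    have : e ^ (p ^ a) * e = 1 := by rw [← pow_succ, hc, pow_mul, he, one_pow]
    rw [eq_inv_of_mul_eq_one_left this, inv_inv, add_comm]
  · obtain ⟨c, hc⟩ := hk
    have : e ^ (p ^ a) = e := by
      conv_lhs => rw [← Nat.sub_add_cancel h1, pow_succ, hc, pow_mul, he, one_pow, one_mul]
    rw [this]

include hp in
theorem trace_two (X : SL(2, F)) (h : KleinPSL.pi F X ^ 2 = 1) :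
    (X : Matrix (Fin 2) (Fin 2) F).trace = 0 ∨ (X : Matrix (Fin 2) (Fin 2) F).trace ^ 2 = 4 := by
  obtain ⟨e, he0, he, ht⟩ := exists_eigen p X h
  have h4 : (e ^ 2 - 1) * (e ^ 2 + 1) = 0 := by linear_combination he
  set f := algebraMap F (AlgebraicClosure F)
  rcases mul_eq_zero.1 h4 with h4 | h4
  · right
    refine f.injective ?_
    rw [map_pow, map_ofNat, ← ht]
    field_simp
    linear_combination (e ^ 2 - 1) * h4
  · left
    refine f.injective ?_
    rw [map_zero, ← ht]
    field_simp
    linear_combination h4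

include hp in
theorem trace_five (X : SL(2, F)) (h : KleinPSL.pi F X ^ 5 = 1) :
    (X : Matrix (Fin 2) (Fin 2) F).trace ^ 2 = 4 ∨
      (X : Matrix (Fin 2) (Fin 2) F).trace ^ 4 - 3 * (X : Matrix (Fin 2) (Fin 2) F).trace ^ 2 + 1 = 0 := by
  obtain ⟨e, he0, he, ht⟩ := exists_eigen p X h
  have h4 : (e ^ 2 - 1) * (e ^ 8 + e ^ 6 + e ^ 4 + e ^ 2 + 1) = 0 := by linear_combination he
  set f := algebraMap F (AlgebraicClosure F)
  rcases mul_eq_zero.1 h4 with h4 | h4
  · left
    refine f.injective ?_
    rw [map_pow, map_ofNat, ← ht]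
    field_simp
    linear_combination (e ^ 2 - 1) * h4
  · right
    refine f.injective ?_
    rw [map_add, map_sub, map_mul, map_pow, map_pow, map_ofNat, map_one, map_zero, ← ht]
    field_simp
    linear_combination h4

include hp in
theorem trace_char (X : SL(2, F)) (h : KleinPSL.pi F X ^ p = 1) :
    (X : Matrix (Fin 2) (Fin 2) F).trace ^ 2 = 4 := by
  by_cases h1 : KleinPSL.pi F X = 1
  · rcases KleinPSL.pi_eq_one.1 h1 with h2 | h2 <;> rw [h2] <;>
      simp [Matrix.SpecialLinearGroup.coe_neg, Matrix.trace_neg] <;> norm_num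
  · rw [pow_two]
    exact (DicksonAction.orderOf_iff p X h1).1 (orderOf_eq_prime h h1)

/-- a generator of the field fixed by a power of the Frobenius bounds the field -/
theorem card_le_of_generator (lam : F) (hgen : Subfield.closure ({lam} : Set F) = ⊤) {a : ℕ}
    (ha : a ≠ 0) (h : lam ^ p ^ a = lam) : Fintype.card F ≤ p ^ a := by
  classical
  let φ : F →+* F := iterateFrobenius F p a
  have hle : (⊤ : Subfield F) ≤ φ.eqLocusField (RingHom.id F) := by
    rw [← hgen, Subfield.closure_le]
    rintro x rfl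
    show φ x = x
    rw [iterateFrobenius_def]; exact h
  have hall : ∀ x : F, x ^ p ^ a = x := fun x => by
    have := hle (Subfield.mem_top x)
    rw [RingHom.mem_eqLocusField, iterateFrobenius_def] at this
    exact this
  have h1 : 1 < p ^ a := Nat.one_lt_pow ha hp.out.one_lt
  have hd := Polynomial.card_le_degree_of_subset_roots (Z := (Finset.univ : Finset F))
    (p := (Polynomial.X ^ (p ^ a) - Polynomial.X : Polynomial F)) fun x _ => by
      rw [Polynomial.mem_roots (FiniteField.X_pow_card_sub_X_ne_zero F h1)]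
      simp [hall x]
  rwa [FiniteField.X_pow_card_sub_X_natDegree_eq F h1, Finset.card_univ] at hd

end Cfsg.Agent.Forms.DicksonTrace
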