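import Mathlib

/-!
# The subgroup of order 120 of `SL₂(9)` generated by two transvections
-/

set_option autoImplicit false
set_option linter.unusedSectionVars false

namespace Cfsg.Agent.Forms.DicksonNine

open scoped MatrixGroups

/-- `GF(9)` as pairs -/
abbrev E9 : Type := ZMod 3 × ZMod 3

/-- multiplication with `i * i = -1` -/
def mulE (x y : E9) : E9 := (x.1 * y.1 - x.2 * y.2, x.1 * y.2 + x.2 * y.1)

/-- two by two matrices -/
abbrev M9 : Type := E9 × E9 × E9 × E9

/-- matrix product -/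
def mulM (X Y : M9) : M9 :=
  (mulE X.1 Y.1 + mulE X.2.1 Y.2.2.1, mulE X.1 Y.2.1 + mulE X.2.1 Y.2.2.2,
    mulE X.2.2.1 Y.1 + mulE X.2.2.2 Y.2.2.1, mulE X.2.2.1 Y.2.1 + mulE X.2.2.2 Y.2.2.2)

/-- the lower transvection -/
def gA : M9 := ((1, 0), (0, 0), (1, 0), (1, 0))

/-- the upper transvection -/
def gB : M9 := ((1, 0), (0, 1), (0, 0), (1, 0))

/-- breadth first closure -/
def words : ℕ → List M9
  | 0 => [((1, 0), (0, 0), (0, 0), (1, 0))]
  | n + 1 => (words n ++ (words n).map (mulM gA) ++ (words n).map (mulM gB)).eraseDups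

theorem words_spec : (words 10).length ≤ 120 ∧ ((1, 0), (0, 0), (0, 0), (1, 0)) ∈ words 10 ∧
    (words 10).all (fun X => decide (mulM gA X ∈ words 10) && decide (mulM gB X ∈ words 10)) = true := by
  decide +kernel

variable {F : Type*} [Field F] [CharP F 3] (lam : F)

/-- evaluation in the field -/
def ev (x : E9) : F := ZMod.castHom (dvd_refl 3) F x.1 + ZMod.castHom (dvd_refl 3) F x.2 * lam

/-- evaluation of matrices -/
def evM (X : M9) : Matrix (Fin 2) (Fin 2) F :=
  !![ev lam X.1, ev lam X.2.1; ev lam X.2.2.1, ev lam X.2.2.2]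

theorem natCard_closure_le [Finite F] (hl : lam ^ 2 = -1) (S : Set SL(2, F))
    (hS : ∀ g ∈ S, (g : Matrix (Fin 2) (Fin 2) F) = !![1, 0; 1, 1] ∨
      (g : Matrix (Fin 2) (Fin 2) F) = !![1, lam; 0, 1]) :
    Nat.card (Subgroup.closure S) ≤ 120 := by
  classical
  obtain ⟨hlen, h1, hall⟩ := words_spec
  rw [List.all_eq_true] at hall
  have hmul : ∀ X Y, evM lam (mulM X Y) = evM lam X * evM lam Y := by
    intro X Y
    obtain ⟨c, hc⟩ : ∃ c : ZMod 3 →+* F, ∀ x, ev lam x = c x.1 + c x.2 * lam :=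
      ⟨ZMod.castHom (dvd_refl 3) F, fun x => rfl⟩
    ext i j
    fin_cases i <;> fin_cases j <;>
      simp [evM, mulM, hc, mulE, Matrix.mul_apply, Fin.sum_univ_two, map_add, map_mul, map_sub] <;>
      first
      | linear_combination -((c X.1.2) * (c Y.1.2) +
          (c X.2.1.2) * (c Y.2.2.1.2)) * hl
      | linear_combination -((c X.1.2) * (c Y.2.1.2) +
          (c X.2.1.2) * (c Y.2.2.2.2)) * hl
      | linear_combination -((c X.2.2.1.2) * (c Y.1.2) +
          (c X.2.2.2.2) * (c Y.2.2.1.2)) * hl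
      | linear_combination -((c X.2.2.1.2) * (c Y.2.1.2) +
          (c X.2.2.2.2) * (c Y.2.2.2.2)) * hl
  have heA : evM lam gA = !![1, 0; 1, 1] := by simp [evM, gA, ev]
  have heB : evM lam gB = !![1, lam; 0, 1] := by simp [evM, gB, ev]
  have key : ∀ g ∈ Submonoid.closure S, ∀ X ∈ words 10, ∃ Y ∈ words 10,
      evM lam Y = (g : Matrix (Fin 2) (Fin 2) F) * evM lam X := by
    intro g hg
    induction hg using Submonoid.closure_induction with
    | mem g hg =>
      intro X hX
      have := hall X hX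
      simp only [Bool.and_eq_true, decide_eq_true_eq] at this
      rcases hS g hg with h | h
      · exact ⟨_, this.1, by rw [hmul, heA, h]⟩
      · exact ⟨_, this.2, by rw [hmul, heB, h]⟩
    | one => intro X hX; exact ⟨X, hX, by simp⟩
    | mul g h _ _ ihg ihh =>
      intro X hX
      obtain ⟨Y, hY, eY⟩ := ihh X hX
      obtain ⟨W, hW, eW⟩ := ihg Y hY
      exact ⟨W, hW, by rw [eW, eY, Matrix.SpecialLinearGroup.coe_mul, mul_assoc]⟩
  have hsub : ∀ g : Subgroup.closure S, ∃ i : Fin (words 10).length,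
      evM lam ((words 10).get i) = ((g : SL(2, F)) : Matrix (Fin 2) (Fin 2) F) := by
    intro g
    have hg : (g : SL(2, F)) ∈ Submonoid.closure S := by
      rw [← Subgroup.closure_toSubmonoid_of_finite]; exact g.2
    obtain ⟨Y, hY, eY⟩ := key _ hg _ h1
    obtain ⟨i, hi⟩ := List.get_of_mem hY
    refine ⟨i, ?_⟩
    rw [hi, eY]
    have : evM lam ((1, 0), (0, 0), (0, 0), (1, 0)) = (1 : Matrix (Fin 2) (Fin 2) F) := by
      simp [evM, ev, Matrix.one_fin_two]
    rw [this, mul_one]
  choose f hf using hsub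
  have hinj : Function.Injective f := fun a b h => by
    refine Subtype.ext (Subtype.ext ?_)
    rw [← hf a, ← hf b, h]
  have := Nat.card_le_card_of_injective f hinj
  rw [Nat.card_fin] at this
  omega

end Cfsg.Agent.Forms.DicksonNine
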