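import Mathlib
import Cfsg.Prelude.Def_ClassicalGeometry
import Cfsg.Agent.Lib.Forms.HermStd
import Cfsg.Agent.Lib.Classical.UnitaryFrames
import Cfsg.Agent.Lib.Classical.UnitarySimple
import Cfsg.Agent.Lib.Classical.UnitaryTwo

/-!
# Stabilisers of totally isotropic subspaces in the unitary groups
-/

set_option autoImplicit false
set_option linter.unusedSectionVars false

namespace Cfsg.Agent.Forms.HermStab

open Matrix Cfsg.Agent.Classical.Unitary

variable {F : Type*} [Field F] [Fintype F] {q n m k : ℕ} (hF : Fintype.card F = q ^ 2)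

/-- independent totally isotropic tuples -/
abbrev IT (F : Type*) [Field F] (q n k : ℕ) : Type _ :=
  {f : Fin k → Fin n → F // LinearIndependent F f ∧ ∀ i j, Cfsg.hermForm n F q (f i) (f j) = 0}

include hF

theorem span_iso {ι : Type*} {f : ι → Fin n → F} (h : ∀ i j, Cfsg.hermForm n F q (f i) (f j) = 0) :
    ∀ u ∈ Submodule.span F (Set.range f), ∀ v ∈ Submodule.span F (Set.range f),
      Cfsg.hermForm n F q u v = 0 := by
  have h1 : ∀ i, ∀ u ∈ Submodule.span F (Set.range f), Cfsg.hermForm n F q u (f i) = 0 := by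
    intro i u hu
    induction hu using Submodule.span_induction with
    | mem x hx => obtain ⟨j, rfl⟩ := hx; exact h j i
    | zero => exact H_zero_left _
    | add x y _ _ hx hy => rw [H_add_left, hx, hy, add_zero]
    | smul c x _ hx => rw [H_smul_left, hx, mul_zero]
  intro u hu v hv
  induction hv using Submodule.span_induction with
  | mem x hx => obtain ⟨j, rfl⟩ := hx; exact h1 j u hu
  | zero => exact H_zero_right hF _
  | add x y _ _ hx hy => rw [H_add_right hF, hx, hy, add_zero]
  | smul c x _ hx => rw [H_smul_right, hx, mul_zero]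

/-- transitivity of the general unitary group on tuples -/
theorem exists_move_tuple {f g : Fin k → Fin n → F} (hf : LinearIndependent F f)
    (hg : LinearIndependent F g) (hf0 : ∀ i j, Cfsg.hermForm n F q (f i) (f j) = 0)
    (hg0 : ∀ i j, Cfsg.hermForm n F q (g i) (g j) = 0) :
    ∃ A : Cfsg.GU n F q, ∀ i, gmat A *ᵥ f i = g i := by
  set b := Module.Basis.span hf with hb
  have hinj : Function.Injective (b.constr F g) := by
    rw [← LinearMap.ker_eq_bot, LinearMap.ker_eq_bot']
    intro x hx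
    rw [Module.Basis.constr_apply_fintype] at hx
    have := Fintype.linearIndependent_iff.1 hg _ hx
    exact (Module.Basis.forall_coord_eq_zero_iff b).1 fun i => by
      simpa [Module.Basis.equivFun_apply] using this i
  have hr : ∀ x, b.constr F g x ∈ Submodule.span F (Set.range g) := by
    intro x
    rw [← Module.Basis.constr_range (S := F) b (f := g)]
    exact LinearMap.mem_range_self _ x
  obtain ⟨A, hA⟩ := HermStd.exists_extend hF _ (b.constr F g) hinj fun x x' => by
    rw [span_iso hF hg0 _ (hr x) _ (hr x'), span_iso hF hf0 _ x.2 _ x'.2]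
  refine ⟨A, fun i => ?_⟩
  have := hA (b i)
  rw [Module.Basis.constr_basis] at this
  rwa [hb, Module.Basis.span_apply] at this

theorem gmat_inv_cancel (g : Cfsg.GU n F q) (x : Fin n → F) : gmat g⁻¹ *ᵥ (gmat g *ᵥ x) = x :=
  ginv_mulVec g rfl

theorem gmat_injective (g : Cfsg.GU n F q) : Function.Injective (fun x => gmat g *ᵥ x) :=
  fun x y h => by rw [← gmat_inv_cancel hF g x, ← gmat_inv_cancel hF g y]; exact congrArg _ h

/-- moving tuples -/
theorem moved (g : Cfsg.GU n F q) {f : Fin k → Fin n → F} (hf : LinearIndependent F f)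
    (hf0 : ∀ i j, Cfsg.hermForm n F q (f i) (f j) = 0) :
    LinearIndependent F (fun i => gmat g *ᵥ f i) ∧
      ∀ i j, Cfsg.hermForm n F q (gmat g *ᵥ f i) (gmat g *ᵥ f j) = 0 :=
  ⟨hf.map' (Matrix.mulVecLin (gmat g)) (LinearMap.ker_eq_bot.2 (gmat_injective hF g)),
    fun i j => by rw [GU_H, hf0]⟩

theorem card_isotropic : Nat.card {v : Fin n → F // v ≠ 0 ∧ Cfsg.hermForm n F q v v = 0} + 1 =
    Classical.UnitaryCount.cnt F q n 0 := by
  classical
  rw [Classical.UnitaryCount.cnt, ← Nat.card_congr (Equiv.sumCompl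
    fun v : {v : Fin n → F // Cfsg.hermForm n F q v v = 0} => v.1 ≠ 0), Nat.card_sum]
  congr 1
  · exact Nat.card_congr
      { toFun := fun x => ⟨⟨x.1, x.2.2⟩, x.2.1⟩
        invFun := fun x => ⟨x.1.1, x.2, x.1.2⟩
        left_inv := fun x => rfl
        right_inv := fun x => rfl }
  · rw [eq_comm, Nat.card_eq_one_iff_unique]
    exact ⟨⟨fun x y => Subtype.ext (Subtype.ext ((not_not.1 x.2).trans (not_not.1 y.2).symm))⟩,
      ⟨⟨⟨0, H_zero_left _⟩, fun h => h rfl⟩⟩⟩

theorem natCard_IT_succ : Nat.card (IT F q (m + 2) (k + 1)) + (q ^ 2) ^ k * Nat.card (IT F q m k) =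
    Classical.UnitaryCount.cnt F q (m + 2) 0 * ((q ^ 2) ^ k * Nat.card (IT F q m k)) := by
  classical
  obtain ⟨a, ha⟩ := Classical.UnitaryCount.exists_norm_eq hF (μ := -1) (by simp)
    (by rw [← HermStd.qHom_apply hF, map_neg, map_one])
  have haa : a ^ q * a = -1 := by rw [← pow_succ]; exact ha
  let mk : F → F → (Fin m → F) → Fin (m + 2) → F := fun x0 x1 y => Fin.cons x0 (Fin.cons x1 y)
  have hH : ∀ (x0 x1 y0 y1 : F) (x y : Fin m → F),
      Cfsg.hermForm (m + 2) F q (mk x0 x1 x) (mk y0 y1 y) =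
        x0 * y0 ^ q + (x1 * y1 ^ q + Cfsg.hermForm m F q x y) := by
    intro x0 x1 y0 y1 x y
    simp [mk, Cfsg.hermForm, Fin.sum_univ_succ]
  let v0 : Fin (m + 2) → F := mk 1 a 0
  have hv00 : Cfsg.hermForm (m + 2) F q v0 v0 = 0 := by
    rw [hH, H_zero_left, one_pow]; linear_combination ha
  have hv0 : v0 ≠ 0 := fun h => by simpa [v0, mk] using congrFun h 0
  let Fib : (Fin (m + 2) → F) → Type _ := fun v => {g : Fin k → Fin (m + 2) → F //
    LinearIndependent F (Fin.cons v g : Fin (k + 1) → Fin (m + 2) → F) ∧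
      ∀ i j, Cfsg.hermForm (m + 2) F q ((Fin.cons v g : Fin (k + 1) → Fin (m + 2) → F) i)
        ((Fin.cons v g : Fin (k + 1) → Fin (m + 2) → F) j) = 0}
  have e1 : IT F q (m + 2) (k + 1) ≃
      Σ v : {v : Fin (m + 2) → F // v ≠ 0 ∧ Cfsg.hermForm (m + 2) F q v v = 0}, Fib v.1 :=
    { toFun := fun f => ⟨⟨f.1 0, f.2.1.ne_zero 0, f.2.2 0 0⟩, ⟨Fin.tail f.1, by
        rw [Fin.cons_self_tail]; exact f.2⟩⟩
      invFun := fun s => ⟨Fin.cons s.1.1 s.2.1, s.2.2⟩
      left_inv := fun f => Subtype.ext (Fin.cons_self_tail _)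
      right_inv := by
        rintro ⟨⟨v, hv⟩, ⟨g, hg⟩⟩
        rfl }
  have hfib : ∀ v : {v : Fin (m + 2) → F // v ≠ 0 ∧ Cfsg.hermForm (m + 2) F q v v = 0},
      Nat.card (Fib v.1) = Nat.card (Fib v0) := by
    intro v
    obtain ⟨g, hg⟩ := exists_gu_map hF v.2.1 hv0 (v.2.2.trans hv00.symm)
    have key : ∀ (w w' : Fin (m + 2) → F) (h : Cfsg.GU (m + 2) F q), gmat h *ᵥ w = w' →
        ∀ x : Fib w, LinearIndependent F (Fin.cons w' (fun i => gmat h *ᵥ x.1 i) :
            Fin (k + 1) → Fin (m + 2) → F) ∧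
          ∀ i j, Cfsg.hermForm (m + 2) F q
            ((Fin.cons w' (fun i => gmat h *ᵥ x.1 i) : Fin (k + 1) → Fin (m + 2) → F) i)
            ((Fin.cons w' (fun i => gmat h *ᵥ x.1 i) : Fin (k + 1) → Fin (m + 2) → F) j) = 0 := by
      intro w w' h hw x
      have := moved hF h x.2.1 x.2.2
      have e : (fun i => gmat h *ᵥ (Fin.cons w x.1 : Fin (k + 1) → Fin (m + 2) → F) i) =
          Fin.cons w' (fun i => gmat h *ᵥ x.1 i) := by
        funext i
        refine Fin.cases ?_ (fun i => ?_) i <;> simp [hw]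
      rw [← e]
      exact this
    exact Nat.card_congr
      { toFun := fun x => ⟨fun i => gmat g *ᵥ x.1 i, key _ _ g hg x⟩
        invFun := fun x => ⟨fun i => gmat g⁻¹ *ᵥ x.1 i, key _ _ g⁻¹ (ginv_mulVec g hg) x⟩
        left_inv := fun x => Subtype.ext (funext fun i => ginv_mulVec g rfl)
        right_inv := fun x => Subtype.ext (funext fun i => by
          have := gmat_inv_cancel hF g⁻¹ (x.1 i)
          rwa [inv_inv] at this) }
  have htail : ∀ x0 x1 y, Fin.tail (Fin.tail (mk x0 x1 y)) = y := fun x0 x1 y => by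
    simp [mk, Fin.tail_cons]
  have hdec : ∀ x : Fin (m + 2) → F, x = mk (x 0) (Fin.tail x 0) (Fin.tail (Fin.tail x)) := fun x => by
    simp [mk, Fin.cons_self_tail]
  have hperp : ∀ x : Fin (m + 2) → F, Cfsg.hermForm (m + 2) F q x v0 = 0 →
      x = mk (x 0) (x 0 * a) (Fin.tail (Fin.tail x)) := by
    intro x hx
    rw [hdec x, hH, H_zero_right hF, one_pow, mul_one, add_zero] at hx
    have h1 : Fin.tail x 0 = x 0 * a := by
      linear_combination -a * hx + Fin.tail x 0 * haa
    conv_lhs => rw [hdec x, h1]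
  have hform : ∀ s t (y z : Fin m → F), Cfsg.hermForm (m + 2) F q (mk s (s * a) y) (mk t (t * a) z)
      = Cfsg.hermForm m F q y z := by
    intro s t y z
    rw [hH, mul_pow]
    linear_combination s * t ^ q * ha
  have hv0' : v0 = mk 1 (1 * a) 0 := by rw [one_mul]
  have e2 : Fib v0 ≃ (Fin k → F) × IT F q m k :=
    { toFun := fun g => (fun i => g.1 i 0, ⟨fun i => Fin.tail (Fin.tail (g.1 i)), by
        have hx : ∀ i, g.1 i = mk (g.1 i 0) (g.1 i 0 * a) (Fin.tail (Fin.tail (g.1 i))) := fun i =>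
          hperp _ (g.2.2 i.succ 0)
        refine ⟨?_, fun i j => ?_⟩
        · rw [Fintype.linearIndependent_iff]
          intro c hc i
          have h := Fintype.linearIndependent_iff.1 g.2.1
            (Fin.cons (-∑ l, c l * g.1 l 0) c) ?_ i.succ
          · simpa using h
          · rw [Fin.sum_univ_succ]
            simp only [Fin.cons_zero, Fin.cons_succ]
            funext z
            simp only [Pi.add_apply, Finset.sum_apply, Pi.smul_apply, smul_eq_mul, Pi.zero_apply]
            refine Fin.cases ?_ (fun z => ?_) z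
            · simp [v0, mk]
            · refine Fin.cases ?_ (fun z => ?_) z
              · have e : ∀ l, g.1 l (Fin.succ 0) = g.1 l 0 * a := fun l => by
                  conv_lhs => rw [hx l]
                  simp [mk]
                simp only [v0, mk, Fin.cons_succ, Fin.cons_zero, e, ← mul_assoc, ← Finset.sum_mul]
                ring
              · have h2 := congrFun hc z
                simp only [Finset.sum_apply, Pi.smul_apply, smul_eq_mul, Pi.zero_apply] at h2
                simp only [v0, mk, Fin.cons_succ, Pi.zero_apply, mul_zero, zero_add]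
                simpa [Fin.tail] using h2
        · have h := g.2.2 i.succ j.succ
          simp only [Fin.cons_succ] at h
          rw [hx i, hx j, hform] at h
          exact h⟩)
      invFun := fun p => ⟨fun i => mk (p.1 i) (p.1 i * a) (p.2.1 i), by
        refine ⟨?_, fun i j => ?_⟩
        · rw [Fintype.linearIndependent_iff]
          intro c hc
          rw [Fin.sum_univ_succ] at hc
          simp only [Fin.cons_zero, Fin.cons_succ] at hc
          have h1 : ∀ l, c (Fin.succ l) = 0 := by
            refine Fintype.linearIndependent_iff.1 p.2.2.1 (fun l => c l.succ) (funext fun z => ?_)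
            have h2 := congrFun hc (Fin.succ (Fin.succ z))
            simpa [v0, mk] using h2
          have h0 : c 0 = 0 := by
            have h2 := congrFun hc 0
            simpa [v0, mk, h1] using h2
          exact fun i => Fin.cases h0 h1 i
        · refine Fin.cases ?_ (fun i => ?_) i <;> refine Fin.cases ?_ (fun j => ?_) j <;>
            simp only [Fin.cons_zero, Fin.cons_succ]
          · exact hv00
          · rw [hv0', hform, H_zero_left]
          · rw [hv0', hform, H_zero_right hF]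
          · rw [hform, p.2.2.2]⟩
      left_inv := fun g => Subtype.ext (funext fun i => (hperp _ (g.2.2 i.succ 0)).symm)
      right_inv := fun p => Prod.ext (funext fun i => by simp [mk])
        (Subtype.ext (funext fun i => htail (p.1 i) (p.1 i * a) (p.2.1 i))) }
  rw [Nat.card_congr e1, Nat.card_sigma, Finset.sum_congr rfl fun v _ => hfib v, Finset.sum_const,
    smul_eq_mul, Finset.card_univ, ← Nat.card_eq_fintype_card, Nat.card_congr e2, Nat.card_prod,
    Nat.card_fun, Nat.card_fin, Nat.card_eq_fintype_card (α := F), hF, ← card_isotropic hF]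
  ring

/-- the factors of the order of the unitary group -/
def fac (q i : ℕ) : ℕ := if Even i then q ^ (i + 1) + 1 else q ^ (i + 1) - 1

theorem cnt_eq_fac : Classical.UnitaryCount.cnt F q (m + 2) 0 = fac q m * fac q (m + 1) + 1 := by
  rw [Classical.UnitaryCount.cnt_zero_eq hF, fac, fac]
  by_cases h : Even m
  · rw [if_pos (by simpa [parity_simps] using h), if_pos h, if_neg (by simpa [parity_simps] using h),
      show m + 2 - 1 = m + 1 by omega, show m + 1 + 1 = m + 2 by ring, mul_comm]
  · rw [if_neg (by simpa [parity_simps] using h), if_neg h, if_pos (by simpa [parity_simps] using h),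
      show m + 2 - 1 = m + 1 by omega, show m + 1 + 1 = m + 2 by ring, mul_comm]

theorem natCard_IT_mul : ∀ k r : ℕ, Nat.card (IT F q (r + 2 * k) k) *
    ∏ i ∈ Finset.range r, fac q i =
      q ^ (2 * ∑ j ∈ Finset.range k, j) * ∏ i ∈ Finset.range (r + 2 * k), fac q i := by
  intro k
  induction k with
  | zero =>
    intro r
    have : Nat.card (IT F q (r + 2 * 0) 0) = 1 := by
      rw [Nat.card_eq_one_iff_unique]
      exact ⟨⟨fun x y => Subtype.ext (funext fun i => i.elim0)⟩,
        ⟨⟨fun i => i.elim0, linearIndependent_empty_type, fun i => i.elim0⟩⟩⟩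
    rw [this]
    simp
  | succ k ih =>
    intro r
    show Nat.card (IT F q (r + 2 * k + 2) (k + 1)) * _ = _ * ∏ i ∈ Finset.range (r + 2 * k + 2), fac q i
    have h := natCard_IT_succ hF (m := r + 2 * k) (k := k)
    rw [cnt_eq_fac hF] at h
    have h' : Nat.card (IT F q (r + 2 * k + 2) (k + 1)) =
        fac q (r + 2 * k) * fac q (r + 2 * k + 1) * ((q ^ 2) ^ k * Nat.card (IT F q (r + 2 * k) k)) := by
      rw [add_mul (fac q (r + 2 * k) * fac q (r + 2 * k + 1)) 1, one_mul] at h
      omega
    rw [h', Finset.sum_range_succ, Finset.prod_range_succ, Finset.prod_range_succ, mul_add, pow_add,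
      ← pow_mul]
    have e := congrArg (fun x => fac q (r + 2 * k) * fac q (r + 2 * k + 1) * q ^ (2 * k) * x) (ih r)
    linear_combination e

/-- the stabiliser in the general unitary group -/
def guStab (W : Submodule F (Fin n → F)) : Subgroup (Cfsg.GU n F q) :=
  Cfsg.stabilizing ((Units.coeHom (Matrix (Fin n) (Fin n) F)).comp (Cfsg.GU n F q).subtype)
    (W : Set (Fin n → F))

omit [Fintype F] hF in
theorem mem_guStab {W : Submodule F (Fin n → F)} {g : Cfsg.GU n F q} :
    g ∈ guStab W ↔ ∀ v, v ∈ W ↔ gmat g *ᵥ v ∈ W := Iff.rfl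

theorem natCard_fiber (f : IT F q n k) (g : IT F q n k) :
    Nat.card {A : Cfsg.GU n F q // ∀ i, gmat A *ᵥ f.1 i = g.1 i} =
      Nat.card {A : Cfsg.GU n F q // ∀ i, gmat A *ᵥ f.1 i = f.1 i} := by
  obtain ⟨h, hh⟩ := exists_move_tuple hF f.2.1 g.2.1 f.2.2 g.2.2
  exact Nat.card_congr
    { toFun := fun A => ⟨h⁻¹ * A.1, fun i => by
        rw [gmul_mulVec, A.2 i, ginv_mulVec h (hh i)]⟩
      invFun := fun A => ⟨h * A.1, fun i => by rw [gmul_mulVec, A.2 i, hh i]⟩
      left_inv := fun A => Subtype.ext (mul_inv_cancel_left _ _)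
      right_inv := fun A => Subtype.ext (inv_mul_cancel_left _ _) }

theorem natCard_stab_mul (W : Submodule F (Fin n → F)) (hWk : Module.finrank F W = k)
    (hW : ∀ u ∈ W, ∀ v ∈ W, Cfsg.hermForm n F q u v = 0) :
    Nat.card (guStab (q := q) W) * Nat.card (IT F q n k) =
      (∏ i : Fin k, ((q ^ 2) ^ k - (q ^ 2) ^ (i : ℕ))) * Nat.card (Cfsg.GU n F q) := by
  classical
  let b := Module.finBasisOfFinrankEq F W hWk
  let f : IT F q n k := ⟨fun i => (b i : Fin n → F),
    b.linearIndependent.map' W.subtype W.ker_subtype, fun i j => hW _ (b i).2 _ (b j).2⟩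
  set c := Nat.card {A : Cfsg.GU n F q // ∀ i, gmat A *ᵥ f.1 i = f.1 i}
  let φ : Cfsg.GU n F q → IT F q n k := fun A =>
    ⟨fun i => gmat A *ᵥ f.1 i, moved hF A f.2.1 f.2.2⟩
  have h1 : Nat.card (Cfsg.GU n F q) = Nat.card (IT F q n k) * c := by
    rw [← Nat.card_congr (Equiv.sigmaFiberEquiv φ), Nat.card_sigma]
    have : ∀ g, Nat.card {A // φ A = g} = c := fun g => by
      rw [Nat.card_congr (Equiv.subtypeEquivRight fun A => by
        rw [Subtype.ext_iff, funext_iff] : {A // φ A = g} ≃ {A // ∀ i, gmat A *ᵥ f.1 i = g.1 i})]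
      exact natCard_fiber hF f g
    rw [Finset.sum_congr rfl fun g _ => this g, Finset.sum_const, smul_eq_mul, Finset.card_univ,
      Nat.card_eq_fintype_card]
  have hspan : ∀ g : Fin k → Fin n → F, LinearIndependent F g → (∀ i, g i ∈ W) →
      Submodule.span F (Set.range g) = W := by
    intro g hg hgW
    refine Submodule.eq_of_le_of_finrank_eq (Submodule.span_le.2 ?_) ?_
    · rintro _ ⟨i, rfl⟩; exact hgW i
    · rw [finrank_span_eq_card hg, Fintype.card_fin, hWk]
  have hmem : ∀ A : Cfsg.GU n F q, A ∈ guStab W ↔ ∀ i, gmat A *ᵥ f.1 i ∈ W := by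
    intro A
    refine ⟨fun hA i => (mem_guStab.1 hA _).1 (b i).2, fun hA => mem_guStab.2 ?_⟩
    have hmap : W.map (Matrix.mulVecLin (gmat A)) = W := by
      conv_lhs => rw [← hspan f.1 f.2.1 fun i => (b i).2]
      rw [Submodule.map_span, ← Set.range_comp]
      exact hspan _ (moved hF A f.2.1 f.2.2).1 hA
    intro v
    constructor
    · intro hv
      rw [← hmap]
      exact ⟨v, hv, rfl⟩
    · intro hv
      rw [← hmap] at hv
      obtain ⟨w, hw, e⟩ := hv
      exact gmat_injective hF A e ▸ hw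
  let O := {g : IT F q n k // ∀ i, g.1 i ∈ W}
  let ψ : guStab (q := q) W → O := fun A => ⟨φ A.1, (hmem A.1).1 A.2⟩
  have h2 : Nat.card (guStab (q := q) W) = Nat.card O * c := by
    rw [← Nat.card_congr (Equiv.sigmaFiberEquiv ψ), Nat.card_sigma]
    have : ∀ g, Nat.card {A // ψ A = g} = c := fun g => by
      refine Eq.trans ?_ (natCard_fiber hF f g.1)
      exact Nat.card_congr
        { toFun := fun A => ⟨A.1.1, fun i => congrFun (congrArg (fun o : O => o.1.1) A.2) i⟩
          invFun := fun A => ⟨⟨A.1, (hmem A.1).2 fun i => by rw [A.2 i]; exact g.2 i⟩,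
            Subtype.ext (Subtype.ext (funext A.2))⟩
          left_inv := fun A => rfl
          right_inv := fun A => rfl }
    rw [Finset.sum_congr rfl fun g _ => this g, Finset.sum_const, smul_eq_mul, Finset.card_univ,
      Nat.card_eq_fintype_card]
  have h3 : Nat.card O = ∏ i : Fin k, ((q ^ 2) ^ k - (q ^ 2) ^ (i : ℕ)) := by
    rw [← hF, ← hWk, ← card_linearIndependent (K := F) (V := W) le_rfl, hWk]
    exact Nat.card_congr
      { toFun := fun g => ⟨fun i => ⟨g.1.1 i, g.2 i⟩, LinearIndependent.of_comp W.subtype g.1.2.1⟩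
        invFun := fun s => ⟨⟨fun i => (s.1 i : Fin n → F), s.2.map' W.subtype W.ker_subtype,
          fun i j => hW _ (s.1 i).2 _ (s.1 j).2⟩, fun i => (s.1 i).2⟩
        left_inv := fun g => rfl
        right_inv := fun s => rfl }
  rw [h1, h2, h3]
  ring

/-- the determinant takes every value of norm one on the stabiliser -/
theorem exists_det (hn : 1 ≤ n) (W : Submodule F (Fin n → F))
    (hW : ∀ u ∈ W, ∀ v ∈ W, Cfsg.hermForm n F q u v = 0) {δ : F} (hδ : δ ^ (q + 1) = 1) :
    ∃ g ∈ guStab (q := q) W, (gmat g).det = δ := by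
  classical
  rcases eq_or_ne W ⊥ with rfl | hne
  · refine ⟨diagGU hF (fun i => if i = ⟨0, hn⟩ then δ else 1) (fun i => ?_), ?_, ?_⟩
    · split_ifs <;> simp [hδ]
    · refine mem_guStab.2 fun v => ?_
      simp only [Submodule.mem_bot]
      constructor
      · rintro rfl; exact mulVec_zero _
      · intro h
        exact gmat_injective hF _ (h.trans (mulVec_zero _).symm)
    · rw [gmat_diagGU, Matrix.det_diagonal, Finset.prod_ite_eq']
      simp
  obtain ⟨u, huW, hu0⟩ := Submodule.exists_mem_ne_zero_of_ne_bot hne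
  obtain ⟨C, hC⟩ := Submodule.exists_isCompl (Submodule.span F {u})
  set W' := W ⊓ C with hW'
  have hu' : u ∉ W' := fun h => hu0 (Submodule.disjoint_def.1 hC.disjoint u
    (Submodule.mem_span_singleton_self u) (Submodule.mem_inf.1 h).2)
  obtain ⟨w, hw, hwu⟩ := Witt.exists_sep (σ := HermStd.qHom hF)
    (Finite.injective_iff_surjective.1 (HermStd.qHom hF).injective) (HermStd.hermB hF n)
    (HermStd.hermB_nondegenerate hF).2 hu'
  simp only [HermStd.hermB_apply] at hw hwu
  have hwu' : Cfsg.hermForm n F q w u = 1 := by rw [← H_conj hF, hwu, one_pow]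
  obtain ⟨c, hc⟩ := exists_trace_eq hF (c := - Cfsg.hermForm n F q w w) (by
    rw [← HermStd.qHom_apply hF, map_neg, HermStd.qHom_apply, H_conj hF])
  set s := w + c • u with hs
  have huu := hW u huW u huW
  have hus : Cfsg.hermForm n F q u s = 1 := by
    rw [hs, H_add_right hF, H_smul_right, hwu, huu, mul_zero, add_zero]
  have hss : Cfsg.hermForm n F q s s = 0 := by
    simp only [hs, H_add_left, H_add_right hF, H_smul_left, H_smul_right, huu, hwu, hwu']
    linear_combination hc
  obtain ⟨g, hgd, ⟨a, hga⟩, -, hgx⟩ := exists_scale hF huu hss hus hδ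
  have hfwd : ∀ v ∈ W, gmat g *ᵥ v ∈ W := by
    intro v hv
    obtain ⟨p, hp, r, hr, rfl⟩ := Submodule.mem_sup.1 (hC.sup_eq_top ▸ Submodule.mem_top :
      v ∈ Submodule.span F {u} ⊔ C)
    obtain ⟨t, rfl⟩ := Submodule.mem_span_singleton.1 hp
    have hrW : r ∈ W := by
      have := W.sub_mem hv (W.smul_mem t huW)
      rwa [add_sub_cancel_left] at this
    have hrs : Cfsg.hermForm n F q r s = 0 := by
      rw [hs, H_add_right hF, H_smul_right, hw r (Submodule.mem_inf.2 ⟨hrW, hr⟩), hW r hrW u huW,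
        mul_zero, add_zero]
    rw [mulVec_add, mulVec_smul, hga, hgx r (hW r hrW u huW) hrs]
    exact W.add_mem (W.smul_mem _ (W.smul_mem _ huW)) hrW
  refine ⟨g, mem_guStab.2 fun v => ⟨hfwd v, fun hv => ?_⟩, hgd⟩
  have hbij : Function.Bijective fun x : W => (⟨_, hfwd x.1 x.2⟩ : W) :=
    Finite.injective_iff_bijective.1 fun x y h =>
      Subtype.ext (gmat_injective hF g (congrArg Subtype.val h))
  obtain ⟨x, hx⟩ := hbij.2 ⟨_, hv⟩
  exact gmat_injective hF g (congrArg Subtype.val hx) ▸ x.2

theorem natCard_su_stab (hn : 1 ≤ n) (W : Submodule F (Fin n → F))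
    (hW : ∀ u ∈ W, ∀ v ∈ W, Cfsg.hermForm n F q u v = 0) :
    (q + 1) * Nat.card ↥((Cfsg.stabilizing (Cfsg.slToMat n F) (W : Set (Fin n → F))).subgroupOf
      (Cfsg.SU n F q)) = Nat.card (guStab (q := q) W) := by
  let d : guStab (q := q) W →* Fˣ := (detHom n F q).comp (guStab (q := q) W).subtype
  have hr : d.range = (powMonoidHom (q + 1) : Fˣ →* Fˣ).ker := by
    ext x
    constructor
    · rintro ⟨g, rfl⟩
      rw [← range_detHom hF hn]
      exact ⟨g.1, rfl⟩
    · intro hx
      obtain ⟨g, hg, hgd⟩ := exists_det hF hn W hW (δ := (x : F))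
        (by simpa using congrArg Units.val hx)
      exact ⟨⟨g, hg⟩, Units.ext hgd⟩
  rw [← d.ker.index_mul_card, Subgroup.index_ker, hr, natCard_normOne hF]
  congr 1
  exact Nat.card_congr
    { toFun := fun A => ⟨⟨suToGU A.1, A.2⟩, MonoidHom.mem_ker.2 (Units.ext A.1.1.2)⟩
      invFun := fun A => ⟨suOfGU A.1.1 (congrArg Units.val A.2), A.1.2⟩
      left_inv := fun A => Subtype.ext (SU_ext fun x => rfl)
      right_inv := fun A => Subtype.ext (Subtype.ext (GU_ext fun x => rfl)) }

theorem natCard_su_stab_ti (hn : 1 ≤ n) (hk : 2 * k ≤ n) (W : Submodule F (Fin n → F))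
    (hWk : Module.finrank F W = k) (hW : ∀ u ∈ W, ∀ v ∈ W, Cfsg.hermForm n F q u v = 0) :
    (q + 1) * Nat.card ↥((Cfsg.stabilizing (Cfsg.slToMat n F) (W : Set (Fin n → F))).subgroupOf
      (Cfsg.SU n F q)) = q ^ (k * (2 * n - 3 * k)) *
        (∏ i : Fin k, ((q ^ 2) ^ k - (q ^ 2) ^ (i : ℕ))) *
        (q ^ ((n - 2 * k) * ((n - 2 * k) - 1) / 2) * ∏ i ∈ Finset.range (n - 2 * k),
          (if Even i then q ^ (i + 1) + 1 else q ^ (i + 1) - 1)) := by
  rw [natCard_su_stab hF hn W hW]
  show _ = _ * (_ * ∏ i ∈ Finset.range (n - 2 * k), fac q i)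
  obtain ⟨r, rfl⟩ : ∃ r, n = r + 2 * k := ⟨n - 2 * k, by omega⟩
  rw [Nat.add_sub_cancel, show k * (2 * (r + 2 * k) - 3 * k) = k * (2 * r + k) by
    congr 1; omega]
  have h := natCard_stab_mul hF W hWk hW
  rw [natCard_GU hF] at h
  change _ = _ * (_ * ∏ i ∈ Finset.range (r + 2 * k), fac q i) at h
  have hT : 0 < Nat.card (IT F q (r + 2 * k) k) := by
    let b := Module.finBasisOfFinrankEq F W hWk
    exact Nat.card_pos_iff.2 ⟨⟨⟨fun i => (b i : Fin (r + 2 * k) → F),
      b.linearIndependent.map' W.subtype W.ker_subtype, fun i j => hW _ (b i).2 _ (b j).2⟩⟩,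
      inferInstance⟩
  refine Nat.eq_of_mul_eq_mul_right hT (h.trans ?_)
  have he : k * (2 * r + k) + r * (r - 1) / 2 + 2 * ∑ j ∈ Finset.range k, j =
      (r + 2 * k) * (r + 2 * k - 1) / 2 := by
    rw [← Finset.sum_range_id r, ← Finset.sum_range_id (r + 2 * k)]
    have tri : ∀ N, 2 * ∑ j ∈ Finset.range N, j + N = N * N := by
      intro N
      induction N with
      | zero => simp
      | succ N ih =>
        rw [Finset.sum_range_succ]
        linear_combination ih
    have h1 := tri r
    have h2 := tri k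
    have h3 := tri (r + 2 * k)
    have h4 : (r + 2 * k) * (r + 2 * k) = r * r + 4 * (r * k) + 4 * (k * k) := by ring
    have h5 : k * (2 * r + k) = 2 * (r * k) + k * k := by ring
    omega
  rw [← he]
  simp only [pow_add]
  linear_combination (q ^ (k * (2 * r + k)) * q ^ (r * (r - 1) / 2) *
    ∏ i : Fin k, ((q ^ 2) ^ k - (q ^ 2) ^ (i : ℕ))) * (natCard_IT_mul hF k r).symm

end Cfsg.Agent.Forms.HermStab
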