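import Mathlib
import Cfsg.Prelude.Def_ClassicalGeometry
import Cfsg.Agent.Lib.Forms.SympStd
import Cfsg.Agent.Lib.Classical.Symplectic

/-!
# Stabilisers of totally isotropic subspaces and flags in the symplectic group
-/

set_option autoImplicit false
set_option linter.unusedSectionVars false

namespace Cfsg.Agent.Forms.SympStab

open Matrix Cfsg.Agent.Forms.SympStd

variable {F : Type*} [Field F] {m : ℕ}

local notation "Vec" => (Fin m ⊕ Fin m → F)
local notation "Sp" => symplecticGroup (Fin m) F

theorem sp_injective (A : Sp) :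
    Function.Injective (Matrix.mulVecLin (A : Matrix (Fin m ⊕ Fin m) (Fin m ⊕ Fin m) F)) := by
  intro u v h
  rw [mulVecLin_apply, mulVecLin_apply] at h
  have h1 := congrArg (fun w => ((A⁻¹ : Sp) : Matrix (Fin m ⊕ Fin m) (Fin m ⊕ Fin m) F) *ᵥ w) h
  rw [← mul_mulVec_sp, ← mul_mulVec_sp, inv_mul_cancel] at h1
  simpa using h1

/-- independent totally isotropic tuples -/
abbrev IT (F : Type*) [Field F] (m k : ℕ) : Type _ :=
  {f : Fin k → Fin m ⊕ Fin m → F //
    LinearIndependent F f ∧ ∀ i j, Cfsg.sympForm m F (f i) (f j) = 0}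

theorem span_iso {ι : Type*} {f : ι → Vec} (h : ∀ i j, Cfsg.sympForm m F (f i) (f j) = 0) :
    ∀ u ∈ Submodule.span F (Set.range f), ∀ v ∈ Submodule.span F (Set.range f),
      Cfsg.sympForm m F u v = 0 := by
  have h1 : ∀ i, ∀ v ∈ Submodule.span F (Set.range f), Cfsg.sympForm m F (f i) v = 0 := by
    intro i v hv
    have : Submodule.span F (Set.range f) ≤ LinearMap.ker (sympB m F (f i)) := by
      rw [Submodule.span_le]
      rintro _ ⟨j, rfl⟩
      simp [sympB_apply, h i j]
    simpa [sympB_apply] using this hv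
  intro u hu v hv
  have : Submodule.span F (Set.range f) ≤ LinearMap.ker ((sympB m F).flip v) := by
    rw [Submodule.span_le]
    rintro _ ⟨j, rfl⟩
    simp [sympB_apply, h1 j v hv]
  simpa [sympB_apply] using this hu

/-- transitivity on independent totally isotropic tuples -/
theorem exists_move_tuple {k : ℕ} {f g : Fin k → Vec} (hf : LinearIndependent F f)
    (hg : LinearIndependent F g) (hf0 : ∀ i j, Cfsg.sympForm m F (f i) (f j) = 0)
    (hg0 : ∀ i j, Cfsg.sympForm m F (g i) (g j) = 0) :
    ∃ A : Sp, ∀ i, (A : Matrix (Fin m ⊕ Fin m) (Fin m ⊕ Fin m) F) *ᵥ f i = g i := by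
  set b := Module.Basis.span hf with hb
  have hinj : Function.Injective (b.constr F g) := by
    rw [← LinearMap.ker_eq_bot, LinearMap.ker_eq_bot']
    intro x hx
    rw [Module.Basis.constr_apply_fintype] at hx
    have := Fintype.linearIndependent_iff.1 hg _ hx
    exact (Module.Basis.forall_coord_eq_zero_iff b).1 fun i => by
      simpa [Module.Basis.equivFun_apply] using this i
  have hr : ∀ x, b.constr F g x ∈ Submodule.span F (Set.range g) := by
    intro x
    rw [← Module.Basis.constr_range (S := F) b (f := g)]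
    exact LinearMap.mem_range_self _ x
  obtain ⟨A, hA⟩ := exists_extend _ (b.constr F g) hinj fun x x' => by
    rw [span_iso hg0 _ (hr x) _ (hr x'), span_iso hf0 _ x.2 _ x'.2]
  refine ⟨A, fun i => ?_⟩
  have := hA (b i)
  rw [Module.Basis.constr_basis] at this
  rwa [hb, Module.Basis.span_apply] at this

/-- the tuple of the first standard vectors -/
def stdTuple (F : Type*) [Field F] {m k : ℕ} (hk : k ≤ m) : Fin k → Fin m ⊕ Fin m → F :=
  fun i => Pi.single (Sum.inl (Fin.castLE hk i)) 1

theorem stdTuple_li {k : ℕ} (hk : k ≤ m) : LinearIndependent F (stdTuple F (m := m) hk) := by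
  have h := (Pi.basisFun F (Fin m ⊕ Fin m)).linearIndependent
  have h2 := h.comp (fun i : Fin k => (Sum.inl (Fin.castLE hk i) : Fin m ⊕ Fin m))
    (Sum.inl_injective.comp (Fin.castLE_injective hk))
  convert h2 using 1
  funext i
  simp [stdTuple]

theorem stdTuple_iso {k : ℕ} (hk : k ≤ m) (i j : Fin k) :
    Cfsg.sympForm m F (stdTuple F hk i) (stdTuple F hk j) = 0 := sympForm_inl_inl _ _

variable [Fintype F]

theorem natCard_IT {k : ℕ} (hk : k ≤ m) :
    Nat.card (IT F m k) = ∏ j : Fin k, (Fintype.card F ^ (2 * m - (j : ℕ)) - Fintype.card F ^ (j : ℕ)) := by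
  induction k with
  | zero =>
    rw [Finset.univ_eq_empty, Finset.prod_empty, Nat.card_eq_one_iff_unique]
    exact ⟨⟨fun x y => Subtype.ext (funext fun i => i.elim0)⟩,
      ⟨⟨fun i => i.elim0, linearIndependent_empty_type, fun i => i.elim0⟩⟩⟩
  | succ k ih =>
    classical
    rw [Fin.prod_univ_castSucc]
    simp only [Fin.val_castSucc, Fin.val_last]
    rw [← ih (by omega)]
    let ρ : IT F m (k + 1) → IT F m k := fun f =>
      ⟨Fin.init f.1, f.2.1.comp Fin.castSucc (Fin.castSucc_injective k),
        fun i j => f.2.2 _ _⟩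
    refine Nat.card_congr (Equiv.sigmaFiberEquiv ρ).symm |>.trans ?_
    have hfib : ∀ f : IT F m k, Nat.card {g // ρ g = f} =
        Fintype.card F ^ (2 * m - k) - Fintype.card F ^ k := by
      intro f
      set S := Submodule.span F (Set.range f.1) with hS
      set P := (sympB m F).orthogonal S with hP
      have hSr : Module.finrank F S = k := by
        rw [hS, finrank_span_eq_card f.2.1, Fintype.card_fin]
      have hle : S ≤ P := fun v hv w hw => by
        show sympB m F w v = 0
        rw [sympB_apply]; exact span_iso f.2.2 w hw v hv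
      have hPr : Module.finrank F P = 2 * m - k := by
        rw [hP, LinearMap.BilinForm.finrank_orthogonal sympB_nondegenerate, finrank_vec, hSr]
      have e : {g // ρ g = f} ≃ {x : P // (x : Vec) ∉ S} :=
        { toFun := fun g => by
            have hinit : Fin.init g.1.1 = f.1 := congrArg Subtype.val g.2
            refine ⟨⟨g.1.1 (Fin.last k), fun w hw => ?_⟩, ?_⟩
            · show sympB m F w _ = 0
              rw [hS, ← hinit] at hw
              rw [sympB_apply]
              refine span_iso g.1.2.2 w ?_ _ (Submodule.subset_span ⟨_, rfl⟩)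
              refine Submodule.span_mono ?_ hw
              rintro _ ⟨i, rfl⟩
              exact ⟨_, rfl⟩
            · have h := g.1.2.1
              rw [← Fin.snoc_init_self g.1.1, linearIndependent_finSnoc, hinit] at h
              exact h.2
          invFun := fun x => ⟨⟨Fin.snoc f.1 x.1.1, linearIndependent_finSnoc.2 ⟨f.2.1, x.2⟩, by
              intro i j
              have hx : ∀ l, Cfsg.sympForm m F (f.1 l) x.1.1 = 0 := fun l => by
                rw [← sympB_apply]; exact x.1.2 _ (Submodule.subset_span ⟨l, rfl⟩)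
              refine Fin.lastCases ?_ (fun i => ?_) i <;> refine Fin.lastCases ?_ (fun j => ?_) j <;>
                simp only [Fin.snoc_last, Fin.snoc_castSucc]
              · exact sympForm_self _
              · rw [sympForm_swap, hx, neg_zero]
              · exact hx _
              · exact f.2.2 _ _⟩, Subtype.ext (by simp [ρ])⟩
          left_inv := fun g => by
            have hinit : Fin.init g.1.1 = f.1 := congrArg Subtype.val g.2
            refine Subtype.ext (Subtype.ext ?_)
            show Fin.snoc f.1 (g.1.1 (Fin.last k)) = g.1.1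
            rw [← hinit, Fin.snoc_init_self]
          right_inv := fun x => Subtype.ext (Subtype.ext (by simp)) }
      rw [Nat.card_congr e]
      have h2 : Nat.card {x : P // (x : Vec) ∈ S} = Fintype.card F ^ k := by
        have e2 : {x : P // (x : Vec) ∈ S} ≃ S :=
          { toFun := fun x => ⟨x.1.1, x.2⟩
            invFun := fun x => ⟨⟨x.1, hle x.2⟩, x.2⟩
            left_inv := fun x => rfl
            right_inv := fun x => rfl }
        rw [Nat.card_congr e2, Module.natCard_eq_pow_finrank (K := F), hSr, Nat.card_eq_fintype_card]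
      have h1 := Nat.card_congr (Equiv.sumCompl fun x : P => (x : Vec) ∈ S)
      rw [Nat.card_sum, h2, Module.natCard_eq_pow_finrank (K := F) (V := P), hPr,
        Nat.card_eq_fintype_card (α := F)] at h1
      omega
    rw [Nat.card_sigma, Finset.sum_congr rfl fun f _ => hfib f, Finset.sum_const, smul_eq_mul,
      Finset.card_univ, Nat.card_eq_fintype_card]

/-- the common fixer of a tuple -/
abbrev fixer {k : ℕ} (f : Fin k → Vec) : Subgroup Sp := MulAction.stabilizer Sp f

theorem natCard_IT_mul_fixer {k : ℕ} (f : IT F m k) :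
    Nat.card (IT F m k) * Nat.card (fixer f.1) = Nat.card Sp := by
  have horb : MulAction.orbit Sp f.1 =
      {g : Fin k → Vec | LinearIndependent F g ∧ ∀ i j, Cfsg.sympForm m F (g i) (g j) = 0} := by
    ext g
    constructor
    · rintro ⟨A, rfl⟩
      refine ⟨?_, fun i j => ?_⟩
      · exact f.2.1.map' (Matrix.mulVecLin (A : Matrix (Fin m ⊕ Fin m) (Fin m ⊕ Fin m) F))
          (LinearMap.ker_eq_bot.2 (sp_injective A))
      · show Cfsg.sympForm m F (A • f.1 i) (A • f.1 j) = 0
        rw [Classical.Symplectic.smul_eq, Classical.Symplectic.smul_eq, sympForm_mulVec, f.2.2]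
    · rintro ⟨h1, h2⟩
      obtain ⟨A, hA⟩ := exists_move_tuple f.2.1 h1 f.2.2 h2
      exact ⟨A, funext hA⟩
  rw [← Nat.card_congr (MulAction.orbitProdStabilizerEquivGroup Sp f.1), Nat.card_prod, horb]
  rfl

theorem natCard_subgroup_orbit {k : ℕ} (H : Subgroup Sp) (f : IT F m k) (O : Set (Fin k → Vec))
    (hle : fixer f.1 ≤ H) (hmaps : ∀ A ∈ H, (A • f.1) ∈ O)
    (htrans : ∀ g ∈ O, ∃ A ∈ H, A • f.1 = g) :
    Nat.card H * Nat.card (IT F m k) = Nat.card O * Nat.card Sp := by
  have horb : MulAction.orbit H f.1 = O := by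
    ext g
    constructor
    · rintro ⟨A, rfl⟩; exact hmaps A.1 A.2
    · intro hg
      obtain ⟨A, hA, e⟩ := htrans g hg
      exact ⟨⟨A, hA⟩, e⟩
  have hst : Nat.card (MulAction.stabilizer H f.1) = Nat.card (fixer f.1) :=
    Nat.card_congr
      { toFun := fun A => ⟨A.1.1, A.2⟩
        invFun := fun A => ⟨⟨A.1, hle A.2⟩, A.2⟩
        left_inv := fun A => rfl
        right_inv := fun A => rfl }
  rw [← natCard_IT_mul_fixer f, ← Nat.card_congr (MulAction.orbitProdStabilizerEquivGroup H f.1),
    Nat.card_prod, horb, hst]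
  ring

theorem natCard_IT_pos {k : ℕ} (hk : k ≤ m) : 0 < Nat.card (IT F m k) :=
  Nat.card_pos_iff.2 ⟨⟨⟨stdTuple F hk, stdTuple_li hk, stdTuple_iso hk⟩⟩, inferInstance⟩

theorem natCard_stab_mul (W : Submodule F Vec) {k : ℕ} (hWk : Module.finrank F W = k)
    (hW : ∀ u ∈ W, ∀ v ∈ W, Cfsg.sympForm m F u v = 0) :
    Nat.card (Cfsg.stabilizing (Cfsg.spToMat m F) (W : Set Vec)) * Nat.card (IT F m k) =
      (∏ i : Fin k, (Fintype.card F ^ k - Fintype.card F ^ (i : ℕ))) * Nat.card Sp := by
  let b := Module.finBasisOfFinrankEq F W hWk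
  let f : IT F m k := ⟨fun i => (b i : Vec),
    b.linearIndependent.map' W.subtype W.ker_subtype, fun i j => hW _ (b i).2 _ (b j).2⟩
  have hspan : ∀ g : Fin k → Vec, LinearIndependent F g → (∀ i, g i ∈ W) →
      Submodule.span F (Set.range g) = W := by
    intro g hg hgW
    refine Submodule.eq_of_le_of_finrank_eq (Submodule.span_le.2 ?_) ?_
    · rintro _ ⟨i, rfl⟩; exact hgW i
    · rw [finrank_span_eq_card hg, Fintype.card_fin, hWk]
  have hstab : ∀ A : Sp, (∀ i, A • f.1 i ∈ W) → A ∈ Cfsg.stabilizing (Cfsg.spToMat m F) (W : Set Vec) := by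
    intro A hA
    have hinj : Function.Injective (Matrix.mulVecLin (A : Matrix (Fin m ⊕ Fin m) (Fin m ⊕ Fin m) F)) :=
      sp_injective A
    have hmap : W.map (Matrix.mulVecLin (A : Matrix (Fin m ⊕ Fin m) (Fin m ⊕ Fin m) F)) = W := by
      conv_lhs => rw [← hspan f.1 f.2.1 fun i => (b i).2]
      rw [Submodule.map_span, ← Set.range_comp]
      exact hspan _ (f.2.1.map' _ (LinearMap.ker_eq_bot.2 hinj)) hA
    intro v
    constructor
    · intro hv
      rw [← hmap]
      exact ⟨v, hv, rfl⟩
    · intro hv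
      rw [← hmap] at hv
      obtain ⟨w, hw, e⟩ := hv
      exact hinj e ▸ hw
  have h := natCard_subgroup_orbit (Cfsg.stabilizing (Cfsg.spToMat m F) (W : Set Vec)) f
    {g | LinearIndependent F g ∧ ∀ i, g i ∈ W} ?_ ?_ ?_
  · rw [h]
    congr 1
    rw [← hWk, ← card_linearIndependent (K := F) (V := W) le_rfl, hWk]
    exact Nat.card_congr
      { toFun := fun g => ⟨fun i => ⟨g.1 i, g.2.2 i⟩, LinearIndependent.of_comp W.subtype g.2.1⟩
        invFun := fun s => ⟨fun i => (s.1 i : Vec), s.2.map' W.subtype W.ker_subtype,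
          fun i => (s.1 i).2⟩
        left_inv := fun g => rfl
        right_inv := fun s => rfl }
  · intro A hA
    refine hstab A fun i => ?_
    rw [show A • f.1 i = f.1 i from congrFun hA i]
    exact (b i).2
  · intro A hA
    refine ⟨?_, fun i => (hA (f.1 i)).1 (b i).2⟩
    exact f.2.1.map' (Matrix.mulVecLin (A : Matrix (Fin m ⊕ Fin m) (Fin m ⊕ Fin m) F))
      (LinearMap.ker_eq_bot.2 (sp_injective A))
  · rintro g ⟨hg, hgW⟩
    obtain ⟨A, hA⟩ := exists_move_tuple f.2.1 hg f.2.2 fun i j => hW _ (hgW i) _ (hgW j)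
    exact ⟨A, hstab A fun i => by rw [Classical.Symplectic.smul_eq, hA i]; exact hgW i, funext hA⟩

end Cfsg.Agent.Forms.SympStab

namespace Cfsg.Agent.Forms.SympStab

theorem prod_tuples (q m : ℕ) : ∀ k, k ≤ m →
    (∏ j : Fin k, (q ^ (2 * m - (j : ℕ)) - q ^ (j : ℕ))) *
      (∏ i ∈ Finset.range (m - k), (q ^ (2 * (i + 1)) - 1)) =
    q ^ (∑ j ∈ Finset.range k, j) * ∏ i ∈ Finset.range m, (q ^ (2 * (i + 1)) - 1) := by
  intro k
  induction k with
  | zero => intro _; simp
  | succ k ih =>
    intro hk
    have h := ih (by omega)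
    rw [show m - k = (m - (k + 1)) + 1 by omega, Finset.prod_range_succ,
      show m - (k + 1) + 1 = m - k by omega] at h
    have e : q ^ (2 * m - k) - q ^ k = q ^ k * (q ^ (2 * (m - k)) - 1) := by
      rw [Nat.mul_sub, mul_one, ← pow_add, show k + 2 * (m - k) = 2 * m - k by omega]
    rw [Fin.prod_univ_castSucc, Finset.sum_range_succ, pow_add]
    simp only [Fin.val_castSucc, Fin.val_last]
    rw [e]
    linear_combination q ^ k * h

theorem sum_id_exp (k : ℕ) :
    k * (k + 1) / 2 + ∑ j ∈ Finset.range k, j = k * k := by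
  induction k with
  | zero => simp
  | succ k ih =>
    rw [Finset.sum_range_succ, show (k + 1) * (k + 1 + 1) = k * (k + 1) + 2 * (k + 1) by ring,
      Nat.add_mul_div_left _ _ (by norm_num : 0 < 2), show (k + 1) * (k + 1) = k * k + (2 * k + 1) by ring]
    omega

end Cfsg.Agent.Forms.SympStab
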