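import Mathlib
import Cfsg.Agent.GroupStructure3.ThreeTransUnitary

/-!
Involutions of `PSU(6, 2)` lift to involutions in any central extension by a group of exponent two.
The transvection lifts are handled through the relation
`t_a t_b = t_{a+b} t_{a+ωb} t_{a+ω²b}` on a totally singular line, and every involution is a
product of transvections with centres in a totally singular space.
-/

set_option autoImplicit false
set_option linter.unusedSectionVars false
set_option linter.style.haveILetI false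

namespace Cfsg.Agent.Forms.U62Lift

open Matrix Cfsg.Agent.Classical.Unitary
open scoped commutatorElement
open Cfsg.Agent.GroupStructure3.ThreeTransUnitary

variable {F : Type*} [Field F] [Fintype F] {n : ℕ} (hF : Fintype.card F = 2 ^ 2)

local notation "Vec" => (Fin n → F)
local notation "H" => Cfsg.hermForm n F 2

include hF

/-- Transvections with orthogonal centres commute. -/
theorem tr_comm {u v : Vec} (hu : H u u = 0) (hv : H v v = 0) (huv : H u v = 0) :
    tr hF hu * tr hF hv = tr hF hv * tr hF hu := by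
  have hvu : H v u = 0 := (H_eq_zero_comm hF).1 huv
  refine SU_ext fun x => ?_
  simp only [mul_mulVec, tr_mulVec, H_add_left, H_smul_left, huv, hvu, mul_zero, add_zero]
  abel

/-- The five transvections of a totally singular line. -/
theorem line_relation {a b : Vec} (ha : H a a = 0) (hb : H b b = 0) (hab : H a b = 0) {ω : F}
    (h3 : ω ^ 3 = 1) (hω : ω ^ 2 + ω + 1 = 0)
    (h₁ : H (a + b) (a + b) = 0) (h₂ : H (a + ω • b) (a + ω • b) = 0)
    (h₃ : H (a + ω ^ 2 • b) (a + ω ^ 2 • b) = 0) :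
    tr hF ha * tr hF hb = tr hF h₁ * tr hF h₂ * tr hF h₃ := by
  have hba : H b a = 0 := (H_eq_zero_comm hF).1 hab
  have h2 := two_zero hF
  refine SU_ext fun x => ?_
  simp only [mul_mulVec, tr_mulVec, H_add_left, H_add_right hF, H_smul_left, H_smul_right, ha, hb,
    hab, hba, mul_zero, add_zero]
  funext i
  simp only [Pi.add_apply, Pi.smul_apply, smul_eq_mul]
  linear_combination (-(H x b * a i) - ω ^ 2 * H x b * a i * (0 : F) ) * hω +
    (-(H x a * b i)) * hω + (-(H x b * b i) * (1 + (ω ^ 3 + 1)) - ω * H x b * a i) * h3 +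
    (-(H x a * a i) - H x b * b i) * h2

/-! ### Writing an involution through transvections -/

theorem exists_list (m : ℕ) : ∀ u : Cfsg.SU n F 2, u * u = 1 →
    Nat.card {x : Vec // mat u *ᵥ x ≠ x} ≤ m →
    ∃ l : List (Cfsg.SU n F 2), l.prod = u ∧ ∀ g ∈ l, ∃ (w : Vec) (hw : H w w = 0),
      (∃ y : Vec, w = mat u *ᵥ y - y) ∧ g = tr hF hw := by
  induction m with
  | zero =>
    intro u _ hm
    refine ⟨[], ?_, fun g hg => absurd hg (List.not_mem_nil)⟩
    rw [List.prod_nil]
    refine SU_ext fun x => ?_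
    rw [mat_one, one_mulVec]
    by_contra hne
    haveI : Nonempty {x : Vec // mat u *ᵥ x ≠ x} := ⟨⟨x, fun h => hne h.symm⟩⟩
    exact absurd hm (Nat.card_pos.ne' ∘ Nat.le_zero.1)
  | succ m ih =>
    intro u hu hm
    have h2 := two_zero hF
    have huu : ∀ x : Vec, mat u *ᵥ (mat u *ᵥ x) = x := fun x => by
      rw [← mul_mulVec, hu, mat_one, one_mulVec]
    have hself : ∀ x y : Vec, H (mat u *ᵥ x) y = H x (mat u *ᵥ y) := fun x y => by
      conv_lhs => rw [← huu y]
      rw [SU_H]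
    by_cases hall : ∀ x : Vec, H x (mat u *ᵥ x - x) = 0
    · -- then `u = 1`
      have hu1 : u = 1 := by
        obtain ⟨ω, h3, hω, -⟩ := exists_zeta hF (q := 2) rfl
        refine SU_ext fun y => ?_
        rw [mat_one, one_mulVec]
        refine sub_eq_zero.1 (eq_zero_of_H hF fun x => ?_)
        rw [H_eq_zero_comm hF]
        have ha := hall (x + y)
        have hb := hall (x + ω • y)
        have hx := hall x
        have hy := hall y
        simp only [mulVec_add, mulVec_smul, H_sub_right hF, H_add_left, H_add_right hF,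
          H_smul_left, H_smul_right] at ha hb hx hy
        have hab : H x (mat u *ᵥ y) - H x y + (H y (mat u *ᵥ x) - H y x) = 0 := by
          linear_combination ha - hx - hy
        have hab' : ω ^ 2 * (H x (mat u *ᵥ y) - H x y) + ω * (H y (mat u *ᵥ x) - H y x) = 0 := by
          linear_combination hb - hx - ω ^ 3 * hy
        rw [H_sub_right hF]
        linear_combination (-1 : F) * (hab' - ω * hab) +
          (H x (mat u *ᵥ y) - H x y) * hω - ω * (H x (mat u *ᵥ y) - H x y) * h2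
      refine ⟨[], by rw [List.prod_nil, hu1], fun g hg => absurd hg (List.not_mem_nil)⟩
    push Not at hall
    obtain ⟨x₀, hx₀⟩ := hall
    obtain ⟨w, hw'⟩ : ∃ w, w = mat u *ᵥ x₀ - x₀ := ⟨_, rfl⟩
    rw [← hw'] at hx₀
    have hww : H w w = 0 := by
      rw [hw']
      simp only [H_sub_left, H_sub_right hF, hself, huu]
      linear_combination (H x₀ x₀ - H x₀ (mat u *ᵥ x₀)) * h2
    have hxw : H x₀ w = 1 := by
      have hc : H x₀ w ^ 2 = H x₀ w := by
        rw [H_conj hF, hw', H_sub_left, H_sub_right hF, hself]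
      have h' : H x₀ w * (H x₀ w - 1) = 0 := by linear_combination hc
      exact sub_eq_zero.1 ((mul_eq_zero.1 h').resolve_left hx₀)
    have huw : mat u *ᵥ w = w := by
      rw [hw', mulVec_sub, huu]
      funext i
      simp only [Pi.sub_apply]
      linear_combination (x₀ i - (mat u *ᵥ x₀) i) * h2
    have hcomm : u * tr hF hww = tr hF hww * u := by
      rw [← mul_inv_eq_iff_eq_mul]
      exact tr_conj hF u hww hww huw
    obtain ⟨u', hu'⟩ : ∃ u', u' = u * tr hF hww := ⟨_, rfl⟩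
    have hu'u : u' * u' = 1 := by
      rw [hu']
      calc u * tr hF hww * (u * tr hF hww) = u * (tr hF hww * u) * tr hF hww := by group
        _ = u * u * (tr hF hww * tr hF hww) := by rw [← hcomm]; group
        _ = 1 := by rw [hu, tr_sq, one_mul]
    have hu'x : ∀ x : Vec, mat u' *ᵥ x = mat u *ᵥ x + H x w • w := fun x => by
      rw [hu', mul_mulVec, tr_mulVec, mulVec_add, mulVec_smul, huw]
    have hlt : Nat.card {x : Vec // mat u' *ᵥ x ≠ x} < Nat.card {x : Vec // mat u *ᵥ x ≠ x} := by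
      classical
      rw [Nat.card_eq_fintype_card, Nat.card_eq_fintype_card]
      refine Fintype.card_lt_of_injective_of_notMem (fun x => ⟨x.1, fun hx => x.2 ?_⟩) ?_
        (b := ⟨x₀, ?_⟩) ?_
      · rw [hu'x, hx]
        have : H x.1 w = 0 := by
          rw [hw', H_sub_right hF, ← hself, hx, sub_self]
        rw [this, zero_smul, add_zero]
      · intro a b h
        exact Subtype.ext (congrArg (fun z : {x : Vec // mat u *ᵥ x ≠ x} => z.1) h)
      · intro h
        exact hx₀ (by rw [hw', h, sub_self, H_zero_right hF])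
      · rintro ⟨z, hz⟩
        have hzx : z.1 = x₀ := congrArg (fun t : {x : Vec // mat u *ᵥ x ≠ x} => t.1) hz
        refine z.2 ?_
        rw [hzx, hu'x, hxw, one_smul, hw']
        funext i
        simp only [Pi.add_apply, Pi.sub_apply]
        linear_combination ((mat u *ᵥ x₀) i - x₀ i) * h2
    obtain ⟨l, hl, hlg⟩ := ih u' hu'u (by omega)
    refine ⟨l ++ [tr hF hww], ?_, ?_⟩
    · rw [List.prod_append, hl, List.prod_singleton, hu', mul_assoc, tr_sq, mul_one]
    · intro g hg
      rcases List.mem_append.1 hg with hg | hg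
      · obtain ⟨v, hv, ⟨y, hy⟩, rfl⟩ := hlg g hg
        refine ⟨v, hv, ⟨y + H y w • x₀, ?_⟩, rfl⟩
        rw [hy, hu'x, mulVec_add, mulVec_smul, hw']
        funext i
        simp only [Pi.sub_apply, Pi.add_apply, Pi.smul_apply, smul_eq_mul]
        ring
      · rw [List.mem_singleton.1 hg]
        exact ⟨w, hww, ⟨x₀, hw'⟩, rfl⟩

/-- The centres occurring for an involution are pairwise orthogonal. -/
theorem orth_of_image {u : Cfsg.SU n F 2} (hu : u * u = 1) (y z : Vec) :
    H (mat u *ᵥ y - y) (mat u *ᵥ z - z) = 0 := by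
  have h2 := two_zero hF
  have hself : H (mat u *ᵥ y) z = H y (mat u *ᵥ z) := by
    conv_lhs => rw [← show mat u *ᵥ (mat u *ᵥ z) = z by rw [← mul_mulVec, hu, mat_one, one_mulVec]]
    rw [SU_H]
  simp only [H_sub_left, H_sub_right hF, SU_H, hself]
  linear_combination (H y z - H y (mat u *ᵥ z)) * h2

/-! ### Central extensions -/

section Ext

variable {C : Type*} [Group C] (f : C →* Cfsg.PSU n F 2)
  (hf : Function.Surjective f) (hker : ∀ z, f z = 1 → z ∈ Subgroup.center C ∧ z * z = 1)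

/-- Projective transvection. -/
noncomputable abbrev T {u : Fin n → F} (hu : Cfsg.hermForm n F 2 u u = 0) : Cfsg.PSU n F 2 :=
  QuotientGroup.mk (tr hF hu)

omit hF
include hker

theorem comm_lift {x x' y y' : C} (hx : f x = f x') (hy : f y = f y') : ⁅x, y⁆ = ⁅x', y'⁆ := by
  have hxz : x * x'⁻¹ ∈ Subgroup.center C := (hker _ (by rw [map_mul, map_inv, hx, mul_inv_cancel])).1
  have hyz : y * y'⁻¹ ∈ Subgroup.center C := (hker _ (by rw [map_mul, map_inv, hy, mul_inv_cancel])).1
  set a := x * x'⁻¹ with ha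
  set b := y * y'⁻¹ with hb
  have hxe : x = a * x' := by rw [ha, inv_mul_cancel_right]
  have hye : y = b * y' := by rw [hb, inv_mul_cancel_right]
  have hca := Subgroup.mem_center_iff.1 hxz
  have hcb := Subgroup.mem_center_iff.1 hyz
  rw [commutatorElement_def, commutatorElement_def, hxe, hye]
  calc a * x' * (b * y') * (a * x')⁻¹ * (b * y')⁻¹
      = a * (x' * b) * y' * x'⁻¹ * a⁻¹ * y'⁻¹ * b⁻¹ := by group
    _ = b * (a * (x' * y' * x'⁻¹)) * a⁻¹ * y'⁻¹ * b⁻¹ := by rw [hcb x', ← mul_assoc a b, hcb a]; group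
    _ = b * ((x' * y' * x'⁻¹) * a) * a⁻¹ * y'⁻¹ * b⁻¹ := by rw [hca (x' * y' * x'⁻¹)]
    _ = b * (x' * y' * x'⁻¹ * y'⁻¹) * b⁻¹ := by group
    _ = _ := by rw [← hcb (x' * y' * x'⁻¹ * y'⁻¹), mul_inv_cancel_right]

include hF hf

theorem comm_const {u v u' v' : Vec} (huu : H u u = 0) (hvv : H v v = 0) (huu' : H u' u' = 0)
    (hvv' : H v' v' = 0) (h : LinearIndependent F ![u, v]) (h' : LinearIndependent F ![u', v'])
    (huv : H u v = 0) (huv' : H u' v' = 0) {x y x' y' : C} (hx : f x = T hF huu)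
    (hy : f y = T hF hvv) (hx' : f x' = T hF huu') (hy' : f y' = T hF hvv') :
    ⁅x, y⁆ = ⁅x', y'⁆ := by
  obtain ⟨k, a, b, hku, hkv⟩ := exists_su_pair hF huu hvv huu' hvv' h h' (iff_of_true huv huv')
  obtain ⟨c, hc⟩ := hf (QuotientGroup.mk k)
  have hau : H (a • u') (a • u') = 0 := by rw [← hku, SU_H, huu]
  have hbv : H (b • v') (b • v') = 0 := by rw [← hkv, SU_H, hvv]
  have hu0 : u ≠ 0 := by simpa using h.ne_zero 0
  have hv0 : v ≠ 0 := by simpa using h.ne_zero 1
  have ha : a ≠ 0 := fun e => mat_mulVec_ne_zero k hu0 (by rw [hku, e, zero_smul])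
  have hb : b ≠ 0 := fun e => mat_mulVec_ne_zero k hv0 (by rw [hkv, e, zero_smul])
  have h1 : f (c * x * c⁻¹) = f x' := by
    rw [map_mul, map_mul, map_inv, hc, hx, hx', T, T, ← QuotientGroup.mk_mul, ← QuotientGroup.mk_inv,
      ← QuotientGroup.mk_mul, tr_conj hF k huu hau hku, tr_smul hF huu' ha]
  have h2 : f (c * y * c⁻¹) = f y' := by
    rw [map_mul, map_mul, map_inv, hc, hy, hy', T, T, ← QuotientGroup.mk_mul, ← QuotientGroup.mk_inv,
      ← QuotientGroup.mk_mul, tr_conj hF k hvv hbv hkv, tr_smul hF hvv' hb]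
  have hxy : ⁅x, y⁆ ∈ Subgroup.center C := (hker _ (by
    rw [map_commutatorElement, commutatorElement_eq_one_iff_mul_comm, hx, hy, T, T,
      ← QuotientGroup.mk_mul, ← QuotientGroup.mk_mul, tr_comm hF huu hvv huv])).1
  rw [← comm_lift f hker h1 h2]
  calc ⁅x, y⁆ = c * ⁅x, y⁆ * c⁻¹ := by rw [Subgroup.mem_center_iff.1 hxy c, mul_inv_cancel_right]
    _ = _ := by simp only [commutatorElement_def]; group

theorem sq_const {u u' : Vec} (huu : H u u = 0) (huu' : H u' u' = 0) (hu : u ≠ 0) (hu' : u' ≠ 0)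
    {x x' : C} (hx : f x = T hF huu) (hx' : f x' = T hF huu') : x * x = x' * x' := by
  obtain ⟨k, a, hku⟩ := exists_su_point hF hu hu' huu huu'
  obtain ⟨c, hc⟩ := hf (QuotientGroup.mk k)
  have hau : H (a • u') (a • u') = 0 := by rw [← hku, SU_H, huu]
  have ha : a ≠ 0 := fun e => mat_mulVec_ne_zero k hu (by rw [hku, e, zero_smul])
  have hd := hker ((c * x * c⁻¹) * x'⁻¹) (by
    rw [map_mul, map_mul, map_mul, map_inv, map_inv, hc, hx, hx', T, T, ← QuotientGroup.mk_mul,
      ← QuotientGroup.mk_inv, ← QuotientGroup.mk_mul, tr_conj hF k huu hau hku, tr_smul hF huu' ha,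
      mul_inv_cancel])
  have hxx := (hker (x * x) (by rw [map_mul, hx, T, ← QuotientGroup.mk_mul, tr_sq,
    QuotientGroup.mk_one])).1
  set d := (c * x * c⁻¹) * x'⁻¹ with hdd
  calc x * x = c * (x * x) * c⁻¹ := by rw [Subgroup.mem_center_iff.1 hxx c, mul_inv_cancel_right]
    _ = (d * x') * (d * x') := by rw [hdd]; group
    _ = d * (x' * d) * x' := by group
    _ = d * d * (x' * x') := by rw [Subgroup.mem_center_iff.1 hd.1 x']; group
    _ = x' * x' := by rw [hd.2, one_mul]

/-- The two facts about lifts of transvections, given three independent orthogonal centres. -/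
theorem lift_facts {a b e : Vec} (ha : H a a = 0) (hb : H b b = 0) (he : H e e = 0)
    (hab : H a b = 0) (hae : H a e = 0) (hbe : H b e = 0) (hli : LinearIndependent F ![a, b, e]) :
    (∀ (u : Vec) (hu : H u u = 0) (x : C), f x = T hF hu → x * x = 1) ∧
    ∀ (u v : Vec) (hu : H u u = 0) (hv : H v v = 0), H u v = 0 →
      ∀ x y : C, f x = T hF hu → f y = T hF hv → x * y = y * x := by
  obtain ⟨ω, h3, hω, h20⟩ := exists_zeta hF (q := 2) rfl
  have hω0 : ω ≠ 0 := fun e => by simp [e] at h3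
  have hli' := fun (r s t : F) (h : r • a + s • b + t • e = 0) =>
    (Fintype.linearIndependent_iff.1 hli ![r, s, t] (by simpa [Fin.sum_univ_three] using h))
  have hiso : ∀ c : F, H (a + c • b) (a + c • b) = 0 := fun c => by
    simp [H_add_left, H_add_right hF, H_smul_left, H_smul_right, ha, hb, hab,
      (H_eq_zero_comm hF).1 hab]
  have hperp : ∀ c : F, H e (a + c • b) = 0 := fun c => by
    simp [H_add_right hF, H_smul_right, (H_eq_zero_comm hF).1 hae, (H_eq_zero_comm hF).1 hbe]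
  have hind : ∀ r s : F, ¬ (r = 0 ∧ s = 0) → LinearIndependent F ![e, r • a + s • b] := by
    intro r s hrs
    rw [LinearIndependent.pair_iff]
    intro x y hxy
    have h := hli' (y * r) (y * s) x (by
      rw [← hxy, smul_add, smul_smul, smul_smul]; abel)
    have h0 : y * r = 0 := h 0
    have h1 : y * s = 0 := h 1
    refine ⟨h 2, ?_⟩
    by_contra hy
    exact hrs ⟨(mul_eq_zero.1 h0).resolve_left hy, (mul_eq_zero.1 h1).resolve_left hy⟩
  have hlea : LinearIndependent F ![e, a] := by simpa using hind 1 0 (by simp)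
  have hleb : LinearIndependent F ![e, b] := by simpa using hind 0 1 (by simp)
  have hlec : ∀ c : F, LinearIndependent F ![e, a + c • b] := fun c => by
    simpa using hind 1 c (by simp)
  have h₁ : H (a + b) (a + b) = 0 := by simpa using hiso 1
  have hline := line_relation hF ha hb hab h3 hω h₁ (hiso ω) (hiso (ω ^ 2))
  obtain ⟨xe, hxe⟩ := hf (T hF he)
  obtain ⟨xa, hxa⟩ := hf (T hF ha)
  obtain ⟨xb, hxb⟩ := hf (T hF hb)
  obtain ⟨y₁, hy₁⟩ := hf (T hF h₁)
  obtain ⟨y₂, hy₂⟩ := hf (T hF (hiso ω))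
  obtain ⟨y₃, hy₃⟩ := hf (T hF (hiso (ω ^ 2)))
  set ε := ⁅xe, xa⁆ with hε
  have hεk : f ε = 1 := by
    rw [hε, map_commutatorElement, commutatorElement_eq_one_iff_mul_comm, hxe, hxa, T, T,
      ← QuotientGroup.mk_mul, ← QuotientGroup.mk_mul,
      tr_comm hF he ha ((H_eq_zero_comm hF).1 hae)]
  obtain ⟨hεc, hε2⟩ := hker ε hεk
  have hcε := Subgroup.mem_center_iff.1 hεc
  have heb : ⁅xe, xb⁆ = ε := (comm_const hF f hf hker he ha he hb hlea hleb
    ((H_eq_zero_comm hF).1 hae) ((H_eq_zero_comm hF).1 hbe) hxe hxa hxe hxb).symm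
  have he1 : ⁅xe, y₁⁆ = ε := (comm_const hF f hf hker he ha he h₁ hlea (by simpa using hlec 1)
    ((H_eq_zero_comm hF).1 hae) (by simpa using hperp 1) hxe hxa hxe hy₁).symm
  have he2 : ⁅xe, y₂⁆ = ε := (comm_const hF f hf hker he ha he (hiso ω) hlea (hlec ω)
    ((H_eq_zero_comm hF).1 hae) (hperp ω) hxe hxa hxe hy₂).symm
  have he3 : ⁅xe, y₃⁆ = ε := (comm_const hF f hf hker he ha he (hiso (ω ^ 2)) hlea (hlec (ω ^ 2))
    ((H_eq_zero_comm hF).1 hae) (hperp (ω ^ 2)) hxe hxa hxe hy₃).symm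
  set z := xa * xb * (y₁ * y₂ * y₃)⁻¹ with hz
  have hzk : f z = 1 := by
    rw [hz, map_mul, map_mul, map_inv, map_mul, map_mul, hxa, hxb, hy₁, hy₂, hy₃, T, T, T, T, T,
      ← QuotientGroup.mk_mul, ← QuotientGroup.mk_mul, ← QuotientGroup.mk_mul, hline,
      mul_inv_cancel]
  obtain ⟨hzc, hz2⟩ := hker z hzk
  have hprod : xa * xb = z * (y₁ * y₂ * y₃) := by rw [hz, inv_mul_cancel_right]
  have hmove : ∀ t : C, ⁅xe, t⁆ = ε → xe * t * xe⁻¹ = ε * t := fun t ht => by
    rw [← ht, commutatorElement_def, inv_mul_cancel_right]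
  have hε1 : ε = 1 := by
    have h := congrArg (fun t => xe * t * xe⁻¹) hprod
    have e1 : xe * (xa * xb) * xe⁻¹ = ε * xa * (ε * xb) := by
      rw [← hmove xa rfl, ← hmove xb heb]; group
    have e2 : xe * (z * (y₁ * y₂ * y₃)) * xe⁻¹ = z * (ε * y₁ * (ε * y₂) * (ε * y₃)) := by
      rw [← hmove y₁ he1, ← hmove y₂ he2, ← hmove y₃ he3]
      calc xe * (z * (y₁ * y₂ * y₃)) * xe⁻¹ = (xe * z) * (y₁ * y₂ * y₃) * xe⁻¹ := by group
        _ = _ := by rw [Subgroup.mem_center_iff.1 hzc xe]; group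
    simp only [e1, e2] at h
    have e3 : ε * xa * (ε * xb) = xa * xb := by
      rw [← hcε xa, mul_assoc, ← mul_assoc ε ε, hε2, one_mul]
    have e4 : ε * y₁ * (ε * y₂) * (ε * y₃) = ε * (y₁ * y₂ * y₃) := by
      calc ε * y₁ * (ε * y₂) * (ε * y₃) = ε * (y₁ * ε) * (y₂ * ε) * y₃ := by group
        _ = ε * ε * (y₁ * (ε * y₂)) * y₃ := by rw [hcε y₁, hcε y₂]; group
        _ = y₁ * (y₂ * ε) * y₃ := by rw [hε2, one_mul, hcε y₂]
        _ = (y₁ * y₂) * ε * y₃ := by group
        _ = _ := by rw [hcε (y₁ * y₂)]; group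
    rw [e3, e4, hprod, mul_right_inj] at h
    exact mul_eq_right.1 h.symm
  have hcomm : ∀ (u v : Vec) (hu : H u u = 0) (hv : H v v = 0), H u v = 0 →
      ∀ x y : C, f x = T hF hu → f y = T hF hv → x * y = y * x := by
    intro u v hu hv huv x y hx hy
    by_cases hv0 : v = 0
    · subst hv0
      have : f y = 1 := by
        rw [hy, T, ← QuotientGroup.mk_one]
        congr 1
        exact SU_ext fun t => by rw [tr_mulVec, smul_zero, add_zero, mat_one, one_mulVec]
      exact Subgroup.mem_center_iff.1 (hker y this).1 x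
    by_cases hli2 : LinearIndependent F ![u, v]
    · rw [← commutatorElement_eq_one_iff_mul_comm,
        comm_const hF f hf hker hu hv he ha hli2 hlea huv ((H_eq_zero_comm hF).1 hae) hx hy hxe hxa]
      exact hε1
    obtain ⟨r, s, hrs, hne⟩ : ∃ r s : F, r • u + s • v = 0 ∧ ¬ (r = 0 ∧ s = 0) := by
      simp only [LinearIndependent.pair_iff] at hli2
      push Not at hli2
      obtain ⟨r, s, h1, h2⟩ := hli2
      exact ⟨r, s, h1, fun h => h2 h.1 h.2⟩
    have hr : r ≠ 0 := fun e => by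
      rw [e, zero_smul, zero_add, smul_eq_zero] at hrs
      exact hne ⟨e, hrs.resolve_right hv0⟩
    have hu' : u = (-s / r) • v := by
      have h := congrArg (fun t => r⁻¹ • t) hrs
      simp only [smul_add, smul_smul, inv_mul_cancel₀ hr, one_smul, smul_zero] at h
      rw [eq_neg_of_add_eq_zero_left h, neg_div, neg_smul, div_eq_inv_mul]
    by_cases hs : -s / r = 0
    · rw [hs, zero_smul] at hu'
      subst hu'
      have : f x = 1 := by
        rw [hx, T, ← QuotientGroup.mk_one]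
        congr 1
        exact SU_ext fun t => by rw [tr_mulVec, smul_zero, add_zero, mat_one, one_mulVec]
      exact (Subgroup.mem_center_iff.1 (hker x this).1 y).symm
    have hfxy : f x = f y := by
      subst hu'
      rw [hx, hy, T, T, tr_smul hF hv hs]
    rw [← commutatorElement_eq_one_iff_mul_comm, comm_lift f hker rfl hfxy.symm]
    exact commutatorElement_self x
  refine ⟨fun u hu x hx => ?_, hcomm⟩
  by_cases hu0 : u = 0
  · subst hu0
    refine (hker x ?_).2
    rw [hx, T, ← QuotientGroup.mk_one]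
    congr 1
    exact SU_ext fun t => by rw [tr_mulVec, smul_zero, add_zero, mat_one, one_mulVec]
  have hne : ∀ r s : F, ¬ (r = 0 ∧ s = 0) → r • a + s • b ≠ 0 := fun r s hrs h0 => by
    simpa using (hind r s hrs).ne_zero 1 (by simpa using h0)
  have ha0 : a ≠ 0 := by simpa using hne 1 0 (by simp)
  have hb0 : b ≠ 0 := by simpa using hne 0 1 (by simp)
  have hc0 : ∀ c : F, a + c • b ≠ 0 := fun c => by simpa using hne 1 c (by simp)
  set s := xa * xa with hs
  have hsb : xb * xb = s := (sq_const hF f hf hker ha hb ha0 hb0 hxa hxb).symm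
  have hs1 : y₁ * y₁ = s :=
    (sq_const hF f hf hker ha h₁ ha0 (by simpa using hc0 1) hxa hy₁).symm
  have hs2 : y₂ * y₂ = s := (sq_const hF f hf hker ha (hiso ω) ha0 (hc0 ω) hxa hy₂).symm
  have hs3 : y₃ * y₃ = s := (sq_const hF f hf hker ha (hiso (ω ^ 2)) ha0 (hc0 (ω ^ 2)) hxa hy₃).symm
  obtain ⟨hsc, hs22⟩ := hker s (by
    rw [hs, map_mul, hxa, T, ← QuotientGroup.mk_mul, tr_sq, QuotientGroup.mk_one])
  have horth : ∀ c d : F, H (a + c • b) (a + d • b) = 0 := fun c d => by
    simp [H_add_left, H_add_right hF, H_smul_left, H_smul_right, ha, hb, hab,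
      (H_eq_zero_comm hF).1 hab]
  have c12 : y₁ * y₂ = y₂ * y₁ :=
    hcomm _ _ h₁ (hiso ω) (by simpa using horth 1 ω) _ _ hy₁ hy₂
  have c13 : y₁ * y₃ = y₃ * y₁ :=
    hcomm _ _ h₁ (hiso (ω ^ 2)) (by simpa using horth 1 (ω ^ 2)) _ _ hy₁ hy₃
  have c23 : y₂ * y₃ = y₃ * y₂ := hcomm _ _ (hiso ω) (hiso (ω ^ 2)) (horth _ _) _ _ hy₂ hy₃
  have cab : xa * xb = xb * xa := hcomm _ _ ha hb hab _ _ hxa hxb
  have hcz := Subgroup.mem_center_iff.1 hzc
  have hcs := Subgroup.mem_center_iff.1 hsc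
  have h := congrArg (fun t => t * t) hprod
  have e1 : xa * xb * (xa * xb) = s * s := by
    calc xa * xb * (xa * xb) = xa * (xb * xa) * xb := by group
      _ = xa * xa * (xb * xb) := by rw [← cab]; group
      _ = _ := by rw [hsb]
  have e2 : y₁ * y₂ * y₃ * (y₁ * y₂ * y₃) = s * s * s := by
    calc y₁ * y₂ * y₃ * (y₁ * y₂ * y₃) = y₁ * y₂ * (y₃ * y₁) * y₂ * y₃ := by group
      _ = y₁ * (y₂ * y₁) * (y₃ * y₂) * y₃ := by rw [← c13]; group
      _ = (y₁ * y₁) * (y₂ * y₂) * (y₃ * y₃) := by rw [← c12, ← c23]; group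
      _ = _ := by rw [hs1, hs2, hs3]
  have e3 : z * (y₁ * y₂ * y₃) * (z * (y₁ * y₂ * y₃)) = s * s * s := by
    rw [← e2]
    calc z * (y₁ * y₂ * y₃) * (z * (y₁ * y₂ * y₃))
        = z * ((y₁ * y₂ * y₃) * z) * (y₁ * y₂ * y₃) := by group
      _ = z * z * ((y₁ * y₂ * y₃) * (y₁ * y₂ * y₃)) := by rw [hcz]; group
      _ = _ := by rw [hz2, one_mul]
  simp only [e1, e3, hs22, one_mul] at h
  rw [sq_const hF f hf hker hu ha hu0 ha0 hx hxa]
  exact h.symm

theorem prod_sq_one {S : Set C} (hS : ∀ x ∈ S, x * x = 1 ∧ ∀ y ∈ S, x * y = y * x) :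
    ∀ l : List C, (∀ x ∈ l, x ∈ S) → l.prod * l.prod = 1
  | [], _ => by simp
  | x :: l, h => by
    have hc : Commute x l.prod := Commute.list_prod_right l x fun y hy =>
      (hS x (h x (List.mem_cons_self ..))).2 y (h y (List.mem_cons_of_mem _ hy))
    rw [List.prod_cons]
    calc x * l.prod * (x * l.prod) = x * (l.prod * x) * l.prod := by group
      _ = (x * x) * (l.prod * l.prod) := by rw [← hc.eq]; group
      _ = 1 := by
        rw [(hS x (h x (List.mem_cons_self ..))).1,
          prod_sq_one hS l (fun y hy => h y (List.mem_cons_of_mem _ hy)), one_mul]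

end Ext

end Cfsg.Agent.Forms.U62Lift

namespace Cfsg.Agent.Forms.U62Lift

open Matrix Cfsg.Agent.Classical.Unitary
open Cfsg.Agent.GroupStructure3.ThreeTransUnitary

/-- Every involution of `PSU(6, 2)` lifts to an involution of a central extension by a group of
exponent two. -/
theorem exists_involution_lift {F : Type*} [Field F] [Fintype F] (hF : Fintype.card F = 4)
    {C : Type*} [Group C] (f : C →* Cfsg.PSU 6 F 2) (hf : Function.Surjective f)
    (hker : ∀ z, f z = 1 → z ∈ Subgroup.center C ∧ z * z = 1) (x : Cfsg.PSU 6 F 2)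
    (hx : orderOf x = 2) : ∃ y : C, orderOf y = 2 ∧ f y = x := by
  have hF2 : Fintype.card F = 2 ^ 2 := by rw [hF]; norm_num
  have h2 := two_zero hF2
  set a : Fin 6 → F := ![1, 1, 0, 0, 0, 0] with ha'
  set b : Fin 6 → F := ![0, 0, 1, 1, 0, 0] with hb'
  set e : Fin 6 → F := ![0, 0, 0, 0, 1, 1] with he'
  have hcalc : Cfsg.hermForm 6 F 2 a a = 0 ∧ Cfsg.hermForm 6 F 2 b b = 0 ∧
      Cfsg.hermForm 6 F 2 e e = 0 ∧ Cfsg.hermForm 6 F 2 a b = 0 ∧ Cfsg.hermForm 6 F 2 a e = 0 ∧
      Cfsg.hermForm 6 F 2 b e = 0 := by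
    simp [Cfsg.hermForm, Fin.sum_univ_six, ha', hb', he', one_add_one_eq_two, h2]
  obtain ⟨ha, hb, he, hab, hae, hbe⟩ := hcalc
  have hli : LinearIndependent F ![a, b, e] := by
    rw [Fintype.linearIndependent_iff]
    intro g hg i
    rw [Fin.sum_univ_three] at hg
    have h0 := congrFun hg 0
    have h2' := congrFun hg 2
    have h4 := congrFun hg 4
    simp [ha', hb', he'] at h0 h2' h4
    fin_cases i <;> assumption
  obtain ⟨hsq, hcomm⟩ := lift_facts hF2 f hf hker ha hb he hab hae hbe hli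
  obtain ⟨g, rfl⟩ := QuotientGroup.mk_surjective x
  have hx2 : (QuotientGroup.mk g : Cfsg.PSU 6 F 2) ^ 2 = 1 := orderOf_dvd_iff_pow_eq_one.1 (dvd_of_eq hx)
  have hz : g * g ∈ Subgroup.center (Cfsg.SU 6 F 2) := by
    rwa [pow_two, ← QuotientGroup.mk_mul, QuotientGroup.eq_one_iff] at hx2
  have hz3 : (g * g) ^ 3 = 1 := by
    have h := pow_card_eq_one' (G := Subgroup.center (Cfsg.SU 6 F 2)) (x := ⟨g * g, hz⟩)
    rw [natCard_center hF2 (by norm_num)] at h
    simpa using congrArg Subtype.val h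
  set u := g * g * g with hu
  have huu : u * u = 1 := by
    rw [hu, ← hz3, pow_succ, pow_two]; group
  have hux : (QuotientGroup.mk u : Cfsg.PSU 6 F 2) = QuotientGroup.mk g := by
    rw [hu, QuotientGroup.mk_mul, (QuotientGroup.eq_one_iff (g * g)).2 hz, one_mul]
  obtain ⟨l, hl, hlg⟩ := exists_list hF2 _ u huu le_rfl
  set S : Set C := {y | ∃ (w : Fin 6 → F) (hw : Cfsg.hermForm 6 F 2 w w = 0),
    (∃ t, w = mat u *ᵥ t - t) ∧ f y = T hF2 hw} with hS
  have hlift : ∀ l' : List (Cfsg.SU 6 F 2), (∀ g ∈ l', g ∈ l) →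
      ∃ L : List C, (∀ y ∈ L, y ∈ S) ∧ f L.prod = QuotientGroup.mk l'.prod := by
    intro l'
    induction l' with
    | nil => exact fun _ => ⟨[], fun y hy => absurd hy (List.not_mem_nil), by simp⟩
    | cons p l' ih =>
      intro h
      obtain ⟨L, hL, hLp⟩ := ih fun g hg => h g (List.mem_cons_of_mem _ hg)
      obtain ⟨w, hw, ht, rfl⟩ := hlg p (h p (List.mem_cons_self ..))
      obtain ⟨y, hy⟩ := hf (T hF2 hw)
      refine ⟨y :: L, fun z hz => ?_, by
        rw [List.prod_cons, List.prod_cons, map_mul, hy, hLp, QuotientGroup.mk_mul]⟩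
      rcases List.mem_cons.1 hz with rfl | hz
      · exact ⟨w, hw, ht, hy⟩
      · exact hL z hz
  obtain ⟨L, hL, hLp⟩ := hlift l fun _ h => h
  rw [hl, hux] at hLp
  refine ⟨L.prod, ?_, hLp⟩
  have h1 : L.prod * L.prod = 1 := prod_sq_one hF2 f hf hker (S := S) (fun y hy => by
    obtain ⟨w, hw, ⟨t, ht⟩, hy'⟩ := hy
    refine ⟨hsq w hw y hy', fun z hz => ?_⟩
    obtain ⟨w', hw', ⟨t', ht'⟩, hz'⟩ := hz
    exact hcomm w w' hw hw' (by rw [ht, ht']; exact orth_of_image hF2 huu t t') y z hy' hz') L hL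
  refine orderOf_eq_prime (by rw [pow_two, h1]) fun h => ?_
  rw [h, map_one] at hLp
  rw [← hLp, orderOf_one] at hx
  exact absurd hx (by norm_num)

end Cfsg.Agent.Forms.U62Lift
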