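import Mathlib
import Cfsg.Agent.Lib.Forms.HermStd
import Cfsg.Agent.Lib.Forms.SympStd
import Cfsg.Agent.Lib.Classical.UnitaryCount

/-!
# Counting totally isotropic lines
-/

set_option autoImplicit false

namespace Cfsg.Agent.Forms.IsoLines

open Matrix

theorem card_fibers {α β : Type*} [Finite α] [Finite β] (f : α → β) {k : ℕ}
    (h : ∀ b, Nat.card {a // f a = b} = k) : Nat.card α = Nat.card β * k := by
  classical
  have := Fintype.ofFinite β
  rw [← Nat.card_congr (Equiv.sigmaFiberEquiv f), Nat.card_sigma]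
  simp [h, Nat.card_eq_fintype_card]

section abstractCount

variable {F : Type*} [Field F] [Fintype F] {V : Type*} [AddCommGroup V] [Module F V] [Finite V]
variable (R : V → V → Prop)

/-- totally isotropic lines -/
abbrev TI : Type _ := {W : Submodule F V // Module.finrank F W = 2 ∧ ∀ u ∈ W, ∀ v ∈ W, R u v}

/-- totally isotropic lines through a vector -/
abbrev TIv (v : V) : Type _ :=
  {W : Submodule F V // Module.finrank F W = 2 ∧ v ∈ W ∧ ∀ u ∈ W, ∀ w ∈ W, R u w}

/-- second points -/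
abbrev Ext (v : V) : Type _ := {x : V // x ∉ Submodule.span F {v} ∧ R x x ∧ R x v}

variable {R}
variable (hsymm : ∀ u v, R u v → R v u)
variable (hlin : ∀ u v w (a b : F), R u w → R v w → R (a • u + b • v) w)

omit [Fintype F] in
include hsymm hlin in
theorem pair_ti {v x : V} (hv : R v v) (hx : R x x) (hxv : R x v) :
    ∀ u ∈ Submodule.span F {v, x}, ∀ w ∈ Submodule.span F {v, x}, R u w := by
  intro u hu w hw
  rw [Submodule.mem_span_pair] at hu hw
  obtain ⟨a, b, rfl⟩ := hu
  obtain ⟨c, d, rfl⟩ := hw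
  exact hlin _ _ _ a b (hsymm _ _ (hlin _ _ _ c d hv hxv)) (hsymm _ _ (hlin _ _ _ c d (hsymm _ _ hxv) hx))

omit [Fintype F] [Finite V] in
theorem finrank_pair {v x : V} (hv : v ≠ 0) (hx : x ∉ Submodule.span F {v}) :
    Module.finrank F (Submodule.span F {v, x}) = 2 := by
  have hli : LinearIndependent F ![v, x] :=
    linearIndependent_fin2.2 ⟨fun h => hx (by simp [show x = 0 by simpa using h]),
      fun a h => by
        simp only [Matrix.cons_val_one, Matrix.cons_val_zero] at h
        rcases eq_or_ne a 0 with rfl | ha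
        · exact hv (by rw [← h, zero_smul])
        · exact hx (Submodule.mem_span_singleton.2 ⟨a⁻¹, by rw [← h, inv_smul_smul₀ ha]⟩)⟩
  have := finrank_span_eq_card hli
  rwa [Fintype.card_fin, Matrix.range_cons, Matrix.range_cons, Matrix.range_empty,
    Set.union_empty, ← Set.insert_eq] at this

theorem card_minus_line (W : Submodule F V) {v : V} (hv : v ≠ 0) (hvW : v ∈ W) :
    Nat.card {x : W // (x : V) ∉ Submodule.span F {v}} =
      Fintype.card F ^ Module.finrank F W - Fintype.card F := by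
  classical
  have := Fintype.ofFinite V
  have h2 : Nat.card {x : W // (x : V) ∈ Submodule.span F {v}} = Fintype.card F := by
    have e : {x : W // (x : V) ∈ Submodule.span F {v}} ≃ Submodule.span F {v} :=
      { toFun := fun x => ⟨x.1.1, x.2⟩
        invFun := fun x => ⟨⟨x.1, (Submodule.span_singleton_le_iff_mem v W).2 hvW x.2⟩, x.2⟩
        left_inv := fun x => rfl
        right_inv := fun x => rfl }
    rw [Nat.card_congr e, Module.natCard_eq_pow_finrank (K := F), finrank_span_singleton hv,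
      Nat.card_eq_fintype_card, pow_one]
  have h1 := Nat.card_congr (Equiv.sumCompl fun x : W => (x : V) ∈ Submodule.span F {v})
  rw [Nat.card_sum, h2, Module.natCard_eq_pow_finrank (K := F) (V := W),
    Nat.card_eq_fintype_card (α := F)] at h1
  omega

include hsymm hlin in
theorem card_ext {v : V} (hv : v ≠ 0) (hvv : R v v) :
    Nat.card (Ext (F := F) R v) =
      Nat.card (TIv (F := F) R v) * (Fintype.card F ^ 2 - Fintype.card F) := by
  let f : Ext (F := F) R v → TIv (F := F) R v := fun x =>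
    ⟨Submodule.span F {v, x.1}, finrank_pair hv x.2.1, Submodule.subset_span (by simp),
      pair_ti hsymm hlin hvv x.2.2.1 x.2.2.2⟩
  refine card_fibers f fun W => ?_
  rw [← W.2.1, ← card_minus_line W.1 hv W.2.2.1]
  refine Nat.card_congr
    { toFun := fun x => ⟨⟨x.1.1, ?_⟩, x.1.2.1⟩
      invFun := fun x => ⟨⟨x.1.1, x.2, W.2.2.2 _ x.1.2 _ x.1.2, W.2.2.2 _ x.1.2 _ W.2.2.1⟩, ?_⟩
      left_inv := fun x => rfl
      right_inv := fun x => rfl }
  · rw [← congrArg Subtype.val x.2]
    exact Submodule.subset_span (Set.mem_insert_of_mem _ rfl)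
  · refine Subtype.ext (Submodule.eq_of_le_of_finrank_eq ?_ ?_)
    · rw [Submodule.span_le]
      rintro y (rfl | rfl)
      exacts [W.2.2.1, x.1.2]
    · rw [finrank_pair hv x.2, W.2.1]

/-- incidences -/
abbrev Inc : Type _ :=
  Σ v : {v : V // v ≠ 0 ∧ R v v}, TIv (F := F) R v.1

theorem card_total {N : ℕ} (hN : ∀ v, v ≠ 0 → R v v → Nat.card (TIv (F := F) R v) = N) :
    Nat.card (TI (F := F) R) * (Fintype.card F ^ 2 - 1) =
      Nat.card {v : V // v ≠ 0 ∧ R v v} * N := by
  classical
  have := Fintype.ofFinite V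
  have h1 : Nat.card (Inc (F := F) (R := R)) = Nat.card {v : V // v ≠ 0 ∧ R v v} * N := by
    rw [Nat.card_sigma, Finset.sum_congr rfl fun v _ => hN v.1 v.2.1 v.2.2]
    simp [Nat.card_eq_fintype_card]
  rw [← h1]
  refine (card_fibers (fun p : Inc (F := F) (R := R) =>
    (⟨p.2.1, p.2.2.1, p.2.2.2.2⟩ : TI (F := F) R)) fun W => ?_).symm
  have e : {p : Inc (F := F) (R := R) //
      (⟨p.2.1, p.2.2.1, p.2.2.2.2⟩ : TI (F := F) R) = W} ≃ {x : W.1 // x ≠ 0} :=
    { toFun := fun p => ⟨⟨p.1.1.1, congrArg Subtype.val p.2 ▸ p.1.2.2.2.1⟩,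
        fun h => p.1.1.2.1 (congrArg Subtype.val h)⟩
      invFun := fun x => ⟨⟨⟨x.1.1, fun h => x.2 (Subtype.ext h), W.2.2 _ x.1.2 _ x.1.2⟩,
        ⟨W.1, W.2.1, x.1.2, W.2.2⟩⟩, rfl⟩
      left_inv := by
        rintro ⟨⟨⟨v, hv⟩, ⟨U, hU⟩⟩, rfl⟩
        rfl
      right_inv := fun x => rfl }
  rw [Nat.card_congr e]
  have h3 := Nat.card_congr (Equiv.sumCompl fun x : W.1 => x = 0)
  rw [Nat.card_sum, Nat.card_unique, Module.natCard_eq_pow_finrank (K := F) (V := W.1), W.2.1,
    Nat.card_eq_fintype_card (α := F)] at h3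
  simp only [ne_eq]
  omega

end abstractCount

/-! ### The symplectic space of dimension four -/

section symp

variable {F : Type*} [Field F] [Fintype F]
open Cfsg.Agent.Forms.SympStd

theorem symp_hyp :
    (∀ u v : Fin 2 ⊕ Fin 2 → F, Cfsg.sympForm 2 F u v = 0 → Cfsg.sympForm 2 F v u = 0) ∧
    (∀ (u v w : Fin 2 ⊕ Fin 2 → F) (a b : F), Cfsg.sympForm 2 F u w = 0 →
      Cfsg.sympForm 2 F v w = 0 → Cfsg.sympForm 2 F (a • u + b • v) w = 0) := by
  refine ⟨fun u v h => by rw [sympForm_swap, h, neg_zero], fun u v w a b h1 h2 => ?_⟩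
  rw [← sympB_apply] at h1 h2 ⊢
  simp [map_add, map_smul, h1, h2]

theorem symp_card_ext {v : Fin 2 ⊕ Fin 2 → F} (hv : v ≠ 0) :
    Nat.card (Ext (F := F) (fun u w => Cfsg.sympForm 2 F u w = 0) v) =
      Fintype.card F ^ 3 - Fintype.card F := by
  let P : Submodule F (Fin 2 ⊕ Fin 2 → F) := (sympB 2 F).orthogonal (Submodule.span F {v})
  have hP : ∀ x, x ∈ P ↔ Cfsg.sympForm 2 F x v = 0 := by
    intro x
    constructor
    · intro h
      have := h v (Submodule.mem_span_singleton_self v)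
      rw [sympB_apply] at this
      exact symp_hyp.1 _ _ this
    · intro h y hy
      obtain ⟨c, rfl⟩ := Submodule.mem_span_singleton.1 hy
      rw [map_smul, LinearMap.smul_apply, sympB_apply, symp_hyp.1 _ _ h,
        smul_zero]
  have hvP : v ∈ P := (hP v).2 (sympForm_self v)
  have hr : Module.finrank F P = 3 := by
    rw [LinearMap.BilinForm.finrank_orthogonal sympB_nondegenerate, finrank_vec,
      finrank_span_singleton hv]
  rw [← hr, ← card_minus_line P hv hvP]
  exact Nat.card_congr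
    { toFun := fun x => ⟨⟨x.1, (hP _).2 x.2.2.2⟩, x.2.1⟩
      invFun := fun x => ⟨x.1.1, x.2, sympForm_self _, (hP _).1 x.1.2⟩
      left_inv := fun x => rfl
      right_inv := fun x => rfl }

end symp

/-! ### Hermitian spaces -/

section herm

variable {F : Type*} [Field F] [Fintype F] {q : ℕ} (hF : Fintype.card F = q ^ 2)
include hF

theorem herm_hyp {n : ℕ} :
    (∀ u v : Fin n → F, Cfsg.hermForm n F q u v = 0 → Cfsg.hermForm n F q v u = 0) ∧
    (∀ (u v w : Fin n → F) (a b : F), Cfsg.hermForm n F q u w = 0 →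
      Cfsg.hermForm n F q v w = 0 → Cfsg.hermForm n F q (a • u + b • v) w = 0) := by
  refine ⟨fun u v h => ?_, fun u v w a b h1 h2 => ?_⟩
  · have hq := Classical.UnitaryCount.one_lt_q hF
    rw [← HermStd.hermForm_conj hF u v, h, zero_pow (by omega)]
  · unfold Cfsg.hermForm at h1 h2 ⊢
    simp only [Pi.add_apply, Pi.smul_apply, smul_eq_mul, add_mul, mul_assoc,
      Finset.sum_add_distrib, ← Finset.mul_sum, h1, h2, mul_zero, add_zero]

/-- isotropic vectors orthogonal to a given isotropic vector -/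
theorem herm_card_perp {m : ℕ} {v : Fin (m + 2) → F} (hv : v ≠ 0)
    (hvv : Cfsg.hermForm (m + 2) F q v v = 0) :
    Nat.card {x : Fin (m + 2) → F // Cfsg.hermForm (m + 2) F q x x = 0 ∧
      Cfsg.hermForm (m + 2) F q x v = 0} =
      q ^ 2 * Classical.UnitaryCount.cnt F q m 0 := by
  have hq := Classical.UnitaryCount.one_lt_q hF
  obtain ⟨a, ha⟩ := Classical.UnitaryCount.exists_norm_eq hF (μ := -1) (by simp)
    (by rw [← HermStd.qHom_apply hF, map_neg, map_one])
  let v0 : Fin (m + 2) → F := Fin.cons 1 (Fin.cons a 0)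
  have hH : ∀ (x0 x1 y0 y1 : F) (x y : Fin m → F),
      Cfsg.hermForm (m + 2) F q (Fin.cons x0 (Fin.cons x1 x)) (Fin.cons y0 (Fin.cons y1 y)) =
        x0 * y0 ^ q + (x1 * y1 ^ q + Cfsg.hermForm m F q x y) := by
    intro x0 x1 y0 y1 x y
    simp [Cfsg.hermForm, Fin.sum_univ_succ]
  have hq0 : q ≠ 0 := by omega
  have hz : ∀ x : Fin m → F, Cfsg.hermForm m F q x 0 = 0 := fun x => by
    simp [Cfsg.hermForm, zero_pow hq0]
  have hv00 : Cfsg.hermForm (m + 2) F q v0 v0 = 0 := by
    rw [hH, hz, one_pow]; linear_combination ha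
  have hv0 : v0 ≠ 0 := fun h => by simpa [v0] using congrFun h 0
  obtain ⟨g, hg⟩ := HermStd.exists_extend hF (Submodule.span F {v})
    ((LinearMap.toSpanSingleton F _ v0).comp (LinearEquiv.toSpanNonzeroSingleton F _ v hv).symm.toLinearMap)
    (by
      intro x y h
      simp only [LinearMap.coe_comp, Function.comp_apply, LinearEquiv.coe_coe,
        LinearMap.toSpanSingleton_apply] at h
      exact (LinearEquiv.toSpanNonzeroSingleton F _ v hv).symm.injective
        (smul_left_injective F hv0 h))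
    (by
      intro x x'
      obtain ⟨s, rfl⟩ := (LinearEquiv.toSpanNonzeroSingleton F _ v hv).surjective x
      obtain ⟨t, rfl⟩ := (LinearEquiv.toSpanNonzeroSingleton F _ v hv).surjective x'
      simp only [LinearMap.coe_comp, Function.comp_apply, LinearEquiv.coe_coe,
        LinearEquiv.symm_apply_apply, LinearMap.toSpanSingleton_apply,
        LinearEquiv.toSpanNonzeroSingleton_apply]
      rw [Classical.UnitaryCount.hermForm_smul_left, Classical.UnitaryCount.hermForm_smul_right,
        Classical.UnitaryCount.hermForm_smul_left, Classical.UnitaryCount.hermForm_smul_right,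
        hv00, hvv]
      simp)
  have hgv : ((g : Matrix.GeneralLinearGroup (Fin (m + 2)) F) :
      Matrix (Fin (m + 2)) (Fin (m + 2)) F) *ᵥ v = v0 := by
    have := hg ⟨v, Submodule.mem_span_singleton_self v⟩
    rw [this]
    simp only [LinearMap.coe_comp, Function.comp_apply, LinearEquiv.coe_coe,
      LinearMap.toSpanSingleton_apply]
    have : (LinearEquiv.toSpanNonzeroSingleton F _ v hv).symm
        ⟨v, Submodule.mem_span_singleton_self v⟩ = 1 := by
      rw [LinearEquiv.symm_apply_eq]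
      exact Subtype.ext (by simp)
    rw [this, one_smul]
  let M := ((g : Matrix.GeneralLinearGroup (Fin (m + 2)) F) : Matrix (Fin (m + 2)) (Fin (m + 2)) F)
  have hM : ∀ x y, Cfsg.hermForm (m + 2) F q (M *ᵥ x) (M *ᵥ y) = Cfsg.hermForm (m + 2) F q x y :=
    fun x y => g.2 x y
  let e : (Fin (m + 2) → F) ≃ (Fin (m + 2) → F) :=
    Equiv.ofBijective (M *ᵥ ·) (Finite.injective_iff_bijective.1
      (Matrix.mulVec_injective_of_isUnit (Units.isUnit _)))
  have e1 : Nat.card {x : Fin (m + 2) → F // Cfsg.hermForm (m + 2) F q x x = 0 ∧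
      Cfsg.hermForm (m + 2) F q x v = 0} = Nat.card {y : Fin (m + 2) → F //
      Cfsg.hermForm (m + 2) F q y y = 0 ∧ Cfsg.hermForm (m + 2) F q y v0 = 0} := by
    refine Nat.card_congr (e.subtypeEquiv fun x => ?_)
    show _ ↔ Cfsg.hermForm (m + 2) F q (M *ᵥ x) (M *ᵥ x) = 0 ∧ _
    rw [hM, ← hgv]
    show _ ↔ _ ∧ Cfsg.hermForm (m + 2) F q (M *ᵥ x) (M *ᵥ v) = 0
    rw [hM]
  have haa : a ^ q * a = -1 := by rw [← pow_succ]; exact ha
  have ha0 : a ≠ 0 := fun h => by simp [h] at ha
  rw [e1, ← hF, Classical.UnitaryCount.cnt, ← Nat.card_eq_fintype_card, ← Nat.card_prod]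
  refine Nat.card_congr
    { toFun := fun y => (y.1 0, ⟨Fin.tail (Fin.tail y.1), ?_⟩)
      invFun := fun p => ⟨Fin.cons p.1 (Fin.cons (p.1 * a) p.2.1), ?_, ?_⟩
      left_inv := fun y => Subtype.ext ?_
      right_inv := fun p => ?_ }
  · obtain ⟨y, hy1, hy2⟩ := y
    rw [← Fin.cons_self_tail y, ← Fin.cons_self_tail (Fin.tail y), hH] at hy1 hy2
    rw [hz, one_pow, mul_one, add_zero] at hy2
    have h1 : Fin.tail y 0 = y 0 * a := by
      linear_combination -a * hy2 + Fin.tail y 0 * haa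
    rw [h1] at hy1
    linear_combination hy1 - y 0 * (y 0) ^ q * ha
  · rw [hH, p.2.2]
    linear_combination p.1 * p.1 ^ q * ha
  · rw [hH, hz, one_pow]
    linear_combination p.1 * ha
  · obtain ⟨y, hy1, hy2⟩ := y
    rw [← Fin.cons_self_tail y, ← Fin.cons_self_tail (Fin.tail y), hH, hz, one_pow, mul_one,
      add_zero] at hy2
    have h1 : y 0 * a = Fin.tail y 0 := by
      linear_combination a * hy2 - Fin.tail y 0 * haa
    show Fin.cons (y 0) (Fin.cons (y 0 * a) (Fin.tail (Fin.tail y))) = y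
    rw [h1, Fin.cons_self_tail, Fin.cons_self_tail]
  · exact Prod.ext (by simp) (Subtype.ext (by simp [Fin.tail_cons]))

theorem herm_card_ext {m : ℕ} {v : Fin (m + 2) → F} (hv : v ≠ 0)
    (hvv : Cfsg.hermForm (m + 2) F q v v = 0) :
    Nat.card (Ext (F := F) (fun u w => Cfsg.hermForm (m + 2) F q u w = 0) v) + q ^ 2 =
      q ^ 2 * Classical.UnitaryCount.cnt F q m 0 := by
  classical
  rw [← herm_card_perp hF hv hvv]
  set S := {x : Fin (m + 2) → F // Cfsg.hermForm (m + 2) F q x x = 0 ∧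
    Cfsg.hermForm (m + 2) F q x v = 0}
  rw [← Nat.card_congr (Equiv.sumCompl fun x : S => x.1 ∈ Submodule.span F {v}), Nat.card_sum,
    add_comm]
  congr 1
  · have hin : ∀ x ∈ Submodule.span F {v}, Cfsg.hermForm (m + 2) F q x x = 0 ∧
        Cfsg.hermForm (m + 2) F q x v = 0 := by
      intro x hx
      obtain ⟨c, rfl⟩ := Submodule.mem_span_singleton.1 hx
      rw [Classical.UnitaryCount.hermForm_smul_smul, Classical.UnitaryCount.hermForm_smul_left,
        hvv]
      simp
    have e : {x : S // x.1 ∈ Submodule.span F {v}} ≃ Submodule.span F {v} :=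
      { toFun := fun x => ⟨x.1.1, x.2⟩
        invFun := fun x => ⟨⟨x.1, hin _ x.2⟩, x.2⟩
        left_inv := fun x => rfl
        right_inv := fun x => rfl }
    rw [Nat.card_congr e, Module.natCard_eq_pow_finrank (K := F), finrank_span_singleton hv,
      pow_one, Nat.card_eq_fintype_card, hF]
  · exact Nat.card_congr
      { toFun := fun x => ⟨⟨x.1, x.2.2.1, x.2.2.2⟩, x.2.1⟩
        invFun := fun x => ⟨x.1.1, x.2, x.1.2.1, x.1.2.2⟩
        left_inv := fun x => rfl
        right_inv := fun x => rfl }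

theorem herm_card_isotropic {n : ℕ} :
    Nat.card {v : Fin n → F // v ≠ 0 ∧ Cfsg.hermForm n F q v v = 0} + 1 =
      Classical.UnitaryCount.cnt F q n 0 := by
  classical
  have hq := Classical.UnitaryCount.one_lt_q hF
  rw [Classical.UnitaryCount.cnt, ← Nat.card_congr (Equiv.sumCompl
    fun v : {v : Fin n → F // Cfsg.hermForm n F q v v = 0} => v.1 ≠ 0), Nat.card_sum]
  congr 1
  · exact Nat.card_congr
      { toFun := fun x => ⟨⟨x.1, x.2.2⟩, x.2.1⟩
        invFun := fun x => ⟨x.1.1, x.2, x.1.2⟩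
        left_inv := fun x => rfl
        right_inv := fun x => rfl }
  · have h0 : Cfsg.hermForm n F q (0 : Fin n → F) 0 = 0 := by
      simp [Cfsg.hermForm]
    rw [eq_comm, Nat.card_eq_one_iff_unique]
    exact ⟨⟨fun x y => Subtype.ext (Subtype.ext ((not_not.1 x.2).trans (not_not.1 y.2).symm))⟩,
      ⟨⟨⟨0, h0⟩, fun h => h rfl⟩⟩⟩

end herm

end Cfsg.Agent.Forms.IsoLines
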