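import Cfsg.Agent.Lib.SuzukiType.Isometry
import Cfsg.Agent.S0303
import Cfsg.Agent.S0815
import Cfsg.Agent.S0288

/-!
The automorphism group of `PSU₄(2)` is the full orthogonal group of minus type in dimension six over
the field with two elements.
-/

set_option autoImplicit false

namespace Cfsg.Agent.Forms.Aut42

open scoped commutatorElement

open Cfsg.Agent.SuzukiType Cfsg.Agent.OctadInv.Orbits Cfsg.Agent.LargeExtra.ExtForm
  Cfsg.Agent.Classical

theorem omega_centralizer {g : O6}
    (hg : ∀ h ∈ Cfsg.Omega (ZMod 2) ⇑F6, g * h = h * g) : g = 1 := by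
  classical
  set Ω := Cfsg.Omega (ZMod 2) ⇑F6
  set Z := Subgroup.centralizer (Ω : Set ↥O6) with hZ
  have hZΩ : ∀ x ∈ Z, x ∈ Ω → x = 1 := by
    intro x hx hxΩ
    have hc : (⟨x, hxΩ⟩ : ↥Ω) ∈ Subgroup.center ↥Ω := Subgroup.mem_center_iff.2 fun y =>
      Subtype.ext (Subgroup.mem_centralizer_iff.1 hx y y.2)
    have h1 := Orth.natCard_center_one (OrthForms.minQ_nondeg 2 anis) (OrthForms.minFrame (ZMod 2) le_rfl 1 1)
      (by simp) (Or.inl (by decide))
    rw [Subgroup.card_eq_one] at h1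
    rw [h1, Subgroup.mem_bot] at hc
    exact congrArg Subtype.val hc
  have hgZ : g ∈ Z := Subgroup.mem_centralizer_iff.2 fun h hh => (hg h hh).symm
  haveI : Z.Normal := inferInstance
  have hcent : ∀ h : O6, g * h = h * g := by
    intro h
    have hc : h * g * h⁻¹ * g⁻¹ ∈ Ω := by
      have : ⁅h, g⁆ ∈ commutator ↥O6 :=
        Subgroup.commutator_mem_commutator (Subgroup.mem_top h) (Subgroup.mem_top g)
      rwa [commutatorElement_def] at this
    have h1 := hZΩ _ (mul_mem (Subgroup.Normal.conj_mem inferInstance g hgZ h) (inv_mem hgZ)) hc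
    rw [mul_inv_eq_one, mul_inv_eq_iff_eq_mul] at h1
    exact h1.symm
  have hfix : ∀ r : V, qf r = 1 → act g r = r := by
    intro r hr
    obtain ⟨w, hw⟩ : ∃ w, bf r w = 1 := by
      have key : ∀ r : V, qf r = 1 → ∃ w, bf r w = 1 := by decide +kernel
      exact key r hr
    have e := congrArg (fun A : O6 => act A w) (hcent (rfl' r))
    simp only [act_mul, act_rfl' hr, R, hw, sm_one, act_add] at e
    have e' : act g r = sm (bf r (act g w)) r := add_left_cancel e
    rcases z2 (bf r (act g w)) with t | t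
    · rw [t, sm_zero] at e'
      have := act_qf g r
      rw [e', hr] at this
      exact absurd this (by decide)
    · rwa [t, sm_one] at e'
  refine ext_act fun v => ?_
  rw [act_one]
  have key : ∀ v : V, qf v = 1 ∨ ∃ r, qf r = 1 ∧ qf (v + r) = 1 ∨ v = 0 := by decide +kernel
  rcases key v with h | ⟨r, ⟨h1, h2⟩ | h⟩
  · exact hfix v h
  · have h := hfix _ h2
    rw [act_add, hfix r h1] at h
    exact add_right_cancel h
  · rw [h, act_zero]

theorem mulAut_equiv {K : Type} [Field K] [Fintype K] (hK : Fintype.card K = 4) :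
    Nonempty (MulAut (Cfsg.PSU 4 K 2) ≃*
      Cfsg.isometryGroup (ZMod 2) (Cfsg.quadFormMinus 2 (ZMod 2) 1 1)) := by
  classical
  rw [← OrthForms.minQ_eq]
  obtain ⟨e⟩ := S0303.result (F := ZMod 2) (K := K) (q := 2) (ZMod.card 2) (by rw [hK]; norm_num)
    (1 : ZMod 2) 1 anis
  rw [← OrthForms.minQ_eq] at e
  have hc := Orth.natCard_center_one (OrthForms.minQ_nondeg 2 anis) (OrthForms.minFrame (ZMod 2) le_rfl 1 1)
    (by simp) (Or.inl (by decide))
  rw [Subgroup.card_eq_one] at hc
  set Ω := Cfsg.Omega (ZMod 2) ⇑F6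
  let e1 : ↥Ω ≃* Cfsg.PSU 4 K 2 :=
    ((QuotientGroup.quotientMulEquivOfEq hc).trans QuotientGroup.quotientBot).symm.trans e
  let φ : ↥O6 →* MulAut ↥Ω := MulAut.conjNormal
  have hinj : Function.Injective φ := by
    rw [injective_iff_map_eq_one]
    intro g hg
    refine omega_centralizer fun h hh => ?_
    have h1 := congrArg Subtype.val (DFunLike.congr_fun hg (⟨h, hh⟩ : ↥Ω))
    rw [MulAut.conjNormal_apply] at h1
    exact mul_inv_eq_iff_eq_mul.1 h1
  have hcard : Nat.card ↥O6 = Nat.card (MulAut ↥Ω) := by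
    have h1 : Nat.card ↥O6 = 51840 := by
      show Nat.card (Cfsg.isometryGroup (ZMod 2) ⇑F6) = 51840
      rw [OrthForms.minQ_eq]
      exact (S0288.result (F := ZMod 2) (ZMod.card 2) 3 (by norm_num) 1 1 anis).trans (by decide)
    have hΩ : Nat.card ↥Ω = 25920 := by
      have h := Ω.card_mul_index
      rw [omega_index, h1] at h
      omega
    have h2 : Nat.card (MulAut ↥Ω) = Nat.card (MulAut (Cfsg.PSU 4 K 2)) :=
      Nat.card_congr (MulAut.congr e1).toEquiv
    haveI : Fact (Nat.Prime 2) := ⟨Nat.prime_two⟩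
    rw [h1, h2, S0815.result (F := K) 2 1 le_rfl (by norm_num) (by rw [hK]; norm_num) 4 (by norm_num)
      (by norm_num), ← Nat.card_congr e1.toEquiv, hΩ]
    decide
  haveI : Finite (MulAut ↥Ω) := Finite.of_injective (fun f => (f : ↥Ω → ↥Ω)) DFunLike.coe_injective
  have hbij : Function.Bijective φ := (Nat.bijective_iff_injective_and_card φ).2 ⟨hinj, hcard⟩
  exact ⟨(MulAut.congr e1).symm.trans (MulEquiv.ofBijective φ hbij).symm⟩

end Cfsg.Agent.Forms.Aut42
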