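import Mathlib
import Cfsg.Agent.Lib.Forms.DicksonField
import Cfsg.Agent.Lib.Forms.DicksonMax

/-!
# Two opposite unipotent groups exchange their fixed lines
-/

set_option autoImplicit false
set_option linter.unusedSectionVars false

namespace Cfsg.Agent.Forms.DicksonSwap

open Matrix MulAction OnePoint
open scoped MatrixGroups

variable {F : Type*} [Field F] [Fintype F]

/-- A subgroup containing a lower transvection and two independent upper transvections contains a
non-unipotent element fixing the second axis. -/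
theorem exists_torus (G : Subgroup SL(2, F)) (A : AddSubgroup F) (hA : ∀ a ∈ A, Classical.GL2.uniSL a ∈ G)
    {a₁ a₂ b : F} (h1 : a₁ ∈ A) (h2 : a₂ ∈ A) (ha₁ : a₁ ≠ 0) (hind : a₂ ∉ AddSubgroup.zmultiples a₁)
    (hb : b ≠ 0) (hlow : Classical.GL2.lowSL b ∈ G) :
    (∃ X ∈ G, (X : Matrix (Fin 2) (Fin 2) F) 0 1 = 0 ∧
      (X : Matrix (Fin 2) (Fin 2) F) 0 0 * (X : Matrix (Fin 2) (Fin 2) F) 0 0 ≠ 1) ∧
    (∃ X ∈ G, (X : Matrix (Fin 2) (Fin 2) F) 1 0 = 0 ∧
      (X : Matrix (Fin 2) (Fin 2) F) 1 1 * (X : Matrix (Fin 2) (Fin 2) F) 1 1 ≠ 1) := by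
  classical
  set p := ringChar F with hp
  haveI : CharP F p := ringChar.charP F
  haveI : Fact p.Prime := ⟨CharP.char_is_prime F p⟩
  set H := G.map (KleinPSL.pi F) with hH
  have hT := DicksonAction.twoPt (F := F) p
  have hTH := hT.subgroup H
  have ha₂ : a₂ ≠ 0 := fun e => hind (e ▸ zero_mem _)
  have hpi1 : ∀ a : F, KleinPSL.pi F (Classical.GL2.uniSL a) = 1 → a = 0 := fun a h => by
    rcases KleinPSL.pi_eq_one.1 h with h | h
    · simpa [Classical.GL2.coe_uniSL] using congrFun (congrFun (congrArg Subtype.val h) 0) 1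
    · simpa [Classical.GL2.coe_uniSL] using congrFun (congrFun (congrArg Subtype.val h) 0) 1
  have hord : ∀ X : SL(2, F), (X : Matrix (Fin 2) (Fin 2) F).trace = 2 → KleinPSL.pi F X ≠ 1 →
      orderOf (KleinPSL.pi F X) = p := fun X ht hX =>
    (DicksonAction.orderOf_iff p X hX).2 (by rw [ht]; norm_num)
  set u := KleinPSL.pi F (Classical.GL2.uniSL a₁) with hu
  set v := KleinPSL.pi F (Classical.GL2.lowSL b) with hv
  have hu1 : u ≠ 1 := fun e => ha₁ (hpi1 _ e)
  have hv1 : v ≠ 1 := fun e => hb (by
    rcases KleinPSL.pi_eq_one.1 e with h | h <;>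
      simpa [Classical.GL2.coe_lowSL] using congrFun (congrFun (congrArg Subtype.val h) 1) 0)
  have hou : orderOf u = p := hord _ (by simp [Classical.GL2.coe_uniSL, trace_fin_two]; norm_num) hu1
  have hov : orderOf v = p := hord _ (by simp [Classical.GL2.coe_lowSL, trace_fin_two]; norm_num) hv1
  have huH : u ∈ H := ⟨_, hA _ h1, rfl⟩
  have hvH : v ∈ H := ⟨_, hlow, rfl⟩
  have huv : u * v ≠ v * u := fun e => by
    rw [hu, hv, ← map_mul, ← map_mul, KleinPSL.pi_eq_iff] at e
    rcases e with e | e
    · have := congrFun (congrFun (congrArg Subtype.val e) 0) 0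
      simp [Classical.GL2.coe_uniSL, Classical.GL2.coe_lowSL, Matrix.mul_apply, Fin.sum_univ_two] at this
      tauto
    · have h01 := congrFun (congrFun (congrArg Subtype.val e) 0) 1
      have h11 := congrFun (congrFun (congrArg Subtype.val e) 1) 1
      simp [Classical.GL2.coe_uniSL, Classical.GL2.coe_lowSL, Matrix.mul_apply, Fin.sum_univ_two] at h01 h11
      have h20 : (2 : F) = 0 := (mul_eq_zero.1 (show (2 : F) * a₁ = 0 by linear_combination h01)).resolve_right ha₁
      exact mul_ne_zero hb ha₁ (by linear_combination h11 - h20)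
  have hpu : u ^ p = 1 := by rw [← hou, pow_orderOf_eq_one]
  have hpv : v ^ p = 1 := by rw [← hov, pow_orderOf_eq_one]
  rcases DicksonModular.classify_modular hTH (u := (⟨u, huH⟩ : H))
      (by rw [← Subgroup.orderOf_coe]; exact hou) with ⟨x, -, hfix⟩ | ⟨c, -, hc, ⟨e⟩⟩ | ⟨hp3, ⟨e⟩⟩ | ⟨x, htr⟩
  · exact absurd (DicksonMax.comm_of_fix p (hfix ⟨u, huH⟩) (hfix ⟨v, hvH⟩) hpu hpv) huv
  · -- dihedral
    exfalso
    have hcp : ¬ p ∣ orderOf c := fun h => hc (hTH.orderOf_eq h)
    by_cases hp2 : p = 2
    · have hodd : Odd (orderOf c) := by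
        rw [Nat.odd_iff]
        rw [hp2, Nat.dvd_iff_mod_eq_zero] at hcp
        omega
      have hkey : ∀ x y : H, x * x = 1 → y * y = 1 → x ≠ 1 → y ≠ 1 → x * y = y * x → x = y := by
        intro x y hx hy hx1 hy1 hxy
        have hsr : ∀ z : H, z * z = 1 → z ≠ 1 → ∃ i, e z = DihedralGroup.sr i := by
          intro z hz hz1
          cases hi : e z with
          | sr i => exact ⟨i, rfl⟩
          | r i =>
            exfalso
            have h := congrArg e hz
            rw [map_mul, map_one, hi, DihedralGroup.r_mul_r, DihedralGroup.one_def, DihedralGroup.r.injEq] at h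
            refine hz1 (e.injective ?_)
            rw [map_one, hi, DihedralGroup.one_def, DihedralGroup.r.injEq]
            exact (ZMod.add_self_eq_zero_iff_eq_zero hodd).1 h
        obtain ⟨i, hi⟩ := hsr x hx hx1
        obtain ⟨j, hj⟩ := hsr y hy hy1
        have h := congrArg e hxy
        rw [map_mul, map_mul, hi, hj, DihedralGroup.sr_mul_sr, DihedralGroup.sr_mul_sr, DihedralGroup.r.injEq] at h
        refine e.injective ?_
        rw [hi, hj, DihedralGroup.sr.injEq]
        have h0 : (j - i) + (j - i) = 0 := by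
          nth_rewrite 2 [h]
          abel
        exact (sub_eq_zero.1 ((ZMod.add_self_eq_zero_iff_eq_zero hodd).1 h0)).symm
      let π : ∀ a ∈ A, H := fun a ha => ⟨KleinPSL.pi F (Classical.GL2.uniSL a), ⟨_, hA a ha, rfl⟩⟩
      have hsq : ∀ a (ha : a ∈ A), π a ha * π a ha = 1 := fun a ha => Subtype.ext (by
        rcases eq_or_ne a 0 with rfl | h0
        · simp [π, Classical.GL2.uniSL_zero]
        · have := hord (Classical.GL2.uniSL a) (by simp [Classical.GL2.coe_uniSL, trace_fin_two]; norm_num)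
            (fun h => h0 (hpi1 a h))
          rw [hp2] at this
          show KleinPSL.pi F _ * KleinPSL.pi F _ = 1
          rw [← pow_two]
          exact orderOf_dvd_iff_pow_eq_one.1 (dvd_of_eq this))
      have := hkey (π a₁ h1) (π a₂ h2) (hsq a₁ h1) (hsq a₂ h2)
        (fun h => ha₁ (hpi1 _ (congrArg Subtype.val h))) (fun h => ha₂ (hpi1 _ (congrArg Subtype.val h)))
        (Subtype.ext (by
          show KleinPSL.pi F _ * KleinPSL.pi F _ = KleinPSL.pi F _ * KleinPSL.pi F _
          rw [← map_mul, ← map_mul, Classical.GL2.uniSL_mul, Classical.GL2.uniSL_mul, add_comm]))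
      rcases KleinPSL.pi_eq_iff.1 (congrArg Subtype.val this) with h | h
      · refine hind ?_
        have h12 := congrFun (congrFun (congrArg Subtype.val h) 0) 1
        simp [Classical.GL2.coe_uniSL] at h12
        exact h12 ▸ AddSubgroup.mem_zmultiples a₁
      · refine hind ?_
        have h12 := congrFun (congrFun (congrArg Subtype.val h) 0) 1
        simp [Classical.GL2.coe_uniSL] at h12
        rw [show a₂ = -a₁ by rw [h12, neg_neg]]
        exact neg_mem (AddSubgroup.mem_zmultiples a₁)
    · refine huv (DicksonMax.comm_of_dihedral H (g := (c : Matrix.ProjectiveSpecialLinearGroup (Fin 2) F))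
        (Or.inr ⟨by rw [Subgroup.orderOf_coe]; exact e⟩) huH hvH
        (DicksonMax.sq_ne_one (Fact.out) hp2 hpu hu1) (DicksonMax.sq_ne_one (Fact.out) hp2 hpv hv1))
  · -- alternating group of degree five
    exfalso
    let φ : Multiplicative A →* H :=
      { toFun := fun a => ⟨KleinPSL.pi F (Classical.GL2.uniSL (Multiplicative.toAdd a : A)),
          ⟨_, hA _ (Multiplicative.toAdd a : A).2, rfl⟩⟩
        map_one' := Subtype.ext (by simp [Classical.GL2.uniSL_zero])
        map_mul' := fun a b => Subtype.ext (by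
          rw [Subgroup.coe_mul, ← map_mul, Classical.GL2.uniSL_mul]
          rfl) }
    have hinj : Function.Injective φ := (injective_iff_map_eq_one φ).2 fun a h =>
      Multiplicative.toAdd.injective (Subtype.ext (hpi1 _ (congrArg Subtype.val h)))
    have hd := Subgroup.card_dvd_of_injective φ hinj
    have h60 : Nat.card (alternatingGroup (Fin 5)) = 60 := by
      rw [nat_card_alternatingGroup, Nat.card_fin]; rfl
    rw [Nat.card_congr e.toEquiv, h60, Nat.card_congr Multiplicative.toAdd] at hd
    have hP : IsPGroup p (Multiplicative A) := fun a => ⟨1, Multiplicative.toAdd.injective (Subtype.ext (by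
      simp [CharP.cast_eq_zero, nsmul_eq_mul]))⟩
    obtain ⟨k, hk⟩ := IsPGroup.iff_card.1 hP
    rw [Nat.card_congr Multiplicative.toAdd] at hk
    have h3 : AddSubgroup.zmultiples a₁ < A :=
      lt_of_le_of_ne (AddSubgroup.zmultiples_le_of_mem h1) fun h => hind (h ▸ h2)
    have hc3 : Nat.card (AddSubgroup.zmultiples a₁) = 3 := by
      rw [Nat.card_zmultiples, addOrderOf_eq_prime (p := p) (by simp [nsmul_eq_mul]) ha₁, hp3]
    have hlt : Nat.card (AddSubgroup.zmultiples a₁) < Nat.card A :=
      lt_of_le_of_ne (AddSubgroup.card_le_of_le h3.le) fun h =>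
        h3.ne (AddSubgroup.eq_of_le_of_card_ge h3.le h.ge)
    rw [hc3, hk, hp3] at hlt
    rw [hk, hp3] at hd
    rcases k with _ | _ | k
    · norm_num at hlt
    · norm_num at hlt
    · have : 9 ∣ 60 := (Dvd.intro_left _ (by ring : 3 ^ k * 9 = 3 ^ (k + 2))).trans hd
      omega
  · -- transitive
    obtain ⟨K, iK, fK, m, hm, hiso⟩ := DicksonField.classify_transitive p H htr
    obtain ⟨hx, hcard, -⟩ := htr
    set O := orbit H x with hO
    haveI : Finite O := (Set.finite_range fun g : H => g • x).to_subtype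
    have hpO : ¬ p ∣ Nat.card O := by
      have hPG : IsPGroup p (hTH.pSub x) := fun g => ⟨1, Subtype.ext (by
        rw [pow_one, Subgroup.coe_pow]; exact g.2.2)⟩
      obtain ⟨k, hk⟩ := IsPGroup.iff_card.1 hPG
      rw [Nat.card_coe_set_eq, hcard, hk]
      have hk0 : k ≠ 0 := fun h => hx (Subgroup.eq_bot_of_card_eq _ (by rw [hk, h, pow_zero]))
      intro h
      have h1 : p ∣ 1 := (Nat.dvd_add_right (dvd_pow_self p hk0)).1 h
      exact (Fact.out : p.Prime).ne_one (Nat.dvd_one.1 h1)
    have hfixed : ∀ w : H, orderOf (w : Matrix.ProjectiveSpecialLinearGroup (Fin 2) F) = p →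
        ∀ z : OnePoint (AlgebraicClosure F), w • z = z → z ∈ O := by
      intro w hw z hz
      haveI := Fintype.ofFinite O
      obtain ⟨⟨y, hy⟩, hy'⟩ := Equiv.Perm.exists_fixed_point_of_prime (p := p) (n := 1)
        (σ := MulAction.toPermHom H O w) (by rwa [← Nat.card_eq_fintype_card])
        (by rw [pow_one, ← map_pow, show w ^ p = 1 from Subtype.ext (by
          rw [Subgroup.coe_pow, ← hw, pow_orderOf_eq_one, Subgroup.coe_one]), map_one])
      have hy'' : w • y = y := congrArg Subtype.val hy'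
      exact hT.eq_of_fix hw hy'' hz ▸ hy
    have hzero : ((0 : AlgebraicClosure F) : OnePoint (AlgebraicClosure F)) ∈ O := hfixed ⟨v, hvH⟩ hov _
      ((DicksonAction.smul_coe_iff _ 0).2 (by simp [Classical.GL2.coe_lowSL]))
    suffices key : ∀ z ∈ O, ∃ w : H, w • z = z ∧ w ∉ hTH.pSub z by
      have hsq : ∀ (z : OnePoint (AlgebraicClosure F)) (w : H) (X : SL(2, F)), w • z = z → w ∉ hTH.pSub z →
          KleinPSL.pi F X = w → (X : Matrix (Fin 2) (Fin 2) F).trace * (X : Matrix (Fin 2) (Fin 2) F).trace ≠ 4 := by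
        intro z w X hwz hwp hXw ht
        refine hwp ⟨hwz, ?_⟩
        by_cases h1 : KleinPSL.pi F X = 1
        · exact Subtype.ext (by rw [Subgroup.coe_pow, ← hXw, h1, one_pow, Subgroup.coe_one])
        · exact Subtype.ext (by
            rw [Subgroup.coe_pow, ← hXw, Subgroup.coe_one]
            exact orderOf_dvd_iff_pow_eq_one.1 (dvd_of_eq ((DicksonAction.orderOf_iff p X h1).2 ht)))
      have hinfO : (∞ : OnePoint (AlgebraicClosure F)) ∈ O := hfixed ⟨u, huH⟩ hou ∞
        ((DicksonAction.smul_infty_iff _).2 (by simp [Classical.GL2.coe_uniSL]))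
      refine ⟨?_, ?_⟩
      · obtain ⟨w, hwz, hwp⟩ := key _ hzero
        obtain ⟨X, hX, hXw⟩ := w.2
        have h0 : KleinPSL.pi F X • ((0 : AlgebraicClosure F) : OnePoint (AlgebraicClosure F)) =
            ((0 : AlgebraicClosure F) : OnePoint (AlgebraicClosure F)) := by rw [hXw]; exact hwz
        rw [DicksonAction.smul_coe_iff] at h0
        have h01 : (X : Matrix (Fin 2) (Fin 2) F) 0 1 = 0 := by simpa using h0
        refine ⟨X, hX, h01, fun hs => hsq _ w X hwz hwp hXw ?_⟩
        have hd := X.det_coe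
        rw [det_fin_two, h01, zero_mul, sub_zero] at hd
        rw [trace_fin_two]
        linear_combination hs + 2 * hd + (((X : Matrix (Fin 2) (Fin 2) F) 1 1) ^ 2) * (-hs) +
          (((X : Matrix (Fin 2) (Fin 2) F) 0 0) * ((X : Matrix (Fin 2) (Fin 2) F) 1 1) + 1) * hd
      · obtain ⟨w, hwz, hwp⟩ := key _ hinfO
        obtain ⟨X, hX, hXw⟩ := w.2
        have h10 : (X : Matrix (Fin 2) (Fin 2) F) 1 0 = 0 :=
          (DicksonAction.smul_infty_iff X).1 (by rw [hXw]; exact hwz)
        refine ⟨X, hX, h10, fun hs => hsq _ w X hwz hwp hXw ?_⟩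
        have hd := X.det_coe
        rw [det_fin_two, h10, mul_zero, sub_zero] at hd
        rw [trace_fin_two]
        linear_combination hs + 2 * hd + (((X : Matrix (Fin 2) (Fin 2) F) 0 0) ^ 2) * (-hs) +
          (((X : Matrix (Fin 2) (Fin 2) F) 0 0) * ((X : Matrix (Fin 2) (Fin 2) F) 1 1) + 1) * hd
    intro z hzero
    -- the order of `H`
    have hQ : Nat.card (hTH.pSub x) = Nat.card (hTH.pSub z) := by
      obtain ⟨h, hh⟩ := hzero
      rw [← hh]
      exact (DicksonModular.natCard_pSub_smul hTH x h).symm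
    have hPG : IsPGroup p (hTH.pSub x) := fun g => ⟨1, Subtype.ext (by
      rw [pow_one, Subgroup.coe_pow]; exact g.2.2)⟩
    have hinfO : (∞ : OnePoint (AlgebraicClosure F)) ∈ O := hfixed ⟨u, huH⟩ hou ∞
      ((DicksonAction.smul_infty_iff _).2 (by simp [Classical.GL2.coe_uniSL]))
    have hbig : p * p ≤ Nat.card (hTH.pSub x) := by
      obtain ⟨h, hh⟩ := hinfO
      rw [← DicksonModular.natCard_pSub_smul hTH x h, show h • x = ∞ from hh]
      -- the upper transvections
      let φ : Multiplicative A →* H :=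
        { toFun := fun a => ⟨KleinPSL.pi F (Classical.GL2.uniSL (Multiplicative.toAdd a : A)),
            ⟨_, hA _ (Multiplicative.toAdd a : A).2, rfl⟩⟩
          map_one' := Subtype.ext (by simp [Classical.GL2.uniSL_zero])
          map_mul' := fun a b => Subtype.ext (by
            rw [Subgroup.coe_mul, ← map_mul, Classical.GL2.uniSL_mul]
            rfl) }
      have hinj : Function.Injective φ := (injective_iff_map_eq_one φ).2 fun a h =>
        Multiplicative.toAdd.injective (Subtype.ext (hpi1 _ (congrArg Subtype.val h)))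
      have hP : IsPGroup p (Multiplicative A) := fun a => ⟨1, Multiplicative.toAdd.injective (Subtype.ext (by
        simp [CharP.cast_eq_zero, nsmul_eq_mul]))⟩
      obtain ⟨k, hk⟩ := IsPGroup.iff_card.1 hP
      rw [Nat.card_congr Multiplicative.toAdd] at hk
      have h3 : AddSubgroup.zmultiples a₁ < A :=
        lt_of_le_of_ne (AddSubgroup.zmultiples_le_of_mem h1) fun h => hind (h ▸ h2)
      have hc3 : Nat.card (AddSubgroup.zmultiples a₁) = p := by
        rw [Nat.card_zmultiples, addOrderOf_eq_prime (p := p) (by simp [nsmul_eq_mul]) ha₁]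
      have hlt : Nat.card (AddSubgroup.zmultiples a₁) < Nat.card A :=
        lt_of_le_of_ne (AddSubgroup.card_le_of_le h3.le) fun h =>
          h3.ne (AddSubgroup.eq_of_le_of_card_ge h3.le h.ge)
      rw [hc3, hk] at hlt
      have hk2 : 2 ≤ k := by
        rcases k with _ | _ | k
        · simp at hlt; have := (Fact.out : p.Prime).two_le; omega
        · simp at hlt
        · omega
      refine le_trans ?_ (Nat.card_le_card_of_injective (fun a : Multiplicative A => (⟨φ a, ?_, ?_⟩ : hTH.pSub ∞))
        fun a b h => hinj (congrArg Subtype.val h))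
      · rw [Nat.card_congr Multiplicative.toAdd, hk, ← pow_two]
        exact Nat.pow_le_pow_right (Fact.out : p.Prime).pos hk2
      · exact (DicksonAction.smul_infty_iff _).2 (by simp [Classical.GL2.coe_uniSL])
      · obtain ⟨l, hl⟩ := hP a
        rw [← map_pow, show a ^ p = 1 from Multiplicative.toAdd.injective (Subtype.ext (by
          simp [CharP.cast_eq_zero, nsmul_eq_mul])), map_one]
    -- the stabiliser is more than a `p`-group
    have hmul : Nat.card H = Nat.card O * Nat.card (stabilizer H z) := by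
      have e : orbit H z = O := orbit_eq_iff.2 hzero
      rw [← Nat.card_congr (MulAction.orbitProdStabilizerEquivGroup H z), Nat.card_prod, e]
    rw [Nat.card_coe_set_eq, hcard, hQ] at hmul
    rw [hQ] at hbig
    show ∃ w : H, w • z = z ∧ w ∉ hTH.pSub z
    by_contra hc
    push Not at hc
    have e : stabilizer H z = hTH.pSub z := le_antisymm (fun w hw => hc w hw) (fun w hw => hw.1)
    rw [e] at hmul
    obtain ⟨k, hk⟩ := IsPGroup.iff_card.1 hPG
    rw [hQ] at hk
    set Q := Nat.card (hTH.pSub z) with hQdef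
    set N := Fintype.card K with hN
    have hN2 : 2 ≤ N := Fintype.one_lt_card
    have hp1 : p.Prime := Fact.out
    have h4 : 4 ≤ Q := le_trans (Nat.mul_le_mul hp1.two_le hp1.two_le) hbig
    have hk0 : k ≠ 0 := fun h0 => by rw [h0, pow_zero] at hk; omega
    obtain ⟨n, -, hn⟩ := FiniteField.card F p
    have hm0 : m ≠ 0 := fun h0 => by
      rw [h0, pow_zero] at hm
      have := Fintype.one_lt_card (α := F)
      omega
    obtain ⟨a, -, ha⟩ := (Nat.dvd_prime_pow hp1).1 ((dvd_pow_self N hm0).trans (dvd_of_eq (hm.trans hn)))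
    have ha0 : a ≠ 0 := fun h0 => by rw [h0, pow_zero] at ha; omega
    obtain ⟨d, hd2, hdco, hN'⟩ : ∃ d, d ≤ 2 ∧ Nat.Coprime N d ∧ N * ((N - 1) * (N + 1)) = d * Nat.card H := by
      rcases hiso with ⟨⟨e'⟩⟩ | ⟨⟨e'⟩⟩
      · have hK := Classical.SmallIso.natCard_pslTwo K
        rw [Classical.GL2.natCard_SL_two, ← Nat.card_congr e'.toEquiv, ← hN] at hK
        refine ⟨_, Nat.gcd_le_left _ two_pos, ?_, hK.symm⟩
        refine Nat.Coprime.coprime_dvd_right (Nat.gcd_dvd_right 2 (N - 1)) ?_
        have := Nat.coprime_self_add_right (m := N - 1) (n := 1)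
        rw [Nat.sub_add_cancel (by omega : 1 ≤ N)] at this
        exact (this.2 (Nat.coprime_one_right _)).symm
      · refine ⟨1, one_le_two, Nat.coprime_one_right _, ?_⟩
        rw [one_mul, Nat.card_congr e'.toEquiv, Classical.Linear.natCard_PGL, Classical.GL2.natCard_SL_two]
    rw [hmul] at hN'
    have hpN : ∀ x, ¬ p ∣ x → Nat.Coprime N x ∧ Nat.Coprime Q x := fun x hx => by
      have hc := (hp1.coprime_iff_not_dvd.2 hx)
      exact ⟨ha ▸ Nat.Coprime.pow_left a hc, hk ▸ Nat.Coprime.pow_left k hc⟩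
    have hpQ : ¬ p ∣ Q + 1 := fun h => hp1.ne_one (Nat.dvd_one.1
      ((Nat.dvd_add_right (hk ▸ dvd_pow_self p hk0)).1 h))
    have hpN1 : ¬ p ∣ (N - 1) * (N + 1) := fun h => by
      have hpN' : p ∣ N := ha ▸ dvd_pow_self p ha0
      rcases (Nat.Prime.dvd_mul hp1).1 h with h | h
      · have := Nat.dvd_sub hpN' h
        rw [show N - (N - 1) = 1 by omega] at this
        exact hp1.ne_one (Nat.dvd_one.1 this)
      · exact hp1.ne_one (Nat.dvd_one.1 ((Nat.dvd_add_right hpN').1 h))
    have hNQ : N = Q := by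
      refine Nat.dvd_antisymm ?_ ?_
      · exact (hpN _ hpQ).1.dvd_of_dvd_mul_left (hdco.dvd_of_dvd_mul_left (Dvd.intro _ hN'))
      · refine (hpN _ hpN1).2.dvd_of_dvd_mul_right ?_
        rw [hN']
        exact Dvd.dvd.mul_left (dvd_mul_left _ _) _
    rw [hNQ] at hN'
    obtain ⟨Q', hQ'⟩ := Nat.exists_eq_add_of_le h4
    rw [hQ', show 4 + Q' - 1 = 3 + Q' by omega] at hN'
    have hX : 0 < (4 + Q') * (4 + Q' + 1) := by positivity
    have e : (3 + Q') * ((4 + Q') * (4 + Q' + 1)) = d * ((4 + Q') * (4 + Q' + 1)) := by linarith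
    have := Nat.eq_of_mul_eq_mul_right hX e
    omega

end Cfsg.Agent.Forms.DicksonSwap
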