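import Mathlib
import Cfsg.Agent.Lib.Forms.DicksonField
import Cfsg.Agent.Lib.Forms.DicksonMax

/-!
# A group with opposite transvections over a spanning set of coefficients is the whole group
-/

set_option autoImplicit false
set_option linter.unusedSectionVars false

namespace Cfsg.Agent.Forms.DicksonUni

open Matrix MulAction OnePoint
open scoped MatrixGroups

variable {F : Type*} [Field F] [Fintype F]

/-- two independent upper transvections and a lower one give a transitive Sylow orbit -/
theorem transitive (p : ℕ) [CharP F p] [Fact p.Prime] (G : Subgroup SL(2, F)) (A : AddSubgroup F)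
    (hA : ∀ a ∈ A, Classical.GL2.uniSL a ∈ G)
    {a₁ a₂ b : F} (h1 : a₁ ∈ A) (h2 : a₂ ∈ A) (ha₁ : a₁ ≠ 0) (hind : a₂ ∉ AddSubgroup.zmultiples a₁)
    (hb : b ≠ 0) (hlow : Classical.GL2.lowSL b ∈ G) :
    ∃ x, DicksonModular.Transitive' ((DicksonAction.twoPt (F := F) p).subgroup (G.map (KleinPSL.pi F))) x := by
  classical
  set H := G.map (KleinPSL.pi F) with hH
  have hT := DicksonAction.twoPt (F := F) p
  have hTH := hT.subgroup H
  have ha₂ : a₂ ≠ 0 := fun e => hind (e ▸ zero_mem _)
  have hpi1 : ∀ a : F, KleinPSL.pi F (Classical.GL2.uniSL a) = 1 → a = 0 := fun a h => by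
    rcases KleinPSL.pi_eq_one.1 h with h | h
    · simpa [Classical.GL2.coe_uniSL] using congrFun (congrFun (congrArg Subtype.val h) 0) 1
    · simpa [Classical.GL2.coe_uniSL] using congrFun (congrFun (congrArg Subtype.val h) 0) 1
  have hord : ∀ X : SL(2, F), (X : Matrix (Fin 2) (Fin 2) F).trace = 2 → KleinPSL.pi F X ≠ 1 →
      orderOf (KleinPSL.pi F X) = p := fun X ht hX =>
    (DicksonAction.orderOf_iff p X hX).2 (by rw [ht]; norm_num)
  set u := KleinPSL.pi F (Classical.GL2.uniSL a₁) with hu
  set v := KleinPSL.pi F (Classical.GL2.lowSL b) with hv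
  have hu1 : u ≠ 1 := fun e => ha₁ (hpi1 _ e)
  have hv1 : v ≠ 1 := fun e => hb (by
    rcases KleinPSL.pi_eq_one.1 e with h | h <;>
      simpa [Classical.GL2.coe_lowSL] using congrFun (congrFun (congrArg Subtype.val h) 1) 0)
  have hou : orderOf u = p := hord _ (by simp [Classical.GL2.coe_uniSL, trace_fin_two]; norm_num) hu1
  have hov : orderOf v = p := hord _ (by simp [Classical.GL2.coe_lowSL, trace_fin_two]; norm_num) hv1
  have huH : u ∈ H := ⟨_, hA _ h1, rfl⟩
  have hvH : v ∈ H := ⟨_, hlow, rfl⟩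
  have huv : u * v ≠ v * u := fun e => by
    rw [hu, hv, ← map_mul, ← map_mul, KleinPSL.pi_eq_iff] at e
    rcases e with e | e
    · have := congrFun (congrFun (congrArg Subtype.val e) 0) 0
      simp [Classical.GL2.coe_uniSL, Classical.GL2.coe_lowSL, Matrix.mul_apply, Fin.sum_univ_two] at this
      tauto
    · have h01 := congrFun (congrFun (congrArg Subtype.val e) 0) 1
      have h11 := congrFun (congrFun (congrArg Subtype.val e) 1) 1
      simp [Classical.GL2.coe_uniSL, Classical.GL2.coe_lowSL, Matrix.mul_apply, Fin.sum_univ_two] at h01 h11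
      have h20 : (2 : F) = 0 := (mul_eq_zero.1 (show (2 : F) * a₁ = 0 by linear_combination h01)).resolve_right ha₁
      exact mul_ne_zero hb ha₁ (by linear_combination h11 - h20)
  have hpu : u ^ p = 1 := by rw [← hou, pow_orderOf_eq_one]
  have hpv : v ^ p = 1 := by rw [← hov, pow_orderOf_eq_one]
  rcases DicksonModular.classify_modular hTH (u := (⟨u, huH⟩ : H))
      (by rw [← Subgroup.orderOf_coe]; exact hou) with ⟨x, -, hfix⟩ | ⟨c, -, hc, ⟨e⟩⟩ | ⟨hp3, ⟨e⟩⟩ | ⟨x, htr⟩
  · exact absurd (DicksonMax.comm_of_fix p (hfix ⟨u, huH⟩) (hfix ⟨v, hvH⟩) hpu hpv) huv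
  · -- dihedral
    exfalso
    have hcp : ¬ p ∣ orderOf c := fun h => hc (hTH.orderOf_eq h)
    by_cases hp2 : p = 2
    · have hodd : Odd (orderOf c) := by
        rw [Nat.odd_iff]
        rw [hp2, Nat.dvd_iff_mod_eq_zero] at hcp
        omega
      have hkey : ∀ x y : H, x * x = 1 → y * y = 1 → x ≠ 1 → y ≠ 1 → x * y = y * x → x = y := by
        intro x y hx hy hx1 hy1 hxy
        have hsr : ∀ z : H, z * z = 1 → z ≠ 1 → ∃ i, e z = DihedralGroup.sr i := by
          intro z hz hz1
          cases hi : e z with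
          | sr i => exact ⟨i, rfl⟩
          | r i =>
            exfalso
            have h := congrArg e hz
            rw [map_mul, map_one, hi, DihedralGroup.r_mul_r, DihedralGroup.one_def, DihedralGroup.r.injEq] at h
            refine hz1 (e.injective ?_)
            rw [map_one, hi, DihedralGroup.one_def, DihedralGroup.r.injEq]
            exact (ZMod.add_self_eq_zero_iff_eq_zero hodd).1 h
        obtain ⟨i, hi⟩ := hsr x hx hx1
        obtain ⟨j, hj⟩ := hsr y hy hy1
        have h := congrArg e hxy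
        rw [map_mul, map_mul, hi, hj, DihedralGroup.sr_mul_sr, DihedralGroup.sr_mul_sr, DihedralGroup.r.injEq] at h
        refine e.injective ?_
        rw [hi, hj, DihedralGroup.sr.injEq]
        have h0 : (j - i) + (j - i) = 0 := by
          nth_rewrite 2 [h]
          abel
        exact (sub_eq_zero.1 ((ZMod.add_self_eq_zero_iff_eq_zero hodd).1 h0)).symm
      let π : ∀ a ∈ A, H := fun a ha => ⟨KleinPSL.pi F (Classical.GL2.uniSL a), ⟨_, hA a ha, rfl⟩⟩
      have hsq : ∀ a (ha : a ∈ A), π a ha * π a ha = 1 := fun a ha => Subtype.ext (by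
        rcases eq_or_ne a 0 with rfl | h0
        · simp [π, Classical.GL2.uniSL_zero]
        · have := hord (Classical.GL2.uniSL a) (by simp [Classical.GL2.coe_uniSL, trace_fin_two]; norm_num)
            (fun h => h0 (hpi1 a h))
          rw [hp2] at this
          show KleinPSL.pi F _ * KleinPSL.pi F _ = 1
          rw [← pow_two]
          exact orderOf_dvd_iff_pow_eq_one.1 (dvd_of_eq this))
      have := hkey (π a₁ h1) (π a₂ h2) (hsq a₁ h1) (hsq a₂ h2)
        (fun h => ha₁ (hpi1 _ (congrArg Subtype.val h))) (fun h => ha₂ (hpi1 _ (congrArg Subtype.val h)))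
        (Subtype.ext (by
          show KleinPSL.pi F _ * KleinPSL.pi F _ = KleinPSL.pi F _ * KleinPSL.pi F _
          rw [← map_mul, ← map_mul, Classical.GL2.uniSL_mul, Classical.GL2.uniSL_mul, add_comm]))
      rcases KleinPSL.pi_eq_iff.1 (congrArg Subtype.val this) with h | h
      · refine hind ?_
        have h12 := congrFun (congrFun (congrArg Subtype.val h) 0) 1
        simp [Classical.GL2.coe_uniSL] at h12
        exact h12 ▸ AddSubgroup.mem_zmultiples a₁
      · refine hind ?_
        have h12 := congrFun (congrFun (congrArg Subtype.val h) 0) 1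
        simp [Classical.GL2.coe_uniSL] at h12
        rw [show a₂ = -a₁ by rw [h12, neg_neg]]
        exact neg_mem (AddSubgroup.mem_zmultiples a₁)
    · refine huv (DicksonMax.comm_of_dihedral H (g := (c : Matrix.ProjectiveSpecialLinearGroup (Fin 2) F))
        (Or.inr ⟨by rw [Subgroup.orderOf_coe]; exact e⟩) huH hvH
        (DicksonMax.sq_ne_one (Fact.out) hp2 hpu hu1) (DicksonMax.sq_ne_one (Fact.out) hp2 hpv hv1))
  · -- alternating group of degree five
    exfalso
    let φ : Multiplicative A →* H :=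
      { toFun := fun a => ⟨KleinPSL.pi F (Classical.GL2.uniSL (Multiplicative.toAdd a : A)),
          ⟨_, hA _ (Multiplicative.toAdd a : A).2, rfl⟩⟩
        map_one' := Subtype.ext (by simp [Classical.GL2.uniSL_zero])
        map_mul' := fun a b => Subtype.ext (by
          rw [Subgroup.coe_mul, ← map_mul, Classical.GL2.uniSL_mul]
          rfl) }
    have hinj : Function.Injective φ := (injective_iff_map_eq_one φ).2 fun a h =>
      Multiplicative.toAdd.injective (Subtype.ext (hpi1 _ (congrArg Subtype.val h)))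
    have hd := Subgroup.card_dvd_of_injective φ hinj
    have h60 : Nat.card (alternatingGroup (Fin 5)) = 60 := by
      rw [nat_card_alternatingGroup, Nat.card_fin]; rfl
    rw [Nat.card_congr e.toEquiv, h60, Nat.card_congr Multiplicative.toAdd] at hd
    have hP : IsPGroup p (Multiplicative A) := fun a => ⟨1, Multiplicative.toAdd.injective (Subtype.ext (by
      simp [CharP.cast_eq_zero, nsmul_eq_mul]))⟩
    obtain ⟨k, hk⟩ := IsPGroup.iff_card.1 hP
    rw [Nat.card_congr Multiplicative.toAdd] at hk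
    have h3 : AddSubgroup.zmultiples a₁ < A :=
      lt_of_le_of_ne (AddSubgroup.zmultiples_le_of_mem h1) fun h => hind (h ▸ h2)
    have hc3 : Nat.card (AddSubgroup.zmultiples a₁) = 3 := by
      rw [Nat.card_zmultiples, addOrderOf_eq_prime (p := p) (by simp [nsmul_eq_mul]) ha₁, hp3]
    have hlt : Nat.card (AddSubgroup.zmultiples a₁) < Nat.card A :=
      lt_of_le_of_ne (AddSubgroup.card_le_of_le h3.le) fun h =>
        h3.ne (AddSubgroup.eq_of_le_of_card_ge h3.le h.ge)
    rw [hc3, hk, hp3] at hlt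
    rw [hk, hp3] at hd
    rcases k with _ | _ | k
    · norm_num at hlt
    · norm_num at hlt
    · have : 9 ∣ 60 := (Dvd.intro_left _ (by ring : 3 ^ k * 9 = 3 ^ (k + 2))).trans hd
      omega
  · exact ⟨x, htr⟩

/-- the image in the projective group is everything once the coefficients span a field -/
theorem map_pi_eq_top (G : Subgroup SL(2, F)) (A : AddSubgroup F)
    (hA : ∀ a ∈ A, Classical.GL2.uniSL a ∈ G) {a₁ a₂ b : F} (h1 : a₁ ∈ A) (h2 : a₂ ∈ A) (ha₁ : a₁ ≠ 0)
    (hind : a₂ ∉ AddSubgroup.zmultiples a₁) (hb : b ≠ 0) (hlow : Classical.GL2.lowSL b ∈ G)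
    (hgen : ∀ S : Subfield F, (∀ a ∈ A, a / a₁ ∈ S) → S = ⊤) : G.map (KleinPSL.pi F) = ⊤ := by
  classical
  set p := ringChar F with hp
  haveI : CharP F p := ringChar.charP F
  haveI : Fact p.Prime := ⟨CharP.char_is_prime F p⟩
  obtain ⟨x, hx⟩ := transitive p G A hA h1 h2 ha₁ hind hb hlow
  obtain ⟨K, iK, fK, m, f, γ, hm, hlo, hhi⟩ := DicksonField.transitive_embedding p _ hx
  set S := f.fieldRange with hS
  have hT : ∀ a ∈ A, ∀ i j, ((γ : Matrix (Fin 2) (Fin 2) F) * (Classical.GL2.uniSL a : SL(2, F)) *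
      ((γ⁻¹ : GL (Fin 2) F) : Matrix (Fin 2) (Fin 2) F)) i j ∈ S := by
    intro a ha i j
    obtain ⟨k, hk⟩ := hhi ⟨_, ⟨_, ⟨_, hA a ha, rfl⟩, rfl⟩, rfl⟩
    obtain ⟨g, rfl⟩ := Matrix.ProjGenLinGroup.mk_surjective k
    set X := Classical.GL2.uniSL a with hX
    set T : GL (Fin 2) F := γ * Matrix.SpecialLinearGroup.toGL X * γ⁻¹ with hTdef
    have hk' : Matrix.ProjGenLinGroup.mk (GeneralLinearGroup.map f g) = Matrix.ProjGenLinGroup.mk T := by
      rw [← DicksonField.pglMap_mk, hk]
      simp [hTdef, Matrix.ProjectiveSpecialLinearGroup.toPGL_mk, KleinPSL.pi]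
    obtain ⟨s, hs⟩ : ∃ s : Fˣ, GeneralLinearGroup.scalar (Fin 2) s = (GeneralLinearGroup.map f g)⁻¹ * T := by
      have e : (GeneralLinearGroup.map f g)⁻¹ * T ∈ Subgroup.center (GL (Fin 2) F) := by
        rw [← Matrix.ProjGenLinGroup.mk_eq_one, map_mul, map_inv, hk', inv_mul_cancel]
      rw [GeneralLinearGroup.center_eq_range_scalar] at e
      exact e
    have hval : ∀ i j, (T : Matrix (Fin 2) (Fin 2) F) i j = f ((g : Matrix (Fin 2) (Fin 2) K) i j) * (s : F) := by
      intro i j
      rw [show T = GeneralLinearGroup.map f g * GeneralLinearGroup.scalar (Fin 2) s by rw [hs, mul_inv_cancel_left]]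
      simp [Matrix.mul_apply, Fin.sum_univ_two]
      fin_cases j <;> simp
    have htr : (T : Matrix (Fin 2) (Fin 2) F).trace = 2 := by
      rw [hTdef, Units.val_mul, Matrix.trace_mul_comm, ← Units.val_mul, ← mul_assoc, inv_mul_cancel, one_mul]
      simp [hX, Classical.GL2.coe_uniSL, trace_fin_two]
      norm_num
    have hdet : (T : Matrix (Fin 2) (Fin 2) F).det = 1 := by
      rw [hTdef, Units.val_mul, Units.val_mul, Matrix.det_units_conj]
      simp [Classical.GL2.coe_uniSL, det_fin_two, hX]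
    have hs' : (s : F) ∈ S := by
      by_cases h2 : (2 : F) = 0
      · rw [det_fin_two, hval, hval, hval, hval] at hdet
        have hK2 : CharP K 2 := CharTwo.of_one_ne_zero_of_two_eq_zero one_ne_zero
          (f.injective (by rw [map_ofNat, map_zero, h2]))
        obtain ⟨t, ht⟩ := FiniteField.isSquare_of_char_two (ringChar.eq K 2) ((g : Matrix (Fin 2) (Fin 2) K).det)⁻¹
        have h' : (s : F) * s = f t * f t := by
          rw [← map_mul, ← ht, map_inv₀, det_fin_two]
          refine eq_inv_of_mul_eq_one_left ?_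
          simp only [map_sub, map_mul]
          linear_combination hdet
        rcases mul_self_eq_mul_self_iff.1 h' with e | e
        · exact ⟨t, e.symm⟩
        · exact ⟨-t, by rw [map_neg, e]⟩
      · rw [trace_fin_two, hval, hval, ← add_mul, ← map_add] at htr
        refine ⟨2 / (g.val 0 0 + g.val 1 1), ?_⟩
        rw [map_div₀, map_ofNat, div_eq_iff (fun e => h2 (by rw [← htr, e, zero_mul]))]
        linear_combination -htr
    show (T : Matrix (Fin 2) (Fin 2) F) i j ∈ S
    rw [hval]
    exact mul_mem ⟨_, rfl⟩ hs'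
  -- a non-zero entry of the conjugated nilpotent
  set N := (γ : Matrix (Fin 2) (Fin 2) F) * !![0, 1; 0, 0] * ((γ⁻¹ : GL (Fin 2) F) : Matrix (Fin 2) (Fin 2) F)
  have hTN : ∀ a, (γ : Matrix (Fin 2) (Fin 2) F) * (Classical.GL2.uniSL a : SL(2, F)) *
      ((γ⁻¹ : GL (Fin 2) F) : Matrix (Fin 2) (Fin 2) F) = 1 + a • N := by
    intro a
    have e : ((Classical.GL2.uniSL a : SL(2, F)) : Matrix (Fin 2) (Fin 2) F) = 1 + a • !![0, 1; 0, 0] := by
      rw [Classical.GL2.coe_uniSL]
      ext i j
      fin_cases i <;> fin_cases j <;> simp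
    rw [e, mul_add, add_mul, mul_one, Matrix.mul_smul, Matrix.smul_mul]
    simp [N]
  obtain ⟨i, j, hij⟩ : ∃ i j, N i j ≠ 0 := by
    by_contra hc
    push Not at hc
    have h0 : N = 0 := Matrix.ext hc
    have := congrArg (fun X => ((γ⁻¹ : GL (Fin 2) F) : Matrix (Fin 2) (Fin 2) F) * X * (γ : Matrix (Fin 2) (Fin 2) F)) h0
    simp only [N, ← Matrix.mul_assoc, Units.inv_mul, Matrix.one_mul, mul_zero, zero_mul] at this
    rw [Matrix.mul_assoc, Units.inv_mul, Matrix.mul_one] at this
    simpa using congrFun (congrFun this 0) 1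
  have hent : ∀ a ∈ A, a * N i j ∈ S := fun a ha => by
    have := hT a ha i j
    rw [hTN] at this
    rw [show a * N i j = (1 + a • N) i j - (1 : Matrix (Fin 2) (Fin 2) F) i j by simp]
    refine sub_mem this ?_
    rw [Matrix.one_apply]
    split_ifs <;> simp [one_mem, zero_mem]
  have htop : S = ⊤ := hgen S fun a ha => by
    rw [← mul_div_mul_right a a₁ hij]
    exact S.div_mem (hent a ha) (hent a₁ h1)
  have hbij : Function.Bijective f := ⟨f.injective, fun y => by
    have : y ∈ S := htop ▸ trivial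
    exact this⟩
  refine Subgroup.eq_top_of_card_eq _ (le_antisymm (Subgroup.card_le_card_group _) ?_)
  calc Nat.card (Matrix.ProjectiveSpecialLinearGroup (Fin 2) F)
      = Nat.card (Matrix.ProjectiveSpecialLinearGroup (Fin 2) K) := by
        have hF' := Classical.SmallIso.natCard_pslTwo F
        have hK' := Classical.SmallIso.natCard_pslTwo K
        rw [Classical.GL2.natCard_SL_two, ← Fintype.card_of_bijective hbij] at hF'
        rw [Classical.GL2.natCard_SL_two, ← hF'] at hK'
        exact (Nat.eq_of_mul_eq_mul_left (Nat.gcd_pos_of_pos_left _ two_pos) hK').symm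
    _ = Nat.card ((Matrix.ProjectiveSpecialLinearGroup.toPGL (n := Fin 2) (R := K)).range.map
        (DicksonField.pglMap f)) := by
        rw [Subgroup.card_map_of_injective (DicksonField.pglMap_injective f)]
        exact Nat.card_congr (MonoidHom.ofInjective Matrix.ProjectiveSpecialLinearGroup.toPGL_injective).toEquiv
    _ ≤ _ := by
        haveI : Finite (Matrix.ProjGenLinGroup (Fin 2) F) :=
          Finite.of_surjective _ Matrix.ProjGenLinGroup.mk_surjective
        refine (Subgroup.card_le_of_le hlo).trans (le_of_eq ?_)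
        rw [Subgroup.card_map_of_injective (MulEquiv.injective _),
          Subgroup.card_map_of_injective Matrix.ProjectiveSpecialLinearGroup.toPGL_injective]

/-- a torus element that is not rational -/
theorem exists_diag (G : Subgroup SL(2, F)) (hG : G.map (KleinPSL.pi F) = ⊤) (F₀ : Subfield F)
    (hne : F₀ ≠ ⊤) : ∃ X ∈ G, (X : Matrix (Fin 2) (Fin 2) F) 1 0 = 0 ∧
      (X : Matrix (Fin 2) (Fin 2) F) 0 0 * (X : Matrix (Fin 2) (Fin 2) F) 0 0 ∉ F₀ := by
  obtain ⟨l, hl⟩ : ∃ l : F, l * l ∉ F₀ := by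
    by_contra hc
    push Not at hc
    refine hne (eq_top_iff.2 fun x _ => ?_)
    by_cases h2 : (2 : F) = 0
    · haveI : CharP F 2 := CharTwo.of_one_ne_zero_of_two_eq_zero one_ne_zero h2
      obtain ⟨t, rfl⟩ := FiniteField.isSquare_of_char_two (ringChar.eq F 2) x
      exact hc t
    · have h2' : (2 : F) ∈ F₀ := ofNat_mem F₀ 2
      rw [show x = ((x + 1) * (x + 1) - x * x - 1) / 2 by field_simp; ring]
      exact F₀.div_mem (sub_mem (sub_mem (hc _) (hc _)) (one_mem _)) h2'
  have hl0 : l ≠ 0 := fun e => hl (by rw [e, mul_zero]; exact zero_mem _)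
  let D : SL(2, F) := ⟨!![l, 0; 0, l⁻¹], by simp [det_fin_two, hl0]⟩
  obtain ⟨X, hX, hXD⟩ : KleinPSL.pi F D ∈ G.map (KleinPSL.pi F) := hG ▸ trivial
  refine ⟨X, hX, ?_⟩
  rcases KleinPSL.pi_eq_iff.1 hXD with e | e <;> subst e
  · simp [D, hl]
  · show (-(D : Matrix (Fin 2) (Fin 2) F)) 1 0 = 0 ∧
      (-(D : Matrix (Fin 2) (Fin 2) F)) 0 0 * (-(D : Matrix (Fin 2) (Fin 2) F)) 0 0 ∉ F₀
    simp [D, hl]

end Cfsg.Agent.Forms.DicksonUni
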