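import Mathlib
import Cfsg.Prelude.Def_ClassicalGeometry

/-!
# The stabiliser in `GL n` of the standard `k`-dimensional subspace
-/

namespace Cfsg.Agent.Forms.ParabolicGL

open Matrix

variable {F : Type*} [Field F] {n : ℕ}

/-- the span of the first `k` standard basis vectors, as a set -/
def stdSet (F : Type*) [Field F] (n k : ℕ) : Set (Fin n → F) :=
  {v | ∀ i : Fin n, k ≤ (i : ℕ) → v i = 0}

/-- the stabiliser of `stdSet` -/
def parab (F : Type*) [Field F] (n k : ℕ) : Subgroup (GL (Fin n) F) :=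
  Cfsg.stabilizing (Cfsg.glToMat (Fin n) F) (stdSet F n k)

theorem mulVec_mem {A : Matrix (Fin n) (Fin n) F} {k : ℕ}
    (h : ∀ i j : Fin n, k ≤ (i : ℕ) → (j : ℕ) < k → A i j = 0) {v : Fin n → F}
    (hv : v ∈ stdSet F n k) : A *ᵥ v ∈ stdSet F n k := by
  intro i hi
  simp only [mulVec, dotProduct]
  refine Finset.sum_eq_zero fun j _ => ?_
  rcases Nat.lt_or_ge (j : ℕ) k with hj | hj
  · rw [h i j hi hj, zero_mul]
  · rw [hv j hj, mul_zero]

theorem inv_apply_eq_zero {g : GL (Fin n) F} {k : ℕ}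
    (h : ∀ i j : Fin n, k ≤ (i : ℕ) → (j : ℕ) < k → (g : Matrix (Fin n) (Fin n) F) i j = 0)
    (i j : Fin n) (hi : k ≤ (i : ℕ)) (hj : (j : ℕ) < k) :
    ((g⁻¹ : GL (Fin n) F) : Matrix (Fin n) (Fin n) F) i j = 0 := by
  let b : Fin n → ℕ := fun i => if (i : ℕ) < k then 0 else 1
  have hb : BlockTriangular (g : Matrix (Fin n) (Fin n) F) b := by
    intro p q hpq
    simp only [b] at hpq
    apply h
    · by_contra hp
      rw [not_le] at hp
      rw [if_pos hp] at hpq
      exact absurd hpq (Nat.not_lt_zero _)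
    · by_contra hq
      rw [if_neg hq] at hpq
      split_ifs at hpq <;> omega
  let : Invertible (g : Matrix (Fin n) (Fin n) F) := g.invertible
  rw [Matrix.coe_units_inv]
  apply blockTriangular_inv_of_blockTriangular hb
  simp only [b, if_pos hj, if_neg (not_lt.2 hi)]
  omega

theorem mem_parab_iff {k : ℕ} (g : GL (Fin n) F) : g ∈ parab F n k ↔
    ∀ i j : Fin n, k ≤ (i : ℕ) → (j : ℕ) < k → (g : Matrix (Fin n) (Fin n) F) i j = 0 := by
  constructor
  · intro hg i j hi hj
    have hs : (Pi.single j (1 : F)) ∈ stdSet F n k := by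
      intro l hl
      rw [Pi.single_eq_of_ne]
      intro hlj; subst hlj; omega
    have := (hg (Pi.single j 1)).1 hs i hi
    simpa [Cfsg.glToMat] using this
  · intro h v
    refine ⟨fun hv => mulVec_mem h hv, fun hv => ?_⟩
    have := mulVec_mem (inv_apply_eq_zero h) hv
    rw [mulVec_mulVec] at this
    simpa [Cfsg.glToMat] using this

section card

/-- block coordinates -/
def blockEquiv {k : ℕ} (hk : k ≤ n) : Fin k ⊕ Fin (n - k) ≃ Fin n :=
  finSumFinEquiv.trans (finCongr (Nat.add_sub_of_le hk))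

theorem blockEquiv_inl {k : ℕ} (hk : k ≤ n) (a : Fin k) :
    ((blockEquiv hk (Sum.inl a) : Fin n) : ℕ) = a := by
  simp [blockEquiv]

theorem blockEquiv_inr {k : ℕ} (hk : k ≤ n) (a : Fin (n - k)) :
    ((blockEquiv hk (Sum.inr a) : Fin n) : ℕ) = k + a := by
  simp [blockEquiv]

/-- the element with given blocks -/
noncomputable def mkParab {k : ℕ} (hk : k ≤ n)
    (x : GL (Fin k) F × GL (Fin (n - k)) F × Matrix (Fin k) (Fin (n - k)) F) :
    parab F n k := by
  refine ⟨(IsUnit.unit (a := (fromBlocks (x.1 : Matrix (Fin k) (Fin k) F) x.2.2 0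
    (x.2.1 : Matrix (Fin (n - k)) (Fin (n - k)) F)).submatrix (blockEquiv hk).symm (blockEquiv hk).symm) ?_), ?_⟩
  · rw [isUnit_submatrix_equiv, isUnit_fromBlocks_zero₂₁]
    exact ⟨Units.isUnit _, Units.isUnit _⟩
  · rw [mem_parab_iff]
    intro i j hi hj
    obtain ⟨a, rfl⟩ := (blockEquiv hk).surjective i
    obtain ⟨c, rfl⟩ := (blockEquiv hk).surjective j
    rcases a with a | a
    · rw [blockEquiv_inl] at hi; omega
    rcases c with c | c
    · simp [IsUnit.unit_spec]
    · rw [blockEquiv_inr] at hj; omega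

theorem mkParab_coe {k : ℕ} (hk : k ≤ n)
    (x : GL (Fin k) F × GL (Fin (n - k)) F × Matrix (Fin k) (Fin (n - k)) F) :
    ((mkParab hk x : GL (Fin n) F) : Matrix (Fin n) (Fin n) F) =
      (fromBlocks (x.1 : Matrix (Fin k) (Fin k) F) x.2.2 0
        (x.2.1 : Matrix (Fin (n - k)) (Fin (n - k)) F)).submatrix (blockEquiv hk).symm
          (blockEquiv hk).symm := rfl

theorem mkParab_bijective {k : ℕ} (hk : k ≤ n) :
    Function.Bijective (mkParab (F := F) hk) := by
  constructor
  · intro x y hxy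
    have h := congrArg (fun g : parab F n k => ((g : GL (Fin n) F) : Matrix (Fin n) (Fin n) F)) hxy
    simp only [mkParab_coe] at h
    have h' := congrArg (fun M : Matrix (Fin n) (Fin n) F =>
      M.submatrix (blockEquiv hk) (blockEquiv hk)) h
    simp only [submatrix_submatrix, Equiv.symm_comp_self, submatrix_id_id] at h'
    obtain ⟨h1, h2, -, h4⟩ := fromBlocks_inj.1 h'
    exact Prod.ext (Units.ext h1) (Prod.ext (Units.ext h4) h2)
  · rintro ⟨g, hg⟩
    set M := (g : Matrix (Fin n) (Fin n) F).submatrix (blockEquiv hk) (blockEquiv hk) with hM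
    have h21 : M.toBlocks₂₁ = 0 := by
      ext a c
      refine (mem_parab_iff g).1 hg _ _ ?_ ?_
      · rw [blockEquiv_inr]; omega
      · rw [blockEquiv_inl]; exact c.isLt
    have hu : IsUnit M := (isUnit_submatrix_equiv _ _).2 (Units.isUnit g)
    rw [← fromBlocks_toBlocks M, h21, isUnit_fromBlocks_zero₂₁] at hu
    refine ⟨(hu.1.unit, hu.2.unit, M.toBlocks₁₂), Subtype.ext (Units.ext ?_)⟩
    rw [mkParab_coe]
    simp only [IsUnit.unit_spec]
    rw [← h21, fromBlocks_toBlocks, hM]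
    simp

theorem natCard_parab [Fintype F] {k : ℕ} (hk : k ≤ n) :
    Nat.card (parab F n k) = Fintype.card F ^ (k * (n - k)) *
      (∏ i : Fin k, (Fintype.card F ^ k - Fintype.card F ^ (i : ℕ))) *
      ∏ i : Fin (n - k), (Fintype.card F ^ (n - k) - Fintype.card F ^ (i : ℕ)) := by
  rw [← Nat.card_congr (Equiv.ofBijective _ (mkParab_bijective (F := F) hk)), Nat.card_prod,
    Nat.card_prod, Matrix.card_GL_field, Matrix.card_GL_field]
  have : Nat.card (Matrix (Fin k) (Fin (n - k)) F) = Fintype.card F ^ (k * (n - k)) := by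
    show Nat.card (Fin k → Fin (n - k) → F) = _
    rw [Nat.card_fun, Nat.card_fun, Nat.card_eq_fintype_card (α := F), ← pow_mul,
      Nat.card_fin, Nat.card_fin, mul_comm]
  rw [this]
  ring

end card

/-! ### Maximality -/

section maximal

/-- `1 + x ⊗ ψ` -/
def vm (x ψ : Fin n → F) : Matrix (Fin n) (Fin n) F := 1 + vecMulVec x ψ

theorem det_vm {x ψ : Fin n → F} (h : ψ ⬝ᵥ x = 0) : (vm x ψ).det = 1 := by
  rw [vm, vecMulVec_eq Unit, det_one_add_replicateCol_mul_replicateRow, h, add_zero]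

/-- `1 + x ⊗ ψ` as a unit -/
noncomputable def vmU {x ψ : Fin n → F} (h : ψ ⬝ᵥ x = 0) : GL (Fin n) F :=
  ((isUnit_iff_isUnit_det _).2 (by rw [det_vm h]; exact isUnit_one)).unit

@[simp] theorem coe_vmU {x ψ : Fin n → F} (h : ψ ⬝ᵥ x = 0) :
    (vmU h : Matrix (Fin n) (Fin n) F) = vm x ψ := rfl

theorem vm_mul {x ψ : Fin n → F} (A : Matrix (Fin n) (Fin n) F) :
    vm x ψ * A = A + vecMulVec x (ψ ᵥ* A) := by
  rw [vm, add_mul, one_mul, vecMulVec_mul]

theorem mul_vm {x ψ : Fin n → F} (A : Matrix (Fin n) (Fin n) F) :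
    A * vm x ψ = A + vecMulVec (A *ᵥ x) ψ := by
  rw [vm, mul_add, mul_one, mul_vecMulVec]

theorem conj_vmU {x ψ x' ψ' : Fin n → F} (h : ψ ⬝ᵥ x = 0) (h' : ψ' ⬝ᵥ x' = 0) (p : GL (Fin n) F)
    (hx : (p : Matrix (Fin n) (Fin n) F) *ᵥ x = x')
    (hψ : ψ' ᵥ* (p : Matrix (Fin n) (Fin n) F) = ψ) :
    p * vmU h * p⁻¹ = vmU h' := by
  rw [mul_inv_eq_iff_eq_mul]
  ext1
  simp only [Units.val_mul, coe_vmU]
  rw [mul_vm, vm_mul, hx, hψ]

variable {k : ℕ}

/-- any transvection pair is conjugate to a standard one, by an element of the stabilisers that fit -/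
theorem exists_conj_pair_gen {a b : Fin n} (hab : a ≠ b) {x ψ : Fin n → F}
    (hxa : x a ≠ 0) (hψb : ψ b ≠ 0) (h : ψ ⬝ᵥ x = 0) (h0 : Pi.single b (1 : F) ⬝ᵥ Pi.single a 1 = 0) :
    ∃ p : GL (Fin n) F, p * vmU h0 * p⁻¹ = vmU h ∧
      ∀ k : ℕ, k ≤ (a : ℕ) → (b : ℕ) < k → p ∈ parab F n k := by
  let M : Matrix (Fin n) (Fin n) F := (1 : Matrix (Fin n) (Fin n) F).updateCol a x
  have hMdet : M.det = x a := by
    simp only [M]
    rw [← cramer_apply, cramer_one]
    rfl
  let ψ' : Fin n → F := ψ ᵥ* M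
  have hMcol : ∀ c, c ≠ a → M *ᵥ Pi.single c 1 = Pi.single c 1 := by
    intro c hc
    ext i
    simp [M, mulVec_single_one, updateCol_ne hc, one_apply, Pi.single_apply]
  have hMa : M *ᵥ Pi.single a 1 = x := by
    ext i; simp [M, mulVec_single_one]
  have hψ'a : ψ' a = 0 := by
    have : ψ' a = ψ ⬝ᵥ (M *ᵥ Pi.single a 1) := by simp [ψ', vecMul, mulVec_single_one, dotProduct]
    rw [this, hMa, h]
  have hψ'b : ψ' b = ψ b := by
    have : ψ' b = ψ ⬝ᵥ (M *ᵥ Pi.single b 1) := by simp [ψ', vecMul, mulVec_single_one, dotProduct]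
    rw [this, hMcol b hab.symm]
    simp
  let N : Matrix (Fin n) (Fin n) F := (1 : Matrix (Fin n) (Fin n) F).updateRow b ψ'
  have hNdet : N.det = ψ' b := by
    simp only [N]
    rw [← det_transpose, ← updateCol_transpose, transpose_one, ← cramer_apply, cramer_one]
    rfl
  have hMu : IsUnit M := (isUnit_iff_isUnit_det M).2 (by rw [hMdet]; exact Ne.isUnit hxa)
  have hNu : IsUnit N := (isUnit_iff_isUnit_det N).2 (by rw [hNdet, hψ'b]; exact Ne.isUnit hψb)
  have hMp : ∀ k : ℕ, k ≤ (a : ℕ) → (b : ℕ) < k → hMu.unit ∈ parab F n k := by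
    intro k ha hb
    rw [mem_parab_iff]
    intro i j hi hj
    have : j ≠ a := by intro e; rw [e] at hj; omega
    simp only [IsUnit.unit_spec, M, updateCol_ne this]
    exact one_apply_ne (by intro e; rw [e] at hi; omega)
  have hNp : ∀ k : ℕ, k ≤ (a : ℕ) → (b : ℕ) < k → hNu.unit ∈ parab F n k := by
    intro k ha hb
    rw [mem_parab_iff]
    intro i j hi hj
    have : i ≠ b := by intro e; rw [e] at hi; omega
    simp only [IsUnit.unit_spec, N, updateRow_ne this]
    exact one_apply_ne (by intro e; rw [e] at hi; omega)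
  have hNa : N *ᵥ Pi.single a 1 = Pi.single a 1 := by
    ext i
    rcases eq_or_ne i b with rfl | hi
    · simp [N, mulVec_single_one, hψ'a, hab.symm]
    · simp [N, mulVec_single_one, updateRow_ne hi, one_apply, Pi.single_apply]
  refine ⟨hMu.unit * hNu.unit⁻¹, ?_, fun k ha hb =>
    Subgroup.mul_mem _ (hMp k ha hb) (Subgroup.inv_mem _ (hNp k ha hb))⟩
  have hNinva : ((hNu.unit⁻¹ : GL (Fin n) F) : Matrix (Fin n) (Fin n) F) *ᵥ Pi.single a 1
      = Pi.single a 1 := by
    have h1 : ((hNu.unit⁻¹ : GL (Fin n) F) : Matrix (Fin n) (Fin n) F) * N = 1 := by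
      conv_lhs => arg 2; rw [← hNu.unit_spec]
      exact Units.inv_mul _
    conv_lhs => rw [← hNa, mulVec_mulVec, h1, one_mulVec]
  apply conj_vmU
  · rw [Units.val_mul, ← mulVec_mulVec, hNinva, hMu.unit_spec, hMa]
  · rw [Units.val_mul, ← vecMul_vecMul, hMu.unit_spec]
    show ψ' ᵥ* _ = _
    have h2 : Pi.single b (1 : F) ᵥ* N = ψ' := by
      ext i; simp [N, single_one_vecMul]
    rw [← h2, vecMul_vecMul]
    conv_lhs => arg 2; arg 1; rw [← hNu.unit_spec]
    rw [Units.mul_inv, vecMul_one]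

/-- elements of the stabiliser move a standard pair to any pair of the same kind -/
theorem exists_conj_pair {a b : Fin n} (ha : k ≤ (a : ℕ)) (hb : (b : ℕ) < k) {x ψ : Fin n → F}
    (hxa : x a ≠ 0) (hψb : ψ b ≠ 0) (h : ψ ⬝ᵥ x = 0) (h0 : Pi.single b (1 : F) ⬝ᵥ Pi.single a 1 = 0) :
    ∃ p ∈ parab F n k, p * vmU h0 * p⁻¹ = vmU h := by
  have hab : a ≠ b := by intro e; rw [e] at ha; omega
  obtain ⟨p, he, hp⟩ := exists_conj_pair_gen hab hxa hψb h h0
  exact ⟨p, hp k ha hb, he⟩

theorem vm_mem_iff {H : Subgroup (GL (Fin n) F)} (hH : parab F n k ≤ H) {a b : Fin n}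
    (ha : k ≤ (a : ℕ)) (hb : (b : ℕ) < k) {x ψ : Fin n → F}
    (hxa : x a ≠ 0) (hψb : ψ b ≠ 0) (h : ψ ⬝ᵥ x = 0)
    (h0 : Pi.single b (1 : F) ⬝ᵥ Pi.single a 1 = 0) :
    vmU h ∈ H ↔ vmU h0 ∈ H := by
  obtain ⟨p, hp, e⟩ := exists_conj_pair ha hb hxa hψb h h0
  rw [← e]
  constructor
  · intro hm
    have := H.mul_mem (H.mul_mem (H.inv_mem (hH hp)) hm) (hH hp)
    simpa [mul_assoc] using this
  · intro hm
    exact H.mul_mem (H.mul_mem (hH hp) hm) (H.inv_mem (hH hp))

theorem exists_vm_mem {H : Subgroup (GL (Fin n) F)} (hH : parab F n k ≤ H) {g : GL (Fin n) F}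
    (hg : g ∈ H) (hgP : g ∉ parab F n k) :
    ∃ (a b : Fin n) (_ : k ≤ (a : ℕ)) (_ : (b : ℕ) < k)
      (h0 : Pi.single b (1 : F) ⬝ᵥ Pi.single a 1 = 0), vmU h0 ∈ H := by
  rw [mem_parab_iff] at hgP
  push Not at hgP
  obtain ⟨i, j, hi, hj, hij⟩ := hgP
  set G := (g : Matrix (Fin n) (Fin n) F) with hG
  set I := ((g⁻¹ : GL (Fin n) F) : Matrix (Fin n) (Fin n) F) with hI
  have hIG : I * G = 1 := Units.inv_mul g
  have hGI : G * I = 1 := Units.mul_inv g
  obtain ⟨m, hmj, hmne⟩ : ∃ m, m ≠ j ∧ I m j ≠ 0 := by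
    by_contra hne
    push Not at hne
    have h1 : (G * I) i j = G i j * I j j := by
      rw [mul_apply]
      exact Finset.sum_eq_single j (fun l _ hl => by rw [hne l hl, mul_zero]) (by simp)
    have h2 : (G * I) j j = G j j * I j j := by
      rw [mul_apply]
      exact Finset.sum_eq_single j (fun l _ hl => by rw [hne l hl, mul_zero]) (by simp)
    have hij' : i ≠ j := by intro e; rw [e] at hi; omega
    rw [hGI, one_apply_ne hij'] at h1
    rw [hGI, one_apply_eq] at h2
    rcases mul_eq_zero.1 h1.symm with h3 | h3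
    · exact hij h3
    · rw [h3, mul_zero] at h2; exact one_ne_zero h2
  have hu : Pi.single m (1 : F) ⬝ᵥ Pi.single j 1 = 0 := by simp [hmj.symm]
  have hE : vmU hu ∈ parab F n k := by
    rw [mem_parab_iff]
    intro p q hp hq
    have hpq : p ≠ q := by intro e; rw [e] at hp; omega
    have hpj : p ≠ j := by intro e; rw [e] at hp; omega
    simp [vm, vecMulVec_apply, one_apply_ne hpq, hpj]
  have hxψ : I m ⬝ᵥ (G *ᵥ Pi.single j 1) = 0 := by
    have : I m ⬝ᵥ (G *ᵥ Pi.single j 1) = (I * G) m j := by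
      simp [mulVec_single_one, mul_apply, dotProduct]
    rw [this, hIG, one_apply_ne hmj]
  have hc : g * vmU hu * g⁻¹ = vmU hxψ := by
    apply conj_vmU
    · rfl
    · show I m ᵥ* G = _
      ext q
      have : (I m ᵥ* G) q = (I * G) m q := by simp [vecMul, mul_apply, dotProduct]
      rw [this, hIG]
      simp [one_apply, Pi.single_apply, eq_comm]
  have hmem : vmU hxψ ∈ H := hc ▸ H.mul_mem (H.mul_mem hg (hH hE)) (H.inv_mem hg)
  have hij' : i ≠ j := by intro e; rw [e] at hi; omega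
  have h0 : Pi.single j (1 : F) ⬝ᵥ Pi.single i 1 = 0 := by simp [hij']
  refine ⟨i, j, hi, hj, h0, (vm_mem_iff hH hi hj ?_ hmne hxψ h0).1 hmem⟩
  simpa [mulVec_single_one] using hij

theorem transvection_mem {H : Subgroup (GL (Fin n) F)} (hH : parab F n k ≤ H) {g : GL (Fin n) F}
    (hg : g ∈ H) (hgP : g ∉ parab F n k) {i j : Fin n} (hij : i ≠ j) (c : F) :
    ∀ u : GL (Fin n) F, (u : Matrix (Fin n) (Fin n) F) = transvection i j c → u ∈ H := by
  intro u hu
  by_cases hP : k ≤ (i : ℕ) ∧ (j : ℕ) < k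
  · obtain ⟨hi, hj⟩ := hP
    rcases eq_or_ne c 0 with rfl | hc
    · have : u = 1 := Units.ext (by simp [hu])
      rw [this]; exact H.one_mem
    obtain ⟨a, b, ha, hb, h0, hmem⟩ := exists_vm_mem hH hg hgP
    have hai : ∀ {p q : Fin n}, k ≤ (p : ℕ) → (q : ℕ) < k → p ≠ q := by
      intro p q hp hq e; rw [e] at hp; omega
    let x : Fin n → F := fun l => if l = a ∨ l = i then 1 else 0
    let ψ : Fin n → F := fun l => if l = b ∨ l = j then 1 else 0
    have hxψ : ψ ⬝ᵥ x = 0 := by
      simp only [dotProduct]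
      refine Finset.sum_eq_zero fun l _ => ?_
      by_cases hl : l = b ∨ l = j
      · have hlk : (l : ℕ) < k := by rcases hl with rfl | rfl <;> assumption
        have : ¬ (l = a ∨ l = i) := by rintro (rfl | rfl) <;> omega
        simp [x, this]
      · simp [ψ, hl]
    have hm1 : vmU hxψ ∈ H :=
      (vm_mem_iff hH ha hb (by simp [x]) (by simp [ψ]) hxψ h0).2 hmem
    have h1 : Pi.single j (1 : F) ⬝ᵥ Pi.single i 1 = 0 := by simp [hij]
    have hm2 : vmU h1 ∈ H := (vm_mem_iff hH hi hj (by simp [x]) (by simp [ψ]) hxψ h1).1 hm1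
    have h2 : Pi.single j (1 : F) ⬝ᵥ Pi.single i c = 0 := by simp [hij]
    have hm3 : vmU h2 ∈ H := (vm_mem_iff hH hi hj (by simp [hc]) (by simp) h2 h1).2 hm2
    have : u = vmU h2 := by
      ext p q
      rw [hu, coe_vmU]
      simp only [transvection, vm, Matrix.add_apply, vecMulVec_apply, Matrix.single_apply,
        Pi.single_apply]
      rcases eq_or_ne p i with rfl | hp <;> rcases eq_or_ne q j with rfl | hq <;>
        simp_all [Ne.symm]
    rw [this]; exact hm3
  · apply hH
    rw [mem_parab_iff]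
    intro p q hp hq
    rw [hu]
    have hpq : p ≠ q := by intro e; rw [e] at hp; omega
    have : ¬ (i = p ∧ j = q) := by rintro ⟨rfl, rfl⟩; exact hP ⟨hp, hq⟩
    simp [transvection, one_apply_ne hpq, Matrix.single_apply, this]

theorem isCoatom_parab (hk0 : 0 < k) (hkn : k < n) : IsCoatom (parab F n k) := by
  let a : Fin n := ⟨k, hkn⟩
  let b : Fin n := ⟨0, by omega⟩
  have hab : a ≠ b := by simp [a, b, Fin.ext_iff]; omega
  constructor
  · intro h
    have h0 : Pi.single b (1 : F) ⬝ᵥ Pi.single a 1 = 0 := by simp [hab]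
    have := (mem_parab_iff (k := k) (vmU h0)).1 (h ▸ Subgroup.mem_top _) a b (le_refl k) hk0
    simp [vm, vecMulVec_apply, one_apply_ne hab] at this
  · intro H hlt
    obtain ⟨g, hg, hgP⟩ := SetLike.exists_of_lt hlt
    rw [eq_top_iff]
    intro u _
    have key : ∀ v : GL (Fin n) F, (v : Matrix (Fin n) (Fin n) F) = (u : Matrix (Fin n) (Fin n) F) →
        v ∈ H := by
      refine diagonal_transvection_induction_of_det_ne_zero
        (fun M => ∀ v : GL (Fin n) F, (v : Matrix (Fin n) (Fin n) F) = M → v ∈ H) _ ?_ ?_ ?_ ?_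
      · exact ((isUnit_iff_isUnit_det _).1 (Units.isUnit u)).ne_zero
      · intro D _ v hv
        apply hlt.le
        rw [mem_parab_iff]
        intro p q hp hq
        rw [hv, diagonal_apply_ne]
        intro e; rw [e] at hp; omega
      · intro t v hv
        exact transvection_mem hlt.le hg hgP t.hij t.c v (by rw [hv]; rfl)
      · intro A B hA hB ihA ihB v hv
        have hAu : IsUnit A := (isUnit_iff_isUnit_det A).2 (Ne.isUnit hA)
        have hBu : IsUnit B := (isUnit_iff_isUnit_det B).2 (Ne.isUnit hB)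
        have : v = hAu.unit * hBu.unit := Units.ext (by simp [hv])
        rw [this]
        exact H.mul_mem (ihA _ hAu.unit_spec) (ihB _ hBu.unit_spec)
    exact key u rfl

end maximal

/-! ### Complementary dimensions -/

section compl

/-- transpose-inverse followed by reversal of the coordinates -/
noncomputable def revDual (F : Type*) [Field F] (n : ℕ) : GL (Fin n) F ≃* GL (Fin n) F where
  toFun g := ⟨((g⁻¹ : GL (Fin n) F) : Matrix (Fin n) (Fin n) F)ᵀ.submatrix Fin.revPerm Fin.revPerm,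
    (g : Matrix (Fin n) (Fin n) F)ᵀ.submatrix Fin.revPerm Fin.revPerm,
    by rw [submatrix_mul_equiv, ← transpose_mul, Units.mul_inv, transpose_one, submatrix_one_equiv],
    by rw [submatrix_mul_equiv, ← transpose_mul, Units.inv_mul, transpose_one, submatrix_one_equiv]⟩
  invFun g := ⟨((g⁻¹ : GL (Fin n) F) : Matrix (Fin n) (Fin n) F)ᵀ.submatrix Fin.revPerm Fin.revPerm,
    (g : Matrix (Fin n) (Fin n) F)ᵀ.submatrix Fin.revPerm Fin.revPerm,
    by rw [submatrix_mul_equiv, ← transpose_mul, Units.mul_inv, transpose_one, submatrix_one_equiv],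
    by rw [submatrix_mul_equiv, ← transpose_mul, Units.inv_mul, transpose_one, submatrix_one_equiv]⟩
  left_inv g := by
    ext i j
    simp
  right_inv g := by
    ext i j
    simp
  map_mul' g h := by
    ext1
    simp only [_root_.mul_inv_rev, Units.val_mul, transpose_mul, submatrix_mul_equiv]

theorem revDual_mem_iff {k : ℕ} (hk : k ≤ n) (g : GL (Fin n) F) :
    revDual F n g ∈ parab F n (n - k) ↔ g ∈ parab F n k := by
  rw [← (parab F n k).inv_mem_iff, mem_parab_iff, mem_parab_iff]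
  constructor
  · intro h i j hi hj
    have := h (Fin.rev j) (Fin.rev i) (by simp; omega) (by simp; omega)
    simpa [revDual] using this
  · intro h i j hi hj
    have := h (Fin.rev j) (Fin.rev i) (by simp; omega) (by simp; omega)
    simpa [revDual] using this

theorem parab_map_revDual {k : ℕ} (hk : k ≤ n) :
    (parab F n k).map (revDual F n).toMonoidHom = parab F n (n - k) := by
  ext g
  rw [Subgroup.mem_map_equiv]
  conv_rhs => rw [← (revDual F n).apply_symm_apply g, revDual_mem_iff hk]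

theorem k_le_of_maps {k m : ℕ} (hkn : k ≤ n) (hmn : m ≤ n) (g : GL (Fin n) F)
    (h : ∀ i j : Fin n, m ≤ (i : ℕ) → (j : ℕ) < k → (g : Matrix (Fin n) (Fin n) F) i j = 0) :
    k ≤ m := by
  let A : Matrix (Fin m) (Fin k) F := (g : Matrix (Fin n) (Fin n) F).submatrix (Fin.castLE hmn) (Fin.castLE hkn)
  have hinj : Function.Injective A.mulVecLin := by
    rw [injective_iff_map_eq_zero]
    intro v hv
    let w : Fin n → F := fun i => if hi : (i : ℕ) < k then v ⟨i, hi⟩ else 0
    have hw : (g : Matrix (Fin n) (Fin n) F) *ᵥ w = 0 := by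
      funext i
      rcases Nat.lt_or_ge (i : ℕ) m with hi | hi
      · have := congrFun hv ⟨i, hi⟩
        simp only [mulVecLin_apply, mulVec, dotProduct, Pi.zero_apply] at this ⊢
        rw [← this]
        refine (Finset.sum_of_injOn (Fin.castLE hkn) (Fin.castLE_injective hkn).injOn
          (fun x _ => Finset.mem_coe.2 (Finset.mem_univ _)) ?_ ?_).symm
        · intro l _ hl
          have : ¬ (l : ℕ) < k := fun hlk => hl ⟨⟨l, hlk⟩, Finset.mem_coe.2 (Finset.mem_univ _), rfl⟩
          simp [w, this]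
        · intro l _
          simp [A, w]
      · simp only [mulVec, dotProduct, Pi.zero_apply]
        refine Finset.sum_eq_zero fun l _ => ?_
        rcases Nat.lt_or_ge (l : ℕ) k with hl | hl
        · rw [h i l hi hl, zero_mul]
        · simp [w, not_lt.2 hl]
    have hw0 : w = 0 := by
      have := congrArg (((g⁻¹ : GL (Fin n) F) : Matrix (Fin n) (Fin n) F) *ᵥ ·) hw
      simpa [mulVec_mulVec] using this
    funext l
    simpa [w] using congrFun hw0 (Fin.castLE hkn l)
  simpa using LinearMap.finrank_le_finrank_of_injective hinj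

theorem invariant_cases {m : ℕ} (T : Submodule F (Fin n → F))
    (hT : ∀ u ∈ parab F n m, ∀ v ∈ T, (u : Matrix (Fin n) (Fin n) F) *ᵥ v ∈ T) :
    (∀ v ∈ T, v = 0) ∨ (∀ v, v ∈ T ↔ v ∈ stdSet F n m) ∨ (∀ v, v ∈ T) := by
  classical
  have step : ∀ v ∈ T, ∀ b, v b ≠ 0 → ∀ a, a ≠ b → ((a : ℕ) < m ∨ m ≤ (b : ℕ)) →
      Pi.single a (1 : F) ∈ T := by
    intro v hv b hb a hab hcase
    have h0 : Pi.single b (1 : F) ⬝ᵥ Pi.single a 1 = 0 := by simp [hab]
    have hmem : vmU h0 ∈ parab F n m := by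
      rw [mem_parab_iff]
      intro p q hp hq
      have hpq : p ≠ q := by intro e; rw [e] at hp; omega
      have : ¬ (p = a ∧ q = b) := by
        rintro ⟨rfl, rfl⟩; rcases hcase with h | h <;> omega
      simp only [coe_vmU, vm, Matrix.add_apply, one_apply_ne hpq, vecMulVec_apply, Pi.single_apply,
        zero_add]
      by_cases hp' : p = a <;> by_cases hq' : q = b <;> simp_all
    have h1 := T.sub_mem (hT _ hmem v hv) hv
    have h2 : ((vmU h0 : GL (Fin n) F) : Matrix (Fin n) (Fin n) F) *ᵥ v - v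
        = v b • Pi.single a 1 := by
      rw [coe_vmU, vm, add_mulVec, one_mulVec, add_sub_cancel_left, vecMulVec_mulVec]
      simp
    rw [h2] at h1
    exact (T.smul_mem_iff hb).1 h1
  have self : ∀ v ∈ T, ∀ b, v b ≠ 0 →
      (∀ a, a ≠ b → v a ≠ 0 → Pi.single a (1 : F) ∈ T) → Pi.single b (1 : F) ∈ T := by
    intro v hv b hb hall
    have h1 : v - ∑ a ∈ Finset.univ.erase b, v a • Pi.single a (1 : F) = v b • Pi.single b 1 := by
      rw [sub_eq_iff_eq_add, Finset.add_sum_erase _ (fun a => v a • Pi.single a (1 : F))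
        (Finset.mem_univ b)]
      exact pi_eq_sum_univ' v
    have h2 : v - ∑ a ∈ Finset.univ.erase b, v a • Pi.single a (1 : F) ∈ T := by
      refine T.sub_mem hv (T.sum_mem fun a ha => ?_)
      rcases eq_or_ne (v a) 0 with h | h
      · simp [h]
      · exact T.smul_mem _ (hall a (Finset.ne_of_mem_erase ha) h)
    rw [h1] at h2
    exact (T.smul_mem_iff hb).1 h2
  by_cases h1 : ∃ v ∈ T, ∃ b : Fin n, m ≤ (b : ℕ) ∧ v b ≠ 0
  · obtain ⟨v, hv, b, hbm, hb⟩ := h1
    right; right
    have hall : ∀ a, Pi.single a (1 : F) ∈ T := by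
      intro a
      rcases eq_or_ne a b with rfl | hab
      · exact self v hv a hb fun c hc _ => step v hv a hb c hc (Or.inr hbm)
      · exact step v hv b hb a hab (Or.inr hbm)
    intro w
    rw [pi_eq_sum_univ' w]
    exact T.sum_mem fun a _ => T.smul_mem _ (hall a)
  · push Not at h1
    by_cases h2 : ∃ v ∈ T, v ≠ 0
    · obtain ⟨v, hv, hne⟩ := h2
      obtain ⟨b, hb⟩ := Function.ne_iff.1 hne
      have hbm : (b : ℕ) < m := by
        by_contra hc; exact hb (h1 v hv b (not_lt.1 hc))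
      have hall : ∀ a : Fin n, (a : ℕ) < m → Pi.single a (1 : F) ∈ T := by
        intro a ha
        rcases eq_or_ne a b with rfl | hab
        · refine self v hv a hb fun c hc hvc => step v hv a hb c hc (Or.inl ?_)
          by_contra hc'; exact hvc (h1 v hv c (not_lt.1 hc'))
        · exact step v hv b hb a hab (Or.inl ha)
      right; left
      intro w
      refine ⟨fun hw i hi => h1 w hw i hi, fun hw => ?_⟩
      rw [pi_eq_sum_univ' w]
      refine T.sum_mem fun a _ => ?_
      rcases Nat.lt_or_ge (a : ℕ) m with ha | ha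
      · exact T.smul_mem _ (hall a ha)
      · rw [hw a ha, zero_smul]; exact T.zero_mem
    · left; push Not at h2; exact h2

theorem not_conj {k : ℕ} (hk0 : 0 < k) (hkn : k < n) (h2 : 2 * k ≠ n) (g : GL (Fin n) F) :
    (parab F n k).map (MulAut.conj g).toMonoidHom ≠ parab F n (n - k) := by
  intro heq
  let T : Submodule F (Fin n → F) :=
    { carrier := {v | ((g⁻¹ : GL (Fin n) F) : Matrix (Fin n) (Fin n) F) *ᵥ v ∈ stdSet F n k}
      add_mem' := fun {a b} ha hb i hi => by
        show (_ *ᵥ (a + b)) i = 0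
        rw [mulVec_add, Pi.add_apply, ha i hi, hb i hi, add_zero]
      zero_mem' := fun i _ => by simp
      smul_mem' := fun c {a} ha i hi => by
        show (_ *ᵥ (c • a)) i = 0
        rw [mulVec_smul, Pi.smul_apply, ha i hi, smul_zero] }
  have hT : ∀ u ∈ parab F n (n - k), ∀ v ∈ T, (u : Matrix (Fin n) (Fin n) F) *ᵥ v ∈ T := by
    intro u hu v hv
    rw [← heq, Subgroup.mem_map] at hu
    obtain ⟨p, hp, rfl⟩ := hu
    show _ *ᵥ _ ∈ stdSet F n k
    rw [mulVec_mulVec]
    have e : ((g⁻¹ : GL (Fin n) F) : Matrix (Fin n) (Fin n) F) *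
        ((MulAut.conj g).toMonoidHom p : GL (Fin n) F) =
        (p : Matrix (Fin n) (Fin n) F) * ((g⁻¹ : GL (Fin n) F) : Matrix (Fin n) (Fin n) F) := by
      rw [← Units.val_mul, ← Units.val_mul]
      congr 1
      simp [mul_assoc]
    rw [e, ← mulVec_mulVec]
    exact (hp _).1 hv
  have hmem : ∀ j : Fin n, (j : ℕ) < k → (g : Matrix (Fin n) (Fin n) F) *ᵥ Pi.single j 1 ∈ T := by
    intro j hj
    show _ *ᵥ _ ∈ stdSet F n k
    rw [mulVec_mulVec, Units.inv_mul, one_mulVec]
    intro l hl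
    rw [Pi.single_eq_of_ne]; intro e; subst e; omega
  rcases invariant_cases T hT with h | h | h
  · have := h _ (hmem ⟨0, by omega⟩ hk0)
    have h5 : ((g⁻¹ : GL (Fin n) F) : Matrix (Fin n) (Fin n) F) *ᵥ
        ((g : Matrix (Fin n) (Fin n) F) *ᵥ Pi.single ⟨0, by omega⟩ 1) = 0 := by
      rw [this, mulVec_zero]
    rw [mulVec_mulVec, Units.inv_mul, one_mulVec] at h5
    simp at h5
  · have h1 : k ≤ n - k := by
      refine k_le_of_maps hkn.le (Nat.sub_le _ _) g fun i j hi hj => ?_
      have := (h _).1 (hmem j hj) i hi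
      simpa [mulVec_single_one] using this
    have h3 : n - k ≤ k := by
      refine k_le_of_maps (Nat.sub_le _ _) hkn.le g⁻¹ fun i j hi hj => ?_
      have hjT : Pi.single j (1 : F) ∈ T := (h _).2 (by
        intro l hl
        rw [Pi.single_eq_of_ne]; intro e; subst e; omega)
      have := hjT i hi
      simpa [mulVec_single_one] using this
    omega
  · have h1 : n ≤ k := by
      refine k_le_of_maps le_rfl hkn.le g⁻¹ fun i j hi _ => ?_
      have := h (Pi.single j (1 : F)) i hi
      simpa [mulVec_single_one] using this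
    omega

end compl

end Cfsg.Agent.Forms.ParabolicGL
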