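import Cfsg.Agent.Lib.Forms.SimTypes
import Cfsg.Agent.Lib.Forms.Disc

/-!
# The form `Σ xᵢ²` in even dimension
-/

set_option autoImplicit false

namespace Cfsg.Agent.Forms.SimOne

open Matrix Cfsg.Agent.Classical Cfsg.Agent.Forms Cfsg.Agent.Forms.SimForms

variable {K : Type*} [Field K] [Fintype K] {n m : ℕ}

theorem plus_of_square (h2 : (2 : K) ≠ 0) (hm : 1 ≤ m) (hn : n = 2 * m) (hsq : IsSquare ((-1 : K) ^ m)) :
    Nonempty (projQuot (Sim ((1 : GL (Fin n) K) : Matrix (Fin n) (Fin n) K)) ≃* PGO K (Cfsg.quadFormPlus m K)) := by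
  classical
  have hdet : (Disc.gram (Matrix.toBilin' ((1 : GL (Fin n) K) : Matrix (Fin n) (Fin n) K))
      (Pi.basisFun K (Fin n))).det = 1 := by
    have : Disc.gram (Matrix.toBilin' ((1 : GL (Fin n) K) : Matrix (Fin n) (Fin n) K))
        (Pi.basisFun K (Fin n)) = 1 := by
      ext i k
      simp [Disc.gram, Matrix.toBilin'_single]
    rw [this, Matrix.det_one]
  have hlag := Disc.exists_lagrangian_iff h2 (Matrix.toBilin' ((1 : GL (Fin n) K) : Matrix (Fin n) (Fin n) K))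
    (⟨fun u v => by rw [toBilin'_eq, toBilin'_eq, Bf_comm (c := 1) (by simp) u v, one_mul]⟩)
    (nondeg _) (m := m) (by simp [hn]) (Pi.basisFun K (Fin n))
  rw [hdet, mul_one] at hlag
  rcases even_std h2 (1 : GL (Fin n) K) (by simp) hn with ⟨e, he⟩ | ⟨-, ζ, e, hζ, he⟩
  · exact SimTypes.pgo_iso h2 _ (by simp) _ e he
  · exfalso
    obtain ⟨X, hX, hX0⟩ := hlag.2 hsq
    have h3 := QuadClass.finrank_le_of_minus hζ (X.map e.toLinearMap) (by
      rintro _ ⟨x, hx, rfl⟩
      rw [OrthForms.minQ_eq]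
      change Cfsg.quadFormMinus (m - 1) K 1 ζ (e x) = 0
      rw [he, one_mul, Qm_apply, ← toBilin'_eq]
      exact hX0 x hx x hx)
    rw [LinearEquiv.finrank_map_eq, hX] at h3
    omega

end Cfsg.Agent.Forms.SimOne
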