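import Cfsg.Agent.Lib.Forms.SimForms
import Cfsg.Agent.S0245
import Cfsg.Agent.S0287
import Cfsg.Agent.S0288
import Cfsg.Agent.S0304

/-!
# Projective similarity groups: odd dimension in every characteristic, and telling types apart
-/

set_option autoImplicit false
set_option linter.unusedSectionVars false

namespace Cfsg.Agent.Forms.SimProj

open Matrix Cfsg.Agent.Classical Cfsg.Agent.Forms Cfsg.Agent.Forms.SimForms

universe u

variable {K : Type u} [Field K]

section

variable {ι : Type} [Fintype ι] [DecidableEq ι]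

/-- A complement to the scalars is the projective group. -/
theorem projQuot_of_sqrt (S S₁ : Subgroup (GL ι K)) (h1 : S₁ ≤ S)
    (hex : ∀ g ∈ S, ∃ a : Kˣ, Units.map (Matrix.scalar ι : K →+* Matrix ι ι K).toMonoidHom a * g ∈ S₁)
    (hin : ∀ g ∈ S₁, g ∈ Geo.scalars ι K → g = 1) :
    Nonempty (S₁ ≃* projQuot S) := by
  let f : S₁ →* projQuot S := (QuotientGroup.mk' _).comp (Subgroup.inclusion h1)
  refine ⟨MulEquiv.ofBijective f ⟨(injective_iff_map_eq_one f).2 fun g hg => ?_, fun x => ?_⟩⟩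
  · have hg' : Subgroup.inclusion h1 g ∈ (Geo.scalars ι K).subgroupOf S :=
      (QuotientGroup.eq_one_iff _).1 hg
    exact Subtype.ext (hin _ g.2 (Subgroup.mem_subgroupOf.1 hg'))
  · obtain ⟨g, rfl⟩ := QuotientGroup.mk_surjective x
    obtain ⟨a, ha⟩ := hex _ g.2
    refine ⟨⟨_, ha⟩, QuotientGroup.eq.2 ?_⟩
    refine ⟨a⁻¹, ?_⟩
    change _ = ((Units.map (Matrix.scalar ι : K →+* Matrix ι ι K).toMonoidHom a * (g : GL ι K))⁻¹ *
      (g : GL ι K))
    have h2 : (Units.map (Matrix.scalar ι : K →+* Matrix ι ι K).toMonoidHom a⁻¹ : GL ι K) ∈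
        Subgroup.center (GL ι K) :=
      Matrix.GeneralLinearGroup.mem_center_iff_val_mem_range_scalar.2 ⟨((a⁻¹ : Kˣ) : K), rfl⟩
    rw [map_inv] at h2
    rw [map_inv, _root_.mul_inv_rev, mul_assoc, ← Subgroup.mem_center_iff.1 h2 (g : GL ι K), inv_mul_cancel_left]

end

/-! ### Odd dimension in characteristic two -/

variable {m : ℕ}

local notation "Idx" => (Unit ⊕ (Fin m ⊕ Fin m))

/-- The standard symmetric form in odd dimension and characteristic two. -/
def Gm (m : ℕ) (K : Type u) [Field K] :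
    Matrix (Unit ⊕ (Fin m ⊕ Fin m)) (Unit ⊕ (Fin m ⊕ Fin m)) K :=
  Matrix.fromBlocks 1 0 0 (Matrix.J (Fin m) K)

/-- Its bilinear form. -/
def Nf (x y : Idx → K) : K := x ⬝ᵥ (Gm m K *ᵥ y)

theorem Nf_eq (x y : Idx → K) :
    Nf x y = x (Sum.inl ()) * y (Sum.inl ()) + Cfsg.sympForm m K (x ∘ Sum.inr) (y ∘ Sum.inr) := by
  rw [Nf, Gm, Matrix.fromBlocks_mulVec]
  simp [dotProduct, Fintype.sum_sum_type, Cfsg.sympForm]

theorem Gm_injective {x : Idx → K} (h : Gm m K *ᵥ x = 0) : x = 0 := by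
  rw [Gm, Matrix.fromBlocks_mulVec] at h
  funext i
  rcases i with ⟨⟩ | i
  · simpa using congrFun h (Sum.inl ())
  · have h1 : Matrix.J (Fin m) K *ᵥ (x ∘ Sum.inr) = 0 := funext fun j => by
      simpa using congrFun h (Sum.inr j)
    have h2 := congrArg (Matrix.J (Fin m) K *ᵥ ·) h1
    simp only [mulVec_mulVec, Matrix.J_squared, neg_mulVec, one_mulVec, mulVec_zero, neg_eq_zero] at h2
    exact congrFun h2 i

theorem two_std [Fintype K] [CharP K 2] {n : ℕ} (P : GL (Fin n) K)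
    (hP : (P : Matrix (Fin n) (Fin n) K)ᵀ = (P : Matrix (Fin n) (Fin n) K)) (hn : n = 2 * m + 1) :
    ∃ e : (Fin n → K) ≃ₗ[K] (Idx → K),
      ∀ u v, Nf (e u) (e v) = 1 * Bf (P : Matrix (Fin n) (Fin n) K) u v := by
  classical
  set M := (P : Matrix (Fin n) (Fin n) K) with hM
  have hsq : ∀ k : K, ∃ a : K, k = a * a := fun k => FiniteField.isSquare_of_char_two (ringChar.eq K 2) k
  choose sq hsq using hsq
  let s : Fin n → K := fun i => sq (M i i)
  have hdiag : ∀ v, Bf M v v = (s ⬝ᵥ v) * (s ⬝ᵥ v) := by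
    let f : (Fin n → K) →+ K :=
      { toFun := fun v => Bf M v v + (s ⬝ᵥ v) * (s ⬝ᵥ v)
        map_zero' := by simp [Bf]
        map_add' := fun u v => by
          have h := Bf_comm (c := 1) (by rw [hP, one_smul]) u v
          simp only [Bf, mulVec_add, dotProduct_add, add_dotProduct] at h ⊢
          linear_combination h + (u ⬝ᵥ M *ᵥ v + (s ⬝ᵥ u) * (s ⬝ᵥ v)) * CharTwo.two_eq_zero (R := K) }
    have hf : f = 0 := AddMonoidHom.functions_ext _ _ _ fun i a => by
      change Bf M (Pi.single i a) (Pi.single i a) + _ * _ = 0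
      rw [Bf, mulVec_single, dotProduct_single, single_dotProduct]
      simp only [Pi.smul_apply, col_apply, MulOpposite.smul_eq_mul_unop, MulOpposite.unop_op, s]
      linear_combination (a * a) * hsq (M i i) + (a * a * (sq (M i i) * sq (M i i))) * CharTwo.two_eq_zero (R := K)
    intro v
    exact CharTwo.add_eq_zero.1 (DFunLike.congr_fun hf v)
  set w : Fin n → K := ((P⁻¹ : GL (Fin n) K) : Matrix (Fin n) (Fin n) K) *ᵥ s
  have hw : ∀ v, Bf M v w = v ⬝ᵥ s := fun v => by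
    rw [Bf, mulVec_mulVec, hM, Units.mul_inv, one_mulVec]
  set M' : Matrix (Fin n) (Fin n) K := M + vecMulVec s s with hM'
  have hB' : ∀ u v, Matrix.toBilin' M' u v = Bf M u v + (s ⬝ᵥ u) * (s ⬝ᵥ v) := fun u v => by
    rw [toBilin'_eq, Bf, hM', add_mulVec, dotProduct_add, vecMulVec_mulVec, op_smul_eq_smul,
      dotProduct_smul, smul_eq_mul, dotProduct_comm u s, mul_comm (s ⬝ᵥ v)]
    rfl
  have halt : (Matrix.toBilin' M').IsAlt := fun v => by
    rw [hB', hdiag]
    exact CharTwo.add_self_eq_zero _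
  have hker : ∀ u, (∀ v, Matrix.toBilin' M' u v = 0) → u + (s ⬝ᵥ u) • w = 0 := fun u hu =>
    Bf_eq_zero P fun v => by
      have h := hu v
      rw [hB'] at h
      have hw' : w ⬝ᵥ M *ᵥ v = s ⬝ᵥ v := by
        have h3 := Bf_comm (c := 1) (show Mᵀ = (1 : K) • M by rw [hP, one_smul]) v w
        rw [one_mul, hw, dotProduct_comm v s] at h3
        exact h3
      rw [← h, Bf, Bf, add_dotProduct, smul_dotProduct, smul_eq_mul, hw']
  have hsw : s ⬝ᵥ w = 1 := by
    have h1 := hdiag w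
    rw [hw, dotProduct_comm] at h1
    by_contra hne
    have h0 : s ⬝ᵥ w = 0 := by
      rcases mul_eq_zero.1 (show (s ⬝ᵥ w) * (s ⬝ᵥ w - 1) = 0 by linear_combination -h1) with h | h
      · exact h
      · exact absurd (sub_eq_zero.1 h) hne
    have hnd : (Matrix.toBilin' M').SeparatingLeft := fun u hu => by
      have h2 := hker u hu
      have h3 := congrArg (s ⬝ᵥ ·) h2
      simp only [dotProduct_add, dotProduct_smul, h0, smul_zero, add_zero, dotProduct_zero] at h3
      rw [h3, zero_smul, add_zero] at h2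
      exact h2
    obtain ⟨j, hj⟩ := Bases.even_finrank_of_alt (Matrix.toBilin' M') halt
      ⟨hnd, fun v hv => hnd v fun u => by
        rw [← LinearMap.BilinForm.IsAlt.neg_eq halt, hv, neg_zero]⟩
    rw [Module.finrank_fin_fun] at hj
    omega
  let ℓ : (Fin n → K) →ₗ[K] K :=
    { toFun := fun v => s ⬝ᵥ v
      map_add' := fun u v => dotProduct_add s u v
      map_smul' := fun c v => dotProduct_smul c s v }
  have hW : Bases.NondegOn (Matrix.toBilin' M') (LinearMap.ker ℓ) := fun u hu h => by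
    have hu0 : s ⬝ᵥ u = 0 := hu
    refine Bf_eq_zero P fun v => ?_
    have h4 := h (v - (s ⬝ᵥ v) • w) (by
      change s ⬝ᵥ _ = 0
      rw [dotProduct_sub, dotProduct_smul, hsw, smul_eq_mul, mul_one, sub_self])
    rw [hB', hu0, zero_mul, add_zero, Bf, mulVec_sub, mulVec_smul, dotProduct_sub, dotProduct_smul,
      ← Bf, ← Bf, hw, dotProduct_comm u s, hu0, smul_zero, sub_zero] at h4
    exact h4
  obtain ⟨k, a, b, hfam⟩ := Bases.exists_sympFamily (Matrix.toBilin' M') halt (LinearMap.ker ℓ) hW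
  obtain rfl : k = m := by
    have h5 := hfam.finrank_eq
    have h6 := LinearMap.finrank_range_add_finrank_ker ℓ
    have h7 : LinearMap.range ℓ = ⊤ := LinearMap.range_eq_top.2 fun c => ⟨c • w, by
      change s ⬝ᵥ _ = c
      rw [dotProduct_smul, hsw, smul_eq_mul, mul_one]⟩
    rw [h7, finrank_top, Module.finrank_self, Module.finrank_fin_fun] at h6
    omega
  have ha : ∀ i, s ⬝ᵥ a i = 0 := hfam.e_mem
  have hb : ∀ i, s ⬝ᵥ b i = 0 := hfam.f_mem
  have hval : ∀ u v, s ⬝ᵥ u = 0 → Bf M u v = Matrix.toBilin' M' u v := fun u v hu => by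
    rw [hB', hu, zero_mul, add_zero]
  let fam : Unit ⊕ (Fin k ⊕ Fin k) → Fin n → K := Sum.elim (fun _ => w) (Sum.elim b a)
  let L : Matrix (Fin n) (Unit ⊕ (Fin k ⊕ Fin k)) K := Matrix.of fun r i => fam i r
  have hG : Lᵀ * M * L = Gm k K := by
    ext i j
    have hij : (Lᵀ * M * L) i j = Bf M (fam i) (fam j) := by
      rw [Bf, Matrix.dotProduct_mulVec, Matrix.mul_apply']
      rfl
    rw [hij]
    have hb0 : ∀ u, s ⬝ᵥ u = 0 → Bf M u w = 0 := fun u hu => by rw [hw, dotProduct_comm, hu]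
    have hb1 : ∀ u, s ⬝ᵥ u = 0 → Bf M w u = 0 := fun u hu => by
      rw [Bf_comm (c := 1) (by rw [hP, one_smul]) u w, hb0 u hu, mul_zero]
    rcases i with ⟨⟩ | i | i <;> rcases j with ⟨⟩ | j | j <;>
      simp only [fam, Sum.elim_inl, Sum.elim_inr, Gm, Matrix.fromBlocks_apply₁₁, Matrix.fromBlocks_apply₁₂,
        Matrix.fromBlocks_apply₂₁, Matrix.fromBlocks_apply₂₂, Matrix.J, Matrix.zero_apply]
    · rw [hw, dotProduct_comm, hsw]; simp
    · exact hb1 _ (hb j)
    · exact hb1 _ (ha j)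
    · exact hb0 _ (hb i)
    · rw [hval _ _ (hb i), hfam.ff]
    · rw [hval _ _ (hb i), ← LinearMap.BilinForm.IsAlt.neg_eq halt, hfam.ef]
      simp [Matrix.one_apply, eq_comm]
    · exact hb0 _ (ha i)
    · rw [hval _ _ (ha i), hfam.ef]
      simp [Matrix.one_apply]
    · rw [hval _ _ (ha i), hfam.ee]
  have hinj : Function.Injective L.mulVecLin := by
    refine (injective_iff_map_eq_zero _).2 fun x hx => Gm_injective ?_
    rw [← hG, ← mulVec_mulVec, show L *ᵥ x = 0 from hx, mulVec_zero]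
  let eL := LinearEquiv.ofBijective L.mulVecLin ⟨hinj,
    (LinearMap.injective_iff_surjective_of_finrank_eq_finrank (by simp [hn]; omega)).1 hinj⟩
  refine ⟨eL.symm, fun u v => ?_⟩
  obtain ⟨x, rfl⟩ := eL.surjective u
  obtain ⟨y, rfl⟩ := eL.surjective v
  rw [eL.symm_apply_apply, eL.symm_apply_apply, one_mul, Nf, ← hG]
  change _ = (L *ᵥ x) ⬝ᵥ (M *ᵥ (L *ᵥ y))
  rw [← mulVec_mulVec, ← mulVec_mulVec, Matrix.dotProduct_mulVec x Lᵀ, vecMul_transpose]

/-- The symplectic group acting on the complement. -/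
noncomputable def blockHom : Matrix.symplecticGroup (Fin m) K →* GL Idx K :=
  MonoidHom.toHomUnits
    { toFun := fun A => Matrix.fromBlocks 1 0 0 (A : Matrix (Fin m ⊕ Fin m) (Fin m ⊕ Fin m) K)
      map_one' := Matrix.fromBlocks_one
      map_mul' := fun A B => by
        change Matrix.fromBlocks _ _ _ ((A : Matrix (Fin m ⊕ Fin m) (Fin m ⊕ Fin m) K) * _) = _
        rw [Matrix.fromBlocks_multiply]
        simp }

theorem blockHom_mulVec (A : Matrix.symplecticGroup (Fin m) K) (x : Idx → K) :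
    ((blockHom A : GL Idx K) : Matrix Idx Idx K) *ᵥ x =
      Sum.elim (x ∘ Sum.inl) ((A : Matrix (Fin m ⊕ Fin m) (Fin m ⊕ Fin m) K) *ᵥ (x ∘ Sum.inr)) := by
  change Matrix.fromBlocks 1 0 0 _ *ᵥ x = _
  rw [Matrix.fromBlocks_mulVec]
  simp

theorem sp_equiv_Nf [Fintype K] [CharP K 2] (hm : 1 ≤ m) :
    Nonempty (Matrix.symplecticGroup (Fin m) K ≃* projQuot (Geo.similarityGroup (Nf (K := K) (m := m)))) := by
  classical
  have hinj : Function.Injective (blockHom (K := K) (m := m)) := fun A B h => SympStd.sp_ext fun z => by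
    have := congrArg (fun g : GL Idx K => ((g : Matrix Idx Idx K) *ᵥ Sum.elim (0 : Unit → K) z) ∘ Sum.inr) h
    simpa [blockHom_mulVec] using this
  have h1 : (blockHom (K := K) (m := m)).range ≤ Geo.similarityGroup Nf := by
    rintro _ ⟨A, rfl⟩
    refine ⟨1, fun u v => ?_⟩
    rw [Units.val_one, one_mul, blockHom_mulVec, blockHom_mulVec, Nf_eq, Nf_eq, Sum.elim_comp_inr,
      Sum.elim_comp_inr, SympStd.sympForm_mulVec]
    rfl
  obtain ⟨e⟩ := projQuot_of_sqrt (Geo.similarityGroup Nf) _ h1 (by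
    rintro g ⟨c, hc⟩
    obtain ⟨a, ha⟩ : IsSquare (c : K) := FiniteField.isSquare_of_char_two (ringChar.eq K 2) _
    have ha0 : a ≠ 0 := fun h0 => c.ne_zero (by rw [ha, h0, mul_zero])
    refine ⟨(Units.mk0 a ha0)⁻¹, ?_⟩
    set G : GL Idx K := Units.map (Matrix.scalar Idx : K →+* Matrix Idx Idx K).toMonoidHom (Units.mk0 a ha0)⁻¹ * g
    have hG : ∀ x, (G : Matrix Idx Idx K) *ᵥ x = a⁻¹ • ((g : Matrix Idx Idx K) *ᵥ x) := fun x => by
      funext i
      simp [G, ← mulVec_mulVec, Matrix.mulVec_diagonal]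
    have hN : ∀ u v, Nf ((G : Matrix Idx Idx K) *ᵥ u) ((G : Matrix Idx Idx K) *ᵥ v) = Nf u v := fun u v => by
      rw [hG, hG, Nf, mulVec_smul, smul_dotProduct, dotProduct_smul, smul_eq_mul, smul_eq_mul, ← Nf, hc, ha]
      field_simp
    have hx0 : ∀ x, ((G : Matrix Idx Idx K) *ᵥ x) (Sum.inl ()) = x (Sum.inl ()) := fun x => by
      have h := hN x x
      rw [Nf_eq, Nf_eq, SympStd.sympForm_self, SympStd.sympForm_self, add_zero, add_zero] at h
      exact CharTwo.sq_inj.1 (by rw [pow_two, pow_two]; exact h)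
    have he : ((G : Matrix Idx Idx K) *ᵥ Pi.single (Sum.inl ()) 1) ∘ Sum.inr = 0 := by
      by_contra hne
      obtain ⟨z, hz⟩ := Classical.Symplectic.exists_partner hne
      have h := hN (Pi.single (Sum.inl ()) 1)
        (((G⁻¹ : GL Idx K) : Matrix Idx Idx K) *ᵥ Sum.elim (0 : Unit → K) z)
      rw [mulVec_mulVec, Units.mul_inv, one_mulVec, Nf_eq, Nf_eq, hx0, Sum.elim_comp_inr, hz] at h
      have h' := hx0 (((G⁻¹ : GL Idx K) : Matrix Idx Idx K) *ᵥ Sum.elim (0 : Unit → K) z)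
      rw [mulVec_mulVec, Units.mul_inv, one_mulVec, Sum.elim_inl] at h'
      have h0 : (Pi.single (Sum.inl ()) (1 : K) : Idx → K) ∘ Sum.inr = 0 := funext fun i => by simp
      rw [← h', h0] at h
      simp [Cfsg.sympForm] at h
    let A : Matrix (Fin m ⊕ Fin m) (Fin m ⊕ Fin m) K := (G : Matrix Idx Idx K).toBlocks₂₂
    have hblock : (G : Matrix Idx Idx K) = Matrix.fromBlocks 1 0 0 A := by
      rw [← Matrix.fromBlocks_toBlocks (G : Matrix Idx Idx K)]
      congr 1
      · ext ⟨⟩ ⟨⟩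
        have := hx0 (Pi.single (Sum.inl ()) 1)
        simpa [Matrix.toBlocks₁₁] using this
      · ext ⟨⟩ j
        have := hx0 (Pi.single (Sum.inr j) 1)
        simpa [Matrix.toBlocks₁₂] using this
      · ext i ⟨⟩
        have := congrFun he i
        simpa [Matrix.toBlocks₂₁] using this
    have hA : A ∈ Matrix.symplecticGroup (Fin m) K := SympStd.mem_sp_iff.2 fun u v => by
      have h := hN (Sum.elim (0 : Unit → K) u) (Sum.elim (0 : Unit → K) v)
      rw [hblock, Matrix.fromBlocks_mulVec, Matrix.fromBlocks_mulVec, Nf_eq, Nf_eq] at h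
      simpa using h
    exact ⟨⟨A, hA⟩, Units.ext hblock.symm⟩) (by
    rintro _ ⟨A, rfl⟩ ⟨t, ht⟩
    have h := congrArg (fun g : GL Idx K => (g : Matrix Idx Idx K) (Sum.inl ()) (Sum.inl ())) ht
    simp [blockHom] at h
    exact ht.symm.trans (by rw [h, map_one]))
  exact ⟨(MonoidHom.ofInjective hinj).trans e⟩

theorem sp_equiv_pgo [Fintype K] [CharP K 2] :
    Nonempty (Matrix.symplecticGroup (Fin m) K ≃* PGO K (Cfsg.quadFormOdd m K)) := by
  classical
  obtain ⟨e₀⟩ := S0304.result (F := K) m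
  obtain ⟨e⟩ := projQuot_of_sqrt (Geo.quadSimilarityGroup (Cfsg.quadFormOdd m K))
    (Cfsg.isometryGroup K (Cfsg.quadFormOdd m K))
    (fun g hg => ⟨1, fun v => by rw [Units.val_one, one_mul]; exact (QuadStd.mem_isometry_iff _ g).1 hg v⟩)
    (by
      rintro g ⟨c, hc⟩
      obtain ⟨a, ha⟩ : IsSquare (c : K) := FiniteField.isSquare_of_char_two (ringChar.eq K 2) _
      have ha0 : a ≠ 0 := fun h0 => c.ne_zero (by rw [ha, h0, mul_zero])
      refine ⟨(Units.mk0 a ha0)⁻¹, (QuadStd.mem_isometry_iff _ _).2 fun v => ?_⟩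
      rw [Units.val_mul, ← mulVec_mulVec]
      have h1 : ∀ y : Idx → K, ((Units.map (Matrix.scalar Idx : K →+* Matrix Idx Idx K).toMonoidHom
          (Units.mk0 a ha0)⁻¹ : GL Idx K) : Matrix Idx Idx K) *ᵥ y = a⁻¹ • y := fun y => by
        funext i; simp [Matrix.mulVec_diagonal]
      rw [h1, ← OrthForms.oddQ_eq, QuadraticMap.map_smul, OrthForms.oddQ_eq, hc, ha, smul_eq_mul]
      field_simp)
    (by
      rintro _ hg ⟨t, rfl⟩
      have h := (QuadStd.mem_isometry_iff _ _).1 hg (Pi.single (Sum.inl ()) 1)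
      rw [← OrthForms.oddQ_eq] at h
      simp [OrthForms.oddQ_apply, Matrix.mulVec_diagonal, PlusStd.plusQ_apply, Cfsg.quadFormPlus] at h
      rcases h with rfl | rfl
      · exact map_one _
      · rw [show (-1 : Kˣ) = 1 from Units.ext (by simp [CharTwo.neg_eq]), map_one])
  exact ⟨e₀.symm.trans e⟩

/-- In odd dimension there is one form up to similarity, with group `PGO`. -/
theorem odd_main [Fintype K] {n : ℕ} (hm : 1 ≤ m) (hn : n = 2 * m + 1) (P P' : GL (Fin n) K)
    (hP : (P : Matrix (Fin n) (Fin n) K)ᵀ = (P : Matrix (Fin n) (Fin n) K))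
    (hP' : (P' : Matrix (Fin n) (Fin n) K)ᵀ = (P' : Matrix (Fin n) (Fin n) K)) :
    Nonempty (projQuot (Sim (P : Matrix (Fin n) (Fin n) K)) ≃* PGO K (Cfsg.quadFormOdd m K)) ∧
    ∃ (E : GL (Fin n) K) (l : K), l ≠ 0 ∧
      (E : Matrix (Fin n) (Fin n) K)ᵀ * (P' : Matrix (Fin n) (Fin n) K) * (E : Matrix (Fin n) (Fin n) K) =
        l • (P : Matrix (Fin n) (Fin n) K) := by
  by_cases h2 : (2 : K) = 0
  · have : CharP K 2 := CharTwo.of_one_ne_zero_of_two_eq_zero one_ne_zero h2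
    obtain ⟨e, he⟩ := two_std P hP hn
    obtain ⟨e', he'⟩ := two_std P' hP' hn
    obtain ⟨i₁⟩ := projQuot_congr e (Sim (P : Matrix (Fin n) (Fin n) K)) (Geo.similarityGroup Nf)
      (sim_map e _ _ one_ne_zero he)
    obtain ⟨i₂⟩ := sp_equiv_Nf (K := K) hm
    obtain ⟨i₃⟩ := sp_equiv_pgo (K := K) (m := m)
    obtain ⟨E, hE⟩ := exists_congr_of_form (P := (P : Matrix (Fin n) (Fin n) K))
      (P' := (P' : Matrix (Fin n) (Fin n) K)) (e.trans e'.symm) (l := 1) fun u v => by
        rw [← he, ← one_mul (Bf (P' : Matrix (Fin n) (Fin n) K) _ _), ← he', LinearEquiv.trans_apply,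
          LinearEquiv.trans_apply, e'.apply_symm_apply, e'.apply_symm_apply]
    exact ⟨⟨(i₁.trans i₂.symm).trans i₃⟩, E, 1, one_ne_zero, hE⟩
  · obtain ⟨e, l, hl, he⟩ := odd_std h2 P hP hn
    obtain ⟨e', l', hl', he'⟩ := odd_std h2 P' hP' hn
    obtain ⟨i₁⟩ := projQuot_congr e (Sim (P : Matrix (Fin n) (Fin n) K))
      (Geo.quadSimilarityGroup (Cfsg.quadFormOdd m K))
      (fun g => (quadSim_map e _ _ hl he g).trans (sim_eq_quadSim h2 hP g).symm)
    obtain ⟨E, hE⟩ := exists_congr_of_quad h2 hP hP' (e.trans e'.symm) (l := l / l') fun v => by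
      rw [LinearEquiv.trans_apply, div_mul_eq_mul_div, eq_div_iff hl', mul_comm, ← he', e'.apply_symm_apply, he]
    exact ⟨⟨i₁⟩, E, l / l', div_ne_zero hl hl', hE⟩

/-- Symmetric and alternating forms in even dimension give different groups. -/
theorem not_pgsp [Fintype K] (hodd : Odd (Fintype.card K)) {n : ℕ} (hm : 1 ≤ m) (hn : n = 2 * m)
    (P : GL (Fin n) K) (hP : (P : Matrix (Fin n) (Fin n) K)ᵀ = (P : Matrix (Fin n) (Fin n) K)) :
    ¬ Nonempty (projQuot (Sim (P : Matrix (Fin n) (Fin n) K)) ≃* PGSp m K) := by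
  classical
  rintro ⟨e₀⟩
  have h2 := OrthForms.two_ne_zero_of_odd (F := K) hodd
  set q := Fintype.card K
  have hq1 : 1 < q := Fintype.one_lt_card
  have hqq : Nat.Coprime q (q - 1) := Nat.coprime_self_sub_right hq1.le |>.2 (Nat.coprime_one_right q)
  -- the lower bound
  have hlow : q ^ m ^ 2 ∣ Nat.card (PGSp m K) := by
    let j : Matrix.symplecticGroup (Fin m) K →* GSp m K :=
      ((MonoidHom.toHomUnits (Submonoid.subtype _ :
        Matrix.symplecticGroup (Fin m) K →* Matrix (Fin m ⊕ Fin m) (Fin m ⊕ Fin m) K))).codRestrict (GSp m K)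
        fun A => ⟨1, fun u v => by rw [Units.val_one, one_mul]; exact SympStd.sympForm_mulVec A u v⟩
    have hj : Function.Injective j := fun A B h =>
      Subtype.ext (congrArg (fun g : GSp m K => ((g : GL (Fin m ⊕ Fin m) K) : Matrix (Fin m ⊕ Fin m) (Fin m ⊕ Fin m) K)) h :)
    have h3 := Subgroup.card_eq_card_quotient_mul_card_subgroup
      ((Geo.scalars (Fin m ⊕ Fin m) K).subgroupOf (GSp m K))
    have h4 : q ^ m ^ 2 ∣ Nat.card (GSp m K) := by
      refine dvd_trans ?_ (Subgroup.card_dvd_of_injective j hj)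
      rw [S0245.result (F := K) rfl m]
      exact dvd_mul_right _ _
    have h5 : Nat.card ((Geo.scalars (Fin m ⊕ Fin m) K).subgroupOf (GSp m K)) ∣ q - 1 := by
      refine (Subgroup.card_comap_dvd_of_injective _ (GSp m K).subtype Subtype.val_injective).trans ?_
      refine (Subgroup.card_range_dvd _).trans (dvd_of_eq ?_)
      rw [Nat.card_units, Nat.card_eq_fintype_card]
    rw [h3] at h4
    exact (Nat.Coprime.pow_left _ (hqq.coprime_dvd_right h5)).dvd_of_dvd_mul_right h4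
  rw [← Nat.card_congr e₀.toEquiv] at hlow
  -- the upper bound
  have hup : ∀ {ι : Type} [Fintype ι] [DecidableEq ι] (Q : (ι → K) → K) (N : ℕ),
      Nonempty (projQuot (Sim (P : Matrix (Fin n) (Fin n) K)) ≃* PGO K Q) → (∃ v, Q v ≠ 0) →
      Nat.card (Cfsg.isometryGroup K Q) = 2 * q ^ (m * (m - 1)) * N → Nat.Coprime q N → False := by
    intro ι _ _ Q N ⟨e⟩ ⟨v₀, hv₀⟩ hcard hN
    rw [Nat.card_congr e.toEquiv] at hlow
    have h6 := hlow.trans (Subgroup.card_quotient_dvd_card _)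
    let μ : Geo.quadSimilarityGroup Q →* Kˣ :=
      MonoidHom.mk' (fun g => g.2.choose) fun a b => Units.ext (by
        have e0 := (a * b).2.choose_spec v₀
        have e1 : Q (((a : GL ι K) : Matrix ι ι K) *ᵥ (((b : GL ι K) : Matrix ι ι K) *ᵥ v₀)) =
            (((a * b).2.choose : Kˣ) : K) * Q v₀ := by
          rw [mulVec_mulVec]; exact e0
        rw [a.2.choose_spec, b.2.choose_spec, ← mul_assoc] at e1
        exact (mul_right_cancel₀ hv₀ e1).symm)
    have hker : Nat.card μ.ker ∣ Nat.card (Cfsg.isometryGroup K Q) := by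
      refine Subgroup.card_dvd_of_injective (((Geo.quadSimilarityGroup Q).subtype.comp μ.ker.subtype).codRestrict
        (Cfsg.isometryGroup K Q) fun g => (QuadStd.mem_isometry_iff _ _).2 fun v => ?_) fun a b h => ?_
      · have e2 := (g : Geo.quadSimilarityGroup Q).2.choose_spec v
        rw [show (g : Geo.quadSimilarityGroup Q).2.choose = 1 from g.2, Units.val_one, one_mul] at e2
        exact e2
      · exact Subtype.ext (Subtype.ext (congrArg (fun z : Cfsg.isometryGroup K Q => (z : GL ι K)) h))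
    rw [← μ.ker.index_mul_card] at h6
    have h7 : μ.ker.index ∣ q - 1 := by
      rw [Subgroup.index_ker]
      refine (Subgroup.card_subgroup_dvd_card _).trans (dvd_of_eq ?_)
      rw [Nat.card_units, Nat.card_eq_fintype_card]
    have h8 : q ^ m ^ 2 ∣ 2 * q ^ (m * (m - 1)) * N :=
      hcard ▸ ((Nat.Coprime.pow_left _ (hqq.coprime_dvd_right h7)).dvd_of_dvd_mul_left h6).trans hker
    have h9 : q ^ m ^ 2 ∣ q ^ (m * (m - 1)) := by
      refine (Nat.Coprime.pow_left _ (?_ : Nat.Coprime q (2 * N))).dvd_of_dvd_mul_right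
        (by rw [show q ^ (m * (m - 1)) * (2 * N) = 2 * q ^ (m * (m - 1)) * N by ring]; exact h8)
      exact Nat.Coprime.mul_right (Nat.coprime_two_right.2 hodd) hN
    have h10 := (Nat.pow_dvd_pow_iff_le_right hq1).1 h9
    obtain ⟨i, rfl⟩ : ∃ i, m = i + 1 := ⟨m - 1, by omega⟩
    rw [Nat.add_sub_cancel] at h10
    nlinarith
  have hprod : ∀ j, Nat.Coprime q (∏ i ∈ Finset.range j, (q ^ (2 * (i + 1)) - 1)) := fun j =>
    Nat.Coprime.prod_right fun i _ => Nat.Coprime.coprime_dvd_left (dvd_pow_self q (by omega : 2 * (i + 1) ≠ 0))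
      ((Nat.coprime_self_sub_right (Nat.one_le_pow _ _ (by omega))).2 (Nat.coprime_one_right _))
  rcases even_std h2 P hP hn with ⟨e, he⟩ | ⟨-, ζ, e, hζ, he⟩
  · refine hup (Cfsg.quadFormPlus m K) ((q ^ m - 1) * ∏ i ∈ Finset.range (m - 1), (q ^ (2 * (i + 1)) - 1))
      (projQuot_congr e _ _ fun g => (quadSim_map e _ _ one_ne_zero he g).trans (sim_eq_quadSim h2 hP g).symm)
      ⟨Pi.single (Sum.inl ⟨0, hm⟩) 1 + Pi.single (Sum.inr ⟨0, hm⟩) 1, ?_⟩
      (by rw [S0287.result rfl m hm]; ring)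
      (Nat.Coprime.mul_right (Nat.Coprime.coprime_dvd_left (dvd_pow_self q (by omega : m ≠ 0))
        ((Nat.coprime_self_sub_right (Nat.one_le_pow _ _ (by omega))).2 (Nat.coprime_one_right _))) (hprod _))
    simp [Cfsg.quadFormPlus, Pi.single_apply]
  · refine hup (Cfsg.quadFormMinus (m - 1) K 1 ζ) ((q ^ m + 1) * ∏ i ∈ Finset.range (m - 1), (q ^ (2 * (i + 1)) - 1))
      (projQuot_congr e _ _ fun g => (quadSim_map e _ _ one_ne_zero he g).trans (sim_eq_quadSim h2 hP g).symm)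
      ⟨Pi.single (Sum.inr 0) 1, ?_⟩
      (by rw [S0288.result rfl m hm 1 ζ hζ]; ring)
      (Nat.Coprime.mul_right (Nat.Coprime.coprime_dvd_left (dvd_pow_self q (by omega : m ≠ 0))
        (Nat.coprime_self_add_right.2 (Nat.coprime_one_right _))) (hprod _))
    simp [Cfsg.quadFormMinus, Pi.single_apply]

/-! ### Subgroups of cyclic groups -/

theorem range_pow_sup_zpowers {G : Type*} [CommGroup G] [Finite G] [IsCyclic G] (m : ℕ) (z : G)
    (hz : z * z = 1) (hz1 : z ≠ 1) :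
    (powMonoidHom m : G →* G).range ⊔ Subgroup.zpowers z =
      (powMonoidHom (Nat.gcd (2 * m) (Nat.card G) / 2) : G →* G).range ∧
    Nat.gcd (2 * m) (Nat.card G) / 2 ∣ Nat.card G := by
  set N := Nat.card G
  have h2N : 2 ∣ N := by
    have : orderOf z = 2 := orderOf_eq_prime (by rw [pow_two, hz]) hz1
    exact this ▸ orderOf_dvd_natCard z
  set g := Nat.gcd m N
  set d := Nat.gcd (2 * m) N / 2 with hd
  have h2d : 2 * d = Nat.gcd (2 * m) N := Nat.mul_div_cancel' (Nat.dvd_gcd (dvd_mul_right 2 m) h2N)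
  have hdm : d ∣ m := Nat.dvd_of_mul_dvd_mul_left two_pos (h2d ▸ Nat.gcd_dvd_left _ _)
  have hdN : d ∣ N := (dvd_mul_left d 2).trans (h2d ▸ Nat.gcd_dvd_right _ _)
  refine ⟨?_, hdN⟩
  have hmem : ∀ (k : ℕ), k ∣ N → ∀ x : G, x ∈ (powMonoidHom k : G →* G).range ↔ x ^ (N / k) = 1 := by
    intro k hk x
    suffices (powMonoidHom k : G →* G).range = (powMonoidHom (N / k) : G →* G).ker by
      rw [this, MonoidHom.mem_ker, powMonoidHom_apply]
    refine Subgroup.eq_of_le_of_card_ge ?_ ?_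
    · rintro _ ⟨b, rfl⟩
      rw [MonoidHom.mem_ker, powMonoidHom_apply, powMonoidHom_apply, ← pow_mul, Nat.mul_div_cancel' hk,
        pow_card_eq_one']
    · rw [IsCyclic.card_powMonoidHom_ker, IsCyclic.card_powMonoidHom_range, Nat.gcd_eq_right hk,
        Nat.gcd_eq_right (Nat.div_dvd_of_dvd hk)]
  set S := (powMonoidHom m : G →* G).range ⊔ Subgroup.zpowers z
  have hle : S ≤ (powMonoidHom d : G →* G).range := by
    refine sup_le ?_ ((Subgroup.zpowers_le).2 ((hmem d hdN z).2 ?_))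
    · rintro _ ⟨x, rfl⟩
      exact ⟨x ^ (m / d), by simp only [powMonoidHom_apply, ← pow_mul, Nat.div_mul_cancel hdm]⟩
    · obtain ⟨t, ht⟩ : 2 ∣ N / d := Nat.dvd_div_of_mul_dvd (mul_comm 2 d ▸ h2d ▸ Nat.gcd_dvd_right _ _)
      rw [ht, pow_mul, pow_two, hz, one_pow]
  refine Subgroup.eq_of_le_of_card_ge hle ?_
  have hidx : ∀ k : ℕ, k ∣ N → ((powMonoidHom k : G →* G).range).index = k := fun k hk => by
    rw [IsCyclic.index_powMonoidHom_range, Nat.gcd_eq_right hk]
  have hm' : ((powMonoidHom m : G →* G).range).index = g := by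
    rw [IsCyclic.index_powMonoidHom_range, Nat.gcd_comm]
  have h1 : S.index ∣ g := hm' ▸ Subgroup.index_dvd_of_le le_sup_left
  have h2 : d ∣ S.index := hidx d hdN ▸ Subgroup.index_dvd_of_le hle
  have hg2 : g ∣ 2 * d := h2d ▸ Nat.dvd_gcd ((Nat.gcd_dvd_left _ _).trans (dvd_mul_left m 2)) (Nat.gcd_dvd_right _ _)
  obtain ⟨t, ht⟩ := h2
  have hd0 : 0 < d := Nat.pos_of_dvd_of_pos hdN Nat.card_pos
  have ht2 : t ∣ 2 := Nat.dvd_of_mul_dvd_mul_left hd0 (by rw [← ht, mul_comm d 2]; exact h1.trans hg2)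
  have hS : S.index = d := by
    rcases (Nat.dvd_prime Nat.prime_two).1 ht2 with rfl | rfl
    · rw [ht, mul_one]
    exfalso
    have hg : g = 2 * d := Nat.dvd_antisymm hg2 (by rw [← mul_comm d 2, ← ht]; exact h1)
    have heq : (powMonoidHom m : G →* G).range = S := Subgroup.eq_of_le_of_card_ge le_sup_left (by
      have e1 := ((powMonoidHom m : G →* G).range).index_mul_card
      have e2 := S.index_mul_card
      rw [hm', hg, ← e2, ht, mul_comm d 2] at e1
      exact (Nat.eq_of_mul_eq_mul_left (by omega) e1).ge)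
    obtain ⟨y, hy⟩ : z ∈ (powMonoidHom m : G →* G).range :=
      heq ▸ Subgroup.mem_sup_right (Subgroup.mem_zpowers z)
    obtain ⟨s, hs⟩ : g ∣ m := Nat.gcd_dvd_left _ _
    have hzg : z ^ (N / g) = 1 := (hmem g (Nat.gcd_dvd_right _ _) z).1 ⟨y ^ s, by
      rw [powMonoidHom_apply, ← pow_mul, mul_comm, ← hs]; exact hy⟩
    have ho : orderOf z = 2 := orderOf_eq_prime (by rw [pow_two, hz]) hz1
    have h4 : 2 ∣ N / g := ho ▸ orderOf_dvd_of_pow_eq_one hzg
    have h5 : 2 * g ∣ Nat.gcd (2 * m) N := Nat.dvd_gcd (Nat.mul_dvd_mul_left 2 (Nat.gcd_dvd_left _ _))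
      (by rw [mul_comm]; exact Nat.mul_dvd_of_dvd_div (Nat.gcd_dvd_right _ _) h4)
    rw [← h2d, hg] at h5
    have := Nat.le_of_dvd (by omega) h5
    omega
  have e1 := S.index_mul_card
  have e2 := ((powMonoidHom d : G →* G).range).index_mul_card
  rw [hidx d hdN, ← e1, hS] at e2
  exact (Nat.eq_of_mul_eq_mul_left hd0 e2).le

end Cfsg.Agent.Forms.SimProj
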