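import Cfsg.Agent.Lib.Forms.SimTypes
import Cfsg.Agent.Lib.Classical.Symplectic

/-!
# Symmetric forms in even dimension and characteristic two
-/

set_option autoImplicit false
set_option linter.unusedSectionVars false

namespace Cfsg.Agent.Forms.SimTwo

open Matrix Cfsg.Agent.Classical Cfsg.Agent.Forms Cfsg.Agent.Forms.SimForms
open Cfsg.Agent.Forms.SympStd (sympForm_self sympForm_swap mem_sp_iff sympForm_mulVec sp_ext tv tv_mulVec)

universe u

variable {K : Type u} [Field K] [CharP K 2] {n m : ℕ}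

local notation "M" => Matrix (Fin n) (Fin n) K
local notation "W" => (Fin m ⊕ Fin m → K)
local notation "Sp" => Matrix.symplecticGroup (Fin m) K
local notation "Mm" => Matrix (Fin m ⊕ Fin m) (Fin m ⊕ Fin m) K

/-- The symmetric form that is not alternating. -/
def N (w x y : W) : K :=
  Cfsg.sympForm m K x y + Cfsg.sympForm m K x w * Cfsg.sympForm m K y w

theorem symp_symm (x y : W) : Cfsg.sympForm m K y x = Cfsg.sympForm m K x y := by
  rw [sympForm_swap, CharTwo.neg_eq]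

theorem exists_partner {w : W} (hw : w ≠ 0) : ∃ x, Cfsg.sympForm m K x w = 1 := by
  obtain ⟨x, hx⟩ := Symplectic.exists_partner hw
  exact ⟨x, by rw [symp_symm, hx]⟩

theorem not_alt_N {w : W} (hw : w ≠ 0) : ∃ x, N w x x ≠ 0 := by
  obtain ⟨x, hx⟩ := exists_partner hw
  exact ⟨x, by simp [N, sympForm_self, hx]⟩

theorem sum_sq [Fintype K] (P : M) (hP : Pᵀ = P) :
    ∃ s : Fin n → K, ∀ v, Bf P v v = (s ⬝ᵥ v) * (s ⬝ᵥ v) := by
  classical
  have hsq : ∀ k : K, ∃ a : K, k = a * a := fun k => FiniteField.isSquare_of_char_two (ringChar.eq K 2) k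
  choose sq hsq using hsq
  let s : Fin n → K := fun i => sq (P i i)
  let f : (Fin n → K) →+ K :=
    { toFun := fun v => Bf P v v + (s ⬝ᵥ v) * (s ⬝ᵥ v)
      map_zero' := by simp [Bf]
      map_add' := fun u v => by
        have h := Bf_comm (c := 1) (show Pᵀ = (1 : K) • P by rw [hP, one_smul]) u v
        simp only [Bf, mulVec_add, dotProduct_add, add_dotProduct] at h ⊢
        linear_combination h + (u ⬝ᵥ P *ᵥ v + (s ⬝ᵥ u) * (s ⬝ᵥ v)) * CharTwo.two_eq_zero (R := K) }
  have hf : f = 0 := AddMonoidHom.functions_ext _ _ _ fun i a => by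
    change Bf P (Pi.single i a) (Pi.single i a) + _ * _ = 0
    rw [Bf, mulVec_single, dotProduct_single, single_dotProduct]
    simp only [Pi.smul_apply, col_apply, MulOpposite.smul_eq_mul_unop, MulOpposite.unop_op, s]
    linear_combination (a * a) * hsq (P i i) + (a * a * (sq (P i i) * sq (P i i))) * CharTwo.two_eq_zero (R := K)
  exact ⟨s, fun v => CharTwo.add_eq_zero.1 (DFunLike.congr_fun hf v)⟩

theorem classify [Fintype K] (P : GL (Fin n) K) (hP : (P : M)ᵀ = (P : M)) (hn : n = 2 * m) {w₀ : W}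
    (hw₀ : w₀ ≠ 0) :
    (∀ v, Bf (P : M) v v = 0) ∨
    ∃ e : (Fin n → K) ≃ₗ[K] W, ∀ u v, N w₀ (e u) (e v) = Bf (P : M) u v := by
  classical
  obtain ⟨s, hdiag⟩ := sum_sq (P : M) hP
  by_cases hs : s = 0
  · exact Or.inl fun v => by simp [hdiag, hs]
  right
  set M' : M := (P : M) + vecMulVec s s with hM'
  have hB' : ∀ u v, Matrix.toBilin' M' u v = Bf (P : M) u v + (s ⬝ᵥ u) * (s ⬝ᵥ v) := fun u v => by
    rw [toBilin'_eq, Bf, hM', add_mulVec, dotProduct_add, vecMulVec_mulVec, op_smul_eq_smul,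
      dotProduct_smul, smul_eq_mul, dotProduct_comm u s, mul_comm (s ⬝ᵥ v)]
    rfl
  have halt : (Matrix.toBilin' M').IsAlt := fun v => by
    rw [hB', hdiag]
    exact CharTwo.add_self_eq_zero _
  set w : Fin n → K := ((P⁻¹ : GL (Fin n) K) : M) *ᵥ s
  have hw : ∀ v, Bf (P : M) v w = v ⬝ᵥ s := fun v => by
    rw [Bf, mulVec_mulVec, Units.mul_inv, one_mulVec]
  have hw' : ∀ v, Bf (P : M) w v = v ⬝ᵥ s := fun v => by
    rw [Bf_comm (c := 1) (show (P : M)ᵀ = (1 : K) • (P : M) by rw [hP, one_smul]) v w, one_mul, hw]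
  have hsw : s ⬝ᵥ w = 0 := by
    have h1 := hdiag w
    rw [hw, dotProduct_comm] at h1
    by_contra hne
    have h1' : s ⬝ᵥ w = 1 := (mul_left_cancel₀ hne ((mul_one _).trans h1)).symm
    let ℓ : (Fin n → K) →ₗ[K] K :=
      { toFun := fun v => s ⬝ᵥ v
        map_add' := fun u v => dotProduct_add s u v
        map_smul' := fun c v => dotProduct_smul c s v }
    have hW : Bases.NondegOn (Matrix.toBilin' M') (LinearMap.ker ℓ) := fun u hu h => by
      have hu0 : s ⬝ᵥ u = 0 := hu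
      refine Bf_eq_zero P fun v => ?_
      have h4 := h (v - (s ⬝ᵥ v) • w) (by
        change s ⬝ᵥ _ = 0
        rw [dotProduct_sub, dotProduct_smul, h1', smul_eq_mul, mul_one, sub_self])
      rw [hB', hu0, zero_mul, add_zero, Bf, mulVec_sub, mulVec_smul, dotProduct_sub, dotProduct_smul,
        ← Bf, ← Bf, hw, dotProduct_comm u s, hu0, smul_zero, sub_zero] at h4
      exact h4
    obtain ⟨k, a, b, hfam⟩ := Bases.exists_sympFamily (Matrix.toBilin' M') halt (LinearMap.ker ℓ) hW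
    have h5 := hfam.finrank_eq
    have h6 := LinearMap.finrank_range_add_finrank_ker ℓ
    have h7 : LinearMap.range ℓ = ⊤ := LinearMap.range_eq_top.2 fun c => ⟨c • w, by
      change s ⬝ᵥ _ = c
      rw [dotProduct_smul, h1', smul_eq_mul, mul_one]⟩
    rw [h7, finrank_top, Module.finrank_self, Module.finrank_fin_fun] at h6
    omega
  have hnd : M'.det ≠ 0 := by
    refine LinearMap.BilinForm.nondegenerate_toBilin'_iff_det_ne_zero.1 ?_
    have hl : (Matrix.toBilin' M').SeparatingLeft := fun u hu => by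
      have h2 : u + (s ⬝ᵥ u) • w = 0 := Bf_eq_zero P fun v => by
        rw [← hu v, hB', Bf, Bf, add_dotProduct, smul_dotProduct, smul_eq_mul, ← Bf, ← Bf, hw',
          dotProduct_comm v s]
      have h3 := congrArg (s ⬝ᵥ ·) h2
      simp only [dotProduct_add, dotProduct_smul, hsw, smul_zero, add_zero, dotProduct_zero] at h3
      rw [h3, zero_smul, add_zero] at h2
      exact h2
    exact ⟨hl, fun v hv => hl v fun u => by rw [← LinearMap.BilinForm.IsAlt.neg_eq halt, hv, neg_zero]⟩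
  obtain ⟨e₁, he₁⟩ := alt_std (Matrix.GeneralLinearGroup.mkOfDetNeZero M' hnd)
    (fun v => by rw [← toBilin'_eq]; exact halt v) hn
  have hs' : ∀ v, Cfsg.sympForm m K (e₁ v) (e₁ w) = s ⬝ᵥ v := fun v => by
    rw [he₁]
    change Bf M' v w = _
    rw [← toBilin'_eq, hB', hsw, mul_zero, add_zero, hw, dotProduct_comm]
  have hw1 : e₁ w ≠ 0 := fun h => hs (by
    have h2 : w = 0 := e₁.injective (by rw [h, map_zero])
    have h3 := congrArg ((P : M) *ᵥ ·) h2
    simpa only [w, mulVec_mulVec, Units.mul_inv, one_mulVec, mulVec_zero] using h3)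
  obtain ⟨A, hA⟩ := Symplectic.exists_move hw1 hw₀
  have hinj : Function.Injective ((A : Mm).mulVecLin) := fun x y h => by
    have h1 := congrArg (((A⁻¹ : Sp) : Mm) *ᵥ ·) h
    simp only [Matrix.mulVecLin_apply, ← SympStd.mul_mulVec_sp, inv_mul_cancel] at h1
    simpa using h1
  refine ⟨e₁.trans (LinearEquiv.ofBijective _ ⟨hinj, LinearMap.injective_iff_surjective.1 hinj⟩), fun u v => ?_⟩
  change N w₀ ((A : Mm) *ᵥ e₁ u) ((A : Mm) *ᵥ e₁ v) = _
  rw [← hA, N, sympForm_mulVec, sympForm_mulVec, sympForm_mulVec, hs', hs', he₁]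
  change Bf M' u v + _ = _
  rw [← toBilin'_eq, hB', add_assoc, CharTwo.add_self_eq_zero, add_zero]

theorem exists_reps [Fintype K] (hm : 1 ≤ m) (hn : n = 2 * m) {w₀ : W} :
    ∃ (P₁ P₃ : GL (Fin n) K),
      (P₁ : M)ᵀ = (P₁ : M) ∧ (∀ v, Bf (P₁ : M) v v = 0) ∧ (P₃ : M)ᵀ = (P₃ : M) ∧
      ∃ e : (Fin n → K) ≃ₗ[K] W, ∀ u v, N w₀ (e u) (e v) = Bf (P₃ : M) u v := by
  classical
  let σ : Fin m ⊕ Fin m ≃ Fin n := Fintype.equivFinOfCardEq (by simp [hn]; omega)
  have hJT : (Matrix.J (Fin m) K)ᵀ = Matrix.J (Fin m) K := by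
    rw [Matrix.J_transpose]
    ext i j
    exact CharTwo.neg_eq _
  set s : W := Matrix.J (Fin m) K *ᵥ w₀ with hs
  have hsx : ∀ x, s ⬝ᵥ x = Cfsg.sympForm m K x w₀ := fun x => dotProduct_comm _ _
  have hJ : (Matrix.J (Fin m) K).det ≠ 0 := fun h => by
    have h1 := congrArg Matrix.det (Matrix.J_squared (Fin m) K)
    rw [det_mul, h, zero_mul, ← neg_one_smul K (1 : Mm), det_smul, det_one, mul_one] at h1
    exact absurd h1.symm (pow_ne_zero _ (neg_ne_zero.2 one_ne_zero))
  set G : Mm := Matrix.J (Fin m) K + vecMulVec s s with hG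
  have hN : ∀ x y, x ⬝ᵥ (G *ᵥ y) = N w₀ x y := fun x y => by
    rw [hG, add_mulVec, dotProduct_add, vecMulVec_mulVec, op_smul_eq_smul, dotProduct_smul, smul_eq_mul,
      dotProduct_comm x s, hsx, hsx, mul_comm (Cfsg.sympForm m K y w₀)]
    rfl
  have hGd : G.det ≠ 0 := by
    refine ((Matrix.isUnit_iff_isUnit_det _).1 (Matrix.mulVec_injective_iff_isUnit.1 ?_)).ne_zero
    intro x y hxy
    have h0 : G *ᵥ (x - y) = 0 := by rw [mulVec_sub]; exact sub_eq_zero.2 hxy
    have h1 : ∀ z, N w₀ z (x - y) = 0 := fun z => by rw [← hN, h0, dotProduct_zero]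
    set a := Cfsg.sympForm m K (x - y) w₀
    have h2 : x - y + a • w₀ = 0 := by
      refine SympStd.sympB_nondegenerate.1 _ fun z => ?_
      have h3 := h1 z
      rw [map_add, LinearMap.add_apply, map_smul, LinearMap.smul_apply, smul_eq_mul, SympStd.sympB_apply,
        SympStd.sympB_apply, symp_symm z, symp_symm z, mul_comm a]
      exact h3
    have h4 : a = 0 := by
      have := congrArg (fun z => Cfsg.sympForm m K z w₀) h2
      simp only [Symplectic.f_add_left, Symplectic.f_smul_left, sympForm_self, mul_zero, add_zero] at this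
      rw [show Cfsg.sympForm m K (0 : W) w₀ = 0 by simp [Cfsg.sympForm]] at this
      exact this
    rw [h4, zero_smul, add_zero] at h2
    exact sub_eq_zero.1 h2
  let mk : (H : Mm) → H.det ≠ 0 → GL (Fin n) K := fun H h =>
    Matrix.GeneralLinearGroup.mkOfDetNeZero (Matrix.reindex σ σ H) (by rw [det_reindex_self]; exact h)
  have hBf : ∀ (H : Mm) (h : H.det ≠ 0) (u v : Fin n → K),
      Bf (mk H h : M) u v = (u ∘ σ) ⬝ᵥ (H *ᵥ (v ∘ σ)) := fun H h u v => by
    change u ⬝ᵥ (Matrix.reindex σ σ H *ᵥ v) = _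
    rw [Matrix.reindex_apply, Matrix.submatrix_mulVec_equiv, dotProduct_comp_equiv_symm, σ.symm_symm]
  refine ⟨mk _ hJ, mk G hGd, ?_, fun v => ?_, ?_, LinearEquiv.funCongrLeft K K σ, fun u v => ?_⟩
  · change (Matrix.reindex σ σ (Matrix.J (Fin m) K))ᵀ = Matrix.reindex σ σ (Matrix.J (Fin m) K)
    rw [transpose_reindex, hJT]
  · rw [hBf _ hJ]; exact sympForm_self _
  · change (Matrix.reindex σ σ G)ᵀ = Matrix.reindex σ σ G
    rw [transpose_reindex, show Gᵀ = G by rw [hG, transpose_add, hJT, transpose_vecMulVec]]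
  · rw [hBf _ hGd, hN]; rfl

theorem not_congr (P P' E : GL (Fin n) K) {l : K} (hl : l ≠ 0) (hP : ∀ v, Bf (P : M) v v = 0) {x : Fin n → K}
    (hP' : Bf (P' : M) x x ≠ 0) : (E : M)ᵀ * (P' : M) * (E : M) ≠ l • (P : M) := fun h => by
  have h1 := (mat_eq_iff (P' : M) (E : M) (P : M) l).2 h (((E⁻¹ : GL (Fin n) K) : M) *ᵥ x)
    (((E⁻¹ : GL (Fin n) K) : M) *ᵥ x)
  rw [mulVec_mulVec, Units.mul_inv, one_mulVec, hP, mul_zero] at h1
  exact hP' h1

/-- A symplectic matrix as an invertible one. -/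
def spGL : Sp →* GL (Fin m ⊕ Fin m) K :=
  MonoidHom.toHomUnits (Submonoid.subtype _ : Sp →* Mm)

theorem spGL_coe (A : Sp) : ((spGL A : GL (Fin m ⊕ Fin m) K) : Mm) = (A : Mm) := rfl

theorem spGL_injective : Function.Injective (spGL : Sp → GL (Fin m ⊕ Fin m) K) := fun A B h =>
  Subtype.ext (congrArg Units.val h)

theorem scalar_mulVec (a : Kˣ) (y : W) : ((Units.map (Matrix.scalar (Fin m ⊕ Fin m) : K →+* Mm).toMonoidHom a :
    GL (Fin m ⊕ Fin m) K) : Mm) *ᵥ y = (a : K) • y := by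
  funext i; simp [Matrix.mulVec_diagonal]

theorem sp_equiv_gsp [Fintype K] (hm : 1 ≤ m) : Nonempty (Sp ≃* PGSp m K) := by
  classical
  obtain ⟨e⟩ := SimProj.projQuot_of_sqrt (GSp m K) (spGL (K := K) (m := m)).range
    (by rintro _ ⟨A, rfl⟩; exact ⟨1, fun u v => by rw [Units.val_one, one_mul, spGL_coe, sympForm_mulVec]⟩)
    (by
      rintro g ⟨c, hc⟩
      obtain ⟨a, ha⟩ : IsSquare (c : K) := FiniteField.isSquare_of_char_two (ringChar.eq K 2) _
      have ha0 : a ≠ 0 := fun h0 => c.ne_zero (by rw [ha, h0, mul_zero])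
      refine ⟨(Units.mk0 a ha0)⁻¹, ⟨_, mem_sp_iff.2 fun u v => ?_⟩, Units.ext rfl⟩
      change Cfsg.sympForm m K
        ((((Units.map (Matrix.scalar (Fin m ⊕ Fin m) : K →+* Mm).toMonoidHom (Units.mk0 a ha0)⁻¹ :
          GL (Fin m ⊕ Fin m) K) : Mm) * (g : Mm)) *ᵥ u)
        ((((Units.map (Matrix.scalar (Fin m ⊕ Fin m) : K →+* Mm).toMonoidHom (Units.mk0 a ha0)⁻¹ :
          GL (Fin m ⊕ Fin m) K) : Mm) * (g : Mm)) *ᵥ v) = _
      rw [← mulVec_mulVec, ← mulVec_mulVec, scalar_mulVec, scalar_mulVec,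
        Symplectic.f_smul_left, Symplectic.f_smul_right, hc, ha]
      simp only [Units.val_inv_eq_inv_val, Units.val_mk0]
      field_simp)
    (by
      rintro _ ⟨A, rfl⟩ ⟨t, ht⟩
      have hA : ∀ y, (A : Mm) *ᵥ y = (t : K) • y := fun y => by
        rw [← spGL_coe, ← ht]; exact scalar_mulVec t y
      obtain ⟨x, hx⟩ := exists_partner (w := Pi.single (Sum.inl ⟨0, hm⟩) 1) (K := K) (m := m) (by simp)
      have h := sympForm_mulVec A x (Pi.single (Sum.inl ⟨0, hm⟩) 1)
      rw [hA, hA, Symplectic.f_smul_left, Symplectic.f_smul_right, hx, mul_one] at h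
      rw [← ht, Units.val_eq_one.1 (CharTwo.sq_inj.1 (by rw [one_pow, pow_two]; exact h) : (t : K) = 1), map_one])
  exact ⟨(MonoidHom.ofInjective spGL_injective).trans e⟩

theorem tv_eq_iff {w : W} (hw : w ≠ 0) {u : W} : tv u (1 : K) = tv w 1 ↔ u = w := by
  refine ⟨fun h => ?_, fun h => h ▸ rfl⟩
  have hy : ∀ y, Cfsg.sympForm m K y u • u = Cfsg.sympForm m K y w • w := fun y => by
    have h1 := congrArg (fun A : Sp => (A : Mm) *ᵥ y) h
    simpa [tv_mulVec] using h1
  obtain ⟨x, hx⟩ := exists_partner hw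
  have h1 := hy x
  rw [hx, one_smul] at h1
  set a := Cfsg.sympForm m K x u
  have ha : a * a = 1 := by
    have h2 := congrArg (fun z => Cfsg.sympForm m K x z) h1
    simpa [Symplectic.f_smul_right, hx] using h2
  have ha1 : a = 1 := CharTwo.sq_inj.1 (by rw [one_pow, pow_two]; exact ha)
  rw [ha1, one_smul] at h1
  exact h1

theorem mem_cent_iff {w : W} (hw : w ≠ 0) (A : Sp) :
    A ∈ Subgroup.centralizer ({tv w 1} : Set Sp) ↔ (A : Mm) *ᵥ w = w := by
  rw [Subgroup.mem_centralizer_singleton_iff, ← mul_inv_eq_iff_eq_mul, Symplectic.tv_conj, tv_eq_iff hw]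

theorem cent_equiv [Fintype K] {w : W} (hw : w ≠ 0) :
    Nonempty (Subgroup.centralizer ({tv w 1} : Set Sp) ≃* projQuot (Geo.similarityGroup (N w))) := by
  classical
  set C := Subgroup.centralizer ({tv w 1} : Set Sp)
  obtain ⟨e⟩ := SimProj.projQuot_of_sqrt (Geo.similarityGroup (N w)) ((spGL (K := K) (m := m)).comp C.subtype).range
    (by
      rintro _ ⟨⟨A, hA⟩, rfl⟩
      refine ⟨1, fun u v => ?_⟩
      have h : (A : Mm) *ᵥ w = w := (mem_cent_iff hw A).1 hA
      rw [Units.val_one, one_mul]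
      change N w ((A : Mm) *ᵥ u) ((A : Mm) *ᵥ v) = _
      rw [N, N, sympForm_mulVec]
      nth_rewrite 1 2 [← h]
      rw [sympForm_mulVec, sympForm_mulVec])
    (by
      rintro g ⟨c, hc⟩
      obtain ⟨a, ha⟩ : IsSquare (c : K) := FiniteField.isSquare_of_char_two (ringChar.eq K 2) _
      have ha0 : a ≠ 0 := fun h0 => c.ne_zero (by rw [ha, h0, mul_zero])
      refine ⟨(Units.mk0 a ha0)⁻¹, ?_⟩
      set G : GL (Fin m ⊕ Fin m) K := Units.map (Matrix.scalar (Fin m ⊕ Fin m) : K →+* Mm).toMonoidHom (Units.mk0 a ha0)⁻¹ * g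
      have hG : ∀ x, (G : Mm) *ᵥ x = a⁻¹ • ((g : Mm) *ᵥ x) := fun x => by
        rw [Units.val_mul, ← mulVec_mulVec, scalar_mulVec]; simp
      have hN : ∀ u v, N w ((G : Mm) *ᵥ u) ((G : Mm) *ᵥ v) = N w u v := fun u v => by
        have h := hc u v
        simp only [N, hG, Symplectic.f_smul_left, Symplectic.f_smul_right] at h ⊢
        rw [ha] at h
        field_simp
        linear_combination h
      have hs : ∀ u, Cfsg.sympForm m K ((G : Mm) *ᵥ u) w = Cfsg.sympForm m K u w := fun u => by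
        have h := hN u u
        simp only [N, sympForm_self, zero_add] at h
        exact CharTwo.sq_inj.1 (by rw [pow_two, pow_two]; exact h)
      have hA : (G : Mm) ∈ Matrix.symplecticGroup (Fin m) K := mem_sp_iff.2 fun u v => by
        have h := hN u v
        simp only [N, hs] at h
        exact add_right_cancel h
      have hfix : (G : Mm) *ᵥ w = w := by
        refine sub_eq_zero.1 (SympStd.sympB_nondegenerate.1 _ fun z => ?_)
        obtain ⟨z, rfl⟩ : ∃ z', (G : Mm) *ᵥ z' = z :=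
          ⟨((G⁻¹ : GL (Fin m ⊕ Fin m) K) : Mm) *ᵥ z, by rw [mulVec_mulVec, Units.mul_inv, one_mulVec]⟩
        rw [map_sub, LinearMap.sub_apply, SympStd.sympB_apply, SympStd.sympB_apply, symp_symm ((G : Mm) *ᵥ z) w,
          hs, mem_sp_iff.1 hA, symp_symm z w, sub_self]
      exact ⟨⟨⟨_, hA⟩, (mem_cent_iff hw _).2 hfix⟩, Units.ext rfl⟩)
    (by
      rintro _ ⟨⟨A, hAC⟩, rfl⟩ ⟨t, ht⟩
      have hA : (A : Mm) *ᵥ w = (t : K) • w := by
        rw [← spGL_coe, show spGL A = _ from ht.symm]; exact scalar_mulVec t w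
      rw [(mem_cent_iff hw A).1 hAC] at hA
      have h1 : ((t : K) - 1) • w = 0 := by rw [sub_smul, one_smul, ← hA, sub_self]
      rw [← ht, Units.val_eq_one.1 (sub_eq_zero.1 ((smul_eq_zero.1 h1).resolve_right hw)), map_one])
  exact ⟨(MonoidHom.ofInjective (f := (spGL (K := K) (m := m)).comp C.subtype)
    (fun a b h => Subtype.ext (spGL_injective h))).trans e⟩

theorem tv_isTransvection {w : W} (hw : w ≠ 0) : IsTransvection ((tv w (1 : K) : Sp) : Mm) := by
  have h : ((tv w (1 : K) : Sp) : Mm) - 1 = vecMulVec w (Matrix.J (Fin m) K *ᵥ w) := by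
    refine Matrix.ext_iff_mulVec.2 fun x => ?_
    rw [sub_mulVec, one_mulVec, tv_mulVec, add_sub_cancel_left, one_mul, vecMulVec_mulVec, op_smul_eq_smul,
      dotProduct_comm]
    rfl
  have hne : Matrix.J (Fin m) K *ᵥ w ≠ 0 := fun h0 => by
    obtain ⟨x, hx⟩ := exists_partner hw
    rw [Cfsg.sympForm, h0, dotProduct_zero] at hx
    exact zero_ne_one hx
  refine ⟨?_, ?_⟩ <;> rw [h]
  · refine le_antisymm ?_ (Nat.one_le_iff_ne_zero.2 fun h0 => ?_)
    · exact Matrix.rank_vecMulVec_le _ _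
    · rw [Matrix.rank, Submodule.finrank_eq_zero] at h0
      obtain ⟨i, hi⟩ := Function.ne_iff.1 hw
      obtain ⟨j, hj⟩ := Function.ne_iff.1 hne
      have := congrFun (LinearMap.congr_fun (LinearMap.range_eq_bot.1 h0) (Pi.single j 1)) i
      simp [Matrix.vecMulVec] at this
      tauto
  · rw [vecMulVec_mul_vecMulVec]
    have : (Matrix.J (Fin m) K *ᵥ w) ⬝ᵥ w = 0 := by rw [dotProduct_comm]; exact sympForm_self w
    simp [this]

end Cfsg.Agent.Forms.SimTwo
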