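import Mathlib
import Cfsg.Agent.Lib.Classical.Symplectic

/-!
# Lower bound for the involution classes of `PSp₂ₘ(q)`, `q` odd
-/

set_option autoImplicit false
set_option linter.unusedSectionVars false

namespace Cfsg.Agent.Forms.SympInvClasses

open Matrix Cfsg.Agent.Forms.SympStd Cfsg.Agent.Classical.Symplectic

variable {F : Type*} [Field F] [Fintype F] {m : ℕ}

local notation "Vec" => (Fin m ⊕ Fin m → F)
local notation "Mat" => Matrix (Fin m ⊕ Fin m) (Fin m ⊕ Fin m) F
local notation "Sp" => symplecticGroup (Fin m) F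
local notation "f" => Cfsg.sympForm m F

theorem f_neg_left (x z : Vec) : f (-x) z = - f x z := by
  rw [← neg_one_smul F x, f_smul_left]; ring

theorem f_neg_right (x z : Vec) : f x (-z) = - f x z := by
  rw [← neg_one_smul F z, f_smul_right]; ring

theorem f_zero_left (z : Vec) : f 0 z = 0 := by
  simpa using f_smul_left (0 : F) (0 : Vec) z

theorem f_zero_right (z : Vec) : f z 0 = 0 := by
  simpa using f_smul_right (0 : F) z (0 : Vec)

theorem f_symm_zero {x y : Vec} (h : f x y = 0) : f y x = 0 := by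
  rw [sympForm_swap, h, neg_zero]

/-- the fibres of three independent linear conditions -/
theorem natCard_three (u v w : Vec) (hu : ∃ x, f u x ≠ 0 ∧ f v x = 0)
    (hv : ∃ x, f u x = 0 ∧ f v x ≠ 0) (hw : ∃ x, f u x = 0 ∧ f v x = 0 ∧ f w x ≠ 0) (r s t : F) :
    Nat.card {x : Vec // f u x = r ∧ f v x = s ∧ f w x = t} * Fintype.card F ^ 3 =
      Fintype.card F ^ (2 * m) := by
  classical
  let L : Vec →ₗ[F] (Fin 3 → F) := LinearMap.pi ![sympB m F u, sympB m F v, sympB m F w]
  have hL : ∀ x, L x = ![f u x, f v x, f w x] := fun x => by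
    ext i; fin_cases i <;> simp [L, sympB_apply]
  obtain ⟨a, ha, hav⟩ := hu
  obtain ⟨b, hbu, hb⟩ := hv
  obtain ⟨c, hcu, hcv, hc⟩ := hw
  have hsur : ∀ y, ∃ x, L x = y := by
    intro y
    refine ⟨(y 0 / f u a) • a + (y 1 / f v b) • b +
      ((y 2 - (y 0 / f u a) * f w a - (y 1 / f v b) * f w b) / f w c) • c, ?_⟩
    rw [hL]
    ext i
    fin_cases i <;>
      simp only [Fin.zero_eta, Fin.mk_one, Fin.isValue, Fin.reduceFinMk, cons_val_zero, cons_val_one,
        cons_val, f_add_right, f_smul_right, hav, hbu, hcu, hcv] <;> field_simp <;> ring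
  obtain ⟨x₀, hx₀⟩ := hsur ![r, s, t]
  have he : Nat.card {x : Vec // f u x = r ∧ f v x = s ∧ f w x = t} = Nat.card (LinearMap.ker L) := by
    refine Nat.card_congr
      { toFun := fun x => ⟨x.1 - x₀, ?_⟩
        invFun := fun k => ⟨k.1 + x₀, ?_⟩
        left_inv := fun x => by simp
        right_inv := fun k => by simp }
    · rw [LinearMap.mem_ker, map_sub, hx₀, hL, x.2.1, x.2.2.1, x.2.2.2, sub_self]
    · have h : L (k.1 + x₀) = ![r, s, t] := by rw [map_add, LinearMap.mem_ker.1 k.2, zero_add, hx₀]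
      rw [hL] at h
      exact ⟨congrFun h 0, congrFun h 1, congrFun h 2⟩
  have hq := L.toAddMonoidHom.ker.card_mul_index
  rw [AddSubgroup.index_ker] at hq
  have hr : L.toAddMonoidHom.range = ⊤ := by
    refine AddSubgroup.eq_top_iff' _ |>.2 fun y => ?_
    obtain ⟨x, hx⟩ := hsur y
    exact ⟨x, hx⟩
  rw [hr, AddSubgroup.card_top, show Nat.card L.toAddMonoidHom.ker = Nat.card (LinearMap.ker L) from rfl] at hq
  rw [he]
  calc Nat.card (LinearMap.ker L) * Fintype.card F ^ 3
      = Nat.card (LinearMap.ker L) * Nat.card (Fin 3 → F) := by simp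
    _ = Nat.card Vec := hq
    _ = Fintype.card F ^ (2 * m) := by simp; ring_nf

/-- the fibres of two linear conditions -/
theorem natCard_two {u v : Vec} {c : F} (hc : c ≠ 0) (huv : f u v = c) (r s : F) :
    Nat.card {x : Vec // f u x = r ∧ f v x = s} * Fintype.card F ^ 2 = Fintype.card F ^ (2 * m) := by
  classical
  let L : Vec →ₗ[F] (Fin 2 → F) := LinearMap.pi ![sympB m F u, sympB m F v]
  have hL : ∀ x, L x = ![f u x, f v x] := fun x => by
    ext i; fin_cases i <;> simp [L, sympB_apply]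
  have hvu : f v u = -c := by rw [sympForm_swap, huv]
  have hsur : ∀ y, ∃ x, L x = y := by
    intro y
    refine ⟨(y 0 / c) • v + (-(y 1) / c) • u, ?_⟩
    rw [hL]
    ext i
    fin_cases i <;>
      simp only [Fin.zero_eta, Fin.mk_one, Fin.isValue, cons_val_zero, cons_val_one, f_add_right,
        f_smul_right, huv, hvu, sympForm_self] <;> field_simp <;> ring
  obtain ⟨x₀, hx₀⟩ := hsur ![r, s]
  have he : Nat.card {x : Vec // f u x = r ∧ f v x = s} = Nat.card (LinearMap.ker L) := by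
    refine Nat.card_congr
      { toFun := fun x => ⟨x.1 - x₀, ?_⟩
        invFun := fun k => ⟨k.1 + x₀, ?_⟩
        left_inv := fun x => by simp
        right_inv := fun k => by simp }
    · rw [LinearMap.mem_ker, map_sub, hx₀, hL, x.2.1, x.2.2, sub_self]
    · have h : L (k.1 + x₀) = ![r, s] := by rw [map_add, LinearMap.mem_ker.1 k.2, zero_add, hx₀]
      rw [hL] at h
      exact ⟨congrFun h 0, congrFun h 1⟩
  have hq := L.toAddMonoidHom.ker.card_mul_index
  rw [AddSubgroup.index_ker] at hq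
  have hr : L.toAddMonoidHom.range = ⊤ := by
    refine AddSubgroup.eq_top_iff' _ |>.2 fun y => ?_
    obtain ⟨x, hx⟩ := hsur y
    exact ⟨x, hx⟩
  rw [hr, AddSubgroup.card_top, show Nat.card L.toAddMonoidHom.ker = Nat.card (LinearMap.ker L) from rfl] at hq
  rw [he]
  calc Nat.card (LinearMap.ker L) * Fintype.card F ^ 2
      = Nat.card (LinearMap.ker L) * Nat.card (Fin 2 → F) := by simp
    _ = Nat.card Vec := hq
    _ = Fintype.card F ^ (2 * m) := by simp; ring_nf

theorem natCard_one {u : Vec} (hu : u ≠ 0) (r : F) :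
    Nat.card {x : Vec // f u x = r} * Fintype.card F = Fintype.card F ^ (2 * m) := by
  classical
  obtain ⟨w, hw⟩ := exists_partner hu
  let L : Vec →ₗ[F] F := sympB m F u
  have hL : ∀ x, L x = f u x := fun x => sympB_apply u x
  have he : Nat.card {x : Vec // f u x = r} = Nat.card (LinearMap.ker L) := by
    refine Nat.card_congr
      { toFun := fun x => ⟨x.1 - r • w, ?_⟩
        invFun := fun k => ⟨k.1 + r • w, ?_⟩
        left_inv := fun x => by simp
        right_inv := fun k => by simp }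
    · rw [LinearMap.mem_ker, map_sub, hL, hL, x.2, f_smul_right, hw, mul_one, sub_self]
    · rw [← hL, map_add, LinearMap.mem_ker.1 k.2, hL, f_smul_right, hw, mul_one, zero_add]
  have hq := L.toAddMonoidHom.ker.card_mul_index
  rw [AddSubgroup.index_ker] at hq
  have hr : L.toAddMonoidHom.range = ⊤ := by
    refine AddSubgroup.eq_top_iff' _ |>.2 fun y => ⟨y • w, ?_⟩
    show L (y • w) = y
    rw [hL, f_smul_right, hw, mul_one]
  rw [hr, AddSubgroup.card_top, show Nat.card L.toAddMonoidHom.ker = Nat.card (LinearMap.ker L) from rfl] at hq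
  rw [he]
  calc Nat.card (LinearMap.ker L) * Fintype.card F
      = Nat.card (LinearMap.ker L) * Nat.card F := by simp
    _ = Nat.card Vec := hq
    _ = Fintype.card F ^ (2 * m) := by simp; ring_nf

/-- a pair with an arbitrary non-zero product can be moved inside an orthogonal complement -/
theorem exists_move {S : Set Vec} {c : F} (hc : c ≠ 0) {u v u' v' : Vec}
    (hu : ∀ s ∈ S, f s u = 0) (hv : ∀ s ∈ S, f s v = 0)
    (hu' : ∀ s ∈ S, f s u' = 0) (hv' : ∀ s ∈ S, f s v' = 0)
    (h : f u v = c) (h' : f u' v' = c) :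
    ∃ A : Sp, (∀ s ∈ S, (A : Mat) *ᵥ s = s) ∧ (A : Mat) *ᵥ u = u' ∧ (A : Mat) *ᵥ v = v' := by
  obtain ⟨A, hA, h1, h2⟩ := exists_move_pair (u := u) (v := c⁻¹ • v) (u' := u') (v' := c⁻¹ • v') hu
    (fun s hs => by rw [f_smul_right, hv s hs, mul_zero]) hu'
    (fun s hs => by rw [f_smul_right, hv' s hs, mul_zero])
    (by rw [f_smul_right, h, inv_mul_cancel₀ hc]) (by rw [f_smul_right, h', inv_mul_cancel₀ hc])
  refine ⟨A, closure_fixes hA, h1, ?_⟩
  rw [mulVec_smul] at h2
  exact smul_right_injective Vec (inv_ne_zero hc) h2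

theorem inv_mulVec_fix {A : Sp} {s : Vec} (h : (A : Mat) *ᵥ s = s) : ((A⁻¹ : Sp) : Mat) *ᵥ s = s :=
  inv_mulVec_of_eq h

theorem sq_mulVec_neg {X : Sp} (h2 : ∀ x, (X : Mat) *ᵥ ((X : Mat) *ᵥ x) = -x) (x y : Vec) :
    f ((X : Mat) *ᵥ x) y = - f x ((X : Mat) *ᵥ y) := by
  have := sympForm_mulVec X x ((X : Mat) *ᵥ y)
  rw [h2, f_neg_right] at this
  rw [← this, neg_neg]

/-- square roots of `-1` -/
theorem lower_neg (h2F : (2 : F) ≠ 0) (hm : 3 ≤ m) (X : Sp)
    (h2 : ∀ x, (X : Mat) *ᵥ ((X : Mat) *ᵥ x) = -x) :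
    Fintype.card F ^ (4 * m - 4) ≤ Nat.card {Y : Sp // IsConj X Y} := by
  classical
  set T : Vec → Vec := fun x => (X : Mat) *ᵥ x with hT
  have hTf : ∀ x y, f (T x) y = - f x (T y) := sq_mulVec_neg h2
  have hTT : ∀ x y, f (T x) (T y) = f x y := fun x y => sympForm_mulVec X x y
  have hsym : ∀ x y, f x (T y) = f y (T x) := fun x y => by
    rw [sympForm_swap (T y) x, hTf, neg_neg]
  have hdim : Module.finrank F Vec = 2 * m := finrank_vec
  obtain ⟨a, c, hc, hac⟩ : ∃ a c, c ≠ 0 ∧ f a (T a) = c := by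
    by_contra h
    push Not at h
    have h0 : ∀ a, f a (T a) = 0 := fun a => by
      by_contra hne; exact h a _ hne rfl
    have hb : ∀ x y, f x (T y) = 0 := by
      intro x y
      have := h0 (x + y)
      simp only [hT, mulVec_add, f_add_left, f_add_right] at this
      have e1 := h0 x; have e2 := h0 y; have e3 := hsym x y
      simp only [hT] at e1 e2 e3 ⊢
      rw [e1, e2, ← e3, zero_add, add_zero, ← two_mul] at this
      exact (mul_eq_zero.1 this).resolve_left h2F
    have hne : (Pi.single (Sum.inl ⟨0, by omega⟩) 1 : Vec) ≠ 0 := fun e => by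
      have := congrFun e (Sum.inl ⟨0, by omega⟩); simp at this
    obtain ⟨w, hw⟩ := exists_partner hne
    have hw' := hb (Pi.single (Sum.inl ⟨0, by omega⟩) 1) (-(T w))
    rw [show T (-(T w)) = w by simp only [hT, mulVec_neg, h2, neg_neg]] at hw'
    exact one_ne_zero (hw.symm.trans hw')
  obtain ⟨a', c', hc', ha1, ha2, hac'⟩ : ∃ a' c', c' ≠ 0 ∧ f a a' = 0 ∧ f (T a) a' = 0 ∧ f a' (T a') = c' := by
    by_contra h
    push Not at h
    have h0 : ∀ x, f a x = 0 → f (T a) x = 0 → f x (T x) = 0 := fun x e1 e2 => by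
      by_contra hne; exact h x _ hne e1 e2 rfl
    have hb : ∀ x y, f a x = 0 → f (T a) x = 0 → f a y = 0 → f (T a) y = 0 → f x (T y) = 0 := by
      intro x y x1 x2 y1 y2
      have := h0 (x + y) (by rw [f_add_right, x1, y1, add_zero]) (by rw [f_add_right, x2, y2, add_zero])
      simp only [hT, mulVec_add, f_add_left, f_add_right] at this
      have e1 := h0 x x1 x2; have e2 := h0 y y1 y2; have e3 := hsym x y
      simp only [hT] at e1 e2 e3 ⊢
      rw [e1, e2, ← e3, zero_add, add_zero, ← two_mul] at this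
      exact (mul_eq_zero.1 this).resolve_left h2F
    -- a non-zero vector orthogonal to both
    obtain ⟨u, hu0, hu1, hu2⟩ : ∃ u : Vec, u ≠ 0 ∧ f a u = 0 ∧ f (T a) u = 0 := by
      by_contra hh
      push Not at hh
      have hcard := natCard_two hc hac 0 0
      have h1 : Nat.card {x : Vec // f a x = 0 ∧ f (T a) x = 0} ≤ 1 := by
        rw [Finite.card_le_one_iff_subsingleton]
        refine ⟨fun x y => Subtype.ext ?_⟩
        have hx : x.1 = 0 := by_contra fun e => hh _ e x.2.1 x.2.2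
        have hy : y.1 = 0 := by_contra fun e => hh _ e y.2.1 y.2.2
        rw [hx, hy]
      have h3 : Fintype.card F ^ 3 ≤ Fintype.card F ^ (2 * m) :=
        Nat.pow_le_pow_right Fintype.card_pos (by omega)
      have h4 : Fintype.card F ^ 2 < Fintype.card F ^ 3 :=
        Nat.pow_lt_pow_right Fintype.one_lt_card (by omega)
      rcases Nat.le_one_iff_eq_zero_or_eq_one.1 h1 with e | e <;> rw [e] at hcard <;> omega
    obtain ⟨w, hw⟩ := exists_partner hu0
    set w' : Vec := w - (f a w / c) • T a + (f (T a) w / c) • a with hw'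
    have hta : f (T a) a = -c := by rw [sympForm_swap a (T a), hac]
    have hu1' : f u a = 0 := f_symm_zero hu1
    have hu2' : f u (T a) = 0 := f_symm_zero hu2
    have hw1 : f a w' = 0 := by
      rw [hw', sub_eq_add_neg, f_add_right, f_add_right, f_neg_right, f_smul_right, f_smul_right, hac,
        sympForm_self]
      field_simp
      ring
    have hw2 : f (T a) w' = 0 := by
      rw [hw', sub_eq_add_neg, f_add_right, f_add_right, f_neg_right, f_smul_right, f_smul_right, hta,
        sympForm_self]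
      field_simp
      ring
    have hw3 : f u w' = 1 := by
      rw [hw', sub_eq_add_neg, f_add_right, f_add_right, f_neg_right, f_smul_right, f_smul_right, hu1',
        hu2', hw]
      ring
    have e1 : f a (-(T w')) = 0 := by
      rw [f_neg_right, ← hTf, hw2]
    have e2 : f (T a) (-(T w')) = 0 := by rw [f_neg_right, hTT, hw1, neg_zero]
    have := hb u _ hu1 hu2 e1 e2
    rw [show T (-(T w')) = w' by simp only [hT, mulVec_neg, h2, neg_neg], hw3] at this
    exact one_ne_zero this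
  have ha' : a ≠ 0 := fun e => hc (by rw [← hac, e, f_zero_left])
  have ha1' : f a' a = 0 := f_symm_zero ha1
  -- the first choice
  have hG : ∀ b : {x : Vec // f a x = c}, ∃ g : Sp,
      (g : Mat) *ᵥ a = a ∧ (g : Mat) *ᵥ (T a) = b.1 := by
    intro b
    obtain ⟨g, -, h1, h3⟩ := exists_move (S := (∅ : Set Vec)) hc (u := a) (v := T a) (u' := a) (v' := b.1)
      (by simp) (by simp) (by simp) (by simp) hac b.2
    exact ⟨g, h1, h3⟩
  choose g hg1 hg2 using hG
  -- the second choice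
  have hK : ∀ b : {x : Vec // f a x = 0 ∧ f (T a) x = 0 ∧ f a' x = c'}, ∃ k : Sp,
      (k : Mat) *ᵥ a = a ∧ (k : Mat) *ᵥ (T a) = T a ∧ (k : Mat) *ᵥ a' = a' ∧ (k : Mat) *ᵥ (T a') = b.1 := by
    intro b
    obtain ⟨k, hk, h1, h3⟩ := exists_move (S := ({a, T a} : Set Vec)) hc' (u := a') (v := T a')
      (u' := a') (v' := b.1) (by rintro s (rfl | rfl) <;> assumption)
      (by
        rintro s (rfl | rfl)
        · rw [← neg_eq_zero, ← hTf, ha2]
        · rw [hTT, ha1])
      (by rintro s (rfl | rfl) <;> assumption)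
      (by rintro s (rfl | rfl); exacts [b.2.1, b.2.2.1]) hac' b.2.2.2
    exact ⟨k, hk a (Or.inl rfl), hk (T a) (Or.inr rfl), h1, h3⟩
  choose k hk1 hk2 hk3 hk4 using hK
  let Φ : {x : Vec // f a x = c} × {x : Vec // f a x = 0 ∧ f (T a) x = 0 ∧ f a' x = c'} →
      {Y : Sp // IsConj X Y} := fun b =>
    ⟨g b.1 * (k b.2 * X * (k b.2)⁻¹) * (g b.1)⁻¹, isConj_iff.2 ⟨g b.1 * k b.2, by group⟩⟩
  have hin : ∀ b, (((k b : Sp) * X * (k b)⁻¹ : Sp) : Mat) *ᵥ a = T a ∧
      (((k b : Sp) * X * (k b)⁻¹ : Sp) : Mat) *ᵥ a' = b.1 := by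
    intro b
    refine ⟨?_, ?_⟩
    · rw [mul_mulVec_sp, mul_mulVec_sp, inv_mulVec_fix (hk1 b)]; exact hk2 b
    · rw [mul_mulVec_sp, mul_mulVec_sp, inv_mulVec_fix (hk3 b)]; exact hk4 b
  have hΦ : Function.Injective Φ := by
    intro b b' h
    have h' : g b.1 * (k b.2 * X * (k b.2)⁻¹) * (g b.1)⁻¹ =
        g b'.1 * (k b'.2 * X * (k b'.2)⁻¹) * (g b'.1)⁻¹ := congrArg Subtype.val h
    have hev : ∀ b₁ b₂, ((g b₁ * (k b₂ * X * (k b₂)⁻¹) * (g b₁)⁻¹ : Sp) : Mat) *ᵥ a = b₁.1 :=
      fun b₁ b₂ => by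
        rw [mul_mulVec_sp (g b₁ * _), inv_mulVec_fix (hg1 b₁), mul_mulVec_sp (g b₁), (hin b₂).1, hg2]
    have e1 : b.1.1 = b'.1.1 := by rw [← hev b.1 b.2, ← hev b'.1 b'.2, h']
    have e : b.1 = b'.1 := Subtype.ext e1
    rw [e, mul_left_inj, mul_right_inj] at h'
    have e2 := congrArg (fun Y : Sp => (Y : Mat) *ᵥ a') h'
    rw [(hin _).2, (hin _).2] at e2
    exact Prod.ext e (Subtype.ext e2)
  refine le_trans ?_ (Nat.card_le_card_of_injective Φ hΦ)
  rw [Nat.card_prod]
  have c1 := natCard_one ha' c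
  have c2 := natCard_three a (T a) a'
    ⟨T a, by rw [hac]; exact hc, sympForm_self _⟩
    ⟨a, sympForm_self _, by rw [hTf, neg_ne_zero, hac]; exact hc⟩
    ⟨T a', by rw [← neg_eq_zero, ← hTf, ha2], by rw [hTT, ha1], by rw [hac']; exact hc'⟩ 0 0 c'
  refine le_of_mul_le_mul_right ?_ (pow_pos (Fintype.card_pos (α := F)) 4)
  calc Fintype.card F ^ (4 * m - 4) * Fintype.card F ^ 4
      = Fintype.card F ^ (2 * m) * Fintype.card F ^ (2 * m) := by
        rw [← pow_add, ← pow_add]; congr 1; omega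
    _ = (Nat.card {x : Vec // f a x = c} * Fintype.card F) *
          (Nat.card {x : Vec // f a x = 0 ∧ f (T a) x = 0 ∧ f a' x = c'} * Fintype.card F ^ 3) := by
        rw [c1, c2]
    _ ≤ _ := le_of_eq (by ring)

/-- involutions of `Sp` -/
theorem lower_one (h2F : (2 : F) ≠ 0) (hm : 3 ≤ m) (X : Sp)
    (h2 : ∀ x, (X : Mat) *ᵥ ((X : Mat) *ᵥ x) = x) (hp : ∃ x, (X : Mat) *ᵥ x ≠ -x)
    (hn : ∃ x, (X : Mat) *ᵥ x ≠ x) :
    (Fintype.card F ^ (2 * m - 2) - 1) * Fintype.card F ^ (2 * m - 3) ≤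
      Nat.card {Y : Sp // IsConj X Y} := by
  classical
  set T : Vec → Vec := fun x => (X : Mat) *ᵥ x with hT
  have hTT : ∀ x y, f (T x) (T y) = f x y := fun x y => sympForm_mulVec X x y
  have horth : ∀ x y, T x = x → T y = -y → f x y = 0 := by
    intro x y hx hy
    have := hTT x y
    rw [hx, hy, f_neg_right] at this
    have h' : 2 * f x y = 0 := by linear_combination -this
    exact (mul_eq_zero.1 h').resolve_left h2F
  have hTadd : ∀ x y, T (x + y) = T x + T y := fun x y => mulVec_add _ x y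
  have hTsmul : ∀ (r : F) x, T (r • x) = r • T x := fun r x => mulVec_smul _ r x
  obtain ⟨x, hx⟩ := hp
  obtain ⟨y, hy⟩ := hn
  obtain ⟨ep, hep0, hep⟩ : ∃ e, e ≠ 0 ∧ T e = e :=
    ⟨x + T x, fun e => hx (eq_neg_of_add_eq_zero_right e), by
      rw [hTadd]; simp only [hT, h2]; exact add_comm _ _⟩
  obtain ⟨en, hen0, hen⟩ : ∃ e, e ≠ 0 ∧ T e = -e :=
    ⟨y - T y, fun e => hy (sub_eq_zero.1 e).symm, by
      simp only [hT, mulVec_sub, h2]; abel⟩
  obtain ⟨wp, hwp⟩ := exists_partner hep0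
  obtain ⟨wn, hwn⟩ := exists_partner hen0
  set fp : Vec := (2 : F)⁻¹ • (wp + T wp) with hfpd
  set fn : Vec := (2 : F)⁻¹ • (wn + (-1 : F) • T wn) with hfnd
  have hfp : T fp = fp := by
    rw [hfpd, hTsmul, hTadd, show T (T wp) = wp from h2 wp, add_comm]
  have hfn : T fn = -fn := by
    rw [hfnd, hTsmul, hTadd, hTsmul, show T (T wn) = wn from h2 wn]
    module
  have hpp : f ep fp = 1 := by
    have := hTT ep wp
    rw [hep, hwp] at this
    rw [hfpd, f_smul_right, f_add_right, hwp, this]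
    field_simp
    norm_num
  have hnn : f en fn = 1 := by
    have := hTT en wn
    rw [hen, hwn, f_neg_left] at this
    rw [hfnd, f_smul_right, f_add_right, f_smul_right, hwn,
      show f en (T wn) = -1 by linear_combination -this]
    field_simp
    norm_num
  set a := ep + en with had
  set a' := fp + fn with had'
  have hTa : T a = ep + -en := by rw [had, hTadd, hep, hen]
  have hTa' : T a' = fp + -fn := by rw [had', hTadd, hfp, hfn]
  have hpn : f ep en = 0 := horth _ _ hep hen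
  have hnp : f en ep = 0 := f_symm_zero hpn
  have hpfn : f ep fn = 0 := horth _ _ hep hfn
  have hfpn : f fp en = 0 := horth _ _ hfp hen
  have hnfp : f en fp = 0 := f_symm_zero hfpn
  have hfnp : f fn ep = 0 := f_symm_zero hpfn
  have hff : f fp fn = 0 := horth _ _ hfp hfn
  have hff' : f fn fp = 0 := f_symm_zero hff
  have h1 : f a a' = 2 := by
    rw [had, had', f_add_left, f_add_right, f_add_right, hpp, hnn, hpfn, hnfp]; norm_num
  have h3 : f a (T a) = 0 := by
    rw [hTa, had, f_add_left, f_add_right, f_add_right, f_neg_right, f_neg_right, hpn, hnp,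
      sympForm_self, sympForm_self]; ring
  have h4 : f a (T a') = 0 := by
    rw [hTa', had, f_add_left, f_add_right, f_add_right, f_neg_right, f_neg_right, hpp, hnn, hpfn, hnfp]
    ring
  have h5 : f a' (T a) = 0 := by
    have := f_symm_zero h4
    have e := hTT (T a') a
    rw [show T (T a') = a' from h2 a', this] at e
    exact e
  have h6 : f a' (T a') = 0 := by
    rw [hTa', had', f_add_left, f_add_right, f_add_right, f_neg_right, f_neg_right, hff, hff',
      sympForm_self, sympForm_self]; ring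
  have h7 : f (T a) (T a') = 2 := by rw [hTT, h1]
  let B₁ := {x : Vec // (f a x = 0 ∧ f a' x = 0) ∧ x ≠ 0}
  let B₂ := fun b : B₁ => {x : Vec // f a x = 0 ∧ f a' x = 0 ∧ f b.1 x = 2}
  have hK : ∀ b : Σ b : B₁, B₂ b, ∃ k : Sp, (k : Mat) *ᵥ a = a ∧ (k : Mat) *ᵥ a' = a' ∧
      (k : Mat) *ᵥ (T a) = b.1.1 ∧ (k : Mat) *ᵥ (T a') = b.2.1 := by
    intro b
    obtain ⟨k, hk, e1, e2⟩ := exists_move (S := ({a, a'} : Set Vec)) h2F (u := T a) (v := T a')
      (u' := b.1.1) (v' := b.2.1) (by rintro s (rfl | rfl) <;> assumption)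
      (by rintro s (rfl | rfl) <;> assumption)
      (by rintro s (rfl | rfl); exacts [b.1.2.1.1, b.1.2.1.2])
      (by rintro s (rfl | rfl); exacts [b.2.2.1, b.2.2.2.1]) h7 b.2.2.2.2
    exact ⟨k, hk a (Or.inl rfl), hk a' (Or.inr rfl), e1, e2⟩
  choose k hk1 hk2 hk3 hk4 using hK
  let Φ : (Σ b : B₁, B₂ b) → {Y : Sp // IsConj X Y} := fun b =>
    ⟨k b * X * (k b)⁻¹, isConj_iff.2 ⟨k b, rfl⟩⟩
  have hv : ∀ b, (((k b : Sp) * X * (k b)⁻¹ : Sp) : Mat) *ᵥ a = b.1.1 ∧
      (((k b : Sp) * X * (k b)⁻¹ : Sp) : Mat) *ᵥ a' = b.2.1 := by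
    intro b
    refine ⟨?_, ?_⟩
    · rw [mul_mulVec_sp, mul_mulVec_sp, inv_mulVec_fix (hk1 b)]; exact hk3 b
    · rw [mul_mulVec_sp, mul_mulVec_sp, inv_mulVec_fix (hk2 b)]; exact hk4 b
  have hΦ : Function.Injective Φ := by
    intro b b' h
    have h' : k b * X * (k b)⁻¹ = k b' * X * (k b')⁻¹ := congrArg Subtype.val h
    have e1 : b.1 = b'.1 := Subtype.ext (by rw [← (hv b).1, ← (hv b').1, h'])
    have e2 : b.2.1 = b'.2.1 := by rw [← (hv b).2, ← (hv b').2, h']
    obtain ⟨b1, b2⟩ := b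
    obtain ⟨b1', b2'⟩ := b'
    subst e1
    exact congrArg (Sigma.mk b1) (Subtype.ext e2)
  refine le_trans ?_ (Nat.card_le_card_of_injective Φ hΦ)
  rw [Nat.card_sigma]
  have hq : 0 < Fintype.card F := Fintype.card_pos
  have hB₂ : ∀ b : B₁, Nat.card (B₂ b) = Fintype.card F ^ (2 * m - 3) := by
    intro b
    obtain ⟨w, hw⟩ := exists_partner b.2.2
    have hb1 : f b.1 a = 0 := f_symm_zero b.2.1.1
    have hb2 : f b.1 a' = 0 := f_symm_zero b.2.1.2
    have ha'a : f a' a = -2 := by rw [sympForm_swap a a', h1]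
    have c := natCard_three a a' b.1
      ⟨a', by rw [h1]; exact h2F, sympForm_self _⟩
      ⟨a, sympForm_self _, by rw [ha'a, neg_ne_zero]; exact h2F⟩
      ⟨w + (-(f a w) / 2) • a' + (f a' w / 2) • a,
        by rw [f_add_right, f_add_right, f_smul_right, f_smul_right, h1, sympForm_self]; field_simp; ring,
        by rw [f_add_right, f_add_right, f_smul_right, f_smul_right, ha'a, sympForm_self]; field_simp; ring,
        by rw [f_add_right, f_add_right, f_smul_right, f_smul_right, hw, hb1, hb2]; simp⟩ 0 0 2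
    refine Nat.eq_of_mul_eq_mul_right (pow_pos hq 3) (c.trans ?_)
    rw [← pow_add]; congr 1; omega
  have hB₁ : Nat.card B₁ = Fintype.card F ^ (2 * m - 2) - 1 := by
    have c := natCard_two h2F h1 0 0
    have hc : Nat.card {x : Vec // f a x = 0 ∧ f a' x = 0} = Fintype.card F ^ (2 * m - 2) := by
      refine Nat.eq_of_mul_eq_mul_right (pow_pos hq 2) (c.trans ?_)
      rw [← pow_add]; congr 1; omega
    have hset : Nat.card B₁ = ({x : Vec | f a x = 0 ∧ f a' x = 0} \ {0}).ncard := by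
      rw [← Nat.card_coe_set_eq]
      exact Nat.card_congr (Equiv.subtypeEquivRight fun x => by simp)
    rw [hset, Set.ncard_sdiff_singleton_of_mem (show (0 : Vec) ∈ {x : Vec | f a x = 0 ∧ f a' x = 0} from
      ⟨f_zero_right a, f_zero_right a'⟩), ← Nat.card_coe_set_eq]
    exact congrArg (· - 1) hc
  rw [Finset.sum_congr rfl fun b _ => hB₂ b, Finset.sum_const, Finset.card_univ, smul_eq_mul,
    show Fintype.card B₁ = Fintype.card F ^ (2 * m - 2) - 1 from Nat.card_eq_fintype_card.symm.trans hB₁]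

/-- the class of an involution of `PSp₂ₘ(q)` has more than `q ^ 2m` elements -/
theorem lt_natCard_conj (h2F : (2 : F) ≠ 0) (hm : 3 ≤ m) (x : Cfsg.PSp m F) (hx : x ≠ 1)
    (hx2 : x * x = 1) : Fintype.card F ^ (2 * m) < Nat.card {y : Cfsg.PSp m F // IsConj x y} := by
  classical
  obtain ⟨X, rfl⟩ := QuotientGroup.mk_surjective x
  rw [← QuotientGroup.mk_mul, QuotientGroup.eq_one_iff] at hx2
  rw [ne_eq, QuotientGroup.eq_one_iff] at hx
  obtain ⟨r, hr⟩ := (mem_center_iff _).1 hx2
  have hne : (Pi.single (Sum.inl ⟨0, by omega⟩) 1 : Vec) ≠ 0 := fun e => by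
    have := congrFun e (Sum.inl ⟨0, by omega⟩); simp at this
  have hr2 : r * r = 1 := by
    obtain ⟨w, hw⟩ := exists_partner hne
    have := sympForm_mulVec (X * X) (Pi.single (Sum.inl ⟨0, by omega⟩) 1) w
    rw [hr, hr, f_smul_left, f_smul_right, hw, mul_one] at this
    exact this
  have hlow : 2 * Fintype.card F ^ (2 * m) < Nat.card {Y : Sp // IsConj X Y} := by
    have hq3 : 3 ≤ Fintype.card F := by
      by_contra h
      have h' := Fintype.one_lt_card (α := F)
      have hq : Fintype.card F = 2 := by omega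
      have := FiniteField.cast_card_eq_zero F
      rw [hq] at this
      exact h2F (by exact_mod_cast this)
    set q := Fintype.card F
    have hkey : 2 * q ^ (2 * m) < (q ^ (2 * m - 2) - 1) * q ^ (2 * m - 3) := by
      have e : q ^ (2 * m) = q ^ 3 * q ^ (2 * m - 3) := by rw [← pow_add]; congr 1; omega
      rw [e, ← mul_assoc]
      refine Nat.mul_lt_mul_of_pos_right ?_ (pow_pos (by omega) _)
      have h4 : q ^ 4 ≤ q ^ (2 * m - 2) := Nat.pow_le_pow_right (by omega) (by omega)
      have h5 : 3 * q ^ 3 ≤ q ^ 4 := by rw [pow_succ' q 3]; exact Nat.mul_le_mul_right _ hq3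
      have h6 : 3 ^ 3 ≤ q ^ 3 := Nat.pow_le_pow_left hq3 3
      omega
    rcases mul_self_eq_one_iff.1 hr2 with rfl | rfl
    · refine hkey.trans_le (lower_one h2F hm X (fun v => by rw [← mul_mulVec_sp, hr, one_smul]) ?_ ?_)
      · by_contra h
        push Not at h
        exact hx ((mem_center_iff X).2 ⟨-1, fun v => by rw [h v, neg_smul, one_smul]⟩)
      · by_contra h
        push Not at h
        exact hx ((mem_center_iff X).2 ⟨1, fun v => by rw [h v, one_smul]⟩)
    · refine hkey.trans_le (le_trans ?_ (lower_neg h2F hm X fun v => by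
        rw [← mul_mulVec_sp, hr, neg_smul, one_smul]))
      calc (q ^ (2 * m - 2) - 1) * q ^ (2 * m - 3) ≤ q ^ (2 * m - 2) * q ^ (2 * m - 3) :=
            Nat.mul_le_mul_right _ (Nat.sub_le _ _)
        _ = q ^ (4 * m - 5) := by rw [← pow_add]; congr 1; omega
        _ ≤ q ^ (4 * m - 4) := Nat.pow_le_pow_right (by omega) (by omega)
  let π : {Y : Sp // IsConj X Y} →
      {y : Cfsg.PSp m F // IsConj (QuotientGroup.mk X : Cfsg.PSp m F) y} :=
    fun Y => ⟨QuotientGroup.mk Y.1, (QuotientGroup.mk' (Subgroup.center Sp)).map_isConj Y.2⟩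
  let sec : Cfsg.PSp m F → Sp := fun y => (QuotientGroup.mk_surjective y).choose
  have hsec : ∀ y, (QuotientGroup.mk (sec y) : Cfsg.PSp m F) = y :=
    fun y => (QuotientGroup.mk_surjective y).choose_spec
  let Ψ : {Y : Sp // IsConj X Y} →
      {y : Cfsg.PSp m F // IsConj (QuotientGroup.mk X : Cfsg.PSp m F) y} × Subgroup.center Sp :=
    fun Y => (π Y, ⟨(sec (QuotientGroup.mk Y.1))⁻¹ * Y.1, QuotientGroup.eq.1 (hsec _)⟩)
  have hΨ : Function.Injective Ψ := by
    intro Y Y' h
    have e1 : (QuotientGroup.mk Y.1 : Cfsg.PSp m F) = QuotientGroup.mk Y'.1 :=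
      congrArg (fun t => t.1.1) h
    have e2 : (sec (QuotientGroup.mk Y.1))⁻¹ * Y.1 = (sec (QuotientGroup.mk Y'.1))⁻¹ * Y'.1 :=
      congrArg (fun t => t.2.1) h
    rw [e1, mul_right_inj] at e2
    exact Subtype.ext e2
  have h := Nat.card_le_card_of_injective Ψ hΨ
  rw [Nat.card_prod, natCard_center (by omega)] at h
  have hg : Nat.gcd 2 (Fintype.card F - 1) ≤ 2 := Nat.le_of_dvd (by norm_num) (Nat.gcd_dvd_left _ _)
  have := h.trans (Nat.mul_le_mul_left _ hg)
  omega

end Cfsg.Agent.Forms.SympInvClasses
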